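import Cfsg.Agent.Helper91.Subnormal
import Cfsg.Agent.Helper11.PSolvable

set_option autoImplicit false
open scoped Pointwise

namespace Cfsg.Agent.Helper91

universe u

/-- Elements of a `p`-group and of a group of order prime to `p` that coincide are trivial. -/
theorem eq_one_of_pow_eq_one_of_coprime {G : Type*} [Group G] {p : ℕ} {Q : Subgroup G} [Finite Q]
    (hQ : (Nat.card Q).Coprime p) {c : G} (hc : c ∈ Q) {k : ℕ} (hk : c ^ p ^ k = 1) : c = 1 := by
  have h1 : orderOf c ∣ p ^ k := orderOf_dvd_of_pow_eq_one hk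
  have h2 : orderOf c ∣ Nat.card Q := by
    have := orderOf_dvd_natCard (⟨c, hc⟩ : ↥Q)
    rwa [← Subgroup.orderOf_coe] at this
  have h3 : (orderOf c).Coprime (orderOf c) :=
    Nat.Coprime.coprime_dvd_left h2 (Nat.Coprime.coprime_dvd_right h1 (Nat.Coprime.pow_right k hQ))
  rw [Nat.coprime_self] at h3
  exact orderOf_eq_one_iff.1 h3

/-- A nontrivial finite `p`-solvable group has nontrivial `O_p` or `O_{p'}`. -/
theorem pCore_ne_bot_or_pPrimeCore_ne_bot {G : Type*} [Group G] [Finite G] [Nontrivial G] {p : ℕ}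
    [Fact p.Prime] (h : Cfsg.IsPSolvable p G) :
    Cfsg.pCore p G ≠ ⊥ ∨ Cfsg.pPrimeCore p G ≠ ⊥ := by
  obtain ⟨n, H, h0, hlast, hmono, hnorm, hstep⟩ := h
  have key : ∀ i : Fin (n + 1), H i ≠ ⊥ → Cfsg.pCore p G ≠ ⊥ ∨ Cfsg.pPrimeCore p G ≠ ⊥ := by
    intro i
    induction i using Fin.induction with
    | zero => intro hne; exact absurd h0 hne
    | succ j ih =>
      intro hne
      by_cases hj : H j.castSucc = ⊥
      · have hs := hstep j
        rw [hj, Subgroup.relIndex_bot_left] at hs
        rcases hs with ⟨m, hm⟩ | hco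
        · left
          intro hbot
          have hp : IsPGroup p ↥(H j.succ) := IsPGroup.of_card hm
          have := Cfsg.Agent.Lib.le_pCore (hnorm j.succ) hp
          rw [hbot] at this
          exact hne (le_bot_iff.1 this)
        · right
          intro hbot
          have := Cfsg.Agent.Lib.le_pPrimeCore (hnorm j.succ) hco
          rw [hbot] at this
          exact hne (le_bot_iff.1 this)
      · exact ih hj
  refine key (Fin.last n) ?_
  rw [hlast]
  exact top_ne_bot

theorem isPGroup_zpowers_of_pow {G : Type*} [Group G] (p : ℕ) [Fact p.Prime] (x : G) (k : ℕ)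
    (hk : x ^ p ^ k = 1) : IsPGroup p ↥(Subgroup.zpowers x) := by
  rintro ⟨y, hy⟩
  obtain ⟨m, rfl⟩ := Subgroup.mem_zpowers_iff.1 hy
  refine ⟨k, ?_⟩
  apply Subtype.ext
  simp only [Subgroup.coe_pow, Subgroup.coe_one]
  rw [← zpow_natCast, ← zpow_mul, mul_comm, zpow_mul, zpow_natCast, hk, one_zpow]

/-- A normal subgroup containing a Sylow `p`-subgroup contains every `p`-element. -/
theorem pElement_mem_of_sylow_le {G : Type*} [Group G] [Finite G] (p : ℕ) [Fact p.Prime]
    (P : Sylow p G) (C : Subgroup G) [C.Normal] (hPC : (P : Subgroup G) ≤ C) (x : G) (k : ℕ)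
    (hk : x ^ p ^ k = 1) : x ∈ C := by
  obtain ⟨S, hS⟩ := (isPGroup_zpowers_of_pow p x k hk).exists_le_sylow
  obtain ⟨g, hg⟩ := MulAction.exists_smul_eq G P S
  have hx : x ∈ (S : Subgroup G) := hS (Subgroup.mem_zpowers x)
  rw [← hg] at hx
  have hx' : x ∈ MulAut.conj g • (P : Subgroup G) := hx
  rw [Subgroup.mem_pointwise_smul_iff_inv_smul_mem] at hx'
  have h1 := hPC hx'
  simp only [MulAut.smul_def, MulAut.conj_inv_apply] at h1
  have := ‹C.Normal›.conj_mem _ h1 g
  simpa [mul_assoc] using this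

theorem conj_pow_eq {G : Type*} [Group G] {x q c : G} (hq : x * q * x⁻¹ = c * q)
    (hc : x * c = c * x) (j : ℕ) : x ^ j * q * (x ^ j)⁻¹ = c ^ j * q := by
  induction j with
  | zero => simp
  | succ j ih =>
    have h1 : x ^ (j + 1) * q * (x ^ (j + 1))⁻¹ = x * (x ^ j * q * (x ^ j)⁻¹) * x⁻¹ := by
      rw [pow_succ']; group
    have hcj : x * c ^ j = c ^ j * x := (Commute.pow_right (show Commute x c from hc) j).eq
    rw [h1, ih]
    calc x * (c ^ j * q) * x⁻¹ = (x * c ^ j) * q * x⁻¹ := by group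
      _ = c ^ j * (x * q * x⁻¹) := by rw [hcj]; group
      _ = c ^ (j + 1) * q := by rw [hq, pow_succ]; group

/-- In a finite `p`-solvable group, if a `p'`-subgroup `Q` normalises a Sylow `p`-subgroup, then
every `p`-element of `N(Q)` centralises `Q`. -/
theorem pElement_normalizer_centralizes (p : ℕ) [Fact p.Prime] : ∀ (n : ℕ) (G : Type u) [Group G]
    [Finite G], Nat.card G = n → Cfsg.IsPSolvable p G → ∀ Q : Subgroup G, (Nat.card Q).Coprime p →
    ∀ P : Sylow p G, Q ≤ Subgroup.normalizer ((P : Subgroup G) : Set G) →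
    ∀ x ∈ Subgroup.normalizer (Q : Set G), (∃ k : ℕ, x ^ p ^ k = 1) →
    x ∈ Subgroup.centralizer (Q : Set G) := by
  intro n
  induction n using Nat.strong_induction_on with
  | _ n ih =>
    intro G _ _ hcard hsol Q hQ P hQP x hxQ hxp
    rcases subsingleton_or_nontrivial G with hsub | hnt
    · rw [Subsingleton.elim x 1]; exact Subgroup.one_mem _
    obtain ⟨k, hk⟩ := hxp
    -- general quotient step
    have quot : ∀ N : Subgroup G, N.Normal → N ≠ ⊥ → ∀ q ∈ Q, x * q * x⁻¹ * q⁻¹ ∈ Q ⊓ N := by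
      intro N hN hne q hq
      have hlt : Nat.card (G ⧸ N) < n := hcard ▸ card_quotient_lt hne
      have hsurj := QuotientGroup.mk'_surjective N
      have h1 := ih _ hlt (G ⧸ N) rfl (Cfsg.Agent.Helper11.isPSolvable_quotient N hsol)
        (Q.map (QuotientGroup.mk' N))
        (Nat.Coprime.coprime_dvd_left (Subgroup.card_map_dvd Q _) hQ)
        (P.mapSurjective hsurj)
        (by
          rw [Sylow.coe_mapSurjective]
          exact (Subgroup.map_mono hQP).trans (Subgroup.le_normalizer_map _))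
        (QuotientGroup.mk' N x)
        (Subgroup.le_normalizer_map _ (Subgroup.mem_map_of_mem _ hxQ))
        ⟨k, by rw [← map_pow, hk, map_one]⟩
      have h2 := (Subgroup.mem_centralizer_iff.1 h1) (QuotientGroup.mk' N q)
        (Subgroup.mem_map_of_mem _ hq)
      refine Subgroup.mem_inf.2 ⟨?_, ?_⟩
      · exact Q.mul_mem ((Subgroup.mem_normalizer_iff.1 hxQ q).1 hq) (Q.inv_mem hq)
      · have h3 : (QuotientGroup.mk' N x) * (QuotientGroup.mk' N q) * (QuotientGroup.mk' N x)⁻¹ *
            (QuotientGroup.mk' N q)⁻¹ = 1 := by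
          rw [← h2]; group
        have h4 : ((x * q * x⁻¹ * q⁻¹ : G) : G ⧸ N) = 1 := by simpa using h3
        exact (QuotientGroup.eq_one_iff _).1 h4
    rw [Subgroup.mem_centralizer_iff]
    intro q hq
    rcases pCore_ne_bot_or_pPrimeCore_ne_bot hsol with hOp | hOp'
    · -- `O_p(G) ≠ 1`
      have hchar : (Cfsg.pCore p G).Characteristic := Cfsg.Agent.Lib.pCore_characteristic p
      have hn : (Cfsg.pCore p G).Normal := inferInstance
      have h1 := quot _ hn hOp q hq
      obtain ⟨e, he⟩ := (Cfsg.Agent.Lib.isPGroup_pCore p) ⟨_, h1.2⟩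
      have he' : (x * q * x⁻¹ * q⁻¹) ^ p ^ e = 1 := by simpa using congrArg Subtype.val he
      have h2 := eq_one_of_pow_eq_one_of_coprime hQ h1.1 he'
      have : x * q = q * x := by
        have h3 : x * q * x⁻¹ * q⁻¹ * (q * x) = q * x := by rw [h2, one_mul]
        rw [← h3]; group
      exact this.symm
    · -- `O_{p'}(G) ≠ 1`
      set N := Cfsg.pPrimeCore p G with hN
      have hchar : N.Characteristic := Cfsg.Agent.Lib.pPrimeCore_characteristic p
      have hn : N.Normal := inferInstance
      have hNco : (Nat.card N).Coprime p := Cfsg.Agent.Lib.card_pPrimeCore_coprime p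
      set Q₀ := Q ⊓ N with hQ₀
      have hc : ∀ q ∈ Q, x * q * x⁻¹ * q⁻¹ ∈ Q₀ := quot N hn hOp'
      -- `P` centralises `Q₀`
      have hPQ₀ : (P : Subgroup G) ≤ Subgroup.centralizer (Q₀ : Set G) := by
        intro y hy
        rw [Subgroup.mem_centralizer_iff]
        intro z hz
        have hz' : z ∈ Q₀ := hz
        have h1 : y * z * y⁻¹ * z⁻¹ ∈ (P : Subgroup G) := by
          have hzP := hQP hz'.1
          have : z * y⁻¹ * z⁻¹ ∈ (P : Subgroup G) :=
            (Subgroup.mem_normalizer_iff.1 hzP y⁻¹).1 (Subgroup.inv_mem _ hy)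
          have e : y * z * y⁻¹ * z⁻¹ = y * (z * y⁻¹ * z⁻¹) := by group
          rw [e]; exact Subgroup.mul_mem _ hy this
        have h2 : y * z * y⁻¹ * z⁻¹ ∈ N := N.mul_mem (hn.conj_mem z hz'.2 y) (N.inv_mem hz'.2)
        obtain ⟨e, he⟩ := P.2 ⟨_, h1⟩
        have he' : (y * z * y⁻¹ * z⁻¹) ^ p ^ e = 1 := by simpa using congrArg Subtype.val he
        have h3 := eq_one_of_pow_eq_one_of_coprime hNco h2 he'
        have h4 : y * z * y⁻¹ * z⁻¹ * (z * y) = z * y := by rw [h3, one_mul]
        rw [← h4]; group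
      -- `x` normalises `Q₀`
      have hxQ₀ : x ∈ Subgroup.normalizer (Q₀ : Set G) := by
        rw [Subgroup.mem_normalizer_iff]
        intro z
        constructor
        · intro hz
          exact ⟨(Subgroup.mem_normalizer_iff.1 hxQ z).1 hz.1, hn.conj_mem z hz.2 x⟩
        · intro hz
          refine ⟨(Subgroup.mem_normalizer_iff.1 hxQ z).2 hz.1, ?_⟩
          have := hn.conj_mem _ hz.2 x⁻¹
          simpa [mul_assoc] using this
      -- hence `x` centralises `Q₀` (Sylow's theorem inside `N(Q₀)`)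
      have hxC : x ∈ Subgroup.centralizer (Q₀ : Set G) := by
        set N₀ := Subgroup.normalizer (Q₀ : Set G) with hN₀
        have hPN₀ : (P : Subgroup G) ≤ N₀ := hPQ₀.trans (Subgroup.centralizer_le_normalizer _)
        let P' : Sylow p ↥N₀ := P.subtype hPN₀
        have hPC' : ((P' : Sylow p ↥N₀) : Subgroup ↥N₀) ≤
            (Subgroup.centralizer (Q₀ : Set G)).subgroupOf N₀ := by
          intro y hy
          have hy' : (y : G) ∈ (P : Subgroup G) := hy
          exact Subgroup.mem_subgroupOf.2 (hPQ₀ hy')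
        have hk' : (⟨x, hxQ₀⟩ : ↥N₀) ^ p ^ k = 1 := by
          apply Subtype.ext
          simpa using hk
        have := pElement_mem_of_sylow_le p P' _ hPC' (⟨x, hxQ₀⟩ : ↥N₀) k hk'
        exact Subgroup.mem_subgroupOf.1 this
      -- conclusion
      have h1 := hc q hq
      set c := x * q * x⁻¹ * q⁻¹ with hcdef
      have hxc : x * c = c * x := ((Subgroup.mem_centralizer_iff.1 hxC) c h1).symm
      have hq1 : x * q * x⁻¹ = c * q := by rw [hcdef]; group
      have h2 := conj_pow_eq hq1 hxc (p ^ k)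
      rw [hk] at h2
      have h3 : c ^ p ^ k = 1 := by
        have : q = c ^ p ^ k * q := by simpa using h2
        have h4 : c ^ p ^ k * q = 1 * q := by rw [one_mul]; exact this.symm
        exact mul_right_cancel h4
      have hQ₀co : (Nat.card Q₀).Coprime p :=
        Nat.Coprime.coprime_dvd_left (Subgroup.card_dvd_of_le inf_le_left) hQ
      have h5 : c = 1 := eq_one_of_pow_eq_one_of_coprime hQ₀co h1 h3
      have h6 : x * q * x⁻¹ = q := by rw [hq1, h5, one_mul]
      have h7 : x * q = q * x := by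
        calc x * q = x * q * x⁻¹ * x := by group
          _ = q * x := by rw [h6]
      exact h7.symm

end Cfsg.Agent.Helper91
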