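-- helper91: piece (D) `normalizer_le_of_coprime` of board post 5347 for helper88 (S5320).
import Mathlib

set_option autoImplicit false

namespace Cfsg.Agent.Helper91.PSp4D

/-- A `p`-element normalizing a Sylow `p`-subgroup lies in it. -/
theorem mem_sylow_of_pow_eq_one {G : Type*} [Group G] {p : ℕ} (P : Sylow p G) (u : G)
    (hu : u ∈ Subgroup.normalizer ((P : Subgroup G) : Set G)) (k : ℕ) (huk : u ^ p ^ k = 1) :
    u ∈ (P : Subgroup G) := by
  have hz : IsPGroup p (Subgroup.zpowers u) := by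
    rintro ⟨x, hx⟩
    obtain ⟨i, rfl⟩ := Subgroup.mem_zpowers_iff.mp hx
    refine ⟨k, Subtype.ext ?_⟩
    simp only [Subgroup.coe_pow, Subgroup.coe_one]
    rw [← zpow_natCast, ← zpow_mul, mul_comm, zpow_mul, zpow_natCast, huk, one_zpow]
  have hle : Subgroup.zpowers u ≤ Subgroup.normalizer ((P : Subgroup G) : Set G) := by
    rw [Subgroup.zpowers_le]; exact hu
  have hsup := IsPGroup.to_sup_of_normal_right' hz P.2 hle
  have := P.is_maximal' hsup le_sup_right
  rw [← this]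
  exact Subgroup.mem_sup_left (Subgroup.mem_zpowers u)

/-- **(D)** a subgroup containing the Sylow `p`-subgroup `P` and all `p'`-elements of `N_G(P)`
contains `N_G(P)`. -/
theorem normalizer_le_of_coprime {G : Type*} [Group G] [Finite G] (p : ℕ) [Fact p.Prime]
    (P : Sylow p G) (K : Subgroup G) (hPK : (P : Subgroup G) ≤ K)
    (h : ∀ g ∈ Subgroup.normalizer ((P : Subgroup G) : Set G), (orderOf g).Coprime p → g ∈ K) :
    Subgroup.normalizer ((P : Subgroup G) : Set G) ≤ K := by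
  intro g hg
  have hp : p.Prime := Fact.out
  have hn : orderOf g ≠ 0 := (orderOf_pos g).ne'
  obtain ⟨k, m, hm, hkm⟩ := Nat.exists_eq_pow_mul_and_not_dvd hn p hp.ne_one
  have hv : g ^ (p ^ k) ∈ K := by
    apply h _ (Subgroup.pow_mem _ hg _)
    have hd : orderOf (g ^ (p ^ k)) ∣ m := by
      apply orderOf_dvd_of_pow_eq_one
      rw [← pow_mul, ← hkm, pow_orderOf_eq_one]
    exact Nat.Coprime.coprime_dvd_left hd ((Nat.Prime.coprime_iff_not_dvd hp).2 hm).symm
  have hu : g ^ m ∈ K := by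
    apply hPK
    apply mem_sylow_of_pow_eq_one P _ (Subgroup.pow_mem _ hg _) k
    rw [← pow_mul, mul_comm, ← hkm, pow_orderOf_eq_one]
  have hcop : Nat.Coprime m (p ^ k) :=
    (Nat.Coprime.pow_left k ((Nat.Prime.coprime_iff_not_dvd hp).2 hm)).symm
  have hb := Int.gcd_eq_gcd_ab (m : ℤ) ((p ^ k : ℕ) : ℤ)
  rw [Int.gcd_natCast_natCast, hcop] at hb
  have hg1 : g = (g ^ m) ^ (Int.gcdA (m : ℤ) ((p ^ k : ℕ) : ℤ)) *
      (g ^ (p ^ k)) ^ (Int.gcdB (m : ℤ) ((p ^ k : ℕ) : ℤ)) := by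
    rw [← zpow_natCast, ← zpow_natCast, ← zpow_mul, ← zpow_mul, ← zpow_add, ← hb]
    simp
  rw [hg1]
  exact Subgroup.mul_mem _ (Subgroup.zpow_mem _ hu _) (Subgroup.zpow_mem _ hv _)

end Cfsg.Agent.Helper91.PSp4D
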