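-- helper91: piece (GR-c) of board post 5401 for helper82 (defect-one engine, S4502 & co):
-- the action of `N = nor P` on `Irr(cen P)` : freeness off the canonical characters,
-- triviality of `cen P`, and invariance of `IsCanon`.
import Mathlib
import Cfsg.Agent.Helper16.DefOneSetup
import Cfsg.Agent.Helper16.CentralDefect
import Cfsg.Agent.Helper16.Osima
import Cfsg.Agent.Helper82.McKayP.Singular
import Cfsg.Agent.Helper91.PSp4D

set_option autoImplicit false

namespace Cfsg.Agent.Helper91.DefOneGRc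

open Cfsg Cfsg.Agent.Helper16 Cfsg.Agent.Helper16.DefOne

universe u

variable {G : Type u} [Group G] [Fintype G] {p : ℕ} [Fact p.Prime] (P : Sylow p G)

/-- a Sylow subgroup of prime order is abelian -/
theorem le_cen' (hP : Nat.card P = p) : (P : Subgroup G) ≤ cen P := by
  intro x hx
  rw [Subgroup.mem_centralizer_iff]
  intro y hy
  have hc : IsCyclic ↥(P : Subgroup G) := isCyclic_of_prime_card hP
  let _ := IsCyclic.commGroup (α := ↥(P : Subgroup G))
  exact congrArg Subtype.val (mul_comm (⟨y, hy⟩ : ↥(P : Subgroup G)) ⟨x, hx⟩)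

/-- `nor P = N_G(C_G(P))` normalizes `P` -/
theorem conj_mem_of_mem_nor (hP : Nat.card P = p) (n : G) (hn : n ∈ nor P) (x : G)
    (hx : x ∈ (P : Subgroup G)) : n * x * n⁻¹ ∈ (P : Subgroup G) := by
  have hxc : x ∈ cen P := le_cen' P hP hx
  have h1 : n * x * n⁻¹ ∈ cen P := (Subgroup.mem_normalizer_iff.mp hn x).mp hxc
  have h2 : n * x * n⁻¹ ∈ Subgroup.normalizer ((P : Subgroup G) : Set G) :=
    Subgroup.centralizer_le_normalizer _ h1
  obtain ⟨k, hk⟩ := P.2 ⟨x, hx⟩
  have hk' : x ^ p ^ k = 1 := by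
    have := congrArg Subtype.val hk
    simpa using this
  apply Cfsg.Agent.Helper91.PSp4D.mem_sylow_of_pow_eq_one P _ h2 k
  rw [conj_pow, hk', mul_one, mul_inv_cancel]

theorem smul_eq_of_mem_cen (n : nor P) (φ : IrrCharacter (cen P)) (h : (n : G) ∈ cen P) :
    n • φ = φ := by
  apply Subtype.ext
  funext c
  rw [smul_irr_apply]
  haveI : Fintype (cen P) := Fintype.ofFinite _
  have hcf := irr_isClassFunction φ
  have e : (normConj (cen P) n).symm c =
      (⟨(n : G), h⟩ : cen P)⁻¹ * c * ((⟨(n : G), h⟩ : cen P)⁻¹)⁻¹ := by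
    apply Subtype.ext
    rw [coe_normConj_symm]
    simp
  rw [e, hcf]

theorem isCanon_smul (hP : Nat.card P = p) (n : nor P) (θ : IrrCharacter (cen P))
    (hθ : IsCanon P θ) : IsCanon P (n • θ) := by
  intro x hx
  rw [smul_irr_apply, smul_irr_apply]
  have h1 : (((normConj (cen P) n).symm x : cen P) : G) ∈ (P : Subgroup G) := by
    rw [coe_normConj_symm]
    have := conj_mem_of_mem_nor P hP (n : G)⁻¹ (Subgroup.inv_mem _ n.2) x hx
    simpa using this
  rw [hθ _ h1, map_one]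

theorem mem_cen_of_smul_eq (hP : Nat.card P = p) (n : nor P) (φ : IrrCharacter (cen P))
    (hφ : ¬ IsCanon P φ) (h : n • φ = φ) : (n : G) ∈ cen P := by
  haveI : Fintype (cen P) := Fintype.ofFinite _
  have hp : p.Prime := Fact.out
  have h1ne : (φ : cen P → ℂ) 1 ≠ 0 := irr_one_ne_zero φ
  -- elements of `P` are central in `cen P`
  have hcent : ∀ x : cen P, (x : G) ∈ (P : Subgroup G) → x ∈ Subgroup.center (cen P) := by
    intro x hx
    rw [Subgroup.mem_center_iff]
    intro g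
    apply Subtype.ext
    have := Subgroup.mem_centralizer_iff.mp g.2 (x : G) hx
    simp only [Subgroup.coe_mul]
    exact this.symm
  -- multiplicativity of `φ / φ 1` on `P`
  have hmul : ∀ x y : cen P, (x : G) ∈ (P : Subgroup G) →
      (φ : cen P → ℂ) (x * y) * (φ : cen P → ℂ) 1 = (φ : cen P → ℂ) x * (φ : cen P → ℂ) y := by
    intro x y hx
    obtain ⟨c, hc⟩ := irr_central_mul φ (hcent x hx)
    have e1 := hc y
    have e2 := hc 1
    rw [mul_one] at e2
    rw [e1, e2]; ring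
  -- the kernel of `φ` on `P`
  let K : Subgroup G :=
    { carrier := {x | ∃ hx : x ∈ (P : Subgroup G),
        (φ : cen P → ℂ) ⟨x, le_cen' P hP hx⟩ = (φ : cen P → ℂ) 1}
      mul_mem' := by
        rintro a b ⟨ha, ha'⟩ ⟨hb, hb'⟩
        refine ⟨Subgroup.mul_mem _ ha hb, ?_⟩
        have := hmul ⟨a, le_cen' P hP ha⟩ ⟨b, le_cen' P hP hb⟩ ha
        rw [ha', hb'] at this
        exact mul_right_cancel₀ h1ne this
      one_mem' := ⟨Subgroup.one_mem _, rfl⟩
      inv_mem' := by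
        rintro a ⟨ha, ha'⟩
        refine ⟨Subgroup.inv_mem _ ha, ?_⟩
        have := hmul ⟨a, le_cen' P hP ha⟩ ⟨a⁻¹, le_cen' P hP (Subgroup.inv_mem _ ha)⟩ ha
        have e : (⟨a, le_cen' P hP ha⟩ : cen P) * ⟨a⁻¹, le_cen' P hP (Subgroup.inv_mem _ ha)⟩ = 1 := by
          apply Subtype.ext; simp
        rw [e, ha'] at this
        exact (mul_left_cancel₀ h1ne this).symm }
  have hKP : K ≤ (P : Subgroup G) := fun x hx => hx.1
  have hKne : K ≠ (P : Subgroup G) := by
    intro hK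
    apply hφ
    intro x hx
    have : (x : G) ∈ K := hK ▸ hx
    obtain ⟨_, h2⟩ := this
    exact h2
  have hKbot : K = ⊥ := by
    have hdvd : Nat.card K ∣ p := hP ▸ Subgroup.card_dvd_of_le hKP
    rcases (Nat.dvd_prime hp).mp hdvd with h1 | h1
    · exact Subgroup.eq_bot_of_card_eq K h1
    · exact absurd (Subgroup.eq_of_le_of_card_ge hKP (by rw [h1]; exact hP.le)) hKne
  -- conclusion
  rw [Subgroup.mem_centralizer_iff]
  intro x hx
  have hxc : x ∈ cen P := le_cen' P hP hx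
  have hy : (((normConj (cen P) n).symm ⟨x, hxc⟩ : cen P) : G) ∈ (P : Subgroup G) := by
    rw [coe_normConj_symm]
    have := conj_mem_of_mem_nor P hP (n : G)⁻¹ (Subgroup.inv_mem _ n.2) x hx
    simpa using this
  have e1 : (φ : cen P → ℂ) ((normConj (cen P) n).symm ⟨x, hxc⟩) = (φ : cen P → ℂ) ⟨x, hxc⟩ := by
    rw [← smul_irr_apply, h]
  -- `y * x⁻¹ ∈ K`
  have hxi : ((⟨x, hxc⟩ : cen P)⁻¹ : cen P).1 ∈ (P : Subgroup G) := by
    simpa using Subgroup.inv_mem _ hx
  have e2 := hmul ((normConj (cen P) n).symm ⟨x, hxc⟩) (⟨x, hxc⟩ : cen P)⁻¹ hy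
  have e3 := hmul (⟨x, hxc⟩ : cen P) (⟨x, hxc⟩ : cen P)⁻¹ hx
  rw [mul_inv_cancel] at e3
  rw [e1, ← e3] at e2
  have e4 := mul_right_cancel₀ h1ne e2
  have hmem : (((normConj (cen P) n).symm ⟨x, hxc⟩ * (⟨x, hxc⟩ : cen P)⁻¹ : cen P) : G) ∈ K := by
    refine ⟨Subgroup.mul_mem _ hy hxi, e4⟩
  rw [hKbot, Subgroup.mem_bot] at hmem
  have e5 : (n : G)⁻¹ * x * (n : G) * x⁻¹ = 1 := by
    simpa [coe_normConj_symm] using hmem
  have e6 : (n : G)⁻¹ * x * (n : G) = x := by
    rwa [mul_inv_eq_one] at e5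
  calc x * (n : G) = (n : G) * ((n : G)⁻¹ * x * (n : G)) := by group
    _ = (n : G) * x := by rw [e6]

end Cfsg.Agent.Helper91.DefOneGRc
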