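import Cfsg.Agent.Helper91.WielandtCriterion
import Cfsg.Agent.Lib.Cores

set_option autoImplicit false
open scoped Pointwise

namespace Cfsg.Agent.Helper91

universe u

/-- Every subgroup of a finite nilpotent group is subnormal. -/
theorem isSubnormal_of_isNilpotent {K : Type*} [Group K] [Finite K] [Group.IsNilpotent K]
    (H : Subgroup K) : H.IsSubnormal := by
  induction H using WellFoundedGT.induction with
  | ind H ih =>
    by_cases hH : H = ⊤
    · subst hH; exact Subgroup.IsSubnormal.top
    · have hlt : H < ⊤ := lt_top_iff_ne_top.2 hH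
      have hN := Group.normalizerCondition_of_isNilpotent (G := K) H hlt
      refine Subgroup.IsSubnormal.step H _ hN.le (ih _ hN) ?_
      exact Subgroup.normal_subgroupOf_of_le_normalizer le_rfl

theorem relSN_of_isNilpotent {G : Type*} [Group G] [Finite G] {A K : Subgroup G} (hAK : A ≤ K)
    (hK : Group.IsNilpotent K) : RelSN A K :=
  relSN_iff.2 ⟨hAK, isSubnormal_of_isNilpotent _⟩

theorem le_fittingSubgroup_of_isSubnormal_aux : ∀ (n : ℕ) (G : Type u) [Group G] [Finite G],
    Nat.card G = n → ∀ A : Subgroup G, A.IsSubnormal → Group.IsNilpotent A →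
    A ≤ Cfsg.fittingSubgroup G := by
  intro n
  induction n using Nat.strong_induction_on with
  | _ n ih =>
    intro G _ _ hcard A hsn hnil
    by_cases hA : A = ⊤
    · subst hA
      exact Cfsg.Agent.Lib.le_fittingSubgroup inferInstance hnil
    · obtain ⟨K, hKn, hAK, hK⟩ := hsn.exists_normal_and_le_and_lt_top_of_ne hA
      have hlt : Nat.card ↥K < n := hcard ▸ card_subgroup_lt hK
      have hnil' : Group.IsNilpotent ↥(A.subgroupOf K) :=
        (Group.isNilpotent_congr (Subgroup.subgroupOfEquivOfLe hAK)).2 hnil
      have h1 := ih _ hlt ↥K rfl (A.subgroupOf K) hsn.subgroupOf hnil'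
      have h2 : A ≤ (Cfsg.fittingSubgroup ↥K).map K.subtype := by
        rw [← Subgroup.map_subgroupOf_eq_of_le hAK]
        exact Subgroup.map_mono h1
      refine h2.trans ?_
      have hc : (Cfsg.fittingSubgroup ↥K).Characteristic :=
        Cfsg.Agent.Lib.fittingSubgroup_characteristic
      have hKn' := hKn
      have hnorm : ((Cfsg.fittingSubgroup ↥K).map K.subtype).Normal := inferInstance
      have hn0 : Group.IsNilpotent ↥(Cfsg.fittingSubgroup ↥K) :=
        Cfsg.Agent.Lib.isNilpotent_fittingSubgroup
      have hnil2 : Group.IsNilpotent ↥((Cfsg.fittingSubgroup ↥K).map K.subtype) :=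
        (Group.isNilpotent_congr ((Cfsg.fittingSubgroup ↥K).equivMapOfInjective K.subtype
          K.subtype_injective)).1 hn0
      exact Cfsg.Agent.Lib.le_fittingSubgroup hnorm hnil2

/-- A subnormal nilpotent subgroup of a finite group lies in the Fitting subgroup. -/
theorem le_fittingSubgroup_of_isSubnormal {G : Type u} [Group G] [Finite G] {A : Subgroup G}
    (hsn : A.IsSubnormal) (hnil : Group.IsNilpotent A) : A ≤ Cfsg.fittingSubgroup G :=
  le_fittingSubgroup_of_isSubnormal_aux _ G rfl A hsn hnil

end Cfsg.Agent.Helper91
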