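import Mathlib
import Cfsg.Prelude.Def_Transfer

/-!
# A "Schur / cyclic" step without linear algebra

If a cyclic `r`-group `R` acts irreducibly on an elementary abelian group `A` of order `p ^ 2`
(`p ≠ r`), then every element `f` of order dividing `r` normalizing `A` and centralizing `R`
acts on `A` like an element of `R`.
-/

namespace Cfsg.Agent.Helper91.SchurCyclic

open Finset

section RingLevel

variable {S : Type*} [Ring S]

/-- The "norm" `1 + t + ... + t^(r-1)`. -/
def nrm (r : ℕ) (t : S) : S := ∑ i ∈ range r, t ^ i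

theorem mul_nrm (r : ℕ) (t : S) (ht : t ^ r = 1) : t * nrm r t = nrm r t := by
  have h := mul_geom_sum t r
  unfold nrm
  rw [ht, sub_self, sub_mul, one_mul, sub_eq_zero] at h
  exact h

theorem natCast_eq_zero_of_nrm (r : ℕ) (hr : 1 < r) (φ ψ : S) (hc : Commute φ ψ)
    (h : ∀ i j, i < r → j < r → (i ≠ 0 ∨ j ≠ 0) → nrm r (φ ^ i * ψ ^ j) = 0) :
    (r : S) = 0 := by
  have h1 : ∑ k ∈ range r, nrm r (φ * ψ ^ k) = 0 := by
    apply Finset.sum_eq_zero
    intro k hk
    have := h 1 k hr (mem_range.1 hk) (Or.inl one_ne_zero)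
    simpa using this
  have h2 : ∑ k ∈ range r, nrm r (φ * ψ ^ k) = ∑ i ∈ range r, φ ^ i * nrm r (ψ ^ i) := by
    unfold nrm
    rw [Finset.sum_comm]
    apply Finset.sum_congr rfl
    intro i _
    rw [Finset.mul_sum]
    apply Finset.sum_congr rfl
    intro k _
    rw [(hc.pow_right k).mul_pow, ← pow_mul, ← pow_mul, mul_comm k i]
  have h3 : ∑ i ∈ range r, φ ^ i * nrm r (ψ ^ i) = (r : S) := by
    rw [Finset.sum_eq_single_of_mem 0 (mem_range.2 (by omega))]
    · simp [nrm]
    · intro i hi hi0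
      have := h 0 i (by omega) (mem_range.1 hi) (Or.inr hi0)
      simp only [pow_zero, one_mul] at this
      rw [this, mul_zero]
  rw [← h3, ← h2, h1]

end RingLevel

section EndLevel

variable {B : Type*} [AddCommGroup B]

theorem nrm_eq_zero_of_fpf (r : ℕ) (θ : AddMonoid.End B) (ht : θ ^ r = 1)
    (hf : ∀ b, θ b = b → b = 0) : nrm r θ = 0 := by
  ext b
  have h := mul_nrm r θ ht
  have h2 : θ (nrm r θ b) = nrm r θ b := by
    conv_rhs => rw [← h]
    rfl
  simpa using hf _ h2

theorem nsmul_eq_zero_of_fpf (r : ℕ) (hr : 1 < r) (φ ψ : AddMonoid.End B) (hc : Commute φ ψ)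
    (hφ : φ ^ r = 1) (hψ : ψ ^ r = 1)
    (hfpf : ∀ i j, i < r → j < r → (i ≠ 0 ∨ j ≠ 0) → ∀ b, (φ ^ i * ψ ^ j) b = b → b = 0)
    (b : B) : r • b = 0 := by
  have key : ((r : ℕ) : AddMonoid.End B) = 0 := by
    refine natCast_eq_zero_of_nrm r hr φ ψ hc (fun i j hi hj hij =>
      nrm_eq_zero_of_fpf r _ ?_ (hfpf i j hi hj hij))
    rw [(hc.pow_pow i j).mul_pow, ← pow_mul, ← pow_mul, mul_comm i r, mul_comm j r, pow_mul,
      pow_mul, hφ, hψ, one_pow, one_pow, one_mul]
  have h2 := congrArg (fun t : AddMonoid.End B => t b) key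
  simpa using h2

end EndLevel

section CommGroupLevel

variable {C : Type*} [CommGroup C]

/-- An endomorphism of a commutative group as an element of the endomorphism ring of its
additive version. -/
def addEnd (φ : C →* C) : AddMonoid.End (Additive C) := MonoidHom.toAdditive φ

theorem addEnd_apply (φ : C →* C) (b : Additive C) :
    addEnd φ b = Additive.ofMul (φ (Additive.toMul b)) := rfl

theorem toAdditive_pow_apply (φ : C →* C) (i : ℕ) (b : Additive C) :
    ((addEnd φ) ^ i) b = Additive.ofMul ((φ^[i]) (Additive.toMul b)) := by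
  induction i generalizing b with
  | zero => simp
  | succ n ih =>
    rw [pow_succ, AddMonoid.End.coe_mul, Function.comp_apply, ih, Function.iterate_succ_apply]
    rfl

/-- Two commuting endomorphisms `φ, ψ` of a finite abelian group `C` of order prime to `r` with
`φ^r = ψ^r = 1`: if `C ≠ 1` then some `φ^i ψ^j` with `(i,j) ≠ (0,0)`, `i, j < r`, fixes a
nontrivial element. -/
theorem exists_fixed_of_coprime [Finite C] (r : ℕ) (hr : 1 < r)
    (hcop : (Nat.card C).Coprime r) (φ ψ : C →* C) (hc : ∀ a, φ (ψ a) = ψ (φ a))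
    (hφ : ∀ a, (φ^[r]) a = a) (hψ : ∀ a, (ψ^[r]) a = a) (hC : ∃ a : C, a ≠ 1) :
    ∃ i j, i < r ∧ j < r ∧ (i ≠ 0 ∨ j ≠ 0) ∧ ∃ a : C, a ≠ 1 ∧ (φ^[i]) ((ψ^[j]) a) = a := by
  by_contra hcon
  push Not at hcon
  obtain ⟨a, ha⟩ := hC
  set Φ : AddMonoid.End (Additive C) := addEnd φ with hΦ
  set Ψ : AddMonoid.End (Additive C) := addEnd ψ with hΨ
  have hcomm : Commute Φ Ψ := by
    ext b
    change Additive.ofMul (φ (ψ (Additive.toMul b))) = Additive.ofMul (ψ (φ (Additive.toMul b)))
    rw [hc]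
  have hΦr : Φ ^ r = 1 := by
    ext b
    rw [toAdditive_pow_apply, hφ]; rfl
  have hΨr : Ψ ^ r = 1 := by
    ext b
    rw [toAdditive_pow_apply, hψ]; rfl
  have hfpf : ∀ i j, i < r → j < r → (i ≠ 0 ∨ j ≠ 0) →
      ∀ b, (Φ ^ i * Ψ ^ j) b = b → b = 0 := by
    intro i j hi hj hij b hb
    rw [AddMonoid.End.coe_mul, Function.comp_apply, toAdditive_pow_apply, toAdditive_pow_apply] at hb
    by_contra hb0
    have h1 : Additive.toMul b ≠ 1 := fun h => hb0 (by
      have : Additive.ofMul (Additive.toMul b) = Additive.ofMul 1 := by rw [h]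
      simpa using this)
    refine hcon i j hi hj hij (Additive.toMul b) h1 ?_
    have := congrArg Additive.toMul hb
    simpa using this
  have h := nsmul_eq_zero_of_fpf r hr Φ Ψ hcomm hΦr hΨr hfpf (Additive.ofMul a)
  have har : a ^ r = 1 := by
    have := congrArg Additive.toMul h
    simpa using this
  have h2 : orderOf a ∣ r := orderOf_dvd_of_pow_eq_one har
  have h3 : orderOf a ∣ Nat.card C := orderOf_dvd_natCard a
  have h4 : orderOf a = 1 := Nat.eq_one_of_dvd_coprimes hcop h3 h2
  exact ha (orderOf_eq_one_iff.1 h4)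

end CommGroupLevel

section SubgroupLevel

variable {G : Type*} [Group G]

/-- Conjugation by an element of the normalizer, as an endomorphism of the subgroup. -/
def conjHom (A : Subgroup G) (x : G) (hx : x ∈ Subgroup.normalizer (A : Set G)) : A →* A where
  toFun a := ⟨x * a * x⁻¹, (Subgroup.mem_normalizer_iff.1 hx a).1 a.2⟩
  map_one' := by ext; simp
  map_mul' a b := by ext; simp [mul_assoc]

theorem conjHom_iterate (A : Subgroup G) (x : G) (hx : x ∈ Subgroup.normalizer (A : Set G))
    (i : ℕ) (a : A) : (((conjHom A x hx)^[i]) a : G) = x ^ i * a * (x ^ i)⁻¹ := by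
  induction i generalizing a with
  | zero => simp
  | succ n ih =>
    rw [Function.iterate_succ_apply, ih]
    change x ^ n * (x * a * x⁻¹) * (x ^ n)⁻¹ = _
    rw [pow_succ, mul_inv_rev]
    group

/-- `A` a finite abelian subgroup of order prime to `r`, `x, y` commuting elements of `N(A)` with
`x^r, y^r ∈ C(A)`, `A ≠ 1`: some `x^i y^j` with `(i,j) ≠ (0,0)`, `i, j < r`, centralizes a
nontrivial element of `A`. -/
theorem exists_fixed_subgroup (A : Subgroup G) [Finite A] (hA : IsMulCommutative A)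
    (r : ℕ) (hr : 1 < r) (hcop : (Nat.card A).Coprime r) (x y : G)
    (hx : x ∈ Subgroup.normalizer (A : Set G)) (hy : y ∈ Subgroup.normalizer (A : Set G))
    (hxy : x * y = y * x) (hxr : x ^ r ∈ Subgroup.centralizer (A : Set G))
    (hyr : y ^ r ∈ Subgroup.centralizer (A : Set G)) (hA1 : A ≠ ⊥) :
    ∃ i j, i < r ∧ j < r ∧ (i ≠ 0 ∨ j ≠ 0) ∧
      ∃ a ∈ A, a ≠ 1 ∧ (x ^ i * y ^ j) * a = a * (x ^ i * y ^ j) := by
  let _ : CommGroup A :=
    { (inferInstance : Group A) with mul_comm := fun a b => hA.is_comm.comm a b }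
  have hcent : ∀ (z : G) (hz : z ∈ Subgroup.normalizer (A : Set G)),
      z ^ r ∈ Subgroup.centralizer (A : Set G) → ∀ a : A, ((conjHom A z hz)^[r]) a = a := by
    intro z hz hzr a
    apply Subtype.ext
    rw [conjHom_iterate]
    have := Subgroup.mem_centralizer_iff.1 hzr a a.2
    rw [← this, mul_assoc, mul_inv_cancel, mul_one]
  have hne : ∃ a : A, a ≠ 1 := by
    by_contra hcon
    push Not at hcon
    apply hA1
    rw [Subgroup.eq_bot_iff_forall]
    intro g hg
    have := hcon ⟨g, hg⟩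
    exact congrArg Subtype.val this
  obtain ⟨i, j, hi, hj, hij, a, ha, hfix⟩ := exists_fixed_of_coprime r hr hcop
    (conjHom A x hx) (conjHom A y hy) (by
      intro a
      apply Subtype.ext
      change x * (y * a * y⁻¹) * x⁻¹ = y * (x * a * x⁻¹) * y⁻¹
      have h1 : x⁻¹ * y⁻¹ = y⁻¹ * x⁻¹ := by
        rw [← mul_inv_rev, ← mul_inv_rev, hxy]
      calc x * (y * a * y⁻¹) * x⁻¹ = (x * y) * a * (y⁻¹ * x⁻¹) := by group
        _ = (y * x) * a * (x⁻¹ * y⁻¹) := by rw [hxy, h1]
        _ = y * (x * a * x⁻¹) * y⁻¹ := by group)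
    (hcent x hx hxr) (hcent y hy hyr) hne
  refine ⟨i, j, hi, hj, hij, a, a.2, fun h => ha (Subtype.ext h), ?_⟩
  have h2 := congrArg Subtype.val hfix
  rw [conjHom_iterate, conjHom_iterate] at h2
  -- h2 : x^i * (y^j * a * (y^j)⁻¹) * (x^i)⁻¹ = a
  calc x ^ i * y ^ j * (a : G)
      = (x ^ i * (y ^ j * a * (y ^ j)⁻¹) * (x ^ i)⁻¹) * (x ^ i * y ^ j) := by group
    _ = a * (x ^ i * y ^ j) := by rw [h2]

theorem mem_of_pow_mem_of_coprime (H : Subgroup G) (x : G) (i r : ℕ) (h : Nat.Coprime i r)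
    (hi : x ^ i ∈ H) (hr : x ^ r ∈ H) : x ∈ H := by
  have hb := Nat.gcd_eq_gcd_ab i r
  rw [h.gcd_eq_one] at hb
  have hx : x = (x ^ i) ^ (Nat.gcdA i r) * (x ^ r) ^ (Nat.gcdB i r) := by
    rw [← zpow_natCast, ← zpow_natCast, ← zpow_mul, ← zpow_mul, ← zpow_add, ← hb]
    simp
  rw [hx]
  exact H.mul_mem (H.zpow_mem hi _) (H.zpow_mem hr _)

/-- Irreducibility step: an element commuting with `R` and centralizing a nontrivial element of
`A` centralizes `A`. -/
theorem mem_centralizer_of_fixed (A R : Subgroup G) [Finite A] (p : ℕ) [Fact p.Prime]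
    (hcard : Nat.card A = p ^ 2) (hRA : R ≤ Subgroup.normalizer (A : Set G))
    (hirr : ∀ X : Subgroup G, X ≤ A → Nat.card X = p → ¬ R ≤ Subgroup.normalizer (X : Set G))
    (t : G) (htR : ∀ x ∈ R, t * x = x * t) (a : G) (haA : a ∈ A) (ha1 : a ≠ 1)
    (hta : t * a = a * t) : t ∈ Subgroup.centralizer (A : Set G) := by
  set F : Subgroup G := A ⊓ Subgroup.centralizer ({t} : Set G) with hF
  have hFA : F ≤ A := inf_le_left
  have hmemF : ∀ g, g ∈ F ↔ g ∈ A ∧ t * g = g * t := by
    intro g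
    rw [hF, Subgroup.mem_inf, Subgroup.mem_centralizer_iff]
    simp
  have haF : a ∈ F := (hmemF a).2 ⟨haA, hta⟩
  have : Finite F := Finite.of_injective (Subgroup.inclusion hFA) (Subgroup.inclusion_injective hFA)
  have hdvd : Nat.card F ∣ p ^ 2 := hcard ▸ Subgroup.card_dvd_of_le hFA
  obtain ⟨m, hm, hcm⟩ := (Nat.dvd_prime_pow (Fact.out : p.Prime)).1 hdvd
  have hRF : R ≤ Subgroup.normalizer (F : Set G) := by
    have hone : ∀ x ∈ R, ∀ g ∈ F, x * g * x⁻¹ ∈ F := by
      intro x hx g hg
      rw [hmemF] at hg ⊢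
      refine ⟨(Subgroup.mem_normalizer_iff.1 (hRA hx) g).1 hg.1, ?_⟩
      have h1 := htR x hx
      have h2 : t * x⁻¹ = x⁻¹ * t := (show Commute t x from h1).inv_right
      calc t * (x * g * x⁻¹) = (t * x) * g * x⁻¹ := by group
        _ = x * (t * g) * x⁻¹ := by rw [h1]; group
        _ = x * g * (t * x⁻¹) := by rw [hg.2]; group
        _ = x * g * x⁻¹ * t := by rw [h2]; group
    intro x hx
    rw [Subgroup.mem_normalizer_iff]
    intro g
    refine ⟨hone x hx g, fun h => ?_⟩
    have := hone x⁻¹ (R.inv_mem hx) _ h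
    simpa [mul_assoc] using this
  interval_cases m
  · -- card F = 1
    exfalso
    rw [pow_zero] at hcm
    have : F = ⊥ := Subgroup.card_eq_one.1 hcm
    rw [this, Subgroup.mem_bot] at haF
    exact ha1 haF
  · -- card F = p
    exfalso
    rw [pow_one] at hcm
    exact hirr F hFA hcm hRF
  · -- card F = p^2
    have hFA' : F = A := Subgroup.eq_of_le_of_card_ge hFA (by rw [hcm, hcard])
    rw [Subgroup.mem_centralizer_iff]
    intro g hg
    have : g ∈ F := hFA' ▸ hg
    exact ((hmemF g).1 this).2.symm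

/-- **Schur / cyclic step.** `A` elementary abelian of order `p ^ 2`, `R` a cyclic `r`-group
(`r ≠ p`) normalizing `A` and leaving no subgroup of order `p` of `A` invariant. If `f`
normalizes `A`, commutes with `R` and `f ^ r = 1`, then `f ∈ R * C_G(A)`. -/
theorem exists_eq_mul_centralizer (A R : Subgroup G) [Finite A] (p r : ℕ) [Fact p.Prime]
    [Fact r.Prime] (hpr : p ≠ r) (hA : Cfsg.IsElementaryAbelian p A) (hcard : Nat.card A = p ^ 2)
    (hRA : R ≤ Subgroup.normalizer (A : Set G)) (hRcyc : IsCyclic R) (hRr : IsPGroup r R)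
    (hirr : ∀ X : Subgroup G, X ≤ A → Nat.card X = p → ¬ R ≤ Subgroup.normalizer (X : Set G))
    (f : G) (hfA : f ∈ Subgroup.normalizer (A : Set G)) (hfR : ∀ x ∈ R, f * x = x * f)
    (hfr : f ^ r = 1) :
    ∃ e ∈ R, ∃ c ∈ Subgroup.centralizer (A : Set G), f = e * c := by
  have hp : p.Prime := Fact.out
  have hr : r.Prime := Fact.out
  -- `R` is commutative (as elements of `G`)
  have hRcomm : ∀ x ∈ R, ∀ y ∈ R, x * y = y * x := by
    intro x hx y hy
    have := hRcyc.isMulCommutative.is_comm.comm (⟨x, hx⟩ : R) ⟨y, hy⟩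
    exact congrArg Subtype.val this
  -- a generator
  obtain ⟨g0, hg0⟩ := hRcyc.exists_generator
  set g : G := (g0 : G) with hg
  have hgR : g ∈ R := g0.2
  have hRz : ∀ x ∈ R, ∃ k : ℤ, g ^ k = x := by
    intro x hx
    obtain ⟨k, hk⟩ := Subgroup.mem_zpowers_iff.1 (hg0 ⟨x, hx⟩)
    refine ⟨k, ?_⟩
    have := congrArg Subtype.val hk
    simpa using this
  -- `A` has a subgroup of order `p`, so `R` does not centralize `A`
  have hAne : A ≠ ⊥ := by
    intro h
    rw [h, Subgroup.card_bot] at hcard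
    have : 1 < p ^ 2 := Nat.one_lt_pow (by norm_num) hp.one_lt
    omega
  have hgC : g ∉ Subgroup.centralizer (A : Set G) := by
    intro hgC
    obtain ⟨a, haA, ha1⟩ : ∃ a : G, a ∈ A ∧ a ≠ 1 := by
      obtain ⟨a, ha⟩ := (Subgroup.ne_bot_iff_exists_ne_one).1 hAne
      exact ⟨(a : G), a.2, fun h => ha (Subtype.ext h)⟩
    -- `g` commutes with `R`, fixes `a`, hence... we get a contradiction from `hirr` directly
    have hord : orderOf a = p := by
      have h1 : a ^ p = 1 := hA.2 a haA
      exact orderOf_eq_prime h1 ha1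
    have hX : Nat.card (Subgroup.zpowers a) = p := by rw [Nat.card_zpowers, hord]
    refine hirr (Subgroup.zpowers a) (by rw [Subgroup.zpowers_le]; exact haA) hX ?_
    intro x hx
    obtain ⟨k, rfl⟩ := hRz x hx
    have hxC : g ^ k ∈ Subgroup.centralizer (A : Set G) := Subgroup.zpow_mem _ hgC k
    rw [Subgroup.mem_normalizer_iff]
    intro h
    have key : ∀ c ∈ Subgroup.centralizer (A : Set G), ∀ h ∈ Subgroup.zpowers a,
        c * h * c⁻¹ = h := by
      intro c hc h hh
      have hhA : h ∈ A := (Subgroup.zpowers_le.2 haA) hh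
      have := Subgroup.mem_centralizer_iff.1 hc h hhA
      rw [← this, mul_assoc, mul_inv_cancel, mul_one]
    constructor
    · intro hh
      rw [key _ hxC h hh]; exact hh
    · intro hh
      have h2 := key _ (Subgroup.inv_mem _ hxC) _ hh
      have e2 : (g ^ k)⁻¹ * (g ^ k * h * (g ^ k)⁻¹) * ((g ^ k)⁻¹)⁻¹ = h := by group
      rw [e2] at h2
      rw [h2]; exact hh
  -- minimal power of `g` centralizing `A`
  have hex : ∃ m : ℕ, g ^ (r ^ m) ∈ Subgroup.centralizer (A : Set G) := by
    obtain ⟨k, hk⟩ := hRr g0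
    refine ⟨k, ?_⟩
    have : g ^ (r ^ k) = 1 := by
      have := congrArg Subtype.val hk
      simpa using this
    rw [this]; exact Subgroup.one_mem _
  classical
  set m := Nat.find hex with hm
  have hm0 : m ≠ 0 := by
    intro h0
    have := Nat.find_spec hex
    rw [← hm, h0, pow_zero, pow_one] at this
    exact hgC this
  set e1 : G := g ^ (r ^ (m - 1)) with he1
  have he1R : e1 ∈ R := R.pow_mem hgR _
  have he1C : e1 ∉ Subgroup.centralizer (A : Set G) := by
    have := Nat.find_min hex (m := m - 1) (by omega)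
    exact this
  have he1r : e1 ^ r ∈ Subgroup.centralizer (A : Set G) := by
    have := Nat.find_spec hex
    rw [← hm] at this
    rw [he1, ← pow_mul, ← pow_succ]
    have : m - 1 + 1 = m := by omega
    rw [this]; assumption
  -- apply the fixed point lemma
  have hcop : (Nat.card A).Coprime r := by
    rw [hcard]
    exact Nat.Coprime.pow_left 2 ((Nat.coprime_primes hp hr).2 hpr)
  obtain ⟨i, j, hi, hj, hij, a, haA, ha1, hfix⟩ := exists_fixed_subgroup A hA.1 r hr.one_lt hcop
    e1 f (hRA he1R) hfA (hfR e1 he1R).symm he1r (by rw [hfr]; exact Subgroup.one_mem _) hAne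
  set t : G := e1 ^ i * f ^ j with ht
  have hce1f : Commute e1 f := (hfR e1 he1R).symm
  have htR : ∀ x ∈ R, t * x = x * t := by
    intro x hx
    have h1 : Commute e1 x := hRcomm e1 he1R x hx
    have h2 : Commute f x := hfR x hx
    exact ((h1.pow_left i).mul_left (h2.pow_left j))
  have htC : t ∈ Subgroup.centralizer (A : Set G) :=
    mem_centralizer_of_fixed A R p hcard hRA hirr t htR a haA ha1 hfix
  by_cases hj0 : j = 0
  · exfalso
    have hi0 : i ≠ 0 := by
      rcases hij with h | h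
      · exact h
      · exact absurd hj0 h
    rw [ht, hj0, pow_zero, mul_one] at htC
    have hcopi : Nat.Coprime i r :=
      (Nat.coprime_comm.1 ((Nat.Prime.coprime_iff_not_dvd hr).2
        (fun hd => by have := Nat.le_of_dvd (Nat.pos_of_ne_zero hi0) hd; omega)))
    exact he1C (mem_of_pow_mem_of_coprime _ e1 i r hcopi htC he1r)
  · have hcopj : Nat.Coprime j r :=
      (Nat.coprime_comm.1 ((Nat.Prime.coprime_iff_not_dvd hr).2
        (fun hd => by have := Nat.le_of_dvd (Nat.pos_of_ne_zero hj0) hd; omega)))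
    have hb := Nat.gcd_eq_gcd_ab j r
    rw [hcopj.gcd_eq_one] at hb
    set u : ℤ := Nat.gcdA j r with hu
    have hfu : f = (f ^ j) ^ u := by
      have : f = (f ^ j) ^ u * (f ^ r) ^ (Nat.gcdB j r) := by
        rw [← zpow_natCast, ← zpow_natCast, ← zpow_mul, ← zpow_mul, ← zpow_add, ← hb]
        simp
      rw [hfr, one_zpow, mul_one] at this
      exact this
    have hfj : f ^ j = (e1 ^ i)⁻¹ * t := by rw [ht]; group
    have hct : Commute ((e1 ^ i)⁻¹) t := by
      have h1 : Commute e1 t := by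
        rw [ht]
        exact (Commute.refl e1).pow_right i |>.mul_right (hce1f.pow_right j)
      exact (h1.pow_left i).inv_left
    refine ⟨((e1 ^ i)⁻¹) ^ u, R.zpow_mem (R.inv_mem (R.pow_mem he1R i)) u, t ^ u,
      Subgroup.zpow_mem _ htC u, ?_⟩
    rw [← hct.mul_zpow, ← hfj]
    exact hfu

end SubgroupLevel

end Cfsg.Agent.Helper91.SchurCyclic
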