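import Mathlib
import Cfsg.Prelude.Def_OddOrderLocal
import Cfsg.Prelude.Def_OddOrder
import Cfsg.Agent.Helper91.SchurCyclic
import Cfsg.Agent.Helper29.BG10G
import Cfsg.Agent.Helper63.BG1215
import Cfsg.Agent.Helper64.BG1218
import Cfsg.Agent.Helper21.PRank
import Cfsg.Agent.Helper60.BGAsmD
import Cfsg.Agent.Helper55.BGThmBf

/-!
# Lemma (PF): an irreducible `r`-subgroup of `E` acts faithfully on `A_p` (helper91)

Used for the "Singer case" of B-G 12.12 (statement S1421), see board #3158.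
`M` maximal, `E` a complement of `M_σ`, `p ∈ τ₂(M)` with abelian Sylow `p`-subgroups in `G`,
`A ≤ E` elementary abelian of order `p²`, `R ≤ E` a cyclic `r`-subgroup where `M` has `r`-rank one,
and `R` leaves no subgroup of order `p` of `A` invariant.  Then `C_R(A) = 1`.

The black boxes S1408, S1409, S1414, S1416, S1417, S1418 enter as hypotheses in statement shape.
-/

set_option autoImplicit false
set_option linter.unusedSectionVars false
set_option linter.unusedVariables false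
set_option linter.style.haveILetI false

namespace Cfsg.Agent.Helper91.BGPF

open Cfsg Cfsg.Agent.Helper29.BG10 Cfsg.Agent.Helper21

universe u

/-- statement shape of S1408 -/
def H1408 (G : Type u) [Group G] : Prop :=
  ∀ (M : Subgroup G), IsCoatom M → ∀ (p : ℕ) [Fact p.Prime], p ∉ Cfsg.sigma M →
    Cfsg.PRankLE p 2 M → ¬ Cfsg.PRankLE p 1 M →
    ¬ Cfsg.IsIdealPrime p G ∧ ∀ A : Subgroup G, A ≤ M → Cfsg.IsElementaryAbelian p A →
      Nat.card A = p ^ 2 → ∀ B : Subgroup G, Cfsg.IsElementaryAbelian p B → A ≤ B → B = A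

/-- statement shape of S1409 -/
def H1409 (G : Type u) [Group G] : Prop :=
  ∀ (M : Subgroup G), IsCoatom M → ∀ (p : ℕ) [Fact p.Prime], p ∉ Cfsg.sigma M →
    ∀ X : Subgroup G, Nat.card X = p → Subgroup.normalizer (X : Set G) ≤ M →
    (Cfsg.PRankLE p 2 M ∧ ¬ Cfsg.PRankLE p 1 M) ∧ ¬ Cfsg.IsIdealPrime p G ∧
      ∃ A : Subgroup G, Cfsg.IsElementaryAbelian p A ∧ Nat.card A = p ^ 2 ∧ X ≤ A

/-- the part of the statement shape of S1414 that is used -/
def H1414 (G : Type u) [Group G] : Prop :=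
  ∀ (M : Subgroup G), IsCoatom M → ∀ p : ℕ, p.Prime → p ∣ Nat.card M → p ∉ Cfsg.beta M →
    Cfsg.HasNormalPComplement p ↥(Cfsg.sigmaCore M)

/-- the part of the statement shape of S1416 that is used -/
def H1416 (G : Type u) [Group G] : Prop :=
  ∀ (M : Subgroup G), IsCoatom M → ∀ (p : ℕ) [Fact p.Prime] (A : Subgroup G),
    (A ≤ M ∧ Cfsg.IsElementaryAbelian p A ∧ Nat.card A = p ^ 2) →
    Subgroup.centralizer (A : Set G) ≤ M

/-- the parts (a), (b, commutativity), (c), (d) of the statement shape of S1417 -/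
def H1417 (G : Type u) [Group G] : Prop :=
  ∀ (M : Subgroup G), IsCoatom M → ∀ (p : ℕ) [Fact p.Prime], p ∈ Cfsg.tau2 M →
    ∀ A : Subgroup G, (A ≤ M ∧ Cfsg.IsElementaryAbelian p A ∧ Nat.card A = p ^ 2) →
    Group.IsNilpotent (Cfsg.sigmaCore M) ∧
      (∀ P : Sylow p M, IsMulCommutative (P : Subgroup M)) ∧
      M ≤ Subgroup.normalizer ((Cfsg.sigmaCore M ⊔ A : Subgroup G) : Set G) ∧
      Cfsg.sigmaCore M ⊓ Subgroup.centralizer (A : Set G) = ⊥

/-- the part of the statement shape of S1418 that is used -/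
def H1418 (G : Type u) [Group G] : Prop :=
  ∀ (M : Subgroup G), IsCoatom M → ∀ E : Subgroup G, Cfsg.IsComplIn E (Cfsg.sigmaCore M) M →
    ∀ (p : ℕ) [Fact p.Prime], p ∈ Cfsg.tau2 M → ∀ A : Subgroup G,
    (A ≤ E ∧ Cfsg.IsElementaryAbelian p A ∧ Nat.card A = p ^ 2) →
    E ≤ Subgroup.normalizer (A : Set G)

variable {G : Type u} [Group G] [Finite G]

/-! ### small generalities -/

/-- an element commuting with `e` normalizes `⟨e⟩` -/
theorem mem_normalizer_zpowers_of_commute {e a : G} (h : a * e = e * a) :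
    a ∈ Subgroup.normalizer ((Subgroup.zpowers e : Subgroup G) : Set G) := by
  apply Subgroup.centralizer_le_normalizer
  rw [Subgroup.mem_centralizer_iff]
  intro z hz
  obtain ⟨k, rfl⟩ := Subgroup.mem_zpowers_iff.1 hz
  have h1 : Commute e a := h.symm
  exact (h1.zpow_left k).eq

/-- a group with an elementary abelian subgroup of order `p ^ 2` has a subgroup of order `p`
inside it -/
theorem exists_le_card_prime {p : ℕ} [hp : Fact p.Prime] {A : Subgroup G}
    (hA : Cfsg.IsElementaryAbelian p A) (hcard : Nat.card A = p ^ 2) :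
    ∃ X : Subgroup G, X ≤ A ∧ Nat.card X = p := by
  have hAne : A ≠ ⊥ := by
    intro h
    rw [h, Subgroup.card_bot] at hcard
    have : 1 < p ^ 2 := Nat.one_lt_pow (by norm_num) hp.out.one_lt
    omega
  obtain ⟨a, ha⟩ := (Subgroup.ne_bot_iff_exists_ne_one).1 hAne
  have ha1 : (a : G) ≠ 1 := fun h => ha (Subtype.ext h)
  have hord : orderOf (a : G) = p := orderOf_eq_prime (hA.2 a a.2) ha1
  exact ⟨Subgroup.zpowers (a : G), by rw [Subgroup.zpowers_le]; exact a.2,
    by rw [Nat.card_zpowers, hord]⟩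

/-- if `R` centralizes `A` then it normalizes every subgroup of `A` -/
theorem le_normalizer_of_le_centralizer {A R X : Subgroup G}
    (hRA : R ≤ Subgroup.centralizer (A : Set G)) (hXA : X ≤ A) :
    R ≤ Subgroup.normalizer (X : Set G) := by
  intro x hx
  have hxX : x ∈ Subgroup.centralizer (X : Set G) :=
    Subgroup.centralizer_le (show (X : Set G) ⊆ A from hXA) (hRA hx)
  exact Subgroup.centralizer_le_normalizer _ hxX

/-- `A ≤ L` elementary abelian of order `p ^ 2` gives `¬ PRankLE p 1 L` -/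
theorem not_pRankLE_one_of_le {p : ℕ} [hp : Fact p.Prime] {A L : Subgroup G}
    (hA : Cfsg.IsElementaryAbelian p A) (hcard : Nat.card A = p ^ 2) (hAL : A ≤ L) :
    ¬ Cfsg.PRankLE p 1 ↥L := by
  rw [not_prankLE_iff]
  refine ⟨A, hAL, ?_, hA.2, ?_⟩
  · intro a ha b hb
    have := hA.1.is_comm.comm (⟨a, ha⟩ : A) ⟨b, hb⟩
    exact congrArg Subtype.val this
  · rw [hcard, pow_one]
    have := hp.out.one_lt
    nlinarith

/-- closure of the elements of order dividing `p` of a commutative subgroup -/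
theorem closure_omega (p : ℕ) (S : Subgroup G) (hS : ∀ a ∈ S, ∀ b ∈ S, a * b = b * a) :
    Subgroup.closure {x : G | x ∈ S ∧ x ^ p = 1} ≤ S ∧
      (∀ a ∈ Subgroup.closure {x : G | x ∈ S ∧ x ^ p = 1}, a ^ p = 1) := by
  have hle : Subgroup.closure {x : G | x ∈ S ∧ x ^ p = 1} ≤ S :=
    (Subgroup.closure_le S).2 (fun x hx => hx.1)
  refine ⟨hle, ?_⟩
  intro a ha
  have key : a ∈ S ∧ a ^ p = 1 := by
    induction ha using Subgroup.closure_induction with
    | mem x hx => exact hx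
    | one => exact ⟨S.one_mem, one_pow p⟩
    | mul x y _ _ hx hy =>
      refine ⟨S.mul_mem hx.1 hy.1, ?_⟩
      have hc : Commute x y := hS x hx.1 y hy.1
      rw [hc.mul_pow, hx.2, hy.2, one_mul]
    | inv x _ hx =>
      exact ⟨S.inv_mem hx.1, by rw [inv_pow, hx.2, inv_one]⟩
  exact key.2

/-- a `q`-subgroup of `L` lies in `L_σ` when `q ∈ σ(L)` -/
theorem le_sigmaCore_of_isPGroup (hG : Cfsg.IsMinSimpleOddOrder G) (hU : UniquenessThm G)
    {L : Subgroup G} (hL : IsCoatom L) {q : ℕ} [hq : Fact q.Prime] (hσ : q ∈ Cfsg.sigma L)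
    {Y : Subgroup G} (hYL : Y ≤ L) (hY : IsPGroup q Y) : Y ≤ Cfsg.sigmaCore L := by
  obtain ⟨⟨hKM, hKpi, hKidx⟩, -, -⟩ := thm_10_2_sigma hG hU L hL
  have hcop : ((Cfsg.piCore (Cfsg.sigma L) ↥L).index).Coprime q := by
    rw [Nat.coprime_comm, Nat.Prime.coprime_iff_not_dvd hq.out]
    have := hKidx q hq.out hσ
    unfold Cfsg.sigmaCore at this
    rwa [relIndex_map_subtype] at this
  have h1 := le_of_index_coprime (Cfsg.piCore (Cfsg.sigma L) ↥L) hcop (Y.subgroupOf L)
    hY.comap_subtype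
  intro x hx
  exact ⟨⟨x, hYL hx⟩, h1 (Subgroup.mem_subgroupOf.2 hx), rfl⟩

/-- in a group `K` with a normal `p`-complement, an `r`-subgroup (`r ≠ p`) normalizing a
`p`-subgroup centralizes it -/
theorem centralizes_of_normalPComplement {K A R : Subgroup G} {p r : ℕ} [hp : Fact p.Prime]
    [hr : Fact r.Prime] (hpr : p ≠ r) (hK : Cfsg.HasNormalPComplement p ↥K) (hAK : A ≤ K)
    (hRK : R ≤ K) (hA : IsPGroup p A) (hR : IsPGroup r R)
    (hRA : R ≤ Subgroup.normalizer (A : Set G)) : R ≤ Subgroup.centralizer (A : Set G) := by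
  obtain ⟨P, N, hNn, hNP⟩ := hK
  haveI := hNn
  have hidx : N.index = Nat.card (P : Subgroup ↥K) := hNP.symm.index_eq_card
  have hcopr : (N.index).Coprime r := by
    rw [hidx]
    obtain ⟨k, hk⟩ := IsPGroup.iff_card.1 P.isPGroup'
    rw [hk]
    exact Nat.Coprime.pow_left _ ((Nat.coprime_primes hp.out hr.out).2 hpr)
  have hRN : R.subgroupOf K ≤ N := le_of_index_coprime N hcopr _ hR.comap_subtype
  have hcardN : ¬ p ∣ Nat.card N := by
    have h1 : (P : Subgroup ↥K).index = Nat.card N := hNP.index_eq_card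
    rw [← h1]
    exact P.not_dvd_index
  intro x hx
  rw [Subgroup.mem_centralizer_iff]
  intro a ha
  have hcA : x * a * x⁻¹ * a⁻¹ ∈ A :=
    A.mul_mem ((Subgroup.mem_normalizer_iff.1 (hRA hx) a).1 ha) (A.inv_mem ha)
  have hcN : (⟨x * a * x⁻¹ * a⁻¹, hAK hcA⟩ : ↥K) ∈ N := by
    have hxN : (⟨x, hRK hx⟩ : ↥K) ∈ N := hRN (Subgroup.mem_subgroupOf.2 hx)
    have h2 : (⟨a, hAK ha⟩ : ↥K) * (⟨x, hRK hx⟩ : ↥K)⁻¹ * (⟨a, hAK ha⟩ : ↥K)⁻¹ ∈ N :=
      hNn.conj_mem _ (N.inv_mem hxN) _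
    have h3 := N.mul_mem hxN h2
    have e : (⟨x * a * x⁻¹ * a⁻¹, hAK hcA⟩ : ↥K) =
        (⟨x, hRK hx⟩ : ↥K) * ((⟨a, hAK ha⟩ : ↥K) * (⟨x, hRK hx⟩ : ↥K)⁻¹ * (⟨a, hAK ha⟩ : ↥K)⁻¹) := by
      apply Subtype.ext
      simp [mul_assoc]
    rw [e]; exact h3
  have hc1 : x * a * x⁻¹ * a⁻¹ = 1 := by
    obtain ⟨k, hk⟩ := hA ⟨_, hcA⟩
    have hk' : (x * a * x⁻¹ * a⁻¹) ^ p ^ k = 1 := by
      have := congrArg Subtype.val hk
      simpa using this
    have h1 : orderOf (x * a * x⁻¹ * a⁻¹) ∣ p ^ k := orderOf_dvd_of_pow_eq_one hk'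
    have h2 : orderOf (⟨⟨x * a * x⁻¹ * a⁻¹, hAK hcA⟩, hcN⟩ : N) ∣ Nat.card N :=
      orderOf_dvd_natCard _
    rw [Subgroup.orderOf_mk, Subgroup.orderOf_mk] at h2
    have hcop : (Nat.card N).Coprime (p ^ k) :=
      Nat.Coprime.pow_right k (Nat.coprime_comm.1 ((Nat.Prime.coprime_iff_not_dvd hp.out).2 hcardN))
    have h3 := Nat.eq_one_of_dvd_coprimes hcop h2 h1
    exact orderOf_eq_one_iff.1 h3
  have h4 : x * a = a * x := by
    have := congrArg (fun z => z * a * x) hc1
    simpa [mul_assoc] using this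
  exact h4.symm

/-- if all Sylow `r`-subgroups of `L` are commutative, so is every `r`-subgroup of `L` -/
theorem comm_of_isPGroup_le {L P : Subgroup G} {r : ℕ} [Fact r.Prime]
    (hab : ∀ Q : Sylow r ↥L, IsMulCommutative (Q : Subgroup ↥L)) (hP : IsPGroup r P)
    (hPL : P ≤ L) : ∀ a ∈ P, ∀ b ∈ P, a * b = b * a := by
  have hP' : IsPGroup r (P.subgroupOf L) := hP.comap_subtype
  obtain ⟨Q, hQ⟩ := hP'.exists_le_sylow
  intro a ha b hb
  have ha' : (⟨a, hPL ha⟩ : ↥L) ∈ (Q : Subgroup ↥L) := hQ (Subgroup.mem_subgroupOf.2 ha)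
  have hb' : (⟨b, hPL hb⟩ : ↥L) ∈ (Q : Subgroup ↥L) := hQ (Subgroup.mem_subgroupOf.2 hb)
  have := (hab Q).is_comm.comm (⟨_, ha'⟩ : ↥(Q : Subgroup ↥L)) ⟨_, hb'⟩
  exact congrArg (fun x : ↥(Q : Subgroup ↥L) => ((x : ↥L) : G)) this

/-- **Lemma (PF)**: an `r`-subgroup of `E` (where `M` has `r`-rank one) which leaves no subgroup
of order `p` of `A` invariant acts faithfully on `A`. -/
theorem centralizer_inf_eq_bot (hG : Cfsg.IsMinSimpleOddOrder G) (hU : UniquenessThm G)
    (h08 : H1408 G) (h09 : H1409 G) (h14 : H1414 G) (h16 : H1416 G) (h17 : H1417 G)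
    (h18 : H1418 G)
    {M : Subgroup G} (hM : IsCoatom M) {E : Subgroup G}
    (hE : Cfsg.IsComplIn E (Cfsg.sigmaCore M) M)
    {p : ℕ} [hp : Fact p.Prime] (hpτ : p ∈ Cfsg.tau2 M)
    (hSab : ∀ S : Sylow p G, IsMulCommutative (S : Subgroup G))
    {A : Subgroup G} (hA : A ≤ E ∧ Cfsg.IsElementaryAbelian p A ∧ Nat.card A = p ^ 2)
    {r : ℕ} [hr : Fact r.Prime] (hr1 : Cfsg.PRankLE r 1 M)
    {R : Subgroup G} (hRE : R ≤ E) (hRr : IsPGroup r R) (hRcyc : IsCyclic R)
    (hirr : ∀ X : Subgroup G, X ≤ A → Nat.card X = p →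
      ¬ R ≤ Subgroup.normalizer (X : Set G)) :
    R ⊓ Subgroup.centralizer (A : Set G) = ⊥ := by
  classical
  by_contra hne
  obtain ⟨hAE, hAel, hAcard⟩ := hA
  have hEM : E ≤ M := hE.1
  have hAM : A ≤ M := hAE.trans hEM
  have hRM : R ≤ M := hRE.trans hEM
  have hpp := hp.out
  have hrp := hr.out
  have hpr : p ≠ r := by
    rintro rfl
    exact hpτ.2.2.2 hr1
  have hEA : E ≤ Subgroup.normalizer (A : Set G) :=
    h18 M hM E hE p hpτ A ⟨hAE, hAel, hAcard⟩
  have hRA : R ≤ Subgroup.normalizer (A : Set G) := hRE.trans hEA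
  have hAp : IsPGroup p A := isPGroup_of_isElementaryAbelian hAel
  have hRcomm : ∀ x ∈ R, ∀ y ∈ R, x * y = y * x := by
    intro x hx y hy
    have := hRcyc.isMulCommutative.is_comm.comm (⟨x, hx⟩ : R) ⟨y, hy⟩
    exact congrArg Subtype.val this
  -- the element `e0`
  set D : Subgroup G := R ⊓ Subgroup.centralizer (A : Set G) with hD
  have hDp : IsPGroup r D := hRr.to_le inf_le_left
  obtain ⟨e0, he0D, he0ord⟩ : ∃ e0 ∈ D, orderOf e0 = r := by
    obtain ⟨k, hk⟩ := IsPGroup.iff_card.1 hDp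
    have hk0 : k ≠ 0 := by
      intro h0
      rw [h0, pow_zero] at hk
      exact hne (Subgroup.card_eq_one.1 hk)
    have hdvd : r ∣ Nat.card D := by rw [hk]; exact dvd_pow_self r hk0
    obtain ⟨x, hx⟩ := exists_prime_orderOf_dvd_card' r hdvd
    exact ⟨x, x.2, by rw [← hx, Subgroup.orderOf_coe]⟩
  have he0R : e0 ∈ R := he0D.1
  have he0C : e0 ∈ Subgroup.centralizer (A : Set G) := he0D.2
  have he01 : e0 ≠ 1 := by
    intro h
    rw [h, orderOf_one] at he0ord
    exact hrp.one_lt.ne he0ord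
  set X0 : Subgroup G := Subgroup.zpowers e0 with hX0
  have hX0card : Nat.card X0 = r := by rw [Nat.card_zpowers, he0ord]
  have hX0ne : X0 ≠ ⊥ := by
    intro h
    rw [h, Subgroup.card_bot] at hX0card
    exact hrp.one_lt.ne hX0card
  have hX0p : IsPGroup r X0 := IsPGroup.of_card (n := 1) (by rw [hX0card, pow_one])
  have hX0top : X0 ≠ ⊤ := isPGroup_ne_top hG hX0p
  obtain ⟨L, hL, hNL⟩ :=
    Cfsg.Agent.Helper60.BGAsm.exists_coatom_normalizer_le hG hX0ne hX0top
  have hAL : A ≤ L := fun a ha =>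
    hNL (mem_normalizer_zpowers_of_commute (Subgroup.mem_centralizer_iff.1 he0C a ha))
  have hRL : R ≤ L := fun x hx =>
    hNL (mem_normalizer_zpowers_of_commute (hRcomm x hx e0 he0R))
  have hpL : p ∣ Nat.card L := by
    have := Subgroup.card_dvd_of_le hAL
    rw [hAcard] at this
    exact (dvd_pow_self p two_ne_zero).trans this
  have hτ2L : p ∉ Cfsg.sigma L → p ∈ Cfsg.tau2 L := by
    intro hσ
    refine ⟨hpp, hσ, ?_, not_pRankLE_one_of_le hAel hAcard hAL⟩
    by_contra hcon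
    exact hσ (alpha_subset_sigma hG hU hL ⟨hpp, hcon⟩)
  obtain ⟨X1, hX1A, hX1card⟩ := exists_le_card_prime hAel hAcard
  have hRnotC : ¬ R ≤ Subgroup.centralizer (A : Set G) := fun h =>
    hirr X1 hX1A hX1card (le_normalizer_of_le_centralizer h hX1A)
  have h08M := h08 M hM p hpτ.2.1 hpτ.2.2.1 hpτ.2.2.2
  by_cases hrσ : r ∈ Cfsg.sigma L
  · -- Case I
    have hRK : R ≤ Cfsg.sigmaCore L := le_sigmaCore_of_isPGroup hG hU hL hrσ hRL hRr
    by_cases hpσ : p ∈ Cfsg.sigma L
    · -- (Ia)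
      have hAK : A ≤ Cfsg.sigmaCore L := le_sigmaCore_of_isPGroup hG hU hL hpσ hAL hAp
      have hpβ : p ∉ Cfsg.beta L := fun h => h08M.1 h.2
      have hK := h14 L hL p hpp hpL hpβ
      exact hRnotC (centralizes_of_normalPComplement hpr hK hAK hRK hAp hRr hRA)
    · -- (Ib)
      have h := (h17 L hL p (hτ2L hpσ) A ⟨hAL, hAel, hAcard⟩).2.2.2
      have hmem : e0 ∈ Cfsg.sigmaCore L ⊓ Subgroup.centralizer (A : Set G) :=
        ⟨hRK he0R, he0C⟩
      rw [h, Subgroup.mem_bot] at hmem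
      exact he01 hmem
  · -- Case II
    obtain ⟨⟨hr2L, hr1L⟩, -, A', hA'el, hA'card, hX0A'⟩ := h09 L hL r hrσ X0 hX0card hNL
    have hrτ : r ∈ Cfsg.tau2 L := ⟨hrp, hrσ, hr2L, hr1L⟩
    have hA'L : A' ≤ L := by
      intro a ha
      apply hNL
      apply mem_normalizer_zpowers_of_commute
      have he0A' : e0 ∈ A' := hX0A' (Subgroup.mem_zpowers e0)
      have := hA'el.1.is_comm.comm (⟨a, ha⟩ : A') ⟨e0, he0A'⟩
      exact congrArg Subtype.val this
    obtain ⟨hnil, hab, -, -⟩ := h17 L hL r hrτ A' ⟨hA'L, hA'el, hA'card⟩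
    -- the Sylow `r`-subgroup `Pr`
    obtain ⟨Pr, hRPr, hPrS, hPrA⟩ : ∃ Pr : Subgroup G, R ≤ Pr ∧ IsSylowIn r Pr L ∧
        Pr ≤ Subgroup.normalizer (A : Set G) := by
      by_cases hpσ : p ∈ Cfsg.sigma L
      · -- (IIa)
        obtain ⟨S, hAS, hS⟩ := exists_isSylowIn_ge (p := p) hAL hAp
        have hLS : L ≤ Subgroup.normalizer (S : Set G) :=
          Cfsg.Agent.Helper63.BG12.le_normalizer_of_sigmaCore_nilpotent hG hU hL hpσ hnil hS
        have hStop : IsSylowIn p S ⊤ :=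
          Cfsg.Agent.Helper63.BG12.isSylowIn_top_of_sigma hG hU hL hpσ hS
        have hScomm : ∀ a ∈ S, ∀ b ∈ S, a * b = b * a := by
          have hidx : ¬ p ∣ S.index := by
            have := hStop.2.2
            rwa [Subgroup.relIndex_top_right] at this
          let S' : Sylow p G := hStop.2.1.toSylow hidx
          have hS' : (S' : Subgroup G) = S := IsPGroup.toSylow_coe _ _
          have hc := hSab S'
          intro a ha b hb
          have ha' : a ∈ (S' : Subgroup G) := by rw [hS']; exact ha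
          have hb' : b ∈ (S' : Subgroup G) := by rw [hS']; exact hb
          have := hc.is_comm.comm (⟨a, ha'⟩ : (S' : Subgroup G)) ⟨b, hb'⟩
          exact congrArg Subtype.val this
        set B : Subgroup G := Subgroup.closure {x : G | x ∈ S ∧ x ^ p = 1} with hB
        obtain ⟨hBS, hBexp⟩ := closure_omega p S hScomm
        have hBel : Cfsg.IsElementaryAbelian p B :=
          ⟨⟨⟨fun a b => Subtype.ext (hScomm a (hBS a.2) b (hBS b.2))⟩⟩, hBexp⟩
        have hAB : A ≤ B := fun a ha => Subgroup.subset_closure ⟨hAS ha, hAel.2 a ha⟩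
        have hBA : B = A := h08M.2 A hAM hAel hAcard B hBel hAB
        have hLA : L ≤ Subgroup.normalizer (A : Set G) := by
          have hone : ∀ l ∈ L, ∀ a ∈ A, l * a * l⁻¹ ∈ A := by
            intro l hl a ha
            rw [← hBA]
            apply Subgroup.subset_closure
            refine ⟨(Subgroup.mem_normalizer_iff.1 (hLS hl) a).1 (hAS ha), ?_⟩
            rw [conj_pow, hAel.2 a ha, mul_one, mul_inv_cancel]
          intro l hl
          rw [Subgroup.mem_normalizer_iff]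
          intro a
          refine ⟨hone l hl a, fun h => ?_⟩
          have := hone l⁻¹ (L.inv_mem hl) _ h
          simpa [mul_assoc] using this
        obtain ⟨Pr, hRPr, hPr⟩ := exists_isSylowIn_ge (p := r) hRL hRr
        exact ⟨Pr, hRPr, hPr, hPr.1.trans hLA⟩
      · -- (IIb)
        have hpτL := hτ2L hpσ
        obtain ⟨-, -, hLY, -⟩ := h17 L hL p hpτL A ⟨hAL, hAel, hAcard⟩
        set K : Subgroup G := Cfsg.sigmaCore L with hK
        have hKL : K ≤ L := Cfsg.Agent.Helper29.BG11.sigmaCore_le L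
        have hLK : L ≤ Subgroup.normalizer (K : Set G) :=
          Cfsg.Agent.Helper29.BG11.le_normalizer_sigmaCore L
        have hpK : ¬ p ∣ Nat.card K :=
          Cfsg.Agent.Helper64.BG1218.not_dvd_card_piCoreOf hpp hpσ L
        have hrK : ¬ r ∣ Nat.card K :=
          Cfsg.Agent.Helper64.BG1218.not_dvd_card_piCoreOf hrp hrσ L
        set Y : Subgroup G := K ⊔ A with hY
        have hYL : Y ≤ L := sup_le hKL hAL
        have hAY : IsSylowIn p A Y := by
          refine ⟨le_sup_right, hAp, ?_⟩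
          intro hd
          have h1 := Cfsg.Agent.Helper64.BG1218.relIndex_dvd_card_of_sup_eq
            (N := K) (T := A) (Ms := Y) (hYL.trans hLK) rfl
          exact hpK (hd.trans h1)
        have hfr := Cfsg.Agent.Helper64.BG1218.frattini_sup_eq (q := p) hYL hLY hAY
        set T : Subgroup G := L ⊓ Subgroup.normalizer (A : Set G) with hT
        have hAT : A ≤ T := le_inf hAL Subgroup.le_normalizer
        have hKT : K ⊔ T = L := by
          rw [← hfr, hY, sup_assoc, sup_eq_right.2 hAT]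
        have hidxT : T.relIndex L ∣ Nat.card K :=
          Cfsg.Agent.Helper64.BG1218.relIndex_dvd_card_of_sup_eq hLK hKT
        have hRT : R ≤ T := le_inf hRL hRA
        obtain ⟨Pr, hRPr, hPr⟩ := exists_isSylowIn_ge (p := r) hRT hRr
        refine ⟨Pr, hRPr, ⟨hPr.1.trans inf_le_left, hPr.2.1, ?_⟩, hPr.1.trans inf_le_right⟩
        rw [← Subgroup.relIndex_mul_relIndex Pr T L hPr.1 inf_le_left]
        intro hd
        rcases (Nat.Prime.dvd_mul hrp).1 hd with h | h
        · exact hPr.2.2 h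
        · exact hrK (h.trans hidxT)
    have hPrcomm := comm_of_isPGroup_le hab hPrS.2.1 hPrS.1
    have hA'p : IsPGroup r A' := isPGroup_of_isElementaryAbelian hA'el
    obtain ⟨l, hlL, hl⟩ := Cfsg.Agent.Helper84.exists_conj_le_of_relIndex L Pr A' hPrS.1
      hPrS.2.1 hPrS.2.2 hA'L hA'p
    obtain ⟨f, hfPr, hfr, hfX0⟩ : ∃ f ∈ Pr, f ^ r = 1 ∧ f ∉ X0 := by
      by_contra hcon
      push Not at hcon
      have hle : cj l A' ≤ X0 := by
        intro x hx
        rw [mem_cj] at hx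
        have hx' := hl _ hx
        have e : l * (l⁻¹ * x * l) * l⁻¹ = x := by group
        rw [e] at hx'
        refine hcon x hx' ?_
        have h1 := hA'el.2 _ hx
        have e2 : x ^ r = l * (l⁻¹ * x * l) ^ r * l⁻¹ := by
          rw [← conj_pow, e]
        rw [e2, h1, mul_one, mul_inv_cancel]
      have h1 := Subgroup.card_le_of_le hle
      rw [card_cj, hA'card, hX0card] at h1
      have := hrp.one_lt
      nlinarith
    have hfA : f ∈ Subgroup.normalizer (A : Set G) := hPrA hfPr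
    have hfR : ∀ x ∈ R, f * x = x * f := fun x hx => hPrcomm f hfPr x (hRPr hx)
    obtain ⟨e, heR, c, hcC, hfec⟩ := SchurCyclic.exists_eq_mul_centralizer A R p r hpr hAel
      hAcard hRA hRcyc hRr hirr f hfA hfR hfr
    have hCM : Subgroup.centralizer (A : Set G) ≤ M := h16 M hM p A ⟨hAM, hAel, hAcard⟩
    have hfM : f ∈ M := by rw [hfec]; exact M.mul_mem (hRM heR) (hCM hcC)
    apply (not_prankLE_iff (p := r) (n := 1) M).2 ?_ hr1
    set W : Subgroup G := Subgroup.closure {x : G | x ∈ Pr ⊓ M ∧ x ^ r = 1} with hW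
    obtain ⟨hWle, hWexp⟩ := closure_omega r (Pr ⊓ M)
      (fun a ha b hb => hPrcomm a ha.1 b hb.1)
    refine ⟨W, hWle.trans inf_le_right,
      fun a ha b hb => hPrcomm a (hWle ha).1 b (hWle hb).1, hWexp, ?_⟩
    have hX0W : X0 ≤ W := by
      rw [hX0, Subgroup.zpowers_le]
      apply Subgroup.subset_closure
      exact ⟨⟨hRPr he0R, hRM he0R⟩, by rw [← he0ord]; exact pow_orderOf_eq_one e0⟩
    have hfW : f ∈ W := Subgroup.subset_closure ⟨⟨hfPr, hfM⟩, hfr⟩
    rw [pow_one, ← hX0card]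
    by_contra hle
    push Not at hle
    have hXW : X0 = W := Subgroup.eq_of_le_of_card_ge hX0W hle
    exact hfX0 (hXW ▸ hfW)

end Cfsg.Agent.Helper91.BGPF
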