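import Mathlib
import Cfsg.Agent.Helper91.BGPF
import Cfsg.Agent.Helper50.CyclicSylow

/-!
# Lemma (PF+) (helper91, requested by helper1 in board #3341 (d))

Variant of `Cfsg.Agent.Helper91.BGPF.centralizer_inf_eq_bot` without irreducibility: if an
`r`-subgroup `R ≤ E` (`M` of `r`-rank one) acts nontrivially on `A` and `C_R(A) ≠ 1`, then some
`r`-element `t ∈ N_G(A)` satisfies `1 < C_A(t) < A`.
-/

set_option autoImplicit false
set_option linter.unusedSectionVars false
set_option linter.unusedVariables false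
set_option linter.style.haveILetI false

namespace Cfsg.Agent.Helper91.BGPF

open Cfsg Cfsg.Agent.Helper29.BG10 Cfsg.Agent.Helper21

universe u

variable {G : Type u} [Group G] [Finite G]

/-- an `r`-subgroup of a subgroup `M` of `r`-rank one is cyclic (`r` odd) -/
theorem isCyclic_of_pRankLE_one_of_le {M R : Subgroup G} {r : ℕ} [hr : Fact r.Prime]
    (hr2 : r ≠ 2) (hr1 : Cfsg.PRankLE r 1 ↥M) (hRM : R ≤ M) (hRr : IsPGroup r R) :
    IsCyclic ↥R := by
  have hrR : Cfsg.PRankLE r 1 ↥R := by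
    by_contra hcon
    rw [not_prankLE_iff] at hcon
    exact (not_prankLE_iff (p := r) (n := 1) M).2 (hcon.mono hRM) hr1
  obtain ⟨P⟩ : Nonempty (Sylow r ↥R) := inferInstance
  have hcyc := Cfsg.Agent.Helper50.sylow_isCyclic_of_pRankLE_one hr2 hrR P
  have htop : (⊤ : Subgroup ↥R) = (P : Subgroup ↥R) := by
    apply P.is_maximal' _ le_top
    intro g
    obtain ⟨k, hk⟩ := hRr (g : ↥R)
    refine ⟨k, ?_⟩
    apply Subtype.ext
    simpa using hk
  rw [← htop] at hcyc
  exact (Subgroup.topEquiv (G := ↥R)).isCyclic.mp hcyc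

/-- the Schur/cyclic step with the "fixed point ⇒ centralizes" step as a hypothesis -/
theorem exists_eq_mul_centralizer_of_step (A R : Subgroup G) [Finite A] (r : ℕ)
    [hr' : Fact r.Prime] (hAc : IsMulCommutative A) (hAne : A ≠ ⊥)
    (hcop : (Nat.card A).Coprime r)
    (hRA : R ≤ Subgroup.normalizer (A : Set G)) (hRcyc : IsCyclic R) (hRr : IsPGroup r R)
    (hRC : ¬ R ≤ Subgroup.centralizer (A : Set G))
    (f : G) (hfA : f ∈ Subgroup.normalizer (A : Set G)) (hfR : ∀ x ∈ R, f * x = x * f)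
    (hfr : f ^ r = 1)
    (hstep : ∀ t : G, t ∈ Subgroup.normalizer (A : Set G) → (∃ k, t ^ r ^ k = 1) →
      (∃ a ∈ A, a ≠ 1 ∧ t * a = a * t) → t ∈ Subgroup.centralizer (A : Set G)) :
    ∃ e ∈ R, ∃ c ∈ Subgroup.centralizer (A : Set G), f = e * c := by
  have hr : r.Prime := hr'.out
  have hRcomm : ∀ x ∈ R, ∀ y ∈ R, x * y = y * x := by
    intro x hx y hy
    have := hRcyc.isMulCommutative.is_comm.comm (⟨x, hx⟩ : R) ⟨y, hy⟩
    exact congrArg Subtype.val this
  obtain ⟨g0, hg0⟩ := hRcyc.exists_generator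
  set g : G := (g0 : G) with hg
  have hgR : g ∈ R := g0.2
  have hRz : ∀ x ∈ R, ∃ k : ℤ, g ^ k = x := by
    intro x hx
    obtain ⟨k, hk⟩ := Subgroup.mem_zpowers_iff.1 (hg0 ⟨x, hx⟩)
    refine ⟨k, ?_⟩
    have := congrArg Subtype.val hk
    simpa using this
  have hgC : g ∉ Subgroup.centralizer (A : Set G) := by
    intro hgC
    apply hRC
    intro x hx
    obtain ⟨k, rfl⟩ := hRz x hx
    exact Subgroup.zpow_mem _ hgC k
  obtain ⟨k0, hk0⟩ : ∃ k0 : ℕ, g ^ (r ^ k0) = 1 := by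
    obtain ⟨k, hk⟩ := hRr g0
    refine ⟨k, ?_⟩
    have := congrArg Subtype.val hk
    simpa using this
  have hex : ∃ m : ℕ, g ^ (r ^ m) ∈ Subgroup.centralizer (A : Set G) :=
    ⟨k0, by rw [hk0]; exact Subgroup.one_mem _⟩
  classical
  set m := Nat.find hex with hm
  have hm0 : m ≠ 0 := by
    intro h0
    have := Nat.find_spec hex
    rw [← hm, h0, pow_zero, pow_one] at this
    exact hgC this
  set e1 : G := g ^ (r ^ (m - 1)) with he1
  have he1R : e1 ∈ R := R.pow_mem hgR _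
  have he1C : e1 ∉ Subgroup.centralizer (A : Set G) :=
    Nat.find_min hex (m := m - 1) (by omega)
  have he1r : e1 ^ r ∈ Subgroup.centralizer (A : Set G) := by
    have h := Nat.find_spec hex
    rw [← hm] at h
    rw [he1, ← pow_mul, ← pow_succ]
    have : m - 1 + 1 = m := by omega
    rw [this]; exact h
  have he1k : e1 ^ (r ^ k0) = 1 := by
    rw [he1, ← pow_mul, mul_comm, pow_mul, hk0, one_pow]
  obtain ⟨i, j, hi, hj, hij, a, haA, ha1, hfix⟩ :=
    SchurCyclic.exists_fixed_subgroup A hAc r hr.one_lt hcop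
    e1 f (hRA he1R) hfA (hfR e1 he1R).symm he1r (by rw [hfr]; exact Subgroup.one_mem _) hAne
  set t : G := e1 ^ i * f ^ j with ht
  have hce1f : Commute e1 f := (hfR e1 he1R).symm
  have htN : t ∈ Subgroup.normalizer (A : Set G) :=
    Subgroup.mul_mem _ (Subgroup.pow_mem _ (hRA he1R) i) (Subgroup.pow_mem _ hfA j)
  have htr : ∃ k, t ^ r ^ k = 1 := by
    refine ⟨k0 + 1, ?_⟩
    rw [ht, (hce1f.pow_pow i j).mul_pow]
    have h1 : (e1 ^ i) ^ r ^ (k0 + 1) = 1 := by
      rw [← pow_mul, mul_comm, pow_mul, pow_succ, pow_mul, he1k, one_pow, one_pow]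
    have h2 : (f ^ j) ^ r ^ (k0 + 1) = 1 := by
      rw [← pow_mul, mul_comm, pow_mul, pow_succ', pow_mul, hfr, one_pow, one_pow]
    rw [h1, h2, one_mul]
  have htC : t ∈ Subgroup.centralizer (A : Set G) := hstep t htN htr ⟨a, haA, ha1, hfix⟩
  by_cases hj0 : j = 0
  · exfalso
    have hi0 : i ≠ 0 := by
      rcases hij with h | h
      · exact h
      · exact absurd hj0 h
    rw [ht, hj0, pow_zero, mul_one] at htC
    have hcopi : Nat.Coprime i r :=
      (Nat.coprime_comm.1 ((Nat.Prime.coprime_iff_not_dvd hr).2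
        (fun hd => by have := Nat.le_of_dvd (Nat.pos_of_ne_zero hi0) hd; omega)))
    exact he1C (SchurCyclic.mem_of_pow_mem_of_coprime _ e1 i r hcopi htC he1r)
  · have hcopj : Nat.Coprime j r :=
      (Nat.coprime_comm.1 ((Nat.Prime.coprime_iff_not_dvd hr).2
        (fun hd => by have := Nat.le_of_dvd (Nat.pos_of_ne_zero hj0) hd; omega)))
    have hb := Nat.gcd_eq_gcd_ab j r
    rw [hcopj.gcd_eq_one] at hb
    set u : ℤ := Nat.gcdA j r with hu
    have hfu : f = (f ^ j) ^ u := by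
      have : f = (f ^ j) ^ u * (f ^ r) ^ (Nat.gcdB j r) := by
        rw [← zpow_natCast, ← zpow_natCast, ← zpow_mul, ← zpow_mul, ← zpow_add, ← hb]
        simp
      rw [hfr, one_zpow, mul_one] at this
      exact this
    have hfj : f ^ j = (e1 ^ i)⁻¹ * t := by rw [ht]; group
    have hct : Commute ((e1 ^ i)⁻¹) t := by
      have h1 : Commute e1 t := by
        rw [ht]
        exact (Commute.refl e1).pow_right i |>.mul_right (hce1f.pow_right j)
      exact (h1.pow_left i).inv_left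
    refine ⟨((e1 ^ i)⁻¹) ^ u, R.zpow_mem (R.inv_mem (R.pow_mem he1R i)) u, t ^ u,
      Subgroup.zpow_mem _ htC u, ?_⟩
    rw [← hct.mul_zpow, ← hfj]
    exact hfu

/-- **Lemma (PF+)** (helper1 #3341 (d)): `R ≤ E` an `r`-subgroup (`M` of `r`-rank one) acting
nontrivially on `A` but with `C_R(A) ≠ 1`: some `r`-element `t` of `N_G(A)` has
`1 < C_A(t) < A`. -/
theorem exists_partial_fix (hG : Cfsg.IsMinSimpleOddOrder G) (hU : UniquenessThm G)
    (h08 : H1408 G) (h09 : H1409 G) (h14 : H1414 G) (h16 : H1416 G) (h17 : H1417 G)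
    (h18 : H1418 G)
    {M : Subgroup G} (hM : IsCoatom M) {E : Subgroup G}
    (hE : Cfsg.IsComplIn E (Cfsg.sigmaCore M) M)
    {p : ℕ} [hp : Fact p.Prime] (hpτ : p ∈ Cfsg.tau2 M)
    (hSab : ∀ S : Sylow p G, IsMulCommutative (S : Subgroup G))
    {A : Subgroup G} (hA : A ≤ E ∧ Cfsg.IsElementaryAbelian p A ∧ Nat.card A = p ^ 2)
    {r : ℕ} [hr : Fact r.Prime] (hr1 : Cfsg.PRankLE r 1 M)
    {R : Subgroup G} (hRE : R ≤ E) (hRr : IsPGroup r R)
    {z : G} (hzR : z ∈ R) (hz1 : z ≠ 1) (hzA : z ∈ Subgroup.centralizer (A : Set G))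
    (hRnotC : ¬ R ≤ Subgroup.centralizer (A : Set G)) :
    ∃ t, t ∈ Subgroup.normalizer (A : Set G) ∧ (∃ k, t ^ r ^ k = 1) ∧
      A ⊓ Subgroup.centralizer ({t} : Set G) ≠ ⊥ ∧
      ¬ A ≤ Subgroup.centralizer ({t} : Set G) := by
  classical
  by_contra hcon
  obtain ⟨hAE, hAel, hAcard⟩ := hA
  have hne : R ⊓ Subgroup.centralizer (A : Set G) ≠ ⊥ := by
    intro h
    have hz : z ∈ R ⊓ Subgroup.centralizer (A : Set G) := ⟨hzR, hzA⟩
    rw [h, Subgroup.mem_bot] at hz
    exact hz1 hz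
  have hRne : R ≠ ⊥ := by
    intro h
    rw [h, Subgroup.mem_bot] at hzR
    exact hz1 hzR
  have hr2 : r ≠ 2 := by
    apply Cfsg.Agent.Helper63.BG12.odd_prime_of_dvd hG
    obtain ⟨k, hk⟩ := IsPGroup.iff_card.1 hRr
    have hk0 : k ≠ 0 := by
      intro h0
      rw [h0, pow_zero] at hk
      exact hRne (Subgroup.card_eq_one.1 hk)
    have : r ∣ Nat.card R := by rw [hk]; exact dvd_pow_self r hk0
    exact this.trans (Subgroup.card_subgroup_dvd_card R)
  have hRcyc : IsCyclic R :=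
    isCyclic_of_pRankLE_one_of_le hr2 hr1 (hRE.trans hE.1) hRr
  have hEM : E ≤ M := hE.1
  have hAM : A ≤ M := hAE.trans hEM
  have hRM : R ≤ M := hRE.trans hEM
  have hpp := hp.out
  have hrp := hr.out
  have hpr : p ≠ r := by
    rintro rfl
    exact hpτ.2.2.2 hr1
  have hEA : E ≤ Subgroup.normalizer (A : Set G) :=
    h18 M hM E hE p hpτ A ⟨hAE, hAel, hAcard⟩
  have hRA : R ≤ Subgroup.normalizer (A : Set G) := hRE.trans hEA
  have hAp : IsPGroup p A := isPGroup_of_isElementaryAbelian hAel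
  have hRcomm : ∀ x ∈ R, ∀ y ∈ R, x * y = y * x := by
    intro x hx y hy
    have := hRcyc.isMulCommutative.is_comm.comm (⟨x, hx⟩ : R) ⟨y, hy⟩
    exact congrArg Subtype.val this
  -- the element `e0`
  set D : Subgroup G := R ⊓ Subgroup.centralizer (A : Set G) with hD
  have hDp : IsPGroup r D := hRr.to_le inf_le_left
  obtain ⟨e0, he0D, he0ord⟩ : ∃ e0 ∈ D, orderOf e0 = r := by
    obtain ⟨k, hk⟩ := IsPGroup.iff_card.1 hDp
    have hk0 : k ≠ 0 := by
      intro h0
      rw [h0, pow_zero] at hk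
      exact hne (Subgroup.card_eq_one.1 hk)
    have hdvd : r ∣ Nat.card D := by rw [hk]; exact dvd_pow_self r hk0
    obtain ⟨x, hx⟩ := exists_prime_orderOf_dvd_card' r hdvd
    exact ⟨x, x.2, by rw [← hx, Subgroup.orderOf_coe]⟩
  have he0R : e0 ∈ R := he0D.1
  have he0C : e0 ∈ Subgroup.centralizer (A : Set G) := he0D.2
  have he01 : e0 ≠ 1 := by
    intro h
    rw [h, orderOf_one] at he0ord
    exact hrp.one_lt.ne he0ord
  set X0 : Subgroup G := Subgroup.zpowers e0 with hX0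
  have hX0card : Nat.card X0 = r := by rw [Nat.card_zpowers, he0ord]
  have hX0ne : X0 ≠ ⊥ := by
    intro h
    rw [h, Subgroup.card_bot] at hX0card
    exact hrp.one_lt.ne hX0card
  have hX0p : IsPGroup r X0 := IsPGroup.of_card (n := 1) (by rw [hX0card, pow_one])
  have hX0top : X0 ≠ ⊤ := isPGroup_ne_top hG hX0p
  obtain ⟨L, hL, hNL⟩ :=
    Cfsg.Agent.Helper60.BGAsm.exists_coatom_normalizer_le hG hX0ne hX0top
  have hAL : A ≤ L := fun a ha =>
    hNL (mem_normalizer_zpowers_of_commute (Subgroup.mem_centralizer_iff.1 he0C a ha))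
  have hRL : R ≤ L := fun x hx =>
    hNL (mem_normalizer_zpowers_of_commute (hRcomm x hx e0 he0R))
  have hpL : p ∣ Nat.card L := by
    have := Subgroup.card_dvd_of_le hAL
    rw [hAcard] at this
    exact (dvd_pow_self p two_ne_zero).trans this
  have hτ2L : p ∉ Cfsg.sigma L → p ∈ Cfsg.tau2 L := by
    intro hσ
    refine ⟨hpp, hσ, ?_, not_pRankLE_one_of_le hAel hAcard hAL⟩
    by_contra hcon
    exact hσ (alpha_subset_sigma hG hU hL ⟨hpp, hcon⟩)
  have h08M := h08 M hM p hpτ.2.1 hpτ.2.2.1 hpτ.2.2.2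
  by_cases hrσ : r ∈ Cfsg.sigma L
  · -- Case I
    have hRK : R ≤ Cfsg.sigmaCore L := le_sigmaCore_of_isPGroup hG hU hL hrσ hRL hRr
    by_cases hpσ : p ∈ Cfsg.sigma L
    · -- (Ia)
      have hAK : A ≤ Cfsg.sigmaCore L := le_sigmaCore_of_isPGroup hG hU hL hpσ hAL hAp
      have hpβ : p ∉ Cfsg.beta L := fun h => h08M.1 h.2
      have hK := h14 L hL p hpp hpL hpβ
      exact hRnotC (centralizes_of_normalPComplement hpr hK hAK hRK hAp hRr hRA)
    · -- (Ib)
      have h := (h17 L hL p (hτ2L hpσ) A ⟨hAL, hAel, hAcard⟩).2.2.2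
      have hmem : e0 ∈ Cfsg.sigmaCore L ⊓ Subgroup.centralizer (A : Set G) :=
        ⟨hRK he0R, he0C⟩
      rw [h, Subgroup.mem_bot] at hmem
      exact he01 hmem
  · -- Case II
    obtain ⟨⟨hr2L, hr1L⟩, -, A', hA'el, hA'card, hX0A'⟩ := h09 L hL r hrσ X0 hX0card hNL
    have hrτ : r ∈ Cfsg.tau2 L := ⟨hrp, hrσ, hr2L, hr1L⟩
    have hA'L : A' ≤ L := by
      intro a ha
      apply hNL
      apply mem_normalizer_zpowers_of_commute
      have he0A' : e0 ∈ A' := hX0A' (Subgroup.mem_zpowers e0)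
      have := hA'el.1.is_comm.comm (⟨a, ha⟩ : A') ⟨e0, he0A'⟩
      exact congrArg Subtype.val this
    obtain ⟨hnil, hab, -, -⟩ := h17 L hL r hrτ A' ⟨hA'L, hA'el, hA'card⟩
    -- the Sylow `r`-subgroup `Pr`
    obtain ⟨Pr, hRPr, hPrS, hPrA⟩ : ∃ Pr : Subgroup G, R ≤ Pr ∧ IsSylowIn r Pr L ∧
        Pr ≤ Subgroup.normalizer (A : Set G) := by
      by_cases hpσ : p ∈ Cfsg.sigma L
      · -- (IIa)
        obtain ⟨S, hAS, hS⟩ := exists_isSylowIn_ge (p := p) hAL hAp
        have hLS : L ≤ Subgroup.normalizer (S : Set G) :=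
          Cfsg.Agent.Helper63.BG12.le_normalizer_of_sigmaCore_nilpotent hG hU hL hpσ hnil hS
        have hStop : IsSylowIn p S ⊤ :=
          Cfsg.Agent.Helper63.BG12.isSylowIn_top_of_sigma hG hU hL hpσ hS
        have hScomm : ∀ a ∈ S, ∀ b ∈ S, a * b = b * a := by
          have hidx : ¬ p ∣ S.index := by
            have := hStop.2.2
            rwa [Subgroup.relIndex_top_right] at this
          let S' : Sylow p G := hStop.2.1.toSylow hidx
          have hS' : (S' : Subgroup G) = S := IsPGroup.toSylow_coe _ _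
          have hc := hSab S'
          intro a ha b hb
          have ha' : a ∈ (S' : Subgroup G) := by rw [hS']; exact ha
          have hb' : b ∈ (S' : Subgroup G) := by rw [hS']; exact hb
          have := hc.is_comm.comm (⟨a, ha'⟩ : (S' : Subgroup G)) ⟨b, hb'⟩
          exact congrArg Subtype.val this
        set B : Subgroup G := Subgroup.closure {x : G | x ∈ S ∧ x ^ p = 1} with hB
        obtain ⟨hBS, hBexp⟩ := closure_omega p S hScomm
        have hBel : Cfsg.IsElementaryAbelian p B :=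
          ⟨⟨⟨fun a b => Subtype.ext (hScomm a (hBS a.2) b (hBS b.2))⟩⟩, hBexp⟩
        have hAB : A ≤ B := fun a ha => Subgroup.subset_closure ⟨hAS ha, hAel.2 a ha⟩
        have hBA : B = A := h08M.2 A hAM hAel hAcard B hBel hAB
        have hLA : L ≤ Subgroup.normalizer (A : Set G) := by
          have hone : ∀ l ∈ L, ∀ a ∈ A, l * a * l⁻¹ ∈ A := by
            intro l hl a ha
            rw [← hBA]
            apply Subgroup.subset_closure
            refine ⟨(Subgroup.mem_normalizer_iff.1 (hLS hl) a).1 (hAS ha), ?_⟩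
            rw [conj_pow, hAel.2 a ha, mul_one, mul_inv_cancel]
          intro l hl
          rw [Subgroup.mem_normalizer_iff]
          intro a
          refine ⟨hone l hl a, fun h => ?_⟩
          have := hone l⁻¹ (L.inv_mem hl) _ h
          simpa [mul_assoc] using this
        obtain ⟨Pr, hRPr, hPr⟩ := exists_isSylowIn_ge (p := r) hRL hRr
        exact ⟨Pr, hRPr, hPr, hPr.1.trans hLA⟩
      · -- (IIb)
        have hpτL := hτ2L hpσ
        obtain ⟨-, -, hLY, -⟩ := h17 L hL p hpτL A ⟨hAL, hAel, hAcard⟩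
        set K : Subgroup G := Cfsg.sigmaCore L with hK
        have hKL : K ≤ L := Cfsg.Agent.Helper29.BG11.sigmaCore_le L
        have hLK : L ≤ Subgroup.normalizer (K : Set G) :=
          Cfsg.Agent.Helper29.BG11.le_normalizer_sigmaCore L
        have hpK : ¬ p ∣ Nat.card K :=
          Cfsg.Agent.Helper64.BG1218.not_dvd_card_piCoreOf hpp hpσ L
        have hrK : ¬ r ∣ Nat.card K :=
          Cfsg.Agent.Helper64.BG1218.not_dvd_card_piCoreOf hrp hrσ L
        set Y : Subgroup G := K ⊔ A with hY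
        have hYL : Y ≤ L := sup_le hKL hAL
        have hAY : IsSylowIn p A Y := by
          refine ⟨le_sup_right, hAp, ?_⟩
          intro hd
          have h1 := Cfsg.Agent.Helper64.BG1218.relIndex_dvd_card_of_sup_eq
            (N := K) (T := A) (Ms := Y) (hYL.trans hLK) rfl
          exact hpK (hd.trans h1)
        have hfr := Cfsg.Agent.Helper64.BG1218.frattini_sup_eq (q := p) hYL hLY hAY
        set T : Subgroup G := L ⊓ Subgroup.normalizer (A : Set G) with hT
        have hAT : A ≤ T := le_inf hAL Subgroup.le_normalizer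
        have hKT : K ⊔ T = L := by
          rw [← hfr, hY, sup_assoc, sup_eq_right.2 hAT]
        have hidxT : T.relIndex L ∣ Nat.card K :=
          Cfsg.Agent.Helper64.BG1218.relIndex_dvd_card_of_sup_eq hLK hKT
        have hRT : R ≤ T := le_inf hRL hRA
        obtain ⟨Pr, hRPr, hPr⟩ := exists_isSylowIn_ge (p := r) hRT hRr
        refine ⟨Pr, hRPr, ⟨hPr.1.trans inf_le_left, hPr.2.1, ?_⟩, hPr.1.trans inf_le_right⟩
        rw [← Subgroup.relIndex_mul_relIndex Pr T L hPr.1 inf_le_left]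
        intro hd
        rcases (Nat.Prime.dvd_mul hrp).1 hd with h | h
        · exact hPr.2.2 h
        · exact hrK (h.trans hidxT)
    have hPrcomm := comm_of_isPGroup_le hab hPrS.2.1 hPrS.1
    have hA'p : IsPGroup r A' := isPGroup_of_isElementaryAbelian hA'el
    obtain ⟨l, hlL, hl⟩ := Cfsg.Agent.Helper84.exists_conj_le_of_relIndex L Pr A' hPrS.1
      hPrS.2.1 hPrS.2.2 hA'L hA'p
    obtain ⟨f, hfPr, hfr, hfX0⟩ : ∃ f ∈ Pr, f ^ r = 1 ∧ f ∉ X0 := by
      by_contra hcon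
      push Not at hcon
      have hle : cj l A' ≤ X0 := by
        intro x hx
        rw [mem_cj] at hx
        have hx' := hl _ hx
        have e : l * (l⁻¹ * x * l) * l⁻¹ = x := by group
        rw [e] at hx'
        refine hcon x hx' ?_
        have h1 := hA'el.2 _ hx
        have e2 : x ^ r = l * (l⁻¹ * x * l) ^ r * l⁻¹ := by
          rw [← conj_pow, e]
        rw [e2, h1, mul_one, mul_inv_cancel]
      have h1 := Subgroup.card_le_of_le hle
      rw [card_cj, hA'card, hX0card] at h1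
      have := hrp.one_lt
      nlinarith
    have hfA : f ∈ Subgroup.normalizer (A : Set G) := hPrA hfPr
    have hfR : ∀ x ∈ R, f * x = x * f := fun x hx => hPrcomm f hfPr x (hRPr hx)
    have hAne : A ≠ ⊥ := by
      intro h
      rw [h, Subgroup.card_bot] at hAcard
      have : 1 < p ^ 2 := Nat.one_lt_pow (by norm_num) hpp.one_lt
      omega
    have hcopA : (Nat.card A).Coprime r := by
      rw [hAcard]
      exact Nat.Coprime.pow_left 2 ((Nat.coprime_primes hpp hrp).2 hpr)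
    have hstep : ∀ t : G, t ∈ Subgroup.normalizer (A : Set G) → (∃ k, t ^ r ^ k = 1) →
        (∃ a ∈ A, a ≠ 1 ∧ t * a = a * t) → t ∈ Subgroup.centralizer (A : Set G) := by
      intro t htN htr ⟨a, haA, ha1, hta⟩
      have h1 : A ⊓ Subgroup.centralizer ({t} : Set G) ≠ ⊥ := by
        intro h
        have ha : a ∈ A ⊓ Subgroup.centralizer ({t} : Set G) := by
          refine Subgroup.mem_inf.2 ⟨haA, ?_⟩
          rw [Subgroup.mem_centralizer_iff]
          intro y hy
          rw [Set.mem_singleton_iff] at hy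
          rw [hy]; exact hta
        rw [h, Subgroup.mem_bot] at ha
        exact ha1 ha
      have h2 : A ≤ Subgroup.centralizer ({t} : Set G) := by
        by_contra h2
        exact hcon ⟨t, htN, htr, h1, h2⟩
      rw [Subgroup.mem_centralizer_iff]
      intro b hb
      have := Subgroup.mem_centralizer_iff.1 (h2 hb) t rfl
      exact this.symm
    obtain ⟨e, heR, c, hcC, hfec⟩ := exists_eq_mul_centralizer_of_step A R r hAel.1 hAne hcopA
      hRA hRcyc hRr hRnotC f hfA hfR hfr hstep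
    have hCM : Subgroup.centralizer (A : Set G) ≤ M := h16 M hM p A ⟨hAM, hAel, hAcard⟩
    have hfM : f ∈ M := by rw [hfec]; exact M.mul_mem (hRM heR) (hCM hcC)
    apply (not_prankLE_iff (p := r) (n := 1) M).2 ?_ hr1
    set W : Subgroup G := Subgroup.closure {x : G | x ∈ Pr ⊓ M ∧ x ^ r = 1} with hW
    obtain ⟨hWle, hWexp⟩ := closure_omega r (Pr ⊓ M)
      (fun a ha b hb => hPrcomm a ha.1 b hb.1)
    refine ⟨W, hWle.trans inf_le_right,
      fun a ha b hb => hPrcomm a (hWle ha).1 b (hWle hb).1, hWexp, ?_⟩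
    have hX0W : X0 ≤ W := by
      rw [hX0, Subgroup.zpowers_le]
      apply Subgroup.subset_closure
      exact ⟨⟨hRPr he0R, hRM he0R⟩, by rw [← he0ord]; exact pow_orderOf_eq_one e0⟩
    have hfW : f ∈ W := Subgroup.subset_closure ⟨⟨hfPr, hfM⟩, hfr⟩
    rw [pow_one, ← hX0card]
    by_contra hle
    push Not at hle
    have hXW : X0 = W := Subgroup.eq_of_le_of_card_ge hX0W hle
    exact hfX0 (hXW ▸ hfW)


/-! ### the black boxes in exactly the frozen shapes -/

/-- frozen shape of S1414 (with `hG` fixed) -/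
def F1414 (G : Type u) [Group G] : Prop :=
  ∀ (M : Subgroup G), IsCoatom M →
    Cfsg.IsPiHallOf (Cfsg.beta M) (Cfsg.piCoreOf (Cfsg.beta M) M) M ∧
      Cfsg.IsPiHall (Cfsg.beta M) (Cfsg.piCoreOf (Cfsg.beta M) M) ∧
      (∃ H : Subgroup G, Cfsg.IsPiHallOf {q | q.Prime ∧ q ∉ Cfsg.beta M} H ⁅M, M⁆ ∧
        Group.IsNilpotent H) ∧
      (∃ H : Subgroup G, Cfsg.IsPiHallOf {q | q.Prime ∧ q ∉ Cfsg.beta M} H (Cfsg.sigmaCore M) ∧
        Group.IsNilpotent H) ∧
      ∀ p : ℕ, p.Prime → p ∣ Nat.card M → p ∉ Cfsg.beta M →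
        Cfsg.HasNormalPComplement p ↥⁅M, M⁆ ∧ Cfsg.HasNormalPComplement p ↥(Cfsg.sigmaCore M) ∧
        ∀ q : ℕ, q.Prime → q ∣ (Cfsg.pPrimeCore p ↥M).index → q ≤ p

/-- frozen shape of S1416 (with `hG` fixed) -/
def F1416 (G : Type u) [Group G] : Prop :=
  ∀ (M : Subgroup G), IsCoatom M → ∀ (p : ℕ) [Fact p.Prime] (A : Subgroup G),
    (A ≤ M ∧ Cfsg.IsElementaryAbelian p A ∧ Nat.card A = p ^ 2) →
    Subgroup.centralizer (A : Set G) ≤ M ∧
      ((∀ A₀ : Subgroup G, A₀ ≤ A → Nat.card A₀ = p →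
          ¬ (Subgroup.normalizer (A₀ : Set G) ≤ M ∧ ∀ L : Subgroup G, IsCoatom L →
            Subgroup.normalizer (A₀ : Set G) ≤ L → L = M)) →
        p ∈ Cfsg.sigma M ∧ Cfsg.alphaCore M = ⊥ ∧ Group.IsNilpotent (Cfsg.sigmaCore M))

/-- frozen shape of S1417 (with `hG` fixed) -/
def F1417 (G : Type u) [Group G] : Prop :=
  ∀ (M : Subgroup G), IsCoatom M → ∀ (p : ℕ) [Fact p.Prime], p ∈ Cfsg.tau2 M →
    ∀ A : Subgroup G, (A ≤ M ∧ Cfsg.IsElementaryAbelian p A ∧ Nat.card A = p ^ 2) →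
    Group.IsNilpotent (Cfsg.sigmaCore M) ∧
      (∀ P : Sylow p M, IsMulCommutative (P : Subgroup M) ∧
        (A ≤ (P : Subgroup M).map M.subtype →
          (∀ x ∈ (P : Subgroup M).map M.subtype, x ^ p = 1 ↔ x ∈ A) ∧
          ¬ Subgroup.normalizer ((((P : Subgroup M).map M.subtype : Subgroup G)) : Set G) ≤ M)) ∧
      M ≤ Subgroup.normalizer ((Cfsg.sigmaCore M ⊔ A : Subgroup G) : Set G) ∧
      Cfsg.sigmaCore M ⊓ Subgroup.centralizer (A : Set G) = ⊥ ∧
      (∀ Mstar : Subgroup G, IsCoatom Mstar → Mstar ≠ M → A ≤ Mstar →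
        Cfsg.sigmaCore M ⊓ Mstar = ⊥) ∧
      ∃ A₁ : Subgroup G, A₁ ≤ A ∧ Nat.card A₁ = p ∧
        Cfsg.sigmaCore M ⊓ Subgroup.centralizer (A₁ : Set G) = ⊥

/-- frozen shape of S1418 (with `hG` fixed) -/
def F1418 (G : Type u) [Group G] : Prop :=
  ∀ (M : Subgroup G), IsCoatom M → ∀ E : Subgroup G, Cfsg.IsComplIn E (Cfsg.sigmaCore M) M →
    ∀ (p : ℕ) [Fact p.Prime], p ∈ Cfsg.tau2 M → ∀ A : Subgroup G,
    (A ≤ E ∧ Cfsg.IsElementaryAbelian p A ∧ Nat.card A = p ^ 2) →
    (E ≤ Subgroup.normalizer (A : Set G) ∧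
        ∀ X : Subgroup G, X ≤ E → Nat.card X = p → X ≤ A) ∧
      (Subgroup.centralizer (A : Set G) ≤ M ⊓ Subgroup.normalizer (A : Set G) ∧
        M ⊓ Subgroup.normalizer (A : Set G) = E ∧
        ¬ Subgroup.normalizer (A : Set G) ≤ M) ∧
      ∀ X : Subgroup G, X ≤ A → Nat.card X = p →
        Cfsg.sigmaCore M ⊓ Subgroup.centralizer (X : Set G) ≠ ⊥ →
        (Subgroup.centralizer (X : Set G) ≤ M ∧ ∀ L : Subgroup G, IsCoatom L →
          Subgroup.centralizer (X : Set G) ≤ L → L = M)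

omit [Finite G] in
theorem h1414_of_frozen (h : F1414 G) : H1414 G :=
  fun M hM p hp hd hβ => ((h M hM).2.2.2.2 p hp hd hβ).2.1

omit [Finite G] in
theorem h1416_of_frozen (h : F1416 G) : H1416 G :=
  fun M hM p _ A hA => (h M hM p A hA).1

omit [Finite G] in
theorem h1417_of_frozen (h : F1417 G) : H1417 G := by
  intro M hM p _ hp A hA
  obtain ⟨h1, h2, h3, h4, -, -⟩ := h M hM p hp A hA
  exact ⟨h1, fun P => (h2 P).1, h3, h4⟩

omit [Finite G] in
theorem h1418_of_frozen (h : F1418 G) : H1418 G :=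
  fun M hM E hE p _ hp A hA => (h M hM E hE p hp A hA).1.1

/-- **Lemma (PF+)** with all black boxes in exactly the frozen shapes (`H1408`, `H1409` already
are the frozen shapes of S1408, S1409). -/
theorem exists_partial_fix_frozen (hG : Cfsg.IsMinSimpleOddOrder G) (hU : UniquenessThm G)
    (h08 : H1408 G) (h09 : H1409 G) (h14 : F1414 G) (h16 : F1416 G) (h17 : F1417 G)
    (h18 : F1418 G)
    {M : Subgroup G} (hM : IsCoatom M) {E : Subgroup G}
    (hE : Cfsg.IsComplIn E (Cfsg.sigmaCore M) M)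
    {p : ℕ} [hp : Fact p.Prime] (hpτ : p ∈ Cfsg.tau2 M)
    (hSab : ∀ S : Sylow p G, IsMulCommutative (S : Subgroup G))
    {A : Subgroup G} (hA : A ≤ E ∧ Cfsg.IsElementaryAbelian p A ∧ Nat.card A = p ^ 2)
    {r : ℕ} [hr : Fact r.Prime] (hr1 : r ∈ Cfsg.tau1 M)
    {R : Subgroup G} (hRE : R ≤ E) (hRr : IsPGroup r R)
    {z : G} (hzR : z ∈ R) (hz1 : z ≠ 1) (hzA : z ∈ Subgroup.centralizer (A : Set G))
    (hRnotC : ¬ R ≤ Subgroup.centralizer (A : Set G)) :
    ∃ t, t ∈ Subgroup.normalizer (A : Set G) ∧ (∃ k, t ^ r ^ k = 1) ∧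
      A ⊓ Subgroup.centralizer ({t} : Set G) ≠ ⊥ ∧
      ¬ A ≤ Subgroup.centralizer ({t} : Set G) :=
  exists_partial_fix hG hU h08 h09 (h1414_of_frozen h14) (h1416_of_frozen h16)
    (h1417_of_frozen h17) (h1418_of_frozen h18) hM hE hpτ hSab hA hr1.2.2.2.2 hRE hRr hzR hz1
    hzA hRnotC

/-- **Lemma (PF)** with all black boxes in exactly the frozen shapes. -/
theorem centralizer_inf_eq_bot_frozen (hG : Cfsg.IsMinSimpleOddOrder G) (hU : UniquenessThm G)
    (h08 : H1408 G) (h09 : H1409 G) (h14 : F1414 G) (h16 : F1416 G) (h17 : F1417 G)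
    (h18 : F1418 G)
    {M : Subgroup G} (hM : IsCoatom M) {E : Subgroup G}
    (hE : Cfsg.IsComplIn E (Cfsg.sigmaCore M) M)
    {p : ℕ} [hp : Fact p.Prime] (hpτ : p ∈ Cfsg.tau2 M)
    (hSab : ∀ S : Sylow p G, IsMulCommutative (S : Subgroup G))
    {A : Subgroup G} (hA : A ≤ E ∧ Cfsg.IsElementaryAbelian p A ∧ Nat.card A = p ^ 2)
    {r : ℕ} [hr : Fact r.Prime] (hr1 : Cfsg.PRankLE r 1 M)
    {R : Subgroup G} (hRE : R ≤ E) (hRr : IsPGroup r R) (hRcyc : IsCyclic R)
    (hirr : ∀ X : Subgroup G, X ≤ A → Nat.card X = p →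
      ¬ R ≤ Subgroup.normalizer (X : Set G)) :
    R ⊓ Subgroup.centralizer (A : Set G) = ⊥ :=
  centralizer_inf_eq_bot hG hU h08 h09 (h1414_of_frozen h14) (h1416_of_frozen h16)
    (h1417_of_frozen h17) (h1418_of_frozen h18) hM hE hpτ hSab hA hr1 hRE hRr hRcyc hirr

end Cfsg.Agent.Helper91.BGPF
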