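import Mathlib
import Cfsg.Agent.Helper1.HKK.Basic

/-!
# S3779 (helper1's WANTED #6245), piece (B3): Kostrikin–Kreknin.  helper91.

`kostrikin'` takes (B2) `lcf_add_le` as a hypothesis.
-/

set_option autoImplicit false
open Cfsg.Agent.Helper1.HKK

namespace Cfsg.Agent.Helper91.HKK

variable {L : Type*} [LieRing L]

theorem hkkG_succ (p k : ℕ) : hkkG p (k + 1) = (p - 1) * hkkG p k + 1 := by
  unfold hkkG
  rw [Finset.sum_range_succ', pow_zero, Finset.mul_sum]
  congr 1
  refine Finset.sum_congr rfl fun i _ => ?_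
  rw [pow_succ, mul_comm]

/-- (B3), primed on (B2). -/
theorem kostrikin' {p : ℕ} [Fact p.Prime]
    (hB2 : ∀ (M : ZMod p → AddSubgroup L), IsGradedFam M → ∀ j m : ℕ,
      (∀ d, lcf M m d ≤ lcf (der M) j d) → ∀ d, lcf M (m + (p - 1)) d ≤ lcf (der M) (j + 1) d)
    (k : ℕ) (M : ZMod p → AddSubgroup L) (hM : IsGradedFam M)
    (hder : ∀ d, (der^[k] M) d = ⊥) : ∀ d, lcf M (hkkG p k) d = ⊥ := by
  induction k generalizing M with
  | zero =>
    intro d
    have : hkkG p 0 = 0 := by simp [hkkG]
    rw [this, lcf_zero]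
    exact hder d
  | succ k ih =>
    have hM' : IsGradedFam (der M) := isGradedFam_der M hM
    have hder' : ∀ d, (der^[k] (der M)) d = ⊥ := by
      intro d
      have := hder d
      rwa [Function.iterate_succ_apply] at this
    have ih' := ih (der M) hM' hder'
    -- the climb
    have hclimb : ∀ j : ℕ, ∀ d, lcf M ((p - 1) * j + 1) d ≤ lcf (der M) j d := by
      intro j
      induction j with
      | zero =>
        intro d
        rw [mul_zero, zero_add, lcf_one, lcf_zero]
      | succ j ihj =>
        intro d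
        have := hB2 M hM j ((p - 1) * j + 1) ihj d
        have e : (p - 1) * j + 1 + (p - 1) = (p - 1) * (j + 1) + 1 := by ring
        rwa [e] at this
    intro d
    rw [hkkG_succ]
    have := hclimb (hkkG p k) d
    rw [ih' d] at this
    exact le_bot_iff.mp this

end Cfsg.Agent.Helper91.HKK
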