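import Mathlib

/-!
# Ward's theorem, piece (W5): a nilpotency criterion

`nilpotent_of_sylow_centralize`: if `M ⊴ X` is nilpotent, `X ⧸ M` is nilpotent, and for each prime `s`
the Sylow `s`-subgroup of `M` is centralized by some Sylow `r`-subgroup of `X` for every prime `r ≠ s`,
then `X` is nilpotent.
-/

open Subgroup

namespace Cfsg.Agent.Helper91.Ward

/-- In a finite group with a normal Sylow `p`-subgroup `S`, every `p`-subgroup lies in `S`. -/
theorem le_of_normal_sylow {G : Type*} [Group G] [Finite G] {p : ℕ} [Fact p.Prime] (S : Sylow p G)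
    (hS : (S : Subgroup G).Normal) {Q : Subgroup G} (hQ : IsPGroup p Q) : Q ≤ S := by
  obtain ⟨S', hS'⟩ := hQ.exists_le_sylow
  have := Sylow.unique_of_normal S hS
  rw [Subsingleton.elim S S']
  exact hS'

/-- A normal `p`-subgroup lies in every Sylow `p`-subgroup. -/
theorem normal_le_sylow {G : Type*} [Group G] [Finite G] {p : ℕ} [Fact p.Prime] {P : Subgroup G}
    (hPn : P.Normal) (hP : IsPGroup p P) (Q : Sylow p G) : P ≤ Q := by
  obtain ⟨Q', hQ'⟩ := hP.exists_le_sylow
  obtain ⟨g, hg⟩ := MulAction.exists_smul_eq G Q' Q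
  intro x hx
  have h1 : g⁻¹ * x * g⁻¹⁻¹ ∈ P := hPn.conj_mem x hx g⁻¹
  have h2 : g⁻¹ * x * g⁻¹⁻¹ ∈ (Q' : Subgroup G) := hQ' h1
  rw [← hg, Sylow.smul_def, Sylow.pointwise_smul_def, Subgroup.mem_pointwise_smul_iff_inv_smul_mem]
  simpa using h2

/-- A Sylow subgroup of a nilpotent normal subgroup `M` of `X` is normal in `X`. -/
theorem normal_of_sylow_of_nilpotent_normal {X : Type*} [Group X] [Finite X] (M : Subgroup X)
    [hMn : M.Normal] (hM : Group.IsNilpotent M) {s : ℕ} [Fact s.Prime] {P : Subgroup X} (hPM : P ≤ M)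
    (hP : IsPGroup s P) (hidx : ¬ s ∣ P.relIndex M) : P.Normal := by
  have hP' : IsPGroup s (P.subgroupOf M) := hP.comap_subtype
  have hidx' : ¬ s ∣ (P.subgroupOf M).index := hidx
  set S : Sylow s M := hP'.toSylow hidx' with hS
  have hSn : (S : Subgroup M).Normal :=
    ((Group.isNilpotent_of_finite_tfae (G := M)).out 0 3 rfl rfl).mp hM s inferInstance S
  refine ⟨fun x hx g => ?_⟩
  have hgM : g * x * g⁻¹ ∈ M := hMn.conj_mem x (hPM hx) g
  have hQ : IsPGroup s ((P.map (MulAut.conj g).toMonoidHom).subgroupOf M) :=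
    (hP.map _).comap_subtype
  have h1 := le_of_normal_sylow S hSn hQ
  have h2 : (⟨g * x * g⁻¹, hgM⟩ : M) ∈ (S : Subgroup M) :=
    h1 (by rw [mem_subgroupOf]; exact ⟨x, hx, rfl⟩)
  rw [hS, IsPGroup.toSylow_coe, mem_subgroupOf] at h2
  exact h2

/-- **(W5)** Nilpotency criterion. -/
theorem nilpotent_of_sylow_centralize {X : Type*} [Group X] [Finite X] (M : Subgroup X) [M.Normal]
    (hM : Group.IsNilpotent M) (hXM : Group.IsNilpotent (X ⧸ M))
    (h : ∀ s : ℕ, s.Prime → ∃ P : Subgroup X, P ≤ M ∧ IsPGroup s P ∧ ¬ s ∣ P.relIndex M ∧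
      ∀ r : ℕ, r.Prime → r ≠ s → ∃ R : Subgroup X, IsPGroup r R ∧ ¬ r ∣ R.index ∧
        R ≤ centralizer (P : Set X)) :
    Group.IsNilpotent X := by
  classical
  refine ((Group.isNilpotent_of_finite_tfae (G := X)).out 0 3 rfl rfl).mpr ?_
  intro r hr Q
  -- `Q ⊔ M` is normal in `X`
  have hQMn : ((Q : Subgroup X) ⊔ M).Normal := by
    have h1 : ((Q.mapSurjective (QuotientGroup.mk'_surjective M) : Sylow r (X ⧸ M)) :
        Subgroup (X ⧸ M)).Normal := inferInstance
    have h2 := h1.comap (QuotientGroup.mk' M)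
    rw [Sylow.coe_mapSurjective, Subgroup.comap_map_eq, QuotientGroup.ker_mk'] at h2
    exact h2
  -- `M` normalizes `Q`
  have hMN : M ≤ normalizer ((Q : Subgroup X) : Set X) := by
    rw [← Subgroup.relIndex_eq_one]
    by_contra hne
    obtain ⟨s, hs, hsd⟩ := Nat.exists_prime_and_dvd hne
    obtain ⟨P, hPM, hP, hidx, hR⟩ := h s hs
    have : Fact s.Prime := ⟨hs⟩
    have hPn : P.Normal := normal_of_sylow_of_nilpotent_normal M hM hPM hP hidx
    have hPN : P ≤ normalizer ((Q : Subgroup X) : Set X) := by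
      by_cases hrs : r = s
      · subst hrs
        exact (normal_le_sylow hPn hP Q).trans le_normalizer
      · obtain ⟨R, hRp, hRi, hRc⟩ := hR r hr.out hrs
        obtain ⟨g, hg⟩ := MulAction.exists_smul_eq X (hRp.toSylow hRi) Q
        -- `Q` centralizes `P`
        have hQc : ∀ q ∈ (Q : Subgroup X), ∀ x ∈ P, x * q = q * x := by
          intro q hq x hx
          rw [← hg, Sylow.smul_def, Sylow.pointwise_smul_def,
            Subgroup.mem_pointwise_smul_iff_inv_smul_mem] at hq
          have hq' : g⁻¹ * q * g ∈ R := by simpa using hq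
          have hx' : g⁻¹ * x * g⁻¹⁻¹ ∈ P := hPn.conj_mem x hx g⁻¹
          have hc := hRc hq' (g⁻¹ * x * g⁻¹⁻¹) hx'
          rw [inv_inv] at hc
          -- hc : g⁻¹ * x * g * (g⁻¹ * q * g) = g⁻¹ * q * g * (g⁻¹ * x * g)
          have : g⁻¹ * (x * q) * g = g⁻¹ * (q * x) * g := by
            have e1 : g⁻¹ * (x * q) * g = g⁻¹ * x * g * (g⁻¹ * q * g) := by group
            have e2 : g⁻¹ * (q * x) * g = g⁻¹ * q * g * (g⁻¹ * x * g) := by group
            rw [e1, e2]; exact hc
          exact mul_left_cancel (mul_right_cancel this)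
        intro x hx
        rw [mem_normalizer_iff]
        intro q
        constructor
        · intro hq
          have := hQc q hq x hx
          have e : x * q * x⁻¹ = q := by rw [this]; group
          rw [e]; exact hq
        · intro hq
          have := hQc _ hq x⁻¹ (P.inv_mem hx)
          have e : q = x * q * x⁻¹ := by
            have : x⁻¹ * (x * q * x⁻¹) * x = x * q * x⁻¹ := by rw [this]; group
            rw [← this]; group
          rw [e]; exact hq
    apply hidx
    rw [← Subgroup.relIndex_mul_relIndex P (normalizer ((Q : Subgroup X) : Set X) ⊓ M) M (le_inf hPN hPM)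
      inf_le_right, Subgroup.inf_relIndex_right]
    exact Dvd.dvd.mul_left hsd _
  have hfr := Sylow.normalizer_sup_eq_top' (N := (Q : Subgroup X) ⊔ M) Q le_sup_left
  have htop : normalizer ((Q : Subgroup X) : Set X) = ⊤ := by
    rw [eq_top_iff, ← hfr]
    exact sup_le le_rfl (sup_le le_normalizer hMN)
  exact normalizer_eq_top_iff.mp htop

end Cfsg.Agent.Helper91.Ward
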