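import Mathlib
import Cfsg.Agent.Helper15.CliffordCorr
import Cfsg.Agent.Helper15.ElemFacts
import Cfsg.Agent.Helper79.Linear
import Cfsg.Agent.Helper79.CharBasic
import Cfsg.Agent.Helper81.CliffordInd
import Cfsg.Agent.Helper82.GaloisConj

/-!
# Piece (A) of S4843: abelian normal subgroups are central

If `χ` is a faithful irreducible character, `k` is coprime to `|G|` and `χ · χ^(k)` is irreducible,
then every abelian normal subgroup of `G` is central (Clifford theory).
-/

set_option autoImplicit false

namespace Cfsg.Agent.Helper91.AbNormCenter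

open Cfsg
open scoped ComplexConjugate

universe u

variable {G : Type u} [Group G]

/-- Removing an irreducible constituent from a character leaves a character. -/
theorem isCharacter_sub_irr [Fintype G] {Φ ξ : G → ℂ} (hΦ : IsCharacter G Φ)
    (hξ : IsIrrCharacter G ξ) (hcon : classInner Φ ξ ≠ 0) : IsCharacter G (Φ - ξ) := by
  classical
  apply Helper15.isCharacter_of_classFunction_of_inner_nat
  · intro g h
    simp only [Pi.sub_apply]
    rw [Helper74.isClassFunction_of_isCharacter hΦ g h,
      Helper74.isClassFunction_of_isCharacter (Helper74.isCharacter_of_isIrr hξ) g h]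
  · intro η
    rw [Helper15.classInner_sub_left]
    obtain ⟨m, hm⟩ := Helper74.isCharacter_inner_irr_nat hΦ η
    by_cases h : (⟨ξ, hξ⟩ : IrrCharacter G) = η
    · subst h
      have h1 := Helper79.classInner_irr_self (⟨ξ, hξ⟩ : IrrCharacter G)
      simp only at h1 hm
      rw [hm, h1]
      have hm0 : m ≠ 0 := by
        rintro rfl
        apply hcon
        rw [hm]; simp
      exact ⟨m - 1, by rw [Nat.cast_sub (Nat.one_le_iff_ne_zero.mpr hm0)]; simp⟩
    · have h1 := Helper79.classInner_irr_ne h
      simp only at h1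
      rw [hm, h1]
      exact ⟨m, by simp⟩

/-- An irreducible character is not the sum of two nonzero characters. -/
theorem irr_not_sum [Fintype G] {ψ a b : G → ℂ} (hψ : IsIrrCharacter G ψ) (ha : IsCharacter G a)
    (hb : IsCharacter G b) (hsum : ψ = a + b) (ha0 : a ≠ 0) (hb0 : b ≠ 0) : False := by
  have h1 := Helper79.classInner_irr_self (⟨ψ, hψ⟩ : IrrCharacter G)
  simp only at h1
  rw [hsum, Helper15.classInner_add_left, Helper15.classInner_add_right,
    Helper15.classInner_add_right] at h1
  obtain ⟨n1, hn1⟩ := Helper15.isCharacter_inner_nat ha ha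
  obtain ⟨n2, hn2⟩ := Helper15.isCharacter_inner_nat ha hb
  obtain ⟨n3, hn3⟩ := Helper15.isCharacter_inner_nat hb ha
  obtain ⟨n4, hn4⟩ := Helper15.isCharacter_inner_nat hb hb
  rw [hn1, hn2, hn3, hn4] at h1
  have hn1' : n1 ≠ 0 := by
    rintro rfl
    apply ha0
    apply Helper74.classInner_self_eq_zero
    rw [hn1]; simp
  have hn4' : n4 ≠ 0 := by
    rintro rfl
    apply hb0
    apply Helper74.classInner_self_eq_zero
    rw [hn4]; simp
  have : n1 + n2 + (n3 + n4) = 1 := by exact_mod_cast h1
  omega

/-- For `k` coprime to `|G|`, `y ^ k ∈ T ↔ y ∈ T`. -/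
theorem pow_mem_iff_of_coprime [Finite G] {k : ℕ} (hk : Nat.Coprime k (Nat.card G)) (T : Subgroup G)
    (y : G) : y ^ k ∈ T ↔ y ∈ T := by
  constructor
  · intro h
    obtain ⟨m, hm⟩ := exists_pow_eq_self_of_coprime
      (Nat.Coprime.coprime_dvd_right (orderOf_dvd_natCard y) hk)
    rw [← hm]
    exact T.pow_mem h m
  · intro h
    exact T.pow_mem h k

/-- Induction commutes with the Galois twist `g ↦ g ^ k`. -/
theorem indFun_galois [Fintype G] {k : ℕ} (hk : Nat.Coprime k (Nat.card G)) (T : Subgroup G)
    (ξ : T → ℂ) (g : G) :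
    indFun T (fun t : T => ξ (t ^ k)) g = indFun T ξ (g ^ k) := by
  simp only [Helper15.indFun_apply]
  congr 1
  apply Finset.sum_congr rfl
  intro x _
  have hpow : x⁻¹ * g ^ k * x = (x⁻¹ * g * x) ^ k := by
    have := conj_pow (a := x⁻¹) (b := g) (i := k)
    rw [inv_inv] at this
    exact this.symm
  rw [hpow]
  by_cases hy : x⁻¹ * g * x ∈ T
  · rw [Helper15.extendByZero_of_mem T _ hy, Helper15.extendByZero_of_mem T _ (T.pow_mem hy k)]
    rfl
  · rw [Helper15.extendByZero_of_not_mem T _ hy,
      Helper15.extendByZero_of_not_mem T _ (fun h => hy ((pow_mem_iff_of_coprime hk T _).mp h))]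

/-- **Piece (A)**: every abelian normal subgroup is central. -/
theorem abelian_normal_le_center {G : Type u} [Group G] [Finite G] (χ : G → ℂ)
    (hχ : IsIrrCharacter G χ) (hfaith : ∀ g : G, χ g = χ 1 → g = 1) (k : ℕ)
    (hk : Nat.Coprime k (Nat.card G)) (hirr : IsIrrCharacter G (fun g => χ g * χ (g ^ k)))
    (A : Subgroup G) [A.Normal] (hA : ∀ a ∈ A, ∀ b ∈ A, a * b = b * a) :
    A ≤ Subgroup.center G := by
  classical
  have hAn : A.Normal := inferInstance
  have : Fintype G := Fintype.ofFinite G
  have : Fintype A := Fintype.ofFinite A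
  have hχc : IsCharacter G χ := Helper74.isCharacter_of_isIrr hχ
  have hχ1 : χ 1 ≠ 0 := Helper80.IsIrrCharacter.map_one_ne_zero hχ
  -- an irreducible constituent `lam` of `χ|A`
  obtain ⟨⟨lam, hlam⟩, hcon⟩ := Helper81.exists_irr_constituent
    (Helper74.isCharacter_restrict A hχc) (by simpa using hχ1)
  simp only at hcon
  have hlamc : IsCharacter A lam := Helper74.isCharacter_of_isIrr hlam
  have hlam1 : lam 1 = 1 :=
    Helper15.irr_one_eq_one_of_comm (fun a b => Subtype.ext (hA a a.2 b b.2)) hlam
  have hlammul : ∀ a b : A, lam (a * b) = lam a * lam b :=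
    Helper79.isCharacter_linear_mul hlamc hlam1
  obtain ⟨T, hT⟩ : ∃ T : Subgroup G, T = Helper15.inertia A lam := ⟨_, rfl⟩
  have hAT : A ≤ T := by
    rw [hT]
    exact Helper15.le_inertia A (Helper74.isClassFunction_of_isCharacter hlamc)
  by_cases hTtop : T = ⊤
  · -- `lam` is `G`-invariant
    have hinv : ∀ g : G, Helper15.conjFun A g lam = lam := by
      intro g
      have hg : g ∈ T := by rw [hTtop]; trivial
      rw [hT] at hg
      exact (Helper15.mem_inertia A lam g).mp hg
    have hres := Helper15.restrict_eq_smul_of_invariant A hχ hlam hcon hinv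
    intro a ha
    rw [Subgroup.mem_center_iff]
    intro g
    have hconj : g⁻¹ * a * g ∈ A := by simpa using hAn.conj_mem a ha g⁻¹
    have hcA : a⁻¹ * (g⁻¹ * a * g) ∈ A := A.mul_mem (A.inv_mem ha) hconj
    have hc : a⁻¹ * (g⁻¹ * a * g) = 1 := by
      apply hfaith
      have h1 : χ (a⁻¹ * (g⁻¹ * a * g))
          = classInner (fun n : A => χ n) lam * lam ⟨_, hcA⟩ := congrFun hres ⟨_, hcA⟩
      have h2 : χ 1 = classInner (fun n : A => χ n) lam * lam 1 := congrFun hres 1
      rw [h1, h2, hlam1]
      have h3 : (⟨_, hcA⟩ : A) = (⟨a, ha⟩ : A)⁻¹ * ⟨g⁻¹ * a * g, hconj⟩ := rfl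
      have h4 : lam ⟨g⁻¹ * a * g, hconj⟩ = lam ⟨a, ha⟩ := by
        have := congrFun (hinv g⁻¹) ⟨a, ha⟩
        rw [Helper15.conjFun_apply] at this
        simpa using this
      rw [h3, hlammul, h4, ← hlammul, inv_mul_cancel, hlam1]
    have h5 : g⁻¹ * a * g = a := by
      have := congrArg (fun z => a * z) hc
      simpa using this
    have h6 : a * g = g * (g⁻¹ * a * g) := by group
    rw [h6, h5]
  · -- `T < ⊤`: Clifford correspondence
    exfalso
    have : Fintype T := Fintype.ofFinite T
    obtain ⟨ξ, hξ, hind, -⟩ := Helper15.clifford_correspondence_exists A hlam T hT hAT hχ hcon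
    have hkT : k.Coprime (Nat.card T) :=
      Nat.Coprime.coprime_dvd_right (Subgroup.card_subgroup_dvd_card T) hk
    have hχ'irr : IsIrrCharacter G (fun g => χ (g ^ k)) := Helper82.galoisConj_isIrrCharacter hχ k hk
    have hξ'irr : IsIrrCharacter T (fun t => ξ (t ^ k)) := Helper82.galoisConj_isIrrCharacter hξ k hkT
    have hχ'c := Helper74.isCharacter_of_isIrr hχ'irr
    have hξc := Helper74.isCharacter_of_isIrr hξ
    have hξ'c := Helper74.isCharacter_of_isIrr hξ'irr
    have hχ'cf := Helper74.isClassFunction_of_isCharacter hχ'c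
    have hind' : indFun T (fun t : T => ξ (t ^ k)) = fun g => χ (g ^ k) := by
      funext g
      rw [indFun_galois hk T ξ g, hind]
    -- `χ'|T = ξ' + Δ`
    have hcon' : classInner (fun t : T => (fun g => χ (g ^ k)) t) (fun t : T => ξ (t ^ k)) ≠ 0 := by
      rw [← Helper15.frobenius_reciprocity' T (fun t : T => ξ (t ^ k)) (fun g => χ (g ^ k)) hχ'cf,
        hind']
      have := Helper79.classInner_irr_self (⟨_, hχ'irr⟩ : IrrCharacter G)
      simp only at this
      rw [this]
      exact one_ne_zero
    have hΔ := isCharacter_sub_irr (Helper74.isCharacter_restrict T hχ'c) hξ'irr hcon'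
    obtain ⟨Δ, hΔdef⟩ : ∃ Δ : T → ℂ,
      Δ = (fun t : T => (fun g => χ (g ^ k)) t) - (fun t : T => ξ (t ^ k)) := ⟨_, rfl⟩
    rw [← hΔdef] at hΔ
    have hdecomp : (fun t : T => (fun g => χ (g ^ k)) (t : G)) = (fun t : T => ξ (t ^ k)) + Δ := by
      rw [hΔdef]; abel
    have hξ1 : ξ 1 ≠ 0 := Helper80.IsIrrCharacter.map_one_ne_zero hξ
    have hidx : T.index ≠ 1 := by rwa [Ne, Subgroup.index_eq_one]
    have hχ1' : χ 1 = (T.index : ℂ) * ξ 1 := by
      rw [← hind]; exact Helper15.indFun_apply_one T ξ
    have hΔ1 : Δ 1 ≠ 0 := by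
      have h1 : Δ 1 = ((T.index : ℂ) - 1) * ξ 1 := by
        rw [hΔdef]
        simp only [Pi.sub_apply, OneMemClass.coe_one, one_pow]
        rw [hχ1']; ring
      rw [h1]
      apply mul_ne_zero _ hξ1
      intro h
      apply hidx
      have h2 : (T.index : ℂ) = 1 := by linear_combination h
      exact_mod_cast h2
    have hidx0 : (T.index : ℂ) ≠ 0 := by
      have : T.index ≠ 0 := Subgroup.index_ne_zero_of_finite
      exact_mod_cast this
    -- `ψ = ind (ξ ξ') + ind (ξ Δ)`
    have hψ : (fun g => χ g * χ (g ^ k))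
        = indFun T (ξ * fun t : T => ξ (t ^ k)) + indFun T (ξ * Δ) := by
      have h1 := Helper15.indFun_mul_restrict T ξ (fun g => χ (g ^ k)) hχ'cf
      rw [hind, hdecomp, mul_add, Helper15.indFun_add] at h1
      rw [h1]; rfl
    apply irr_not_sum hirr (Helper15.isCharacter_indFun T (Helper74.isCharacter_mul hξc hξ'c))
      (Helper15.isCharacter_indFun T (Helper74.isCharacter_mul hξc hΔ)) hψ
    · intro h0
      have := congrFun h0 1
      rw [Helper15.indFun_apply_one] at this
      simp only [Pi.mul_apply, one_pow, Pi.zero_apply, mul_eq_zero] at this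
      rcases this with h | h | h
      · exact hidx0 h
      · exact hξ1 h
      · exact hξ1 h
    · intro h0
      have := congrFun h0 1
      rw [Helper15.indFun_apply_one] at this
      simp only [Pi.mul_apply, Pi.zero_apply, mul_eq_zero] at this
      rcases this with h | h | h
      · exact hidx0 h
      · exact hξ1 h
      · exact hΔ1 h

end Cfsg.Agent.Helper91.AbNormCenter
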