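import Mathlib
import Cfsg.Agent.Helper15.MixDefs

/-!
# S4017 (helper15's WANTED #5926), pieces (C2) + (C2b): `W p t` is a `p`-group and
`C(t) = W_t Q` for `t ∈ Q \ 1`.  helper91.

The primed versions take (C1) as a hypothesis.
-/

set_option autoImplicit false

namespace Cfsg.Agent.Helper91.Mix

open Subgroup Cfsg.Agent.Helper15.Mix

variable {G : Type*} [Group G] [Finite G] {p a : ℕ} {Q : Subgroup G} {x : G}

omit [Finite G] in
theorem p_ne_two (h : MC G p a) : p ≠ 2 := by
  intro hp2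
  have h1 := h.hpa
  have ha := h.ha
  rw [hp2] at h1
  obtain ⟨b, rfl⟩ := Nat.exists_eq_add_of_le ha
  rw [pow_add] at h1
  omega

omit [Finite G] in
theorem Q_comm (h : Cfg G p a Q x) : ∀ u ∈ Q, ∀ v ∈ Q, u * v = v * u := by
  intro u hu v hv
  have h1 := h.qexp u hu
  have h2 := h.qexp v hv
  have h3 := h.qexp (u * v) (Q.mul_mem hu hv)
  have hu' : u⁻¹ = u := inv_eq_of_mul_eq_one_left h1
  have hv' : v⁻¹ = v := inv_eq_of_mul_eq_one_left h2
  have h4 : u * v = (u * v)⁻¹ := (inv_eq_of_mul_eq_one_left h3).symm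
  rw [h4, mul_inv_rev, hu', hv']

/-- An element which is both a `p`-element and lies in a `2`-group is trivial (`p` odd). -/
theorem eq_one_of_pelt_of_two {H : Type*} [Group H] (hp : p.Prime) (hp2 : p ≠ 2) {g : H}
    (hg : ∃ j : ℕ, g ^ p ^ j = 1) (hg2 : ∃ k : ℕ, g ^ 2 ^ k = 1) : g = 1 := by
  obtain ⟨j, hj⟩ := hg
  obtain ⟨k, hk⟩ := hg2
  have h1 : orderOf g ∣ p ^ j := orderOf_dvd_of_pow_eq_one hj
  have h2 : orderOf g ∣ 2 ^ k := orderOf_dvd_of_pow_eq_one hk
  have hcop : Nat.Coprime (p ^ j) (2 ^ k) :=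
    Nat.Coprime.pow _ _ ((Nat.coprime_primes hp Nat.prime_two).mpr hp2)
  have : orderOf g = 1 := Nat.eq_one_of_dvd_coprimes hcop h1 h2
  exact orderOf_eq_one_iff.mp this

/-- The core of (C2)/(C2b): a normal `p`-complement in `C(t)`. -/
theorem exists_compl (h : Cfg G p a Q x)
    (hC1 : ∀ g t : G, g ∈ normalizer (Q : Set G) → t ∈ Q → t ≠ 1 → g * t = t * g →
      g ∈ centralizer (Q : Set G))
    {t : G} (ht : t ∈ Q) (ht1 : t ≠ 1) :
    ∃ K : Subgroup G, IsPGroup p K ∧ K ≤ centralizer ({t} : Set G) ∧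
      (∀ g : G, g * t = t * g → IsPElt p g → g ∈ K) ∧
      ∀ c ∈ centralizer ({t} : Set G), ∃ w ∈ K, ∃ u ∈ Q, c = w * u := by
  classical
  have hp := h.mc.hp
  have hp2 : p ≠ 2 := p_ne_two h.mc
  have : Fact (Nat.Prime 2) := ⟨Nat.prime_two⟩
  have hQcomm := Q_comm h
  have hQC : Q ≤ centralizer ({t} : Set G) := by
    intro u hu
    rw [mem_centralizer_singleton_iff]
    exact hQcomm u hu t ht
  -- `Q` as a Sylow subgroup
  have hcardQ : Nat.card Q = 2 ^ (Nat.card G).factorization 2 := by rw [h.mc.hcard, h.qcard]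
  obtain ⟨S, hS⟩ : ∃ S : Sylow 2 G, (S : Subgroup G) = Q :=
    ⟨Sylow.ofCard Q hcardQ, Sylow.coe_ofCard Q hcardQ⟩
  have hSC : (S : Subgroup G) ≤ centralizer ({t} : Set G) := hS ▸ hQC
  obtain ⟨S', hS'⟩ : ∃ S' : Sylow 2 (centralizer ({t} : Set G)),
      (S' : Subgroup (centralizer ({t} : Set G))) = Q.subgroupOf (centralizer ({t} : Set G)) :=
    ⟨S.subtype hSC, by rw [Sylow.coe_subtype, hS]⟩
  -- the transfer condition
  have hNC : normalizer ((S' : Subgroup (centralizer ({t} : Set G))) :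
      Set (centralizer ({t} : Set G))) ≤
      centralizer ((S' : Subgroup (centralizer ({t} : Set G))) :
        Set (centralizer ({t} : Set G))) := by
    intro g hg
    rw [hS'] at hg ⊢
    have hgN : (g : G) ∈ normalizer (Q : Set G) := by
      rw [mem_set_normalizer_iff]
      intro n
      constructor
      · intro hn
        have h1 : (⟨n, hQC hn⟩ : centralizer ({t} : Set G)) ∈
            Q.subgroupOf (centralizer ({t} : Set G)) := mem_subgroupOf.mpr hn
        have h2 := (mem_set_normalizer_iff.mp hg _).mp h1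
        exact mem_subgroupOf.mp h2
      · intro hn
        have hnC : n ∈ centralizer ({t} : Set G) := by
          have h3 : (g : G)⁻¹ * ((g : G) * n * (g : G)⁻¹) * (g : G) ∈ centralizer ({t} : Set G) :=
            Subgroup.mul_mem _ (Subgroup.mul_mem _ (Subgroup.inv_mem _ g.2) (hQC hn)) g.2
          have h4 : (g : G)⁻¹ * ((g : G) * n * (g : G)⁻¹) * (g : G) = n := by group
          rwa [h4] at h3
        have h5 : g * (⟨n, hnC⟩ : centralizer ({t} : Set G)) * g⁻¹ ∈
            Q.subgroupOf (centralizer ({t} : Set G)) := mem_subgroupOf.mpr hn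
        have h6 := (mem_set_normalizer_iff.mp hg ⟨n, hnC⟩).mpr h5
        exact mem_subgroupOf.mp h6
    have hgt : (g : G) * t = t * g := mem_centralizer_singleton_iff.mp g.2
    have hgCQ := hC1 g t hgN ht ht1 hgt
    rw [mem_centralizer_iff]
    intro u hu
    apply Subtype.ext
    have h7 := mem_centralizer_iff.mp hgCQ (u : G) (mem_subgroupOf.mp hu)
    simpa using h7
  have hcompl := MonoidHom.ker_transferSylow_isComplement' S' hNC
  -- `C(t) ≠ ⊤`
  have hCtop : centralizer ({t} : Set G) ≠ ⊤ := by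
    intro htop
    -- an element `v ∈ Q`, `v ≠ 1`, `v ≠ t`
    have hex : ∃ v ∈ Q, v ≠ 1 ∧ v ≠ t := by
      by_contra hcon
      push Not at hcon
      have hsub : (Q : Set G) ⊆ {1, t} := by
        intro v hv
        by_cases hv1 : v = 1
        · exact Or.inl hv1
        · exact Or.inr (hcon v hv hv1)
      have hle : Nat.card Q ≤ 2 := by
        have h8 : Nat.card Q = (Q : Set G).ncard := (Nat.card_coe_set_eq (Q : Set G))
        rw [h8]
        calc (Q : Set G).ncard ≤ ({1, t} : Set G).ncard :=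
              Set.ncard_le_ncard hsub (Set.toFinite _)
          _ ≤ 2 := Set.ncard_insert_le _ _ |>.trans (by simp)
      rw [h.qcard] at hle
      have h9 : 2 ^ 2 ≤ 2 ^ a := Nat.pow_le_pow_right (by norm_num) h.mc.ha
      omega
    obtain ⟨v, hv, hv1, hvt⟩ := hex
    obtain ⟨k, hk⟩ := h.xtrans t ht v hv ht1 hv1
    have hxk : x ^ k ∈ centralizer ({t} : Set G) := htop ▸ mem_top _
    have hcomm := mem_centralizer_singleton_iff.mp hxk
    apply hvt
    rw [← hk, hcomm, mul_inv_cancel_right]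
  -- `t` has order two, so `C(t)` has even order
  have ht2 : orderOf t = 2 := orderOf_eq_prime (by rw [pow_two]; exact h.qexp t ht) ht1
  have heven : 2 ∣ Nat.card (centralizer ({t} : Set G)) := by
    have : orderOf (⟨t, hQC ht⟩ : centralizer ({t} : Set G)) = 2 := by
      rw [← ht2]; exact Subgroup.orderOf_mk t (hQC ht)
    rw [← this]
    exact orderOf_dvd_natCard _
  -- the kernel `K₀` and its image `K`
  set K₀ : Subgroup (centralizer ({t} : Set G)) := (MonoidHom.transferSylow S' hNC).ker with hK₀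
  have hK₀odd : ¬ 2 ∣ Nat.card K₀ := MonoidHom.not_dvd_card_ker_transferSylow S' hNC
  have hK₀p : IsPGroup p K₀ := by
    have hcard : Nat.card K₀ = p ^ (Nat.card K₀).primeFactorsList.length := by
      apply Nat.eq_prime_pow_of_unique_prime_dvd Nat.card_pos.ne'
      intro r hr hrd
      have hrC : r ∣ Nat.card (centralizer ({t} : Set G)) :=
        hrd.trans (Subgroup.card_subgroup_dvd_card K₀)
      have hr2 : r ≠ 2 := fun h2 => hK₀odd (h2 ▸ hrd)
      by_cases h2g : IsPGroup 2 (centralizer ({t} : Set G))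
      · obtain ⟨n, hn⟩ := IsPGroup.iff_card.mp h2g
        rw [hn] at hrC
        exact absurd ((Nat.prime_dvd_prime_iff_eq hr Nat.prime_two).mp
          (hr.dvd_of_dvd_pow hrC)) hr2
      · rcases h.mc.f1 _ hCtop heven h2g r hr hrC with h3 | h3
        · exact h3
        · exact absurd h3 hr2
    exact IsPGroup.of_card hcard
  have hpelt_mem : ∀ g : centralizer ({t} : Set G), IsPElt p (g : G) → g ∈ K₀ := by
    intro g hg
    rw [hK₀, MonoidHom.mem_ker]
    obtain ⟨j, hj⟩ := hg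
    have hgj : g ^ p ^ j = 1 := by
      apply Subtype.ext
      rw [Subgroup.coe_pow, Subgroup.coe_one, ← hj]
      exact pow_orderOf_eq_one _
    have h1 : ∃ j : ℕ, (MonoidHom.transferSylow S' hNC g) ^ p ^ j = 1 :=
      ⟨j, by rw [← map_pow, hgj, map_one]⟩
    have h2 : ∃ k : ℕ, (MonoidHom.transferSylow S' hNC g) ^ 2 ^ k = 1 := S'.2 _
    exact eq_one_of_pelt_of_two hp hp2 h1 h2
  refine ⟨K₀.map (Subgroup.subtype _), hK₀p.map _, Subgroup.map_subtype_le _, ?_, ?_⟩
  · intro g hgt hgp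
    have hgC : g ∈ centralizer ({t} : Set G) := mem_centralizer_singleton_iff.mpr hgt
    exact ⟨⟨g, hgC⟩, hpelt_mem ⟨g, hgC⟩ hgp, rfl⟩
  · intro c hc
    obtain ⟨⟨k, u⟩, hku, -⟩ := (isComplement'_def.mp hcompl).existsUnique ⟨c, hc⟩
    refine ⟨(k : centralizer ({t} : Set G)), ⟨k, k.2, rfl⟩, (u : centralizer ({t} : Set G)), ?_, ?_⟩
    · have hu : (u : centralizer ({t} : Set G)) ∈ (S' : Subgroup (centralizer ({t} : Set G))) := u.2
      have hu' : (u : centralizer ({t} : Set G)) ∈ Q.subgroupOf (centralizer ({t} : Set G)) :=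
        hS' ▸ hu
      exact mem_subgroupOf.mp hu'
    · have := congrArg (Subtype.val) hku
      simpa using this.symm

/-- (C2), primed on (C1). -/
theorem isPGroup_W' (h : Cfg G p a Q x)
    (hC1 : ∀ g t : G, g ∈ normalizer (Q : Set G) → t ∈ Q → t ≠ 1 → g * t = t * g →
      g ∈ centralizer (Q : Set G))
    {t : G} (ht : t ∈ Q) (ht1 : t ≠ 1) : IsPGroup p (W p t) := by
  obtain ⟨K, hKp, -, hKmem, -⟩ := exists_compl h hC1 ht ht1
  refine hKp.to_le ?_
  rw [W, closure_le]
  rintro g ⟨hgt, hgp⟩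
  exact hKmem g hgt hgp

/-- (C2b), primed on (C1). -/
theorem cz_eq_W_mul_Q' (h : Cfg G p a Q x)
    (hC1 : ∀ g t : G, g ∈ normalizer (Q : Set G) → t ∈ Q → t ≠ 1 → g * t = t * g →
      g ∈ centralizer (Q : Set G))
    {t : G} (ht : t ∈ Q) (ht1 : t ≠ 1) :
    ∀ c ∈ centralizer ({t} : Set G), ∃ w ∈ W p t, ∃ u ∈ Q, c = w * u := by
  obtain ⟨K, hKp, hKC, -, hKQ⟩ := exists_compl h hC1 ht ht1
  intro c hc
  obtain ⟨w, hw, u, hu, rfl⟩ := hKQ c hc
  refine ⟨w, ?_, u, hu, rfl⟩
  apply Subgroup.subset_closure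
  refine ⟨mem_centralizer_singleton_iff.mp (hKC hw), ?_⟩
  obtain ⟨j, hj⟩ := hKp ⟨w, hw⟩
  have hj' : w ^ p ^ j = 1 := by
    have := congrArg Subtype.val hj
    simpa using this
  obtain ⟨i, -, hi⟩ := (Nat.dvd_prime_pow h.mc.hp).mp (orderOf_dvd_of_pow_eq_one hj')
  exact ⟨i, hi⟩

end Cfsg.Agent.Helper91.Mix
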