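/-
Helper91: piece (C1) for helper15 (S4018): column orthogonality on the TI subgroup `C`.
-/
import Mathlib
import Cfsg.Agent.Helper15.TIInvDefs
import Cfsg.Agent.Helper74.CharCount

set_option autoImplicit false

open Cfsg Cfsg.Agent.Helper15.TIInv
open scoped ComplexConjugate

universe u

namespace Cfsg.Agent.Helper91.TIInv

variable {G : Type u} [Group G] [Fintype G] {C : Subgroup G} [Fintype C] {z t : G} {m : ℕ}

omit [Fintype G] [Fintype C] in
theorem t_inv_eq (h : TICfg C z t m) : t⁻¹ = t := by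
  have : t ^ 2 = 1 := by rw [← h.t_ord]; exact pow_orderOf_eq_one t
  rw [pow_two] at this
  exact inv_eq_of_mul_eq_one_left this

omit [Fintype G] [Fintype C] in
/-- conjugation by an element of the coset `C t⁻¹` inverts `C` -/
theorem conj_of_mul_t_mem (h : TICfg C z t m) {g x : G} (hx : x ∈ C) (hg : g * t ∈ C) :
    g * x * g⁻¹ = x⁻¹ := by
  have ht := t_inv_eq h
  have h2 : t * t = 1 := by
    have : t ^ 2 = 1 := by rw [← h.t_ord]; exact pow_orderOf_eq_one t
    rwa [pow_two] at this
  have h3 : t * x * t = x⁻¹ := by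
    have := h.t_inv x hx
    rwa [ht] at this
  have hxi : x⁻¹ ∈ C := C.inv_mem hx
  have h4 : g * x * g⁻¹ = (g * t) * (t * x * t) * (g * t)⁻¹ := by
    rw [mul_inv_rev, ht]
    calc g * x * g⁻¹ = g * (1 * x * 1) * g⁻¹ := by rw [one_mul, mul_one]
      _ = g * ((t * t) * x * (t * t)) * g⁻¹ := by rw [h2]
      _ = g * t * (t * x * t) * (t * g⁻¹) := by simp only [mul_assoc]
  calc g * x * g⁻¹ = (g * t) * (t * x * t) * (g * t)⁻¹ := h4
    _ = (g * t) * x⁻¹ * (g * t)⁻¹ := by rw [h3]
    _ = x⁻¹ * (g * t) * (g * t)⁻¹ := by rw [h.comm (g * t) hg x⁻¹ hxi]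
    _ = x⁻¹ := by group

omit [Fintype G] [Fintype C] in
theorem conj_mem_iff (h : TICfg C z t m) {x x' : G} (hx : x ∈ C) (hx1 : x ≠ 1) (hx' : x' ∈ C) :
    IsConj x x' ↔ x' = x ∨ x' = x⁻¹ := by
  constructor
  · intro hc
    obtain ⟨g, hg⟩ := isConj_iff.1 hc
    rcases h.ti g x hx hx1 (hg ▸ hx') with hgC | hgt
    · left
      rw [← hg, h.comm g hgC x hx]
      group
    · right
      rw [← hg, conj_of_mul_t_mem h hx hgt]
  · rintro (rfl | rfl)
    · exact IsConj.refl _
    · exact isConj_iff.2 ⟨t, h.t_inv x hx⟩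

omit [Fintype C] in
theorem col_orth_C [Fintype (IrrCharacter G)] (h : TICfg C z t m) (y y' : C) (hy : y ≠ 1)
    (hy' : y' ≠ 1) [Decidable (y' = y)] [Decidable (y' = y⁻¹)] :
    ∑ χ : IrrCharacter G, (χ : G → ℂ) (y : G) * conj ((χ : G → ℂ) (y' : G)) =
      (Nat.card C : ℂ) * ((if y' = y then 1 else 0) + (if y' = y⁻¹ then 1 else 0)) := by
  classical
  rw [Cfsg.Agent.Helper74.second_orthogonality (y : G) (y' : G)]
  have hyG : (y : G) ≠ 1 := fun hh => hy (Subtype.ext hh)
  have hy'G : (y' : G) ≠ 1 := fun hh => hy' (Subtype.ext hh)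
  have hconj := conj_mem_iff h y.2 hyG y'.2
  have e1 : y' = y ↔ (y' : G) = (y : G) := Subtype.ext_iff
  have e2 : y' = y⁻¹ ↔ (y' : G) = (y : G)⁻¹ := by
    rw [Subtype.ext_iff]; rfl
  by_cases hz : (y' : G) = z
  · -- `y' = z`
    have hzz : z * z = 1 := by
      have : z ^ 2 = 1 := by rw [← h.z_ord]; exact pow_orderOf_eq_one z
      rwa [pow_two] at this
    have hzinv : z⁻¹ = z := inv_eq_of_mul_eq_one_left hzz
    by_cases hc : IsConj (y : G) (y' : G)
    · rw [if_pos hc]
      have hyz : (y : G) = z := by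
        rcases hconj.1 hc with h1 | h1
        · rw [← h1, hz]
        · have : (y : G) = (y' : G)⁻¹ := by rw [h1, inv_inv]
          rw [this, hz, hzinv]
      have c1 : y' = y := e1.2 (by rw [hz, hyz])
      have c2 : y' = y⁻¹ := e2.2 (by rw [hz, hyz, hzinv])
      rw [if_pos c1, if_pos c2, hz, h.cent_z, h.card]
      push_cast
      ring
    · rw [if_neg hc]
      have c1 : ¬ y' = y := fun hh => hc (hconj.2 (Or.inl (e1.1 hh)))
      have c2 : ¬ y' = y⁻¹ := fun hh => hc (hconj.2 (Or.inr (e2.1 hh)))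
      rw [if_neg c1, if_neg c2]
      ring
  · -- `y' ≠ z`
    have hsq : (y' : G) * (y' : G) ≠ 1 := by
      intro hh
      rcases h.z_uniq _ y'.2 hh with h1 | h1
      · exact hy'G h1
      · exact hz h1
    have hcent : Subgroup.centralizer ({(y' : G)} : Set G) = C := by
      ext g
      rw [Subgroup.mem_centralizer_singleton_iff]
      constructor
      · intro hg
        have hgc : g * (y' : G) * g⁻¹ = (y' : G) := by rw [hg]; group
        rcases h.ti g _ y'.2 hy'G (by rw [hgc]; exact y'.2) with hgC | hgt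
        · exact hgC
        · exfalso
          have := conj_of_mul_t_mem h y'.2 hgt
          rw [hgc] at this
          apply hsq
          calc (y' : G) * (y' : G) = (y' : G)⁻¹ * (y' : G) := by rw [← this]
            _ = 1 := by group
      · intro hg
        exact h.comm g hg _ y'.2
    by_cases hc : IsConj (y : G) (y' : G)
    · rw [if_pos hc, hcent]
      rcases hconj.1 hc with h1 | h1
      · have c1 : y' = y := e1.2 h1
        have c2 : ¬ y' = y⁻¹ := by
          intro hh
          have := e2.1 hh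
          apply hsq
          rw [h1] at this ⊢
          calc (y : G) * (y : G) = (y : G)⁻¹ * (y : G) := by rw [← this]
            _ = 1 := by group
        rw [if_pos c1, if_neg c2]
        ring
      · have c2 : y' = y⁻¹ := e2.2 h1
        have c1 : ¬ y' = y := by
          intro hh
          have := e1.1 hh
          apply hsq
          rw [this] at h1 ⊢
          calc (y : G) * (y : G) = (y : G)⁻¹ * (y : G) := by rw [← h1]
            _ = 1 := by group
        rw [if_neg c1, if_pos c2]
        ring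
    · rw [if_neg hc]
      have c1 : ¬ y' = y := fun hh => hc (hconj.2 (Or.inl (e1.1 hh)))
      have c2 : ¬ y' = y⁻¹ := fun hh => hc (hconj.2 (Or.inr (e2.1 hh)))
      rw [if_neg c1, if_neg c2]
      ring

end Cfsg.Agent.Helper91.TIInv
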