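-- helper91: piece (VAL-a) of board post 5588 for helper16 (defect-one engine):
-- the sum over a fibre of `can` vanishes on `p`-singular elements (Osima).
import Mathlib
import Cfsg.Agent.Helper16.DefOneSetup
import Cfsg.Agent.Helper16.Osima
import Cfsg.Agent.Helper77.BlockOrth

set_option autoImplicit false

namespace Cfsg.Agent.Helper91.DefOneVALa

open Cfsg Cfsg.Agent.Helper16 Cfsg.Agent.Helper16.DefOne
open scoped ComplexConjugate

universe u

variable {G : Type u} [Group G] [Fintype G] {p : ℕ} [Fact p.Prime] (P : Sylow p G)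

/-- **(VAL-a)** -/
theorem finsum_fibre_apply_singular' (M : Ideal AlgInt) (hM : IsPModular p M)
    (hblk : ∀ φ ψ : IrrCharacter (cen P),
      SameBlock M (φ : cen P → ℂ) (ψ : cen P → ℂ) ↔ can P φ = can P ψ)
    (hself : ∀ θ, IsCanon P θ → can P θ = θ)
    (hreg : ∀ (φ : IrrCharacter (cen P)) (x : cen P), ¬ p ∣ orderOf x →
      (φ : cen P → ℂ) x = (can P φ : cen P → ℂ) x)
    (θ : IrrCharacter (cen P)) (hθ : IsCanon P θ) (c : cen P) (hc : p ∣ orderOf c) :
    ∑ᶠ φ ∈ {φ : IrrCharacter (cen P) | can P φ = θ}, (φ : cen P → ℂ) c = 0 := by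
  haveI : Fintype (cen P) := Fintype.ofFinite _
  have hp : p.Prime := Fact.out
  -- the fibre is the block of `θ`
  have hset : {φ : IrrCharacter (cen P) | can P φ = θ} = blockOf M (θ : cen P → ℂ) := by
    ext φ
    simp only [Set.mem_setOf_eq, blockOf]
    rw [hblk θ φ, hself θ hθ]
    exact eq_comm
  have hB : IsPBlock M (blockOf M (θ : cen P → ℂ)) := ⟨θ, rfl⟩
  have h0 := Cfsg.Agent.Helper77.blockCoeff_eq_zero_of_dvd_orderOf hM hB c hc
  unfold blockCoeff at h0
  have hcard : ((Nat.card (cen P) : ℕ) : ℂ) ≠ 0 := by exact_mod_cast Nat.card_pos.ne'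
  have h1 : ∑ᶠ χ ∈ blockOf M (θ : cen P → ℂ),
      (χ : cen P → ℂ) 1 * conj ((χ : cen P → ℂ) c) = 0 := by
    rcases mul_eq_zero.mp h0 with h | h
    · exact absurd (inv_eq_zero.mp h) hcard
    · exact h
  rw [hset]
  -- replace `χ 1` by `θ 1`
  have h2 : ∑ᶠ χ ∈ blockOf M (θ : cen P → ℂ),
        (χ : cen P → ℂ) 1 * conj ((χ : cen P → ℂ) c)
      = ∑ᶠ χ ∈ blockOf M (θ : cen P → ℂ),
        (θ : cen P → ℂ) 1 * conj ((χ : cen P → ℂ) c) := by
    apply finsum_mem_congr rfl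
    intro χ hχ
    have hcan : can P χ = θ := by rw [← hset] at hχ; exact hχ
    rw [hreg χ 1 (by rw [orderOf_one]; exact hp.not_dvd_one), hcan]
  rw [h2, ← mul_finsum_mem] at h1
  have hθ1 : (θ : cen P → ℂ) 1 ≠ 0 := irr_one_ne_zero θ
  have h3 := (mul_eq_zero.mp h1).resolve_left hθ1
  have hfin : (blockOf M (θ : cen P → ℂ)).Finite := Set.toFinite _
  have h4 : conj (∑ᶠ χ ∈ blockOf M (θ : cen P → ℂ), (χ : cen P → ℂ) c) = 0 := by
    have := ((starRingEnd ℂ : ℂ →+* ℂ) : ℂ →+ ℂ).map_finsum_mem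
      (fun χ : IrrCharacter (cen P) => (χ : cen P → ℂ) c) hfin
    rw [← h3]
    exact this
  exact (map_eq_zero (starRingEnd ℂ)).mp h4

end Cfsg.Agent.Helper91.DefOneVALa
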