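import Cfsg.Agent.Helper19.FH.Defs

/-!
# Feit–Higman (S1142), piece (SP): spectral package for a real symmetric matrix

helper91 for helper19's WANTED #5717.
-/

set_option autoImplicit false

open Cfsg.Agent.Helper19.FH Matrix

namespace Cfsg.Agent.Helper91.FH

/-- If the rows `u i` are orthonormal then `trace M = ∑ i, u i ⬝ᵥ M *ᵥ u i`. -/
theorem trace_eq_sum_of_orthonormal {X : Type*} [Fintype X] [DecidableEq X]
    (u : X → X → ℝ) (hu : ∀ i j, u i ⬝ᵥ u j = if i = j then 1 else 0)
    (M : Matrix X X ℝ) : Matrix.trace M = ∑ i, u i ⬝ᵥ M.mulVec (u i) := by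
  classical
  set U : Matrix X X ℝ := Matrix.of u with hU
  have h1 : U * Uᵀ = 1 := by
    ext i j
    rw [Matrix.mul_apply, Matrix.one_apply]
    have := hu i j
    simp only [dotProduct] at this
    simpa [hU, Matrix.transpose_apply] using this
  have h2 : Uᵀ * U = 1 := mul_eq_one_comm.mp h1
  have h3 : ∀ i, u i ⬝ᵥ M.mulVec (u i) = (U * M * Uᵀ) i i := by
    intro i
    rw [Matrix.mul_apply]
    simp only [dotProduct, Matrix.mulVec, Matrix.mul_apply, hU, Matrix.of_apply,
      Matrix.transpose_apply]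
    simp only [Finset.mul_sum, Finset.sum_mul]
    rw [Finset.sum_comm]
    refine Finset.sum_congr rfl fun y _ => ?_
    refine Finset.sum_congr rfl fun x _ => ?_
    ring
  calc Matrix.trace M = Matrix.trace (M * (Uᵀ * U)) := by rw [h2, mul_one]
    _ = Matrix.trace (U * M * Uᵀ) := by
        rw [← mul_assoc, Matrix.trace_mul_comm, ← mul_assoc]
    _ = ∑ i, u i ⬝ᵥ M.mulVec (u i) := by
        rw [Matrix.trace]
        refine Finset.sum_congr rfl fun i _ => ?_
        rw [Matrix.diag_apply, h3]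

/-- Piece (SP) of helper19's Feit–Higman decomposition. -/
theorem spectral {X : Type*} [Fintype X] [DecidableEq X] (C : Matrix X X ℝ) (hC : Cᵀ = C) :
    ∃ (lam : X → ℝ) (u : X → X → ℝ),
      (∀ i, C.mulVec (u i) = lam i • u i) ∧
      (∀ i j, u i ⬝ᵥ u j = if i = j then 1 else 0) ∧
      (∀ M : Matrix X X ℝ, Matrix.trace M = ∑ i, u i ⬝ᵥ M.mulVec (u i)) ∧
      (∀ k : ℕ, Matrix.trace (C ^ k) = ∑ i, lam i ^ k) := by
  classical
  have hH : C.IsHermitian := by
    rw [Matrix.IsHermitian, Matrix.conjTranspose_eq_transpose_of_trivial, hC]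
  set lam : X → ℝ := hH.eigenvalues with hlam
  set u : X → X → ℝ := fun i => ⇑(hH.eigenvectorBasis i) with hudef
  have hev : ∀ i, C.mulVec (u i) = lam i • u i := fun i => hH.mulVec_eigenvectorBasis i
  have hon : ∀ i j, u i ⬝ᵥ u j = if i = j then 1 else 0 := by
    intro i j
    have h := (orthonormal_iff_ite.mp hH.eigenvectorBasis.orthonormal) j i
    rw [EuclideanSpace.inner_eq_star_dotProduct] at h
    simp only [star_trivial] at h
    rw [show u i ⬝ᵥ u j = (WithLp.ofLp (hH.eigenvectorBasis i)) ⬝ᵥ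
      (WithLp.ofLp (hH.eigenvectorBasis j)) from rfl, h]
    by_cases hij : i = j
    · subst hij; simp
    · rw [if_neg hij, if_neg (Ne.symm hij)]
  have htr := trace_eq_sum_of_orthonormal u hon
  have hpow : ∀ (k : ℕ) i, (C ^ k).mulVec (u i) = lam i ^ k • u i := by
    intro k
    induction k with
    | zero => intro i; simp
    | succ k ih =>
      intro i
      rw [pow_succ, ← Matrix.mulVec_mulVec, hev, Matrix.mulVec_smul, ih, smul_smul, pow_succ,
        mul_comm]
  refine ⟨lam, u, hev, hon, htr, fun k => ?_⟩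
  rw [htr]
  refine Finset.sum_congr rfl fun i _ => ?_
  rw [hpow, dotProduct_smul, hon, if_pos rfl, smul_eq_mul, mul_one]

end Cfsg.Agent.Helper91.FH
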