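import Mathlib
import Cfsg.Prelude.Def_LocalEven
import Cfsg.Agent.S5299
import Cfsg.Agent.S5344

set_option autoImplicit false

namespace Cfsg.Agent.Helper91

open Equiv

/-- Recognition of `S₄` as `V₄ ⋊ S₃`, abstract form: a group generated by `X, Y, U` with
`X² = Y³ = U² = (UY)³ = 1`, `X Y X⁻¹ = Y⁻¹`, `X U X⁻¹ = U`, `U ≠ 1` is isomorphic to `S₄`. -/
theorem s4_of_relations {Q : Type*} [Group Q] (X Y U : Q)
    (hX : X * X = 1) (hY : Y * Y * Y = 1) (hU : U * U = 1)
    (hXY : X * Y * X⁻¹ = Y⁻¹) (hXU : X * U * X⁻¹ = U) (hUY : (U * Y) ^ 3 = 1) (hU1 : U ≠ 1)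
    (hgen : Subgroup.closure ({X, Y, U} : Set Q) = ⊤) :
    Nonempty (Perm (Fin 4) ≃* Q) := by
  have hXi : X⁻¹ = X := inv_eq_of_mul_eq_one_left hX
  have hUi : U⁻¹ = U := inv_eq_of_mul_eq_one_left hU
  have hYi : Y⁻¹ = Y * Y := by
    apply inv_eq_of_mul_eq_one_left
    exact hY
  have hXU' : X * U = U * X := by
    have := congrArg (fun t => t * X) hXU
    simpa using this
  have h1 : X * Y * X = Y * Y := by
    rw [← hYi, ← hXY, hXi]
  -- the Coxeter generators
  obtain ⟨b, hb⟩ : ∃ b : Q, b = Y * X * Y⁻¹ := ⟨_, rfl⟩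
  obtain ⟨c, hc⟩ : ∃ c : Q, c = X * U := ⟨_, rfl⟩
  have hbb : b * b = 1 := by
    rw [hb]
    have : Y * X * Y⁻¹ * (Y * X * Y⁻¹) = Y * (X * X) * Y⁻¹ := by group
    rw [this, hX]; group
  have hcc : c * c = 1 := by
    rw [hc]
    calc X * U * (X * U) = X * (U * X) * U := by group
      _ = X * (X * U) * U := by rw [hXU']
      _ = (X * X) * (U * U) := by group
      _ = 1 := by rw [hX, hU, one_mul]
  have hac : X * c = U := by
    rw [hc, ← mul_assoc, hX, one_mul]
  have hca : c * X = X * c := by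
    rw [hac, hc, mul_assoc, ← hXU', ← mul_assoc, hX, one_mul]
  have hab : X * b = Y := by
    rw [hb]
    calc X * (Y * X * Y⁻¹) = (X * Y * X) * Y⁻¹ := by group
      _ = Y * Y * Y⁻¹ := by rw [h1]
      _ = Y := by group
  have hab3 : (X * b) ^ 3 = 1 := by
    rw [hab, pow_succ, pow_two]; exact hY
  have h2 : X * Y⁻¹ * X = Y := by
    have : X * Y⁻¹ * X = (X * Y * X)⁻¹ := by
      rw [mul_inv_rev, mul_inv_rev, hXi, mul_assoc]
    rw [this, h1, mul_inv_rev, hYi]
    calc Y * Y * (Y * Y) = (Y * Y * Y) * Y := by group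
      _ = Y := by rw [hY, one_mul]
  have hbc : b * c = Y⁻¹ * U := by
    rw [hb, hc]
    calc Y * X * Y⁻¹ * (X * U) = Y * (X * Y⁻¹ * X) * U := by group
      _ = Y * Y * U := by rw [h2]
      _ = Y⁻¹ * U := by rw [hYi]
  have hbc3 : (b * c) ^ 3 = 1 := by
    rw [hbc]
    have : (Y⁻¹ * U) = (U * Y)⁻¹ := by rw [mul_inv_rev, hUi]
    rw [this, inv_pow, hUY, inv_one]
  have hbab := Cfsg.Agent.S5344.braid_of_cube hX hbb hab3
  have hcbc := Cfsg.Agent.S5344.braid_of_cube hbb hcc hbc3
  obtain ⟨φ, hφ⟩ : ∃ φ : Perm (Fin 4) →* Q,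
      φ = Cfsg.Agent.S5344.coxeterHom X b c hX hbb hcc hca hbab hcbc := ⟨_, rfl⟩
  have e0 : (swap 0 1 : Perm (Fin 4)) = Cfsg.Agent.S5344.evalS [0] := by decide
  have e1 : (swap 1 2 : Perm (Fin 4)) = Cfsg.Agent.S5344.evalS [1] := by decide
  have e2 : (swap 2 3 : Perm (Fin 4)) = Cfsg.Agent.S5344.evalS [2] := by decide
  have h0 : φ (swap 0 1) = X := by
    rw [e0, hφ, Cfsg.Agent.S5344.coxeterHom_evalS]; simp [Cfsg.Agent.S5344.evalG, Cfsg.Agent.S5344.pick]
  have h1' : φ (swap 1 2) = b := by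
    rw [e1, hφ, Cfsg.Agent.S5344.coxeterHom_evalS]; simp [Cfsg.Agent.S5344.evalG, Cfsg.Agent.S5344.pick]
  have h2' : φ (swap 2 3) = c := by
    rw [e2, hφ, Cfsg.Agent.S5344.coxeterHom_evalS]; simp [Cfsg.Agent.S5344.evalG, Cfsg.Agent.S5344.pick]
  have hinj : Function.Injective φ := by
    rw [injective_iff_map_eq_one]
    intro σ hσ
    by_contra hne
    have hkey : φ (swap 0 1 * swap 2 3) = 1 := by
      obtain ⟨τ, ρ, h | h⟩ := Cfsg.Agent.S5344.exists_conj_mul σ hne
      · rw [← h]; simp [hσ]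
      · rw [← h]; simp [hσ]
    rw [map_mul, h0, h2', hac] at hkey
    exact hU1 hkey
  have hsurj : Function.Surjective φ := by
    rw [← MonoidHom.range_eq_top, eq_top_iff, ← hgen, Subgroup.closure_le]
    intro z hz
    rcases hz with rfl | rfl | rfl
    · exact ⟨swap 0 1, h0⟩
    · exact ⟨swap 0 1 * swap 1 2, by rw [map_mul, h0, h1', hab]⟩
    · exact ⟨swap 0 1 * swap 2 3, by rw [map_mul, h0, h2', hac]⟩
  exact ⟨MulEquiv.ofBijective φ ⟨hinj, hsurj⟩⟩

end Cfsg.Agent.Helper91

namespace Cfsg.Agent.Helper91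

open Equiv

/-- Concrete form: a group generated by `x, y, u` with `u² = 1 ≠ u`, `x u x⁻¹ = u`, `x y x⁻¹ = y⁻¹`,
`y³` commuting with `u` and `(u y)³ = y³` maps onto `S₄` (with kernel `⟨x², y³⟩`). -/
theorem exists_surj_s4_of_gens {Γ : Type*} [Group Γ] (x y u : Γ)
    (hu2 : u * u = 1) (hu1 : u ≠ 1) (hxu : x * u * x⁻¹ = u) (hxy : x * y * x⁻¹ = y⁻¹)
    (hy3 : (y * y * y) * u = u * (y * y * y)) (hτ : (u * y) ^ 3 = y * y * y)
    (hgen : Subgroup.closure ({x, y, u} : Set Γ) = ⊤) :
    ∃ π : Γ →* Perm (Fin 4), Function.Surjective π := by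
  set s : Set Γ := {x * x, y * y * y, (y * y * y)⁻¹} with hs
  set R : Subgroup Γ := Subgroup.closure s with hR
  -- commutation facts
  have hxu' : x * u = u * x := by
    have := congrArg (fun t => t * x) hxu
    simpa using this
  have hxy' : x * y = y⁻¹ * x := by
    have := congrArg (fun t => t * x) hxy
    simpa using this
  have hxxy : (x * x) * y = y * (x * x) := by
    calc x * x * y = x * (x * y) := by group
      _ = x * (y⁻¹ * x) := by rw [hxy']
      _ = (x * y⁻¹ * x⁻¹) * (x * x) := by group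
      _ = (x * y * x⁻¹)⁻¹ * (x * x) := by group
      _ = y * (x * x) := by rw [hxy, inv_inv]
  have hxy3 : x * (y * y * y) * x⁻¹ = (y * y * y)⁻¹ := by
    calc x * (y * y * y) * x⁻¹ = (x * y * x⁻¹) * (x * y * x⁻¹) * (x * y * x⁻¹) := by group
      _ = y⁻¹ * y⁻¹ * y⁻¹ := by rw [hxy]
      _ = (y * y * y)⁻¹ := by group
  -- every element of `s` commutes with `y` and `u`
  have hsy : ∀ t ∈ s, y * t = t * y := by
    intro t ht
    rcases ht with rfl | rfl | rfl
    · exact hxxy.symm
    · group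
    · group
  have hsu : ∀ t ∈ s, u * t = t * u := by
    intro t ht
    rcases ht with rfl | rfl | rfl
    · calc u * (x * x) = (u * x) * x := by group
        _ = (x * u) * x := by rw [hxu']
        _ = x * (u * x) := by group
        _ = x * (x * u) := by rw [hxu']
        _ = x * x * u := by group
    · exact hy3.symm
    · have : u * (y * y * y)⁻¹ = (y * y * y)⁻¹ * ((y * y * y) * u) * (y * y * y)⁻¹ := by group
      rw [this, hy3]; group
  have hnorm_of_comm : ∀ g : Γ, (∀ t ∈ s, g * t = t * g) → g ∈ Subgroup.normalizer s := by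
    intro g hg
    rw [Subgroup.mem_set_normalizer_iff]
    intro t
    constructor
    · intro ht
      have : g * t * g⁻¹ = t := by rw [hg t ht]; group
      rw [this]; exact ht
    · intro ht
      have h1 := hg _ ht
      have : t = g * t * g⁻¹ := by
        have h2 : g * (g * t * g⁻¹) = g * t := by rw [h1]; group
        exact (mul_left_cancel h2).symm
      rw [this]; exact ht
  have hxn : x ∈ Subgroup.normalizer s := by
    rw [Subgroup.mem_set_normalizer_iff]
    intro t
    have hA : x * (x * x) * x⁻¹ = x * x := by group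
    have hC : x * (y * y * y)⁻¹ * x⁻¹ = y * y * y := by
      have : x * (y * y * y)⁻¹ * x⁻¹ = (x * (y * y * y) * x⁻¹)⁻¹ := by group
      rw [this, hxy3, inv_inv]
    constructor
    · intro ht
      rcases ht with rfl | rfl | rfl
      · rw [hA]; exact Or.inl rfl
      · rw [hxy3]; exact Or.inr (Or.inr rfl)
      · rw [hC]; exact Or.inr (Or.inl rfl)
    · intro ht
      have key : ∀ w : Γ, x * t * x⁻¹ = x * w * x⁻¹ → t = w := by
        intro w hw
        have := congrArg (fun z => x⁻¹ * z * x) hw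
        simpa [mul_assoc] using this
      rcases ht with h | h | h
      · exact Or.inl (key _ (h.trans hA.symm))
      · exact Or.inr (Or.inr (key _ (h.trans hC.symm)))
      · exact Or.inr (Or.inl (key _ (h.trans hxy3.symm)))
  have hRn : R.Normal := by
    rw [← Subgroup.normalizer_eq_top_iff, eq_top_iff, ← hgen, Subgroup.closure_le]
    intro g hg
    apply Subgroup.normalizer_le_normalizer_closure s
    rcases hg with rfl | rfl | rfl
    · exact hxn
    · exact hnorm_of_comm _ hsy
    · exact hnorm_of_comm _ hsu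
  -- `R` commutes with `y`
  have hRy : ∀ r ∈ R, y * r = r * y := by
    intro r hr
    have : R ≤ Subgroup.centralizer {y} := by
      rw [hR, Subgroup.closure_le]
      intro t ht
      rw [SetLike.mem_coe, Subgroup.mem_centralizer_iff]
      intro z hz
      rw [Set.mem_singleton_iff] at hz
      rw [hz]; exact hsy t ht
    have h := this hr
    rw [Subgroup.mem_centralizer_iff] at h
    exact h y rfl
  have huR : u ∉ R := by
    intro hu
    have hyu := hRy u hu
    apply hu1
    have h3 : (u * y) ^ 3 = u * (y * y * y) := by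
      calc (u * y) ^ 3 = u * (y * u) * (y * u) * y := by rw [pow_succ, pow_two]; group
        _ = u * (u * y) * (u * y) * y := by rw [hyu]
        _ = (u * u) * (y * u) * y * y := by group
        _ = (u * u) * (u * y) * y * y := by rw [hyu]
        _ = (u * u) * u * (y * y * y) := by group
        _ = u * (y * y * y) := by rw [hu2, one_mul]
    rw [hτ] at h3
    have h4 : u * (y * y * y) = 1 * (y * y * y) := by rw [one_mul]; exact h3.symm
    exact mul_right_cancel h4
  -- the quotient
  have hxxR : x * x ∈ R := Subgroup.subset_closure (Or.inl rfl)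
  have hyyyR : y * y * y ∈ R := Subgroup.subset_closure (Or.inr (Or.inl rfl))
  obtain ⟨e⟩ := s4_of_relations (Q := Γ ⧸ R) (QuotientGroup.mk' R x) (QuotientGroup.mk' R y)
    (QuotientGroup.mk' R u)
    (by rw [← map_mul]; exact (QuotientGroup.eq_one_iff _).2 hxxR)
    (by rw [← map_mul, ← map_mul]; exact (QuotientGroup.eq_one_iff _).2 hyyyR)
    (by rw [← map_mul, hu2, map_one])
    (by rw [← map_inv, ← map_mul, ← map_mul, hxy, map_inv])
    (by rw [← map_inv, ← map_mul, ← map_mul, hxu])
    (by rw [← map_mul, ← map_pow, hτ]; exact (QuotientGroup.eq_one_iff _).2 hyyyR)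
    (by
      intro h
      exact huR ((QuotientGroup.eq_one_iff _).1 h))
    (by
      have h1 : (Subgroup.closure ({x, y, u} : Set Γ)).map (QuotientGroup.mk' R) = ⊤ := by
        rw [hgen]
        exact Subgroup.map_top_of_surjective _ (QuotientGroup.mk'_surjective R)
      rw [MonoidHom.map_closure, Set.image_insert_eq, Set.image_insert_eq, Set.image_singleton] at h1
      exact h1)
  exact ⟨e.symm.toMonoidHom.comp (QuotientGroup.mk' R),
    e.symm.surjective.comp (QuotientGroup.mk'_surjective R)⟩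

/-- The final configuration: elements `u, x, y` of any group with these relations give an `S₄`-section. -/
theorem involves_s4_of_config {G : Type*} [Group G] (x y u : G)
    (hu2 : u * u = 1) (hu1 : u ≠ 1) (hxu : x * u * x⁻¹ = u) (hxy : x * y * x⁻¹ = y⁻¹)
    (hy3 : (y * y * y) * u = u * (y * y * y)) (hτ : (u * y) ^ 3 = y * y * y) :
    Cfsg.Involves (Perm (Fin 4)) G := by
  set K : Subgroup G := Subgroup.closure ({x, y, u} : Set G) with hK
  have hxK : x ∈ K := Subgroup.subset_closure (Or.inl rfl)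
  have hyK : y ∈ K := Subgroup.subset_closure (Or.inr (Or.inl rfl))
  have huK : u ∈ K := Subgroup.subset_closure (Or.inr (Or.inr rfl))
  have hgen : Subgroup.closure ({⟨x, hxK⟩, ⟨y, hyK⟩, ⟨u, huK⟩} : Set ↥K) = ⊤ := by
    have h1 := Subgroup.closure_closure_coe_preimage (k := ({x, y, u} : Set G))
    rw [eq_top_iff, ← h1]
    apply Subgroup.closure_mono
    intro k hk
    have hk' : (k : G) ∈ ({x, y, u} : Set G) := hk
    rcases hk' with h | h | h
    · exact Or.inl (Subtype.ext h)
    · exact Or.inr (Or.inl (Subtype.ext h))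
    · exact Or.inr (Or.inr (Subtype.ext h))
  obtain ⟨π, hπ⟩ := exists_surj_s4_of_gens (Γ := ↥K) ⟨x, hxK⟩ ⟨y, hyK⟩ ⟨u, huK⟩
    (Subtype.ext hu2) (fun h => hu1 (congrArg Subtype.val h)) (Subtype.ext hxu) (Subtype.ext hxy)
    (Subtype.ext hy3) (Subtype.ext hτ) hgen
  exact Cfsg.Agent.S5299.involves_of_inj_surj K.subtype (Subgroup.subtype_injective K) π hπ

end Cfsg.Agent.Helper91
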