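import Mathlib
import Cfsg.Prelude.Def_LocalEven
import Cfsg.Agent.S5299
import Cfsg.Agent.Helper37.InvolvesQuotient
import Cfsg.Agent.Helper22.Coprime
import Cfsg.Agent.Helper91.S4Final

set_option autoImplicit false

namespace Cfsg.Agent.Helper91

open Equiv

universe u

/-- A group involved in a subgroup is involved in the whole group. -/
theorem involves_of_subgroup {G : Type*} [Group G] {L : Type*} [Group L] (H : Subgroup G)
    (h : Cfsg.Involves L ↥H) : Cfsg.Involves L G := by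
  obtain ⟨K, R, hn, ⟨e⟩⟩ := h
  exact Cfsg.Agent.S5299.involves_of_inj_surj (H.subtype.comp K.subtype)
    ((Subgroup.subtype_injective H).comp (Subgroup.subtype_injective K))
    (e.toMonoidHom.comp (QuotientGroup.mk' (R.subgroupOf K)))
    (e.surjective.comp (QuotientGroup.mk'_surjective _))

/-- The configuration: a `2`-subgroup `T` normalized by `x` (a `2`-element) and `y`, with `y³` centralizing
`T`, `y` not centralizing `T`, and `x` inverting `y`. -/
def InvConfig {G : Type*} [Group G] (T : Subgroup G) (x y : G) : Prop :=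
  IsPGroup 2 ↥T ∧ x ∈ Subgroup.normalizer (T : Set G) ∧ y ∈ Subgroup.normalizer (T : Set G) ∧
    (∃ a : ℕ, x ^ (2 ^ a) = 1) ∧ y * y * y ∈ Subgroup.centralizer (T : Set G) ∧
    x * y * x⁻¹ = y⁻¹ ∧ y ∉ Subgroup.centralizer (T : Set G)

/-- Passing the configuration to the section `N_G(M)/M`. -/
theorem invConfig_quotient {G : Type u} [Group G] [Finite G]
    (IH : ∀ (G' : Type u) [Group G'] [Finite G'], Nat.card G' < Nat.card G →
      ∀ (T : Subgroup G') (x y : G'), InvConfig T x y → Cfsg.Involves (Perm (Fin 4)) G')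
    (T M : Subgroup G) (x y : G) (hc : InvConfig T x y) (hM1 : M ≠ ⊥)
    (hxM : x ∈ Subgroup.normalizer (M : Set G)) (hyM : y ∈ Subgroup.normalizer (M : Set G))
    (hTM : T ≤ Subgroup.normalizer (M : Set G)) (t : G) (ht : t ∈ T)
    (htM : y * t * y⁻¹ * t⁻¹ ∉ M) : Cfsg.Involves (Perm (Fin 4)) G := by
  obtain ⟨hT2, hxT, hyT, ⟨a, hxa⟩, hy3, hxy, hyC⟩ := hc
  set N : Subgroup G := Subgroup.normalizer (M : Set G) with hN
  set M' : Subgroup ↥N := M.subgroupOf N with hM'
  haveI : M'.Normal := Subgroup.normal_in_normalizer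
  set f : ↥N →* ↥N ⧸ M' := QuotientGroup.mk' M' with hf
  set x' : ↥N := ⟨x, hxM⟩ with hx'
  set y' : ↥N := ⟨y, hyM⟩ with hy'
  set T' : Subgroup ↥N := T.subgroupOf N with hT'
  have hcard : Nat.card (↥N ⧸ M') < Nat.card G := by
    have h1 : Nat.card ↥N = Nat.card (↥N ⧸ M') * Nat.card ↥M' :=
      Subgroup.card_eq_card_quotient_mul_card_subgroup M'
    have h2 : Nat.card ↥M' = Nat.card ↥M :=
      Nat.card_congr (Subgroup.subgroupOfEquivOfLe (Subgroup.le_normalizer)).toEquiv
    have h3 : 1 < Nat.card ↥M := by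
      rw [Subgroup.one_lt_card_iff_ne_bot]; exact hM1
    have h4 : Nat.card ↥N ≤ Nat.card G := Subgroup.card_le_card_group N
    have h5 : 0 < Nat.card (↥N ⧸ M') := Nat.card_pos
    rw [h2] at h1
    nlinarith
  have key : Cfsg.Involves (Perm (Fin 4)) (↥N ⧸ M') := by
    apply IH (↥N ⧸ M') hcard (T'.map f) (f x') (f y')
    refine ⟨(hT2.comap_subtype).map f, ?_, ?_, ⟨a, ?_⟩, ?_, ?_, ?_⟩
    · apply Subgroup.le_normalizer_map f
      refine ⟨x', ?_, rfl⟩
      exact Subgroup.le_normalizer_comap N.subtype hxT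
    · apply Subgroup.le_normalizer_map f
      refine ⟨y', ?_, rfl⟩
      exact Subgroup.le_normalizer_comap N.subtype hyT
    · rw [← map_pow]
      have : x' ^ (2 ^ a) = 1 := Subtype.ext hxa
      rw [this, map_one]
    · rw [Subgroup.mem_centralizer_iff]
      rintro _ ⟨t', ht', rfl⟩
      have h1 := (Subgroup.mem_centralizer_iff.1 hy3) (t' : G) ht'
      have h2 : t' * (y' * y' * y') = (y' * y' * y') * t' := Subtype.ext h1
      rw [← map_mul, ← map_mul, ← map_mul, ← map_mul, h2]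
    · rw [← map_inv, ← map_mul, ← map_mul, ← map_inv]
      congr 1
      exact Subtype.ext hxy
    · intro hcen
      apply htM
      have ht' : (⟨t, hTM ht⟩ : ↥N) ∈ T' := ht
      have h1 := (Subgroup.mem_centralizer_iff.1 hcen) (f ⟨t, hTM ht⟩) ⟨_, ht', rfl⟩
      have h2 : f (y' * ⟨t, hTM ht⟩ * y'⁻¹ * (⟨t, hTM ht⟩ : ↥N)⁻¹) = 1 := by
        rw [map_mul, map_mul, map_mul, map_inv, map_inv, ← h1]
        group
      have h3 : y' * ⟨t, hTM ht⟩ * y'⁻¹ * (⟨t, hTM ht⟩ : ↥N)⁻¹ ∈ M' :=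
        (QuotientGroup.eq_one_iff _).1 h2
      exact h3
  exact involves_of_subgroup N (Cfsg.Agent.Helper37.involves_of_involves_quotient M' key)

end Cfsg.Agent.Helper91

namespace Cfsg.Agent.Helper91

open Equiv

universe u

/-- In a finite group, `g` normalizes `H` as soon as it conjugates `H` into itself. -/
theorem mem_normalizer_of_forall_conj_mem {G : Type*} [Group G] [Finite G] {H : Subgroup G} {g : G}
    (h1 : ∀ k ∈ H, g * k * g⁻¹ ∈ H) : g ∈ Subgroup.normalizer (H : Set G) := by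
  have hpow : ∀ m : ℕ, ∀ k ∈ H, g ^ m * k * (g ^ m)⁻¹ ∈ H := by
    intro m
    induction m with
    | zero => intro k hk; simpa using hk
    | succ m ih =>
      intro k hk
      have : g ^ (m + 1) * k * (g ^ (m + 1))⁻¹ = g * (g ^ m * k * (g ^ m)⁻¹) * g⁻¹ := by
        rw [pow_succ']; group
      rw [this]
      exact h1 _ (ih k hk)
  have hginv : g⁻¹ = g ^ (orderOf g - 1) := by
    have hpos := orderOf_pos g
    have : g * g ^ (orderOf g - 1) = 1 := by
      rw [← pow_succ', Nat.sub_add_cancel hpos, pow_orderOf_eq_one]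
    exact inv_eq_of_mul_eq_one_right this
  rw [Subgroup.mem_normalizer_iff]
  intro n
  constructor
  · exact h1 n
  · intro hn
    have := hpow (orderOf g - 1) _ hn
    rw [← hginv] at this
    have e : g⁻¹ * (g * n * g⁻¹) * g⁻¹⁻¹ = n := by group
    rw [e] at this
    exact this

/-- Reduction step: a proper nontrivial invariant subgroup `M` of a minimal `T` finishes the proof. -/
theorem invConfig_reduce {G : Type u} [Group G] [Finite G]
    (IH : ∀ (G' : Type u) [Group G'] [Finite G'], Nat.card G' < Nat.card G →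
      ∀ (T : Subgroup G') (x y : G'), InvConfig T x y → Cfsg.Involves (Perm (Fin 4)) G')
    (T M : Subgroup G) (x y : G) (hc : InvConfig T x y)
    (hmin : ∀ T' : Subgroup G, T' ≤ T → T' ≠ T → x ∈ Subgroup.normalizer (T' : Set G) →
      y ∈ Subgroup.normalizer (T' : Set G) → y ∈ Subgroup.centralizer (T' : Set G))
    (hMT : M ≤ T) (hM1 : M ≠ ⊥) (hMT' : M ≠ T)
    (hxM : x ∈ Subgroup.normalizer (M : Set G)) (hyM : y ∈ Subgroup.normalizer (M : Set G))
    (hTM : T ≤ Subgroup.normalizer (M : Set G)) : Cfsg.Involves (Perm (Fin 4)) G := by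
  by_cases h : ∃ t ∈ T, y * t * y⁻¹ * t⁻¹ ∉ M
  · obtain ⟨t, ht, htM⟩ := h
    exact invConfig_quotient IH T M x y hc hM1 hxM hyM hTM t ht htM
  · exfalso
    push Not at h
    obtain ⟨hT2, hxT, hyT, ⟨a, hxa⟩, hy3, hxy, hyC⟩ := hc
    have hyCM := hmin M hMT hMT' hxM hyM
    apply hyC
    rw [Subgroup.mem_centralizer_iff]
    intro t ht
    obtain ⟨s, hs⟩ : ∃ s : G, s = y * t * y⁻¹ * t⁻¹ := ⟨_, rfl⟩
    have hsM : s ∈ M := by rw [hs]; exact h t ht
    have hsy : s * y = y * s := (Subgroup.mem_centralizer_iff.1 hyCM) s hsM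
    have hyt : y * t = s * t * y := by rw [hs]; group
    have h3 : (y * y * y) * t = s * s * s * t * (y * y * y) := by
      calc y * y * y * t = y * y * (y * t) := by group
        _ = y * y * (s * t * y) := by rw [hyt]
        _ = y * (y * s) * t * y := by group
        _ = y * (s * y) * t * y := by rw [hsy]
        _ = (y * s) * (y * t) * y := by group
        _ = (s * y) * (s * t * y) * y := by rw [hsy, hyt]
        _ = s * (y * s) * t * y * y := by group
        _ = s * (s * y) * t * y * y := by rw [hsy]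
        _ = s * s * (y * t) * y * y := by group
        _ = s * s * (s * t * y) * y * y := by rw [hyt]
        _ = s * s * s * t * (y * y * y) := by group
    have h4 : t * (y * y * y) = (y * y * y) * t := (Subgroup.mem_centralizer_iff.1 hy3) t ht
    have hs3 : s ^ 3 = 1 := by
      have : s * s * s * t * (y * y * y) = 1 * t * (y * y * y) := by
        rw [← h3, ← h4, one_mul]
      have h5 := mul_right_cancel (mul_right_cancel this)
      rw [pow_succ, pow_two]; exact h5
    obtain ⟨k, hk⟩ := hT2 ⟨s, hMT hsM⟩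
    have hk' : s ^ (2 ^ k) = 1 := congrArg Subtype.val hk
    have hs1 : s = 1 := by
      have d1 : orderOf s ∣ 3 := orderOf_dvd_of_pow_eq_one hs3
      have d2 : orderOf s ∣ 2 ^ k := orderOf_dvd_of_pow_eq_one hk'
      have hcop : Nat.Coprime 3 (2 ^ k) := Nat.Coprime.pow_right k (by norm_num)
      have := Nat.dvd_gcd d1 d2
      rw [hcop.gcd_eq_one, Nat.dvd_one] at this
      exact orderOf_eq_one_iff.1 this
    rw [hs1] at hyt
    rw [hyt, one_mul]

end Cfsg.Agent.Helper91

namespace Cfsg.Agent.Helper91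

open Equiv

universe u

/-- Main induction: the configuration forces an `S₄`-section. -/
theorem involves_s4_of_invConfig_aux : ∀ (n : ℕ) (G : Type u) [Group G] [Finite G], Nat.card G = n →
    ∀ (T : Subgroup G) (x y : G), InvConfig T x y → Cfsg.Involves (Perm (Fin 4)) G := by
  intro n
  induction n using Nat.strong_induction_on with
  | _ n ih =>
  intro G _ _ hn T₁ x y hc₁
  have IH : ∀ (G' : Type u) [Group G'] [Finite G'], Nat.card G' < Nat.card G →
      ∀ (T : Subgroup G') (x y : G'), InvConfig T x y → Cfsg.Involves (Perm (Fin 4)) G' := by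
    intro G' _ _ hlt T' x' y' hc'
    exact ih (Nat.card G') (hn ▸ hlt) G' rfl T' x' y' hc'
  -- choose `T` of minimal order
  obtain ⟨T, hc, hminc⟩ := Set.exists_min_image {T' : Subgroup G | InvConfig T' x y}
    (fun T' => Nat.card ↥T') (Set.toFinite _) ⟨T₁, hc₁⟩
  have hc' := hc
  obtain ⟨hT2, hxT, hyT, ⟨a, hxa⟩, hy3, hxy, hyC⟩ := hc'
  have hmin : ∀ T' : Subgroup G, T' ≤ T → T' ≠ T → x ∈ Subgroup.normalizer (T' : Set G) →
      y ∈ Subgroup.normalizer (T' : Set G) → y ∈ Subgroup.centralizer (T' : Set G) := by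
    intro T' hle hne hx' hy'
    by_contra hyC'
    have hcT' : InvConfig T' x y :=
      ⟨hT2.to_le hle, hx', hy', ⟨a, hxa⟩, Subgroup.centralizer_le hle hy3, hxy, hyC'⟩
    exact hne (Subgroup.eq_of_le_of_card_ge hle (hminc T' hcT'))
  have hT1 : T ≠ ⊥ := by
    rintro rfl
    apply hyC
    rw [Subgroup.mem_centralizer_iff]
    intro t ht
    rw [SetLike.mem_coe, Subgroup.mem_bot] at ht
    rw [ht, one_mul, mul_one]
  -- Step A: `T` is abelian
  set Z : Subgroup G := T ⊓ Subgroup.centralizer (T : Set G) with hZ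
  have hZ1 : Z ≠ ⊥ := by
    haveI : Nontrivial ↥T := (Subgroup.nontrivial_iff_ne_bot T).2 hT1
    have hlt := hT2.bot_lt_center
    obtain ⟨c, hcmem, hcne⟩ := SetLike.exists_of_lt hlt
    intro hbot
    apply hcne
    have hcZ : (c : G) ∈ Z := by
      refine Subgroup.mem_inf.2 ⟨c.2, ?_⟩
      rw [Subgroup.mem_centralizer_iff]
      intro t ht
      have := (Subgroup.mem_center_iff.1 hcmem) ⟨t, ht⟩
      exact congrArg Subtype.val this
    rw [hbot, Subgroup.mem_bot] at hcZ
    rw [Subgroup.mem_bot]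
    exact Subtype.ext hcZ
  have hNZ : Subgroup.normalizer (T : Set G) ≤ Subgroup.normalizer (Z : Set G) := by
    rw [Subgroup.le_normalizer_iff]
    intro h hh k hk
    have hh' : h⁻¹ ∈ Subgroup.normalizer (T : Set G) := inv_mem hh
    have hk1 : k ∈ T := (Subgroup.mem_inf.1 hk).1
    have hk2 : k ∈ Subgroup.centralizer (T : Set G) := (Subgroup.mem_inf.1 hk).2
    refine Subgroup.mem_inf.2 ⟨(Subgroup.mem_normalizer_iff.1 hh k).1 hk1, ?_⟩
    rw [Subgroup.mem_centralizer_iff]
    intro t ht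
    have ht0 : h⁻¹ * t * h⁻¹⁻¹ ∈ T := (Subgroup.mem_normalizer_iff.1 hh' t).1 ht
    have h1 := (Subgroup.mem_centralizer_iff.1 hk2) _ ht0
    calc t * (h * k * h⁻¹) = h * ((h⁻¹ * t * h⁻¹⁻¹) * k) * h⁻¹ := by group
      _ = h * (k * (h⁻¹ * t * h⁻¹⁻¹)) * h⁻¹ := by rw [h1]
      _ = h * k * h⁻¹ * t := by group
  by_cases hZT : Z = T
  swap
  · exact invConfig_reduce IH T Z x y hc hmin inf_le_left hZ1 hZT (hNZ hxT) (hNZ hyT)
      (Subgroup.le_normalizer.trans hNZ)
  have hTcomm : ∀ a ∈ T, ∀ b ∈ T, a * b = b * a := by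
    intro a ha b hb
    have hbZ : b ∈ Z := by rw [hZT]; exact hb
    exact (Subgroup.mem_centralizer_iff.1 (Subgroup.mem_inf.1 hbZ).2) a ha
  -- Step B: `T` has exponent 2
  set Ω : Subgroup G :=
    { carrier := {t | t ∈ T ∧ t * t = 1}
      mul_mem' := by
        rintro a b ⟨ha, ha2⟩ ⟨hb, hb2⟩
        refine ⟨mul_mem ha hb, ?_⟩
        calc a * b * (a * b) = a * (b * a) * b := by group
          _ = a * (a * b) * b := by rw [hTcomm b hb a ha]
          _ = (a * a) * (b * b) := by group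
          _ = 1 := by rw [ha2, hb2, one_mul]
      one_mem' := ⟨one_mem T, by rw [one_mul]⟩
      inv_mem' := by
        rintro a ⟨ha, ha2⟩
        refine ⟨inv_mem ha, ?_⟩
        rw [← mul_inv_rev, ha2, inv_one] } with hΩ
  have hΩT : Ω ≤ T := fun t ht => ht.1
  have hΩ1 : Ω ≠ ⊥ := by
    haveI : Fact (Nat.Prime 2) := ⟨Nat.prime_two⟩
    have hdvd : 2 ∣ Nat.card ↥T := by
      rcases hT2.card_eq_or_dvd with h | h
      · exact absurd (Subgroup.card_eq_one.1 h) hT1
      · exact h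
    obtain ⟨g, hg⟩ := exists_prime_orderOf_dvd_card' 2 hdvd
    intro hbot
    have hgΩ : (g : G) ∈ Ω := by
      refine ⟨g.2, ?_⟩
      have : g ^ 2 = 1 := by rw [← hg, pow_orderOf_eq_one]
      have := congrArg Subtype.val this
      simpa [pow_two] using this
    rw [hbot, Subgroup.mem_bot] at hgΩ
    have : g = 1 := Subtype.ext hgΩ
    rw [this, orderOf_one] at hg
    omega
  have hNΩ : Subgroup.normalizer (T : Set G) ≤ Subgroup.normalizer (Ω : Set G) := by
    rw [Subgroup.le_normalizer_iff]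
    intro h hh k hk
    refine ⟨(Subgroup.mem_normalizer_iff.1 hh k).1 hk.1, ?_⟩
    calc h * k * h⁻¹ * (h * k * h⁻¹) = h * (k * k) * h⁻¹ := by group
      _ = 1 := by rw [hk.2]; group
  by_cases hΩT' : Ω = T
  swap
  · exact invConfig_reduce IH T Ω x y hc hmin hΩT hΩ1 hΩT' (hNΩ hxT) (hNΩ hyT)
      (Subgroup.le_normalizer.trans hNΩ)
  have hTsq : ∀ t ∈ T, t * t = 1 := by
    intro t ht
    have : t ∈ Ω := by rw [hΩT']; exact ht
    exact this.2
  -- Step C: `C_T(y) = 1`
  set M : Subgroup G := T ⊓ Subgroup.centralizer ({y} : Set G) with hM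
  have hMmem : ∀ k : G, k ∈ M ↔ k ∈ T ∧ y * k = k * y := by
    intro k
    rw [hM, Subgroup.mem_inf, Subgroup.mem_centralizer_iff]
    constructor
    · rintro ⟨h1, h2⟩; exact ⟨h1, h2 y rfl⟩
    · rintro ⟨h1, h2⟩
      refine ⟨h1, ?_⟩
      intro z hz
      rw [Set.mem_singleton_iff] at hz
      rw [hz]; exact h2
  have hMT' : M ≠ T := by
    intro h
    apply hyC
    rw [Subgroup.mem_centralizer_iff]
    intro t ht
    have : t ∈ M := by rw [h]; exact ht
    exact ((hMmem t).1 this).2.symm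
  have hyM : y ∈ Subgroup.normalizer (M : Set G) := by
    apply mem_normalizer_of_forall_conj_mem
    intro k hk
    obtain ⟨hkT, hky⟩ := (hMmem k).1 hk
    rw [hMmem]
    refine ⟨(Subgroup.mem_normalizer_iff.1 hyT k).1 hkT, ?_⟩
    calc y * (y * k * y⁻¹) = y * (y * k) * y⁻¹ := by group
      _ = y * (k * y) * y⁻¹ := by rw [hky]
      _ = y * k * y⁻¹ * y := by group
  have hxM : x ∈ Subgroup.normalizer (M : Set G) := by
    apply mem_normalizer_of_forall_conj_mem
    intro k hk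
    obtain ⟨hkT, hky⟩ := (hMmem k).1 hk
    rw [hMmem]
    refine ⟨(Subgroup.mem_normalizer_iff.1 hxT k).1 hkT, ?_⟩
    -- `y = x * y⁻¹ * x⁻¹`
    have hy' : y = x * y⁻¹ * x⁻¹ := by
      have : x * y⁻¹ * x⁻¹ = (x * y * x⁻¹)⁻¹ := by group
      rw [this, hxy, inv_inv]
    have hky' : y⁻¹ * k = k * y⁻¹ := by
      have : y⁻¹ * k = y⁻¹ * (k * y) * y⁻¹ := by group
      rw [this, ← hky]; group
    calc y * (x * k * x⁻¹) = (x * y⁻¹ * x⁻¹) * (x * k * x⁻¹) := by rw [← hy']
      _ = x * (y⁻¹ * k) * x⁻¹ := by group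
      _ = x * (k * y⁻¹) * x⁻¹ := by rw [hky']
      _ = (x * k * x⁻¹) * (x * y⁻¹ * x⁻¹) := by group
      _ = (x * k * x⁻¹) * y := by rw [← hy']
  have hTM : T ≤ Subgroup.normalizer (M : Set G) := by
    intro t ht
    apply mem_normalizer_of_forall_conj_mem
    intro k hk
    have hkT : k ∈ T := ((hMmem k).1 hk).1
    have : t * k * t⁻¹ = k := by rw [hTcomm t ht k hkT]; group
    rw [this]; exact hk
  by_cases hM1 : M = ⊥
  swap
  · exact invConfig_reduce IH T M x y hc hmin inf_le_left hM1 hMT' hxM hyM hTM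
  -- conjugates of elements of `T`
  have hconjT : ∀ t ∈ T, y * t * y⁻¹ ∈ T := fun t ht => (Subgroup.mem_normalizer_iff.1 hyT t).1 ht
  have hτ : ∀ t ∈ T, t * (y * t * y⁻¹) * (y * (y * t * y⁻¹) * y⁻¹) = 1 := by
    intro t ht
    have h1 : y * t * y⁻¹ ∈ T := hconjT t ht
    have h2 : y * (y * t * y⁻¹) * y⁻¹ ∈ T := hconjT _ h1
    have h3 : y * (y * (y * t * y⁻¹) * y⁻¹) * y⁻¹ = t := by
      have h4 := (Subgroup.mem_centralizer_iff.1 hy3) t ht
      calc y * (y * (y * t * y⁻¹) * y⁻¹) * y⁻¹ = (y * y * y) * t * (y * y * y)⁻¹ := by group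
        _ = t * (y * y * y) * (y * y * y)⁻¹ := by rw [h4]
        _ = t := by group
    have hmem : t * (y * t * y⁻¹) * (y * (y * t * y⁻¹) * y⁻¹) ∈ M := by
      rw [hMmem]
      refine ⟨mul_mem (mul_mem ht h1) h2, ?_⟩
      calc y * (t * (y * t * y⁻¹) * (y * (y * t * y⁻¹) * y⁻¹))
          = (y * t * y⁻¹) * (y * (y * t * y⁻¹) * y⁻¹) * (y * (y * (y * t * y⁻¹) * y⁻¹) * y⁻¹) * y := by
            group
        _ = (y * t * y⁻¹) * (y * (y * t * y⁻¹) * y⁻¹) * t * y := by rw [h3]
        _ = ((y * t * y⁻¹) * (y * (y * t * y⁻¹) * y⁻¹)) * t * y := by group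
        _ = t * ((y * t * y⁻¹) * (y * (y * t * y⁻¹) * y⁻¹)) * y := by
            rw [hTcomm _ (mul_mem h1 h2) t ht]
        _ = t * (y * t * y⁻¹) * (y * (y * t * y⁻¹) * y⁻¹) * y := by group
    rw [hM1, Subgroup.mem_bot] at hmem
    exact hmem
  -- Step D: a nontrivial fixed point of `x` on `T`
  obtain ⟨u, huT, hu1, hxu⟩ : ∃ u ∈ T, u ≠ 1 ∧ x * u * x⁻¹ = u := by
    haveI : Fact (Nat.Prime 2) := ⟨Nat.prime_two⟩
    have hinv : ∀ z ∈ Subgroup.zpowers x, ∀ h ∈ T, (1 : G)⁻¹ * (z * (1 * h) * z⁻¹) ∈ T := by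
      intro z hz h hh
      obtain ⟨i, rfl⟩ := Subgroup.mem_zpowers_iff.mp hz
      have : (1 : G)⁻¹ * (x ^ i * (1 * h) * (x ^ i)⁻¹) = x ^ i * h * (x ^ i)⁻¹ := by group
      rw [this]
      exact (Subgroup.mem_normalizer_iff.1 (zpow_mem hxT i) h).1 hh
    letI : MulAction ↥(Subgroup.zpowers x) ↥T :=
      Cfsg.Agent.Helper22.cosetConjAction (Subgroup.zpowers x) T 1 hinv
    have hX2 : IsPGroup 2 ↥(Subgroup.zpowers x) := by
      have hdvd : orderOf x ∣ 2 ^ a := orderOf_dvd_of_pow_eq_one hxa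
      obtain ⟨j, -, hj⟩ := (Nat.dvd_prime_pow Nat.prime_two).1 hdvd
      exact IsPGroup.of_card (n := j) (by rw [Nat.card_zpowers, hj])
    have hdvd : 2 ∣ Nat.card ↥T := by
      rcases hT2.card_eq_or_dvd with h | h
      · exact absurd (Subgroup.card_eq_one.1 h) hT1
      · exact h
    have h1fix : (1 : ↥T) ∈ MulAction.fixedPoints ↥(Subgroup.zpowers x) ↥T := by
      intro z
      apply Subtype.ext
      show (1 : G)⁻¹ * ((z : G) * (1 * ((1 : ↥T) : G)) * (z : G)⁻¹) = ((1 : ↥T) : G)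
      simp
    obtain ⟨b, hb, hne⟩ := hX2.exists_fixed_point_of_prime_dvd_card_of_fixed_point (α := ↥T) hdvd h1fix
    refine ⟨(b : G), b.2, ?_, ?_⟩
    · intro h
      exact hne (Subtype.ext h.symm)
    · have := hb ⟨x, Subgroup.mem_zpowers x⟩
      have h2 : (1 : G)⁻¹ * (x * (1 * (b : G)) * x⁻¹) = b := congrArg Subtype.val this
      simpa using h2
  -- Step E: the final configuration
  apply involves_s4_of_config x y u (hTsq u huT) hu1 hxu hxy
  · exact ((Subgroup.mem_centralizer_iff.1 hy3) u huT).symm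
  · have h := hτ u huT
    calc (u * y) ^ 3 = (u * (y * u * y⁻¹) * (y * (y * u * y⁻¹) * y⁻¹)) * (y * y * y) := by
          rw [pow_succ, pow_two]; group
      _ = y * y * y := by rw [h, one_mul]

/-- The configuration forces an `S₄`-section. -/
theorem involves_s4_of_invConfig {G : Type u} [Group G] [Finite G] (T : Subgroup G) (x y : G)
    (hc : InvConfig T x y) : Cfsg.Involves (Perm (Fin 4)) G :=
  involves_s4_of_invConfig_aux (Nat.card G) G rfl T x y hc

end Cfsg.Agent.Helper91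

namespace Cfsg.Agent.Helper91

open Equiv

universe u

/-- A `2`-element `x` inverting a `3`-element `y`, both normalizing a `2`-subgroup `T` not centralized
by `y`, force an `S₄`-section. -/
theorem involves_s4_of_inverting {G : Type u} [Group G] [Finite G] (T : Subgroup G) (x y : G)
    (hT : IsPGroup 2 ↥T) (hxT : x ∈ Subgroup.normalizer (T : Set G))
    (hyT : y ∈ Subgroup.normalizer (T : Set G)) (hx : ∃ a : ℕ, x ^ (2 ^ a) = 1)
    (hy : ∃ b : ℕ, y ^ (3 ^ b) = 1) (hxy : x * y * x⁻¹ = y⁻¹)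
    (hyC : y ∉ Subgroup.centralizer (T : Set G)) : Cfsg.Involves (Perm (Fin 4)) G := by
  classical
  obtain ⟨b, hb⟩ := hy
  have hex : ∃ j : ℕ, y ^ (3 ^ j) ∈ Subgroup.centralizer (T : Set G) :=
    ⟨b, by rw [hb]; exact one_mem _⟩
  have hspec := Nat.find_spec hex
  have hminj : ∀ {m : ℕ}, m < Nat.find hex → ¬ y ^ (3 ^ m) ∈ Subgroup.centralizer (T : Set G) :=
    fun {m} hm => Nat.find_min hex hm
  rcases Nat.eq_zero_or_pos (Nat.find hex) with h0 | hpos
  · rw [h0, pow_zero, pow_one] at hspec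
    exact absurd hspec hyC
  obtain ⟨i, hi⟩ : ∃ i, Nat.find hex = i + 1 := ⟨Nat.find hex - 1, by omega⟩
  have hy'C : y ^ (3 ^ i) ∉ Subgroup.centralizer (T : Set G) := hminj (by omega)
  apply involves_s4_of_invConfig T x (y ^ (3 ^ i))
  refine ⟨hT, hxT, pow_mem hyT _, hx, ?_, ?_, hy'C⟩
  · rw [hi] at hspec
    have : y ^ (3 ^ i) * y ^ (3 ^ i) * y ^ (3 ^ i) = y ^ (3 ^ (i + 1)) := by
      rw [← pow_add, ← pow_add, pow_succ]; congr 1; ring
    rw [this]; exact hspec
  · rw [← conj_pow, hxy, inv_pow]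

end Cfsg.Agent.Helper91
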