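import Mathlib
import Cfsg.Agent.S5344

set_option autoImplicit false

namespace Cfsg.Agent.Helper91

open Equiv

/-- The natural surjection `S₄ → S₃` (with kernel the four-group), built from the Coxeter presentation. -/
def phi43 : Perm (Fin 4) →* Perm (Fin 3) :=
  Cfsg.Agent.S5344.coxeterHom (swap 0 1 : Perm (Fin 3)) (swap 1 2) (swap 0 1)
    (by decide) (by decide) (by decide) (by decide) (by decide) (by decide)

set_option maxRecDepth 1000000 in
theorem phi43_surjective : ∀ τ : Perm (Fin 3), ∃ σ : Perm (Fin 4), phi43 σ = τ := by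
  decide

set_option maxRecDepth 1000000 in
theorem phi43_ker_sq : ∀ σ : Perm (Fin 4), phi43 σ = 1 → σ * σ = 1 := by
  decide

set_option maxRecDepth 1000000 in
theorem phi43_ker_centralizer : ∀ σ : Perm (Fin 4),
    (∀ v : Perm (Fin 4), phi43 v = 1 → σ * v = v * σ) → phi43 σ = 1 := by
  decide

end Cfsg.Agent.Helper91
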