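import Mathlib
import Cfsg.Prelude.Def_LocalEven
import Cfsg.Agent.S5299
import Cfsg.Agent.Helper91.S4Facts

set_option autoImplicit false

namespace Cfsg.Agent.Helper91

open Equiv

/-- Frattini step: a finite group mapping onto `S₄` has a `2`-subgroup `T` whose normalizer still maps onto
`S₃ = S₄ / V₄`, while the centralizer of `T` maps into `V₄`. -/
theorem s4_fwd_core {Γ : Type*} [Group Γ] [Finite Γ] (π : Γ →* Perm (Fin 4))
    (hπ : Function.Surjective π) :
    ∃ T : Subgroup Γ, IsPGroup 2 T ∧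
      (∀ τ : Perm (Fin 3), ∃ n ∈ Subgroup.normalizer (T : Set Γ), phi43 (π n) = τ) ∧
      (∀ g ∈ Subgroup.centralizer (T : Set Γ), phi43 (π g) = 1) := by
  set W : Subgroup (Perm (Fin 4)) := phi43.ker with hW
  set V : Subgroup Γ := W.comap π with hV
  have hWn : W.Normal := by rw [hW]; infer_instance
  haveI : V.Normal := hWn.comap π
  obtain ⟨P⟩ : Nonempty (Sylow 2 ↥V) := inferInstance
  have hfrat := Sylow.normalizer_sup_eq_top P
  refine ⟨(P : Subgroup ↥V).map V.subtype, P.isPGroup'.map _, ?_, ?_⟩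
  · intro τ
    obtain ⟨σ, hσ⟩ := phi43_surjective τ
    obtain ⟨g, hg⟩ := hπ σ
    have hgmem : g ∈ Subgroup.normalizer (((P : Subgroup ↥V).map V.subtype : Subgroup Γ) : Set Γ) ⊔ V := by
      rw [hfrat]; exact Subgroup.mem_top _
    rw [← SetLike.mem_coe, Subgroup.mul_normal] at hgmem
    obtain ⟨n, hn, v, hv, hmul⟩ := hgmem
    refine ⟨n, hn, ?_⟩
    have hv1 : phi43 (π v) = 1 := hv
    have hmul' : n * v = g := hmul
    have : phi43 (π g) = phi43 (π n) := by
      rw [← hmul', map_mul, map_mul, hv1, mul_one]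
    rw [← this, hg, hσ]
  · intro g hg
    apply phi43_ker_centralizer
    intro v hv
    have hWp : IsPGroup 2 ↥W := by
      rintro ⟨w, hw⟩
      refine ⟨1, ?_⟩
      apply Subtype.ext
      have : w * w = 1 := phi43_ker_sq w hw
      simpa [pow_two] using this
    have hsurjV : Function.Surjective (π.subgroupComap W) :=
      π.subgroupComap_surjective_of_surjective W hπ
    have hQtop : (⊤ : Subgroup ↥W) = ((P.mapSurjective hsurjV : Sylow 2 ↥W) : Subgroup ↥W) :=
      (P.mapSurjective hsurjV).is_maximal' (hWp.to_subgroup ⊤) le_top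
    have hvW : v ∈ W := hv
    obtain ⟨t', ht'P, ht'⟩ : ∃ t' ∈ (P : Subgroup ↥V), (π.subgroupComap W) t' = ⟨v, hvW⟩ := by
      have : (⟨v, hvW⟩ : ↥W) ∈ (⊤ : Subgroup ↥W) := Subgroup.mem_top _
      rw [hQtop, Sylow.coe_mapSurjective] at this
      exact this
    have hπt : π (t' : Γ) = v := congrArg Subtype.val ht'
    have htT : (t' : Γ) ∈ (P : Subgroup ↥V).map V.subtype := ⟨t', ht'P, rfl⟩
    have hcomm := (Subgroup.mem_centralizer_iff.1 hg) (t' : Γ) htT
    have := congrArg π hcomm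
    rw [map_mul, map_mul, hπt] at this
    exact this.symm

/-- (⇒) of S2759: if `S₄` is involved in `G`, then `S₃` is involved in `N_G(T)/C_G(T)` for some `2`-subgroup `T`. -/
theorem s3_involved_of_s4_involved {G : Type*} [Group G] [Finite G]
    (h : Cfsg.Involves (Perm (Fin 4)) G) :
    ∃ T : Subgroup G, IsPGroup 2 ↥T ∧ Cfsg.Involves (Perm (Fin 3))
      (↥(Subgroup.normalizer (T : Set G)) ⧸
        (Subgroup.centralizer (T : Set G)).subgroupOf (Subgroup.normalizer (T : Set G))) := by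
  obtain ⟨K, R, hn, ⟨e⟩⟩ := h
  let π : ↥K →* Perm (Fin 4) := e.toMonoidHom.comp (QuotientGroup.mk' (R.subgroupOf K))
  have hπ : Function.Surjective π := e.surjective.comp (QuotientGroup.mk'_surjective _)
  obtain ⟨T, hT2, hTn, hTc⟩ := s4_fwd_core π hπ
  set TG : Subgroup G := T.map K.subtype with hTG
  refine ⟨TG, hT2.map _, ?_⟩
  -- the normalizer of `T` in `K`, mapped to `N_G(TG)`
  set NΓ : Subgroup ↥K := Subgroup.normalizer (T : Set ↥K) with hNΓ
  have hNle : ∀ n : ↥NΓ, ((n : ↥K) : G) ∈ Subgroup.normalizer (TG : Set G) := by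
    intro n
    exact Subgroup.le_normalizer_map K.subtype ⟨(n : ↥K), n.2, rfl⟩
  let ι : ↥NΓ →* ↥(Subgroup.normalizer (TG : Set G)) :=
    (K.subtype.comp NΓ.subtype).codRestrict _ hNle
  let θ : ↥NΓ →* ↥(Subgroup.normalizer (TG : Set G)) ⧸
      (Subgroup.centralizer (TG : Set G)).subgroupOf (Subgroup.normalizer (TG : Set G)) :=
    (QuotientGroup.mk' _).comp ι
  let ψ : ↥NΓ →* Perm (Fin 3) := (phi43.comp π).comp NΓ.subtype
  have hψ : Function.Surjective ψ := by
    intro τ
    obtain ⟨n, hn', hτ⟩ := hTn τ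
    exact ⟨⟨n, hn'⟩, hτ⟩
  have hker : θ.ker ≤ ψ.ker := by
    intro n hn'
    rw [MonoidHom.mem_ker] at hn' ⊢
    have h1 : ι n ∈ (Subgroup.centralizer (TG : Set G)).subgroupOf (Subgroup.normalizer (TG : Set G)) := by
      rw [← QuotientGroup.eq_one_iff]; exact hn'
    have h2 : ((n : ↥K) : G) ∈ Subgroup.centralizer (TG : Set G) := h1
    apply hTc
    rw [Subgroup.mem_centralizer_iff]
    intro t ht
    have := (Subgroup.mem_centralizer_iff.1 h2) (t : G) ⟨t, ht, rfl⟩
    exact Subtype.ext this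
  exact Cfsg.Agent.S5299.involves_of_inj_surj (QuotientGroup.kerLift θ) (QuotientGroup.kerLift_injective θ)
    (QuotientGroup.lift θ.ker ψ hker) (QuotientGroup.lift_surjective_of_surjective _ _ hψ _)

end Cfsg.Agent.Helper91
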