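import Mathlib
import Cfsg.Prelude.Def_LocalEven
import Cfsg.Agent.Helper22.Coprime

set_option autoImplicit false

namespace Cfsg.Agent.Helper91

open Equiv

theorem s3_odd_facts : ∀ σ : Perm (Fin 3), Perm.sign σ = -1 →
    σ * σ = 1 ∧ ∀ ρ : Perm (Fin 3), Perm.sign ρ = 1 → σ * ρ * σ⁻¹ = ρ⁻¹ := by
  decide

theorem s3_even_facts : ∀ ρ : Perm (Fin 3), Perm.sign ρ = 1 →
    ρ * ρ * ρ = 1 ∧ (ρ ≠ 1 → ρ⁻¹ * ρ⁻¹ ≠ 1) := by
  decide

/-- Lifting to exact inversion: a finite group mapping onto `S₃` contains a `2`-element `x` and a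
`3`-element `y`, not in the kernel, with `x y x⁻¹ = y⁻¹`. -/
theorem exists_exact_inversion {Γ : Type*} [Group Γ] [Finite Γ] (ψ : Γ →* Perm (Fin 3))
    (hψ : Function.Surjective ψ) :
    ∃ x y : Γ, (∃ a : ℕ, x ^ (2 ^ a) = 1) ∧ (∃ b : ℕ, y ^ (3 ^ b) = 1) ∧ x * y * x⁻¹ = y⁻¹ ∧
      ψ y ≠ 1 := by
  classical
  set A : Subgroup (Perm (Fin 3)) := (Perm.sign : Perm (Fin 3) →* ℤˣ).ker with hA
  set D : Subgroup Γ := A.comap ψ with hD
  have hAn : A.Normal := by rw [hA]; infer_instance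
  haveI : D.Normal := hAn.comap ψ
  haveI : Fact (Nat.Prime 3) := ⟨by norm_num⟩
  obtain ⟨P⟩ : Nonempty (Sylow 3 ↥D) := inferInstance
  have hfrat := Sylow.normalizer_sup_eq_top P
  set PΓ : Subgroup Γ := (P : Subgroup ↥D).map D.subtype with hPΓ
  have hPΓ3 : IsPGroup 3 ↥PΓ := P.isPGroup'.map _
  -- an element of `PΓ` mapping to a 3-cycle
  set c : Perm (Fin 3) := swap 0 1 * swap 1 2 with hc
  have hcs : Perm.sign c = 1 := by decide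
  have hc1 : c ≠ 1 := by decide
  have hA3 : IsPGroup 3 ↥A := by
    rintro ⟨ρ, hρ⟩
    refine ⟨1, ?_⟩
    apply Subtype.ext
    have : ρ * ρ * ρ = 1 := (s3_even_facts ρ hρ).1
    simpa [pow_succ] using this
  have hsurjD : Function.Surjective (ψ.subgroupComap A) :=
    ψ.subgroupComap_surjective_of_surjective A hψ
  have hQtop : (⊤ : Subgroup ↥A) = ((P.mapSurjective hsurjD : Sylow 3 ↥A) : Subgroup ↥A) :=
    (P.mapSurjective hsurjD).is_maximal' (hA3.to_subgroup ⊤) le_top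
  have hcA : c ∈ A := hcs
  obtain ⟨y₁', hy₁P, hy₁'⟩ : ∃ t' ∈ (P : Subgroup ↥D), (ψ.subgroupComap A) t' = ⟨c, hcA⟩ := by
    have : (⟨c, hcA⟩ : ↥A) ∈ (⊤ : Subgroup ↥A) := Subgroup.mem_top _
    rw [hQtop, Sylow.coe_mapSurjective] at this
    exact this
  set y₁ : Γ := (y₁' : Γ) with hy₁
  have hψy₁ : ψ y₁ = c := congrArg Subtype.val hy₁'
  have hy₁PΓ : y₁ ∈ PΓ := ⟨y₁', hy₁P, rfl⟩
  -- an element of the normalizer mapping to an odd permutation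
  obtain ⟨g₀, hg₀⟩ := hψ (swap 0 1)
  have hg₀mem : g₀ ∈ Subgroup.normalizer ((PΓ : Subgroup Γ) : Set Γ) ⊔ D := by
    rw [hfrat]; exact Subgroup.mem_top _
  rw [← SetLike.mem_coe, Subgroup.mul_normal] at hg₀mem
  obtain ⟨n, hn, d, hd, hmul⟩ := hg₀mem
  have hmul' : n * d = g₀ := hmul
  have hds : Perm.sign (ψ d) = 1 := hd
  have hns : Perm.sign (ψ n) = -1 := by
    have h1 : Perm.sign (ψ n) * Perm.sign (ψ d) = Perm.sign (ψ g₀) := by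
      rw [← map_mul, ← map_mul, hmul']
    rw [hds, mul_one, hg₀] at h1
    rw [h1]; decide
  -- the 2-part of `n`
  obtain ⟨k, m, hm, hkm⟩ := Nat.exists_eq_two_pow_mul_odd (orderOf_pos n).ne'
  set x : Γ := n ^ m with hx
  have hxpow : x ^ (2 ^ k) = 1 := by
    rw [hx, ← pow_mul, mul_comm, ← hkm, pow_orderOf_eq_one]
  have hxn : x ∈ Subgroup.normalizer ((PΓ : Subgroup Γ) : Set Γ) := pow_mem hn m
  have hψx : ψ x = ψ n := by
    rw [hx, map_pow]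
    obtain ⟨j, rfl⟩ := hm
    have h2 : ψ n * ψ n = 1 := (s3_odd_facts _ hns).1
    rw [pow_succ, pow_mul, pow_two, h2, one_pow, one_mul]
  have hxs : Perm.sign (ψ x) = -1 := by rw [hψx]; exact hns
  -- `z = x²`
  set z : Γ := x * x with hz
  have hψz : ψ z = 1 := by rw [hz, map_mul]; exact (s3_odd_facts _ hxs).1
  have hzn : z ∈ Subgroup.normalizer ((PΓ : Subgroup Γ) : Set Γ) := mul_mem hxn hxn
  have hzpow : z ^ (2 ^ k) = 1 := by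
    rw [hz, ← pow_two, ← pow_mul, mul_comm, pow_mul, hxpow, one_pow]
  have hZ2 : IsPGroup 2 ↥(Subgroup.zpowers z) := by
    have hdvd : orderOf z ∣ 2 ^ k := orderOf_dvd_of_pow_eq_one hzpow
    obtain ⟨j, -, hj⟩ := (Nat.dvd_prime_pow Nat.prime_two).1 hdvd
    exact IsPGroup.of_card (n := j) (by rw [Nat.card_zpowers, hj])
  have hZψ : ∀ w ∈ Subgroup.zpowers z, ψ w = 1 := by
    intro w hw
    obtain ⟨i, rfl⟩ := Subgroup.mem_zpowers_iff.mp hw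
    rw [map_zpow, hψz, one_zpow]
  have hZn : ∀ w ∈ Subgroup.zpowers z, w ∈ Subgroup.normalizer ((PΓ : Subgroup Γ) : Set Γ) := by
    intro w hw
    obtain ⟨i, rfl⟩ := Subgroup.mem_zpowers_iff.mp hw
    exact zpow_mem hzn i
  set H : Subgroup Γ := PΓ ⊓ ψ.ker with hH
  have hH3 : IsPGroup 3 ↥H := hPΓ3.to_le inf_le_left
  have hHcard : ¬ 2 ∣ Nat.card ↥H := by
    obtain ⟨j, hj⟩ := hH3.exists_card_eq
    rw [hj]
    intro h2
    have := (Nat.Prime.dvd_of_dvd_pow Nat.prime_two h2)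
    omega
  have hinv : ∀ w ∈ Subgroup.zpowers z, ∀ h ∈ H, y₁⁻¹ * (w * (y₁ * h) * w⁻¹) ∈ H := by
    intro w hw h hh
    have hhP : h ∈ PΓ := hh.1
    have hhψ : ψ h = 1 := hh.2
    refine ⟨?_, ?_⟩
    · apply mul_mem (inv_mem hy₁PΓ)
      exact ((Subgroup.mem_normalizer_iff.1 (hZn w hw)) (y₁ * h)).1 (mul_mem hy₁PΓ hhP)
    · show ψ (y₁⁻¹ * (w * (y₁ * h) * w⁻¹)) = 1
      simp only [map_mul, map_inv, hZψ w hw, hhψ, hψy₁]
      group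
  obtain ⟨h, hhH, hfix⟩ := Cfsg.Agent.Helper22.exists_fixed_in_coset 2 (Subgroup.zpowers z) H hZ2 hHcard
    y₁ hinv
  set y₀ : Γ := y₁ * h with hy₀
  have hy₀P : y₀ ∈ PΓ := mul_mem hy₁PΓ hhH.1
  have hψy₀ : ψ y₀ = c := by
    rw [hy₀, map_mul, hψy₁]
    have : ψ h = 1 := hhH.2
    rw [this, mul_one]
  have hzy₀ : z * y₀ * z⁻¹ = y₀ := hfix z (Subgroup.mem_zpowers z)
  have hw : x * y₀ * x⁻¹ ∈ PΓ := (Subgroup.mem_normalizer_iff.1 hxn y₀).1 hy₀P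
  refine ⟨x, y₀⁻¹ * (x * y₀ * x⁻¹), ⟨k, hxpow⟩, ?_, ?_, ?_⟩
  · obtain ⟨b, hb⟩ := hPΓ3 ⟨_, mul_mem (inv_mem hy₀P) hw⟩
    exact ⟨b, congrArg Subtype.val hb⟩
  · have h1 : x * (x * y₀ * x⁻¹) * x⁻¹ = y₀ := by
      have : x * (x * y₀ * x⁻¹) * x⁻¹ = (x * x) * y₀ * (x * x)⁻¹ := by group
      rw [this]; exact hzy₀
    calc x * (y₀⁻¹ * (x * y₀ * x⁻¹)) * x⁻¹
        = (x * y₀ * x⁻¹)⁻¹ * (x * (x * y₀ * x⁻¹) * x⁻¹) := by group
      _ = (x * y₀ * x⁻¹)⁻¹ * y₀ := by rw [h1]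
      _ = (y₀⁻¹ * (x * y₀ * x⁻¹))⁻¹ := by group
  · simp only [map_mul, map_inv, hψy₀]
    rw [(s3_odd_facts _ hxs).2 c hcs]
    exact (s3_even_facts c hcs).2 hc1

end Cfsg.Agent.Helper91
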