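import Mathlib
import Cfsg.Agent.Helper3.S3S3Defs
import Cfsg.Agent.Helper79.ClassMult
import Cfsg.Agent.Helper79.Linear

/-!
# S3805 (helper3's WANTED #5796/#5872), piece (CH2a): Gram relations (column orthogonality)
for integer-valued columns.  helper91.
-/

set_option autoImplicit false
open Cfsg Finset
open scoped ComplexConjugate

namespace Cfsg.Agent.Helper91.S3S3
open Cfsg.Agent.Helper3.S3S3

universe u

section chr
variable {G : Type u} [Group G] [Fintype G]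

/-- Column orthogonality for two integer-valued columns, over `ℤ`. -/
theorem sum_int_cols_mul [DecidableEq G] [Fintype (IrrCharacter G)] (p q : G)
    (P Q : IrrCharacter G → ℤ)
    (hP : ∀ χ : IrrCharacter G, (χ : G → ℂ) p = (P χ : ℂ))
    (hQ : ∀ χ : IrrCharacter G, (χ : G → ℂ) q = (Q χ : ℂ)) :
    ∑ χ : IrrCharacter G, P χ * Q χ =
      if IsConj q p then (Nat.card (Subgroup.centralizer ({q} : Set G)) : ℤ) else 0 := by
  classical
  have h := Cfsg.Agent.Helper79.column_orthogonality (G := G) p q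
  have h2 : ((∑ χ : IrrCharacter G, P χ * Q χ : ℤ) : ℂ) =
      ∑ χ : IrrCharacter G, (χ : G → ℂ) p * conj ((χ : G → ℂ) q) := by
    push_cast
    refine Finset.sum_congr rfl fun χ _ => ?_
    rw [hP, hQ, map_intCast]
  have h3 : ((∑ χ : IrrCharacter G, P χ * Q χ : ℤ) : ℂ) =
      ((if IsConj q p then (Nat.card (Subgroup.centralizer ({q} : Set G)) : ℤ) else 0 : ℤ) : ℂ) := by
    rw [h2, h]
    split_ifs <;> simp
  exact_mod_cast h3

/-- (CH2a) Gram relations (column orthogonality) for integer-valued columns. -/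
theorem gram_of_loc [DecidableEq G] [Fintype (IrrCharacter G)] (x y : G) (h : Loc x y)
    (X Y Z : IrrCharacter G → ℤ)
    (hX : ∀ χ : IrrCharacter G, (χ : G → ℂ) x = (X χ : ℂ))
    (hY : ∀ χ : IrrCharacter G, (χ : G → ℂ) y = (Y χ : ℂ))
    (hZ : ∀ χ : IrrCharacter G, (χ : G → ℂ) (x * y) = (Z χ : ℂ)) :
    ∑ χ, X χ ^ 2 = 18 ∧ ∑ χ, Y χ ^ 2 = 18 ∧ ∑ χ, Z χ ^ 2 = 9 ∧
    ∑ χ, X χ * Y χ = 0 ∧ ∑ χ, X χ * Z χ = 0 ∧ ∑ χ, Y χ * Z χ = 0 ∧
    ∑ χ : IrrCharacter G, (charDegree (χ : G → ℂ) : ℤ) * X χ = 0 ∧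
    ∑ χ : IrrCharacter G, (charDegree (χ : G → ℂ) : ℤ) * Y χ = 0 ∧
    ∑ χ : IrrCharacter G, (charDegree (χ : G → ℂ) : ℤ) * Z χ = 0 := by
  classical
  have hD : ∀ χ : IrrCharacter G, (χ : G → ℂ) 1 = (((charDegree (χ : G → ℂ) : ℕ) : ℤ) : ℂ) := by
    intro χ
    rw [Cfsg.Agent.Helper79.irr_one]
    push_cast
    rfl
  have hx1 : ¬ IsConj x 1 := fun hc => h.x1 (isConj_one_left.mp hc)
  have hy1 : ¬ IsConj y 1 := fun hc => h.y1 (isConj_one_left.mp hc)
  have hz1 : ¬ IsConj (x * y) 1 := fun hc => h.z1 (isConj_one_left.mp hc)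
  have hyx : ¬ IsConj y x := fun hc => h.nxy hc.symm
  have hzx : ¬ IsConj (x * y) x := fun hc => h.nxz hc.symm
  have hzy : ¬ IsConj (x * y) y := fun hc => h.nyz hc.symm
  refine ⟨?_, ?_, ?_, ?_, ?_, ?_, ?_, ?_, ?_⟩
  · have := sum_int_cols_mul x x X X hX hX
    rw [if_pos (IsConj.refl x), h.cx] at this
    rw [← show ((18 : ℕ) : ℤ) = 18 by norm_num, ← this]
    exact Finset.sum_congr rfl fun χ _ => by ring
  · have := sum_int_cols_mul y y Y Y hY hY
    rw [if_pos (IsConj.refl y), h.cy] at this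
    rw [← show ((18 : ℕ) : ℤ) = 18 by norm_num, ← this]
    exact Finset.sum_congr rfl fun χ _ => by ring
  · have := sum_int_cols_mul (x * y) (x * y) Z Z hZ hZ
    rw [if_pos (IsConj.refl (x * y)), h.cz] at this
    rw [← show ((9 : ℕ) : ℤ) = 9 by norm_num, ← this]
    exact Finset.sum_congr rfl fun χ _ => by ring
  · have := sum_int_cols_mul x y X Y hX hY
    rwa [if_neg hyx] at this
  · have := sum_int_cols_mul x (x * y) X Z hX hZ
    rwa [if_neg hzx] at this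
  · have := sum_int_cols_mul y (x * y) Y Z hY hZ
    rwa [if_neg hzy] at this
  · have := sum_int_cols_mul 1 x (fun χ => ((charDegree (χ : G → ℂ) : ℕ) : ℤ)) X hD hX
    rwa [if_neg hx1] at this
  · have := sum_int_cols_mul 1 y (fun χ => ((charDegree (χ : G → ℂ) : ℕ) : ℤ)) Y hD hY
    rwa [if_neg hy1] at this
  · have := sum_int_cols_mul 1 (x * y) (fun χ => ((charDegree (χ : G → ℂ) : ℕ) : ℤ)) Z hD hZ
    rwa [if_neg hz1] at this

end chr

end Cfsg.Agent.Helper91.S3S3
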