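import Mathlib
import Cfsg.Agent.Helper3.S3S3Defs
import Cfsg.Agent.Helper79.ClassMult
import Cfsg.Agent.Helper79.Linear

/-!
# S3805 (helper3's WANTED #5796), piece (CH2b): class multiplication equations
for integer-valued columns.  helper91.
-/

set_option autoImplicit false
open Cfsg Finset
open scoped ComplexConjugate

namespace Cfsg.Agent.Helper91.S3S3
open Cfsg.Agent.Helper3.S3S3

universe u

section chr
variable {G : Type u} [Group G] [Fintype G]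

/-- Class multiplication constants for integer-valued columns, over `ℚ`. -/
theorem sum_int_cols_eq [DecidableEq G] [Fintype (IrrCharacter G)] (p q r : G)
    (P Q R : IrrCharacter G → ℤ)
    (hP : ∀ χ : IrrCharacter G, (χ : G → ℂ) p = (P χ : ℂ))
    (hQ : ∀ χ : IrrCharacter G, (χ : G → ℂ) q = (Q χ : ℂ))
    (hR : ∀ χ : IrrCharacter G, (χ : G → ℂ) r = (R χ : ℂ)) :
    ∑ χ : IrrCharacter G, ((P χ : ℚ) * (Q χ : ℚ) * (R χ : ℚ)) / (charDegree (χ : G → ℂ) : ℚ)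
      = (pairCount p q r : ℚ) / (Nat.card G : ℚ) := by
  have hG : (Nat.card G : ℂ) ≠ 0 := by
    have : 0 < Nat.card G := Nat.card_pos
    exact_mod_cast this.ne'
  apply Rat.cast_injective (α := ℂ)
  have h := Cfsg.Agent.Helper79.card_conj_mul_conj_eq (G := G) p q r
  have h2 : ((pairCount p q r : ℕ) : ℂ) = (Nat.card G : ℂ) * ∑ χ : IrrCharacter G,
      ((P χ : ℂ) * (Q χ : ℂ) * (R χ : ℂ)) / ((charDegree (χ : G → ℂ) : ℕ) : ℂ) := by
    unfold pairCount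
    rw [h]
    congr 1
    refine Finset.sum_congr rfl fun χ _ => ?_
    rw [hP, hQ, hR, Cfsg.Agent.Helper79.irr_one, map_intCast]
  push_cast
  rw [h2]
  field_simp

/-- (CH2b) class multiplication equations for integer-valued columns. -/
theorem struct_of_loc [DecidableEq G] [Fintype (IrrCharacter G)] (x y : G) (h : Loc x y)
    (X Y Z : IrrCharacter G → ℤ)
    (hX : ∀ χ : IrrCharacter G, (χ : G → ℂ) x = (X χ : ℂ))
    (hY : ∀ χ : IrrCharacter G, (χ : G → ℂ) y = (Y χ : ℂ))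
    (hZ : ∀ χ : IrrCharacter G, (χ : G → ℂ) (x * y) = (Z χ : ℂ)) :
    ∑ χ : IrrCharacter G, (X χ * Y χ * Z χ : ℚ) / charDegree (χ : G → ℂ) = 324 / Nat.card G ∧
    ∑ χ : IrrCharacter G, (X χ ^ 2 * Y χ : ℚ) / charDegree (χ : G → ℂ) = 0 ∧
    ∑ χ : IrrCharacter G, (X χ * Y χ ^ 2 : ℚ) / charDegree (χ : G → ℂ) = 0 ∧
    ∑ χ : IrrCharacter G, (X χ * Z χ ^ 2 : ℚ) / charDegree (χ : G → ℂ) = 162 / Nat.card G ∧
    ∑ χ : IrrCharacter G, (X χ ^ 2 * Z χ : ℚ) / charDegree (χ : G → ℂ) = 0 ∧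
    ∑ χ : IrrCharacter G, (Y χ * Z χ ^ 2 : ℚ) / charDegree (χ : G → ℂ) = 162 / Nat.card G ∧
    ∑ χ : IrrCharacter G, (Y χ ^ 2 * Z χ : ℚ) / charDegree (χ : G → ℂ) = 0 := by
  have e1 := sum_int_cols_eq x y (x * y) X Y Z hX hY hZ
  have e2 := sum_int_cols_eq x y x X Y X hX hY hX
  have e3 := sum_int_cols_eq x y y X Y Y hX hY hY
  have e5 := sum_int_cols_eq x (x * y) (x * y) X Z Z hX hZ hZ
  have e6 := sum_int_cols_eq x (x * y) x X Z X hX hZ hX
  have e7 := sum_int_cols_eq y (x * y) (x * y) Y Z Z hY hZ hZ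
  have e8 := sum_int_cols_eq y (x * y) y Y Z Y hY hZ hY
  rw [h.e1] at e1
  rw [h.e2] at e2
  rw [h.e3] at e3
  rw [h.e5] at e5
  rw [h.e6] at e6
  rw [h.e7] at e7
  rw [h.e8] at e8
  refine ⟨?_, ?_, ?_, ?_, ?_, ?_, ?_⟩
  · rw [← show ((324 : ℕ) : ℚ) = 324 by norm_num, ← e1]
  · rw [← show ((0 : ℕ) : ℚ) / (Nat.card G : ℚ) = 0 by simp, ← e2]
    refine Finset.sum_congr rfl fun χ _ => ?_
    ring
  · rw [← show ((0 : ℕ) : ℚ) / (Nat.card G : ℚ) = 0 by simp, ← e3]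
    refine Finset.sum_congr rfl fun χ _ => ?_
    ring
  · rw [← show ((162 : ℕ) : ℚ) = 162 by norm_num, ← e5]
    refine Finset.sum_congr rfl fun χ _ => ?_
    ring
  · rw [← show ((0 : ℕ) : ℚ) / (Nat.card G : ℚ) = 0 by simp, ← e6]
    refine Finset.sum_congr rfl fun χ _ => ?_
    ring
  · rw [← show ((162 : ℕ) : ℚ) = 162 by norm_num, ← e7]
    refine Finset.sum_congr rfl fun χ _ => ?_
    ring
  · rw [← show ((0 : ℕ) : ℚ) / (Nat.card G : ℚ) = 0 by simp, ← e8]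
    refine Finset.sum_congr rfl fun χ _ => ?_
    ring

end chr

end Cfsg.Agent.Helper91.S3S3
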