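import Mathlib

/-!
# Ward's theorem, piece (W8): existence of `T` = preimage of `Ω₁(Z(S/S0))`
-/

open Subgroup

namespace Cfsg.Agent.Helper91.Ward

variable {H : Type*} [Group H] [Finite H]

/-- `Ω₁(Z(Q))` as a subgroup. -/
def omegaCenter (Q : Type*) [Group Q] (s : ℕ) : Subgroup Q where
  carrier := {z | z ∈ center Q ∧ z ^ s = 1}
  one_mem' := ⟨one_mem _, one_pow _⟩
  mul_mem' := by
    rintro a b ⟨ha, ha'⟩ ⟨hb, hb'⟩
    refine ⟨mul_mem ha hb, ?_⟩
    have hc : Commute a b := (mem_center_iff.mp ha b).symm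
    rw [hc.mul_pow, ha', hb', one_mul]
  inv_mem' := by
    rintro a ⟨ha, ha'⟩
    exact ⟨inv_mem ha, by rw [inv_pow, ha', inv_one]⟩

theorem mem_omegaCenter {Q : Type*} [Group Q] {s : ℕ} {z : Q} :
    z ∈ omegaCenter Q s ↔ z ∈ center Q ∧ z ^ s = 1 := Iff.rfl

/-- **(W8)** -/
theorem exists_T {s : ℕ} [Fact s.Prime] (S S0 : Subgroup H) (hS : IsPGroup s S) (hS0 : S0 ≤ S)
    (hn : S ≤ normalizer (S0 : Set H)) (hne : S0 ≠ S) :
    ∃ T : Subgroup H, S0 ≤ T ∧ T ≤ S ∧ T ≠ S0 ∧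
      (∀ t ∈ T, ∀ u ∈ S, t * u * t⁻¹ * u⁻¹ ∈ S0) ∧ (∀ t ∈ T, t ^ s ∈ S0) ∧
      (∀ g : H, g ∈ normalizer (S : Set H) → g ∈ normalizer (S0 : Set H) →
        g ∈ normalizer (T : Set H)) := by
  classical
  have hNn : (S0.subgroupOf S).Normal := (Subgroup.normal_subgroupOf_iff_le_normalizer hS0).mpr hn
  set N : Subgroup S := S0.subgroupOf S with hN
  have hQp : IsPGroup s (↥S ⧸ N) := hS.to_quotient N
  have hmk1 : ∀ x : S, (QuotientGroup.mk' N x = 1) ↔ (x : H) ∈ S0 := by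
    intro x
    rw [QuotientGroup.mk'_apply, QuotientGroup.eq_one_iff, hN, mem_subgroupOf]
  have hQnt : Nontrivial (↥S ⧸ N) := by
    by_contra hcon
    rw [not_nontrivial_iff_subsingleton] at hcon
    apply hne
    refine le_antisymm hS0 fun x hx => ?_
    exact (hmk1 ⟨x, hx⟩).mp (Subsingleton.elim _ _)
  have hZnt : Nontrivial (center (↥S ⧸ N)) := hQp.center_nontrivial
  have hZp : IsPGroup s (center (↥S ⧸ N)) := hQp.to_subgroup _
  have hsd : s ∣ Nat.card (center (↥S ⧸ N)) := by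
    rcases hZp.card_eq_or_dvd with h1 | h1
    · exfalso
      have := Finite.one_lt_card_iff_nontrivial.mpr hZnt
      omega
    · exact h1
  obtain ⟨z, hz⟩ := exists_prime_orderOf_dvd_card' s hsd
  -- the subgroup `T`
  set T : Subgroup H := ((omegaCenter (↥S ⧸ N) s).comap (QuotientGroup.mk' N)).map S.subtype with hT
  have hmemT : ∀ t : H, t ∈ T ↔ ∃ ht : t ∈ S, QuotientGroup.mk' N ⟨t, ht⟩ ∈ center (↥S ⧸ N) ∧
      (QuotientGroup.mk' N ⟨t, ht⟩) ^ s = 1 := by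
    intro t
    rw [hT, mem_map]
    constructor
    · rintro ⟨t', ht', rfl⟩
      exact ⟨t'.2, ht'⟩
    · rintro ⟨ht, h1⟩
      exact ⟨⟨t, ht⟩, h1, rfl⟩
  -- elementwise characterization
  have hchar : ∀ t : H, t ∈ T ↔ t ∈ S ∧ (∀ u ∈ S, t * u * t⁻¹ * u⁻¹ ∈ S0) ∧ t ^ s ∈ S0 := by
    intro t
    rw [hmemT]
    constructor
    · rintro ⟨ht, hc, hp⟩
      refine ⟨ht, fun u hu => ?_, ?_⟩
      · have h1 := mem_center_iff.mp hc (QuotientGroup.mk' N ⟨u, hu⟩)
        have h2 : QuotientGroup.mk' N (⟨t, ht⟩ * ⟨u, hu⟩ * ⟨t, ht⟩⁻¹ * ⟨u, hu⟩⁻¹) = 1 := by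
          rw [map_mul, map_mul, map_mul, map_inv, map_inv, ← h1]
          group
        exact (hmk1 _).mp h2
      · have h2 : QuotientGroup.mk' N (⟨t, ht⟩ ^ s) = 1 := by rw [map_pow, hp]
        exact (hmk1 _).mp h2
    · rintro ⟨ht, hc, hp⟩
      refine ⟨ht, ?_, ?_⟩
      · rw [mem_center_iff]
        intro q
        obtain ⟨u, rfl⟩ := QuotientGroup.mk'_surjective N q
        have h2 : QuotientGroup.mk' N (⟨t, ht⟩ * u * ⟨t, ht⟩⁻¹ * u⁻¹) = 1 :=
          (hmk1 _).mpr (hc u u.2)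
        rw [map_mul, map_mul, map_mul, map_inv, map_inv] at h2
        have h3 := mul_inv_eq_one.mp h2
        have h4 := mul_inv_eq_iff_eq_mul.mp h3
        exact h4.symm
      · have h2 : QuotientGroup.mk' N (⟨t, ht⟩ ^ s) = 1 := (hmk1 _).mpr hp
        rw [map_pow] at h2
        exact h2
  -- conjugation invariance, one direction
  have hconj : ∀ g : H, g ∈ normalizer (S : Set H) → g ∈ normalizer (S0 : Set H) →
      ∀ t ∈ T, g * t * g⁻¹ ∈ T := by
    intro g hgS hgS0 t ht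
    rw [hchar] at ht ⊢
    obtain ⟨htS, hc, hp⟩ := ht
    refine ⟨(mem_normalizer_iff.mp hgS t).mp htS, fun u hu => ?_, ?_⟩
    · have hu' : g⁻¹ * u * g ∈ S := (mem_normalizer_iff''.mp hgS u).mp hu
      have h1 := hc _ hu'
      have h2 := (mem_normalizer_iff.mp hgS0 _).mp h1
      have e : g * (t * (g⁻¹ * u * g) * t⁻¹ * (g⁻¹ * u * g)⁻¹) * g⁻¹
          = g * t * g⁻¹ * u * (g * t * g⁻¹)⁻¹ * u⁻¹ := by group
      rw [e] at h2
      exact h2
    · have h2 := (mem_normalizer_iff.mp hgS0 _).mp hp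
      have e : g * t ^ s * g⁻¹ = (g * t * g⁻¹) ^ s := by
        rw [conj_pow]
      rw [e] at h2
      exact h2
  refine ⟨T, ?_, ?_, ?_, ?_, ?_, ?_⟩
  · intro x hx
    rw [hchar]
    refine ⟨hS0 hx, fun u hu => ?_, S0.pow_mem hx s⟩
    have h1 : u * x⁻¹ * u⁻¹ ∈ S0 := (mem_normalizer_iff.mp (hn hu) _).mp (S0.inv_mem hx)
    have e : x * u * x⁻¹ * u⁻¹ = x * (u * x⁻¹ * u⁻¹) := by group
    rw [e]
    exact S0.mul_mem hx h1
  · intro t ht
    exact ((hchar t).mp ht).1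
  · intro hTS0
    -- lift `z`
    obtain ⟨y, hy⟩ := QuotientGroup.mk'_surjective N (z : ↥S ⧸ N)
    have hyT : (y : H) ∈ T := by
      rw [hmemT]
      refine ⟨y.2, ?_, ?_⟩
      · have : (⟨(y : H), y.2⟩ : S) = y := rfl
        rw [this, hy]
        exact z.2
      · have : (⟨(y : H), y.2⟩ : S) = y := rfl
        rw [this, hy]
        have h1 : z ^ s = 1 := by rw [← hz]; exact pow_orderOf_eq_one z
        have h2 : ((z ^ s : center (↥S ⧸ N)) : ↥S ⧸ N) = 1 := by rw [h1]; rfl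
        simpa using h2
    rw [hTS0] at hyT
    have h1 : (z : ↥S ⧸ N) = 1 := by rw [← hy]; exact (hmk1 y).mpr hyT
    have h2 : z = 1 := Subtype.ext h1
    rw [h2, orderOf_one] at hz
    exact (Fact.out : s.Prime).one_lt.ne hz
  · intro t ht u hu
    exact ((hchar t).mp ht).2.1 u hu
  · intro t ht
    exact ((hchar t).mp ht).2.2
  · intro g hgS hgS0
    rw [mem_normalizer_iff]
    intro t
    constructor
    · exact hconj g hgS hgS0 t
    · intro ht
      have h1 := hconj g⁻¹ (inv_mem hgS) (inv_mem hgS0) _ ht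
      have e : g⁻¹ * (g * t * g⁻¹) * g⁻¹⁻¹ = t := by group
      rw [e] at h1
      exact h1

end Cfsg.Agent.Helper91.Ward
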