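import Cfsg.Agent.Helper1.CoprimeSylow

set_option autoImplicit false
open scoped Pointwise

namespace Cfsg.Agent.Helper91

universe u

section

variable {G : Type u} [Group G]

/-- If `N` is a nontrivial normal subgroup meeting the maximal subgroup `H` trivially, of order
coprime to `#H`, and `H` or `N` is solvable, then `N` is a `q`-group for some prime `q`. -/
theorem isPGroup_of_normal_disjoint_coatom [Finite G] (H N : Subgroup G) (hNn : N.Normal)
    (hmax : IsCoatom H) (hdisj : N ⊓ H = ⊥) (hcop : (Nat.card H).Coprime (Nat.card N))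
    (hsolv : Group.IsSolvable ↥H ∨ Group.IsSolvable ↥N) (hN1 : N ≠ ⊥) :
    ∃ q : ℕ, q.Prime ∧ IsPGroup q ↥N := by
  have hHN : H ≤ Subgroup.normalizer (N : Set G) := Subgroup.le_normalizer_of_normal
  have hinv : ∀ Q : Subgroup G, Q ≤ N → H ≤ Subgroup.normalizer (Q : Set G) → Q ≠ ⊥ → Q = N := by
    intro Q hQN hHQ hQ1
    have h1 : H ⊔ Q = ⊤ := by
      apply hmax.2
      refine lt_of_le_of_ne le_sup_left ?_
      intro h
      have h2 : Q ≤ H := le_sup_right.trans_eq h.symm
      exact hQ1 (le_bot_iff.1 (hdisj ▸ le_inf hQN h2))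
    apply le_antisymm hQN
    intro x hx
    have hx' : x ∈ ((H ⊔ Q : Subgroup G) : Set G) := by rw [h1]; trivial
    rw [Subgroup.coe_mul_of_left_le_normalizer_right H Q hHQ] at hx'
    obtain ⟨a, ha, q, hq, hxe⟩ := hx'
    have hxe' : a * q = x := hxe
    subst hxe'
    have haN : a ∈ N := by
      have : a = (a * q) * q⁻¹ := by group
      rw [this]; exact N.mul_mem hx (N.inv_mem (hQN hq))
    have ha1 : a = 1 := Subgroup.mem_bot.1 (hdisj ▸ (⟨haN, ha⟩ : a ∈ N ⊓ H))
    rw [ha1, one_mul]; exact hq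
  have hcardN : Nat.card N ≠ 1 := fun h => hN1 (Subgroup.card_eq_one.1 h)
  obtain ⟨q, hq, hqN⟩ := Nat.exists_prime_and_dvd hcardN
  have : Fact q.Prime := ⟨hq⟩
  obtain ⟨S, hS⟩ := Cfsg.Agent.Helper1.exists_invariant_sylow H N hHN hcop hsolv q
  have hS1 : (S : Subgroup ↥N).map N.subtype ≠ ⊥ := by
    intro h
    have h1 : (S : Subgroup ↥N) = ⊥ := by
      rw [eq_bot_iff]
      intro x hx
      have : (x : G) ∈ (S : Subgroup ↥N).map N.subtype := ⟨x, hx, rfl⟩
      rw [h] at this
      exact Subtype.ext (Subgroup.mem_bot.1 this)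
    have h2 := S.card_eq_multiplicity
    rw [h1, Subgroup.card_bot] at h2
    have h3 : (Nat.card ↥N).factorization q = 0 := by
      by_contra h4
      have : 1 < q ^ (Nat.card ↥N).factorization q := Nat.one_lt_pow h4 hq.one_lt
      omega
    have h5 : 0 < (Nat.card ↥N).factorization q :=
      hq.factorization_pos_of_dvd Nat.card_pos.ne' hqN
    omega
  have hSN := hinv _ (Subgroup.map_subtype_le _) hS hS1
  refine ⟨q, hq, ?_⟩
  have : (S : Subgroup ↥N) = ⊤ := by
    rw [eq_top_iff]
    intro x _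
    have hx : (x : G) ∈ (S : Subgroup ↥N).map N.subtype := by rw [hSN]; exact x.2
    obtain ⟨y, hy, hyx⟩ := hx
    have : y = x := Subtype.ext hyx
    rw [← this]; exact hy
  intro x
  obtain ⟨k, hk⟩ := S.2 ⟨x, this ▸ Subgroup.mem_top x⟩
  exact ⟨k, by simpa using congrArg Subtype.val hk⟩

/-- Solvable quotient: the derived series eventually enters `N`. -/
theorem exists_derivedSeries_le_of_quotient (N : Subgroup G) [N.Normal]
    (h : Group.IsSolvable (G ⧸ N)) : ∃ n, derivedSeries G n ≤ N := by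
  obtain ⟨n, hn⟩ := (Group.isSolvable_def _).1 h
  refine ⟨n, fun x hx => ?_⟩
  have h1 := map_derivedSeries_eq (QuotientGroup.mk'_surjective N) n
  have h2 : QuotientGroup.mk' N x ∈ (derivedSeries G n).map (QuotientGroup.mk' N) :=
    Subgroup.mem_map_of_mem _ hx
  rw [h1, hn, Subgroup.mem_bot] at h2
  exact (QuotientGroup.eq_one_iff x).1 h2

theorem derivedSeries_add_le {K : Subgroup G} {n : ℕ} (h : derivedSeries G n ≤ K) (m : ℕ) :
    derivedSeries G (n + m) ≤ (derivedSeries ↥K m).map K.subtype := by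
  induction m with
  | zero =>
    rw [add_zero, derivedSeries_zero, ← MonoidHom.range_eq_map, Subgroup.range_subtype]
    exact h
  | succ m ih =>
    rw [← add_assoc, derivedSeries_succ, derivedSeries_succ, Subgroup.map_commutator]
    exact Subgroup.commutator_mono ih ih

theorem isSolvable_of_derivedSeries_le {K : Subgroup G} {n : ℕ} (h : derivedSeries G n ≤ K)
    (hK : Group.IsSolvable ↥K) : Group.IsSolvable G := by
  obtain ⟨m, hm⟩ := (Group.isSolvable_def _).1 hK
  rw [Group.isSolvable_def]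
  refine ⟨n + m, ?_⟩
  have := derivedSeries_add_le h m
  rw [hm, Subgroup.map_bot] at this
  exact le_bot_iff.1 this

/-- Nontrivial subgroups of a core-free maximal subgroup `M` that are normalised by `M` have
normaliser exactly `M`. -/
theorem normalizer_eq_of_coatom_corefree {M X : Subgroup G} (hmax : IsCoatom M)
    (hcore : M.normalCore = ⊥) (hXM : X ≤ M) (hX1 : X ≠ ⊥)
    (hMX : M ≤ Subgroup.normalizer (X : Set G)) : Subgroup.normalizer (X : Set G) = M := by
  by_contra h
  have hlt : M < Subgroup.normalizer (X : Set G) := lt_of_le_of_ne hMX (Ne.symm h)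
  have htop := hmax.2 _ hlt
  have hn : X.Normal := Subgroup.normalizer_eq_top_iff.1 htop
  have : X ≤ M.normalCore := Subgroup.normal_le_normalCore.2 hXM
  rw [hcore] at this
  exact hX1 (le_bot_iff.1 this)

theorem isPGroup_zpowers_of_pow_eq_one {p : ℕ} {x : G} {k : ℕ} (hk : x ^ p ^ k = 1) :
    IsPGroup p ↥(Subgroup.zpowers x) := by
  rintro ⟨y, hy⟩
  obtain ⟨m, rfl⟩ := Subgroup.mem_zpowers_iff.1 hy
  refine ⟨k, ?_⟩
  apply Subtype.ext
  simp only [Subgroup.coe_pow, Subgroup.coe_one]
  rw [← zpow_natCast, ← zpow_mul, mul_comm, zpow_mul, zpow_natCast, hk, one_zpow]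

/-- A normal Sylow `p`-subgroup contains every `p`-element. -/
theorem mem_of_normal_sylow [Finite G] {p : ℕ} [Fact p.Prime] (P : Sylow p G)
    (hP : (P : Subgroup G).Normal) {x : G} {k : ℕ} (hk : x ^ p ^ k = 1) : x ∈ (P : Subgroup G) := by
  have hz : IsPGroup p ↥(Subgroup.zpowers x) := isPGroup_zpowers_of_pow_eq_one hk
  obtain ⟨S, hS⟩ := hz.exists_le_sylow
  obtain ⟨g, hg⟩ := MulAction.exists_smul_eq G P S
  rw [Sylow.smul_eq_of_normal] at hg
  rw [hg]
  exact hS (Subgroup.mem_zpowers x)

/-- A normal subgroup of `M`, viewed in `G`, is normalised by `M`. -/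
theorem le_normalizer_map_subtype_of_normal {M : Subgroup G} {X : Subgroup ↥M} (hX : X.Normal) :
    M ≤ Subgroup.normalizer ((X.map M.subtype : Subgroup G) : Set G) := by
  intro m hm
  rw [Subgroup.mem_normalizer_iff]
  intro x
  constructor
  · rintro ⟨y, hy, rfl⟩
    exact ⟨⟨m, hm⟩ * y * ⟨m, hm⟩⁻¹, hX.conj_mem y hy ⟨m, hm⟩, by simp⟩
  · rintro ⟨y, hy, hyx⟩
    have hxM : x ∈ M := by
      have h1 : m * x * m⁻¹ ∈ M := hyx ▸ y.2
      have : x = m⁻¹ * (m * x * m⁻¹) * m := by group
      rw [this]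
      exact M.mul_mem (M.mul_mem (M.inv_mem hm) h1) hm
    refine ⟨⟨x, hxM⟩, ?_, rfl⟩
    have h2 := hX.conj_mem y hy ⟨m, hm⟩⁻¹
    have h3 : (⟨m, hm⟩ : ↥M)⁻¹ * y * (⟨m, hm⟩ : ↥M)⁻¹⁻¹ = ⟨x, hxM⟩ := by
      apply Subtype.ext
      simp only [Subgroup.coe_mul, Subgroup.coe_inv, inv_inv, M.subtype_apply] at hyx ⊢
      rw [hyx]; group
    rw [h3] at h2
    exact h2

/-- In a finite group with a core-free nilpotent maximal subgroup `M`, the Sylow subgroups of
`M` are Sylow subgroups of `G`. -/
theorem sylow_of_nilpotent_coatom [Finite G] {M : Subgroup G} (hmax : IsCoatom M)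
    (hnil : Group.IsNilpotent ↥M) (hcore : M.normalCore = ⊥) {p : ℕ} [Fact p.Prime]
    (P₀ : Sylow p ↥M) (hP1 : (P₀ : Subgroup ↥M) ≠ ⊥) :
    ∃ S : Sylow p G, (S : Subgroup G) = (P₀ : Subgroup ↥M).map M.subtype := by
  have hall : ∀ (q : ℕ), Fact (Nat.Prime q) → ∀ (Q : Sylow q ↥M), (Q : Subgroup ↥M).Normal :=
    ((Group.isNilpotent_of_finite_tfae (G := ↥M)).out 0 3 rfl rfl).1 hnil
  have hP₀n : (P₀ : Subgroup ↥M).Normal := hall p inferInstance P₀
  set P : Subgroup G := (P₀ : Subgroup ↥M).map M.subtype with hP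
  have hPM : P ≤ M := Subgroup.map_subtype_le _
  have hPne : P ≠ ⊥ := by
    intro h
    apply hP1
    rw [eq_bot_iff]
    intro x hx
    have : (x : G) ∈ P := ⟨x, hx, rfl⟩
    rw [h] at this
    exact Subtype.ext (Subgroup.mem_bot.1 this)
  have hMP : M ≤ Subgroup.normalizer (P : Set G) := le_normalizer_map_subtype_of_normal hP₀n
  have hNP := normalizer_eq_of_coatom_corefree hmax hcore hPM hPne hMP
  have hPp : IsPGroup p ↥P := P₀.2.map _
  obtain ⟨S, hS⟩ := hPp.exists_le_sylow
  refine ⟨S, ?_⟩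
  by_contra hne
  have hlt : P < (S : Subgroup G) := lt_of_le_of_ne hS (Ne.symm hne)
  -- normaliser grows in the `p`-group `S`
  have hSnil : Group.IsNilpotent ↥(S : Subgroup G) := S.2.isNilpotent
  have hnc : NormalizerCondition ↥(S : Subgroup G) := normalizerCondition_of_isNilpotent
  have hlt' : P.subgroupOf (S : Subgroup G) < ⊤ := by
    rw [lt_top_iff_ne_top]
    intro h
    rw [Subgroup.subgroupOf_eq_top] at h
    exact hne (le_antisymm h hS)
  have h1 := hnc _ hlt'
  obtain ⟨x, hxN, hxP⟩ := SetLike.exists_of_lt h1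
  have hxNG : (x : G) ∈ Subgroup.normalizer (P : Set G) := by
    rw [Subgroup.mem_normalizer_iff] at hxN ⊢
    intro y
    constructor
    · intro hy
      have hyS : y ∈ (S : Subgroup G) := hS hy
      have := (hxN ⟨y, hyS⟩).1 (Subgroup.mem_subgroupOf.2 hy)
      exact Subgroup.mem_subgroupOf.1 this
    · intro hy
      have hyS : y ∈ (S : Subgroup G) := by
        have h2 : (x : G) * y * (x : G)⁻¹ ∈ (S : Subgroup G) := hS hy
        have : y = (x : G)⁻¹ * ((x : G) * y * (x : G)⁻¹) * (x : G) := by group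
        rw [this]
        exact Subgroup.mul_mem _ (Subgroup.mul_mem _ (Subgroup.inv_mem _ x.2) h2) x.2
      have := (hxN ⟨y, hyS⟩).2 (Subgroup.mem_subgroupOf.2 hy)
      exact Subgroup.mem_subgroupOf.1 this
  rw [hNP] at hxNG
  obtain ⟨k, hk⟩ := S.2 x
  have hk' : ((⟨(x : G), hxNG⟩ : ↥M)) ^ p ^ k = 1 := by
    apply Subtype.ext
    simpa using congrArg Subtype.val hk
  have hxP₀ := mem_of_normal_sylow P₀ hP₀n hk'
  exact hxP (Subgroup.mem_subgroupOf.2 ⟨_, hxP₀, rfl⟩)

/-- A normal complement of a Sylow `p`-subgroup has `p'`-order and `p`-power index. -/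
theorem pcomplement_data [Finite G] {p : ℕ} [Fact p.Prime] {K : Subgroup G} {P : Sylow p G}
    (hc : K.IsComplement' (P : Subgroup G)) :
    (Nat.card K).Coprime p ∧ ∃ k, K.index = p ^ k := by
  have hp : p.Prime := Fact.out
  have h1 : Nat.card K * Nat.card (P : Subgroup G) = Nat.card G := hc.card_mul_card
  have h2 := P.card_eq_multiplicity
  have h3 := K.index_mul_card
  have hKpos : 0 < Nat.card K := Nat.card_pos
  constructor
  · rw [Nat.coprime_comm, Nat.Prime.coprime_iff_not_dvd hp]
    intro hdvd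
    have : p ^ ((Nat.card G).factorization p + 1) ∣ Nat.card G := by
      obtain ⟨c, hc⟩ := hdvd
      refine ⟨c, ?_⟩
      generalize (Nat.card G).factorization p = f at h2 ⊢
      rw [← h1, h2, hc, pow_succ]; ring
    exact Nat.pow_succ_factorization_not_dvd Nat.card_pos.ne' hp this
  · refine ⟨(Nat.card G).factorization p, ?_⟩
    rw [← h2]
    have : K.index * Nat.card K = Nat.card (P : Subgroup G) * Nat.card K := by
      rw [h3, ← h1, mul_comm]
    exact Nat.eq_of_mul_eq_mul_right hKpos this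

/-- **Skeleton**: a finite group with a core-free nilpotent maximal subgroup `M` having a normal
`p`-complement for every prime `p` dividing `#M` is solvable. -/
theorem isSolvable_of_nilpotent_coatom_of_pcomplements [Finite G] {M : Subgroup G}
    (hmax : IsCoatom M) (hnil : Group.IsNilpotent ↥M)
    (hcompl : ∀ p : ℕ, p.Prime → p ∣ Nat.card M →
      ∃ K : Subgroup G, K.Normal ∧ (Nat.card K).Coprime p ∧ ∃ k, K.index = p ^ k) :
    Group.IsSolvable G := by
  classical
  let Kf : ℕ → Subgroup G := fun p =>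
    if h : p.Prime ∧ p ∣ Nat.card M then Classical.choose (hcompl p h.1 h.2) else ⊤
  have hKf : ∀ p, p.Prime → p ∣ Nat.card M →
      (Kf p).Normal ∧ (Nat.card (Kf p)).Coprime p ∧ ∃ k, (Kf p).index = p ^ k := by
    intro p hp hpM
    have h : p.Prime ∧ p ∣ Nat.card M := ⟨hp, hpM⟩
    simp only [Kf, dif_pos h]
    exact Classical.choose_spec (hcompl p h.1 h.2)
  set π := (Nat.card M).primeFactors with hπ
  have hmemπ : ∀ p, p ∈ π ↔ p.Prime ∧ p ∣ Nat.card M := by
    intro p
    rw [hπ, Nat.mem_primeFactors]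
    exact ⟨fun h => ⟨h.1, h.2.1⟩, fun h => ⟨h.1, h.2, Nat.card_pos.ne'⟩⟩
  set K : Subgroup G := ⨅ p ∈ π, Kf p with hK
  have hKle : ∀ p ∈ π, K ≤ Kf p := fun p hp => iInf₂_le p hp
  have hKn : K.Normal := by
    rw [hK]
    refine Subgroup.normal_iInf_normal fun p => Subgroup.normal_iInf_normal fun hp => ?_
    exact (hKf p ((hmemπ p).1 hp).1 ((hmemπ p).1 hp).2).1
  -- coprimality
  have hcop : (Nat.card M).Coprime (Nat.card K) := by
    apply Nat.coprime_of_dvd
    intro r hr hrM hrK
    have hrπ : r ∈ π := (hmemπ r).2 ⟨hr, hrM⟩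
    have h1 := (hKf r hr hrM).2.1
    have h2 : Nat.card K ∣ Nat.card (Kf r) := Subgroup.card_dvd_of_le (hKle r hrπ)
    have h3 : r ∣ Nat.card (Kf r) := hrK.trans h2
    have h4 : r ∣ Nat.gcd (Nat.card (Kf r)) r := Nat.dvd_gcd h3 dvd_rfl
    rw [h1] at h4
    exact hr.one_lt.ne' (Nat.dvd_one.1 h4)
  have hdisj : K ⊓ M = ⊥ := Subgroup.inf_eq_bot_of_coprime hcop.symm
  -- the derived series enters `K`
  have hder : ∀ s : Finset ℕ, s ⊆ π → ∃ n, derivedSeries G n ≤ ⨅ p ∈ s, Kf p := by
    intro s
    induction s using Finset.induction_on with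
    | empty => intro _; exact ⟨0, by simp⟩
    | insert a s ha ih =>
      intro hs
      obtain ⟨n₁, hn₁⟩ := ih (fun x hx => hs (Finset.mem_insert_of_mem hx))
      have haπ : a ∈ π := hs (Finset.mem_insert_self a s)
      obtain ⟨ha1, ha2⟩ := (hmemπ a).1 haπ
      obtain ⟨hn, -, k, hk⟩ := hKf a ha1 ha2
      have : Fact a.Prime := ⟨ha1⟩
      have hq : IsPGroup a (G ⧸ Kf a) := by
        apply IsPGroup.of_card (n := k)
        rw [← hk]; rfl
      have hnilq : Group.IsNilpotent (G ⧸ Kf a) := hq.isNilpotent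
      obtain ⟨n₂, hn₂⟩ := exists_derivedSeries_le_of_quotient (Kf a) inferInstance
      refine ⟨max n₁ n₂, ?_⟩
      rw [Finset.iInf_insert]
      exact le_inf ((derivedSeries_antitone G (le_max_right _ _)).trans hn₂)
        ((derivedSeries_antitone G (le_max_left _ _)).trans hn₁)
  obtain ⟨n, hn⟩ := hder π subset_rfl
  -- `K` is solvable
  have hMsolv : Group.IsSolvable ↥M := inferInstance
  have hKsolv : Group.IsSolvable ↥K := by
    by_cases hK1 : K = ⊥
    · rw [hK1]
      exact Group.isSolvable_of_comm (fun a b => Subsingleton.elim _ _)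
    · obtain ⟨q, hq, hKq⟩ := isPGroup_of_normal_disjoint_coatom M K hKn hmax hdisj hcop
        (Or.inl hMsolv) hK1
      have : Fact q.Prime := ⟨hq⟩
      have : Group.IsNilpotent ↥K := hKq.isNilpotent
      infer_instance
  exact isSolvable_of_derivedSeries_le hn hKsolv

theorem isCoatom_map_mk'_of_le {M C : Subgroup G} [C.Normal] (hmax : IsCoatom M) (hCM : C ≤ M) :
    IsCoatom (M.map (QuotientGroup.mk' C)) := by
  have hπs : Function.Surjective (QuotientGroup.mk' C) := QuotientGroup.mk'_surjective _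
  have hcomap : (M.map (QuotientGroup.mk' C)).comap (QuotientGroup.mk' C) = M := by
    rw [Subgroup.comap_map_eq, QuotientGroup.ker_mk', sup_eq_left.2 hCM]
  refine ⟨?_, fun B hB => ?_⟩
  · intro h
    rw [h, Subgroup.comap_top] at hcomap
    exact hmax.1 hcomap.symm
  · have h1 : M < B.comap (QuotientGroup.mk' C) := by
      rw [← hcomap]
      refine lt_of_le_of_ne (Subgroup.comap_mono hB.le) ?_
      intro h
      have := congrArg (Subgroup.map (QuotientGroup.mk' C)) h
      rw [Subgroup.map_comap_eq_self_of_surjective hπs,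
        Subgroup.map_comap_eq_self_of_surjective hπs] at this
      exact hB.ne this
    have h2 := hmax.2 _ h1
    rw [← Subgroup.map_comap_eq_self_of_surjective hπs B, h2, ← MonoidHom.range_eq_map,
      MonoidHom.range_eq_top.2 hπs]

/-- **Induction wrapper**: to prove that groups with a nilpotent maximal subgroup satisfying a
quotient-stable hypothesis are solvable, it suffices to treat the core-free case. -/
theorem isSolvable_of_nilpotent_coatom_induction
    (Hyp : ∀ (X : Type u) [Group X], Subgroup X → Prop)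
    (hquot : ∀ (X : Type u) [Group X] [Finite X] (M C : Subgroup X) [C.Normal], C ≤ M →
      Hyp X M → Hyp (X ⧸ C) (M.map (QuotientGroup.mk' C)))
    (hcorefree : ∀ (X : Type u) [Group X] [Finite X] (M : Subgroup X), IsCoatom M →
      Group.IsNilpotent ↥M → M.normalCore = ⊥ → Hyp X M → Group.IsSolvable X) :
    ∀ (n : ℕ) (X : Type u) [Group X] [Finite X] (M : Subgroup X), Nat.card X = n → IsCoatom M →
      Group.IsNilpotent ↥M → Hyp X M → Group.IsSolvable X := by
  intro n
  induction n using Nat.strong_induction_on with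
  | _ n ih =>
    intro X _ _ M hcard hmax hnil hH
    by_cases hcore : M.normalCore = ⊥
    · exact hcorefree X M hmax hnil hcore hH
    · set C := M.normalCore with hC
      have hCn : C.Normal := Subgroup.normalCore_normal M
      have hCM : C ≤ M := Subgroup.normalCore_le M
      have hlt : Nat.card (X ⧸ C) < n := by
        rw [← hcard, ← Subgroup.index_eq_card, ← Subgroup.index_mul_card C]
        have h1 : 1 < Nat.card C := by
          rw [Nat.one_lt_iff_ne_zero_and_ne_one]
          exact ⟨Nat.card_pos.ne', fun h => hcore (Subgroup.card_eq_one.1 h)⟩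
        have h2 : 0 < C.index := Nat.pos_of_ne_zero Subgroup.index_ne_zero_of_finite
        nlinarith
      have hnilq : Group.IsNilpotent ↥(M.map (QuotientGroup.mk' C)) :=
        Group.nilpotent_of_surjective ((QuotientGroup.mk' C).subgroupMap M)
          ((QuotientGroup.mk' C).subgroupMap_surjective M)
      have hsq : Group.IsSolvable (X ⧸ C) :=
        ih _ hlt (X ⧸ C) (M.map (QuotientGroup.mk' C)) rfl (isCoatom_map_mk'_of_le hmax hCM)
          hnilq (hquot X M C hCM hH)
      have hsM : Group.IsSolvable ↥M := inferInstance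
      have hsC : Group.IsSolvable ↥C :=
        Group.isSolvable_of_isSolvable_injective (f := Subgroup.inclusion hCM) (Subgroup.inclusion_injective hCM)
      exact Group.isSolvable_of_ker_le_range (f := C.subtype) (g := QuotientGroup.mk' C)
        (by rw [QuotientGroup.ker_mk', Subgroup.range_subtype])

end

end Cfsg.Agent.Helper91
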