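import Cfsg.Agent.Helper91.BG159B
import Cfsg.Agent.Helper91.NilpMax
import Cfsg.Agent.Helper22.Subnormal
import Cfsg.Agent.Lib.Cores

/-!
# B-G Theorem 15.9 (S1435), piece (P4): conclusions (2), (4), (5), (6) (helper91)

`concl2456`: in the setting of S1435, given conclusions (1) `κ(H) = ∅` is not needed here,
(3) `M ⊓ H = U ⊔ K`, `H ≠ M`, `|K| ∉ σ(H)`, `H_σ` nilpotent, `H_σ ⊓ M* = 1`, and
`hE`: every complement `E ∋ K` of `H_σ` in `H` lies in `M*`; then
`U ≤ H_σ`, `N_H(U) ⊄ M`, `K ≤ F(H ∩ M*)` and `H ∩ M*` is a complement of `H_σ` in `H`.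
-/

set_option autoImplicit false
set_option linter.unusedVariables false
set_option linter.unusedSectionVars false
set_option linter.style.haveILetI false

namespace Cfsg.Agent.Helper91.BG159

open Cfsg Cfsg.Agent.Helper29.BG10 Cfsg.Agent.Helper68.BG12

variable {G : Type*} [Group G] [Finite G]

/-- (5): `K ≤ F(H ∩ M*)`, from `K ≤ M*_F` (S1364 for `M*`) -/
theorem K_le_fittingOf (hG : Cfsg.IsMinSimpleOddOrder G) (h1352 : H1352 G) (h1364 : H1364 G)
    (M : Subgroup G) (hM : IsCoatom M) (K U : Subgroup G)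
    (hKU : Cfsg.IsSigmaDecomposition M K U) (hK1 : K ≠ ⊥) (Mstar : Subgroup G)
    (hMstar : IsCoatom Mstar)
    (hKst : K = Cfsg.sigmaCore Mstar ⊓
      Subgroup.centralizer ((Cfsg.sigmaCore M ⊓ Subgroup.centralizer (K : Set G)) : Set G))
    (hKstH : Cfsg.IsPiHallOf (Cfsg.kappa Mstar)
      (Cfsg.sigmaCore M ⊓ Subgroup.centralizer (K : Set G)) Mstar)
    (H : Subgroup G) (hKH : K ≤ H) : K ≤ Cfsg.fittingOf (H ⊓ Mstar) := by
  have hKst' : K = Cfsg.sigmaCore Mstar ⊓ Subgroup.centralizer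
      (((Cfsg.sigmaCore M ⊓ Subgroup.centralizer (K : Set G) : Subgroup G)) : Set G) := by
    have h2 : (((Cfsg.sigmaCore M ⊓ Subgroup.centralizer (K : Set G) : Subgroup G)) : Set G) =
        ((Cfsg.sigmaCore M : Set G) ⊓ (Subgroup.centralizer (K : Set G) : Set G)) :=
      Subgroup.coe_inf _ _
    rw [h2]
    exact hKst
  have h64 := h1364 M hM K U hKU hK1
  obtain ⟨⟨Ustar, hdec⟩, -⟩ := h1352 Mstar hMstar _ h64.1 hKstH
  have h64s := (h1364 Mstar hMstar _ Ustar hdec h64.2.1).2.2.1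
  rw [← hKst'] at h64s
  -- `K ≤ F(M*)`
  have hFle : Cfsg.fittingHall ↥Mstar ≤ Cfsg.fittingSubgroup ↥Mstar := by
    unfold Cfsg.fittingHall
    apply sSup_le
    rintro N ⟨hNn, hNnil, -⟩
    exact Cfsg.Agent.Lib.le_fittingSubgroup hNn hNnil
  set FM : Subgroup G := (Cfsg.fittingSubgroup ↥Mstar).map Mstar.subtype with hFM
  have hKFM : K ≤ FM := by
    refine h64s.trans ?_
    unfold Cfsg.fittingHallOf
    exact Subgroup.map_mono hFle
  have hFMle : FM ≤ Mstar := Subgroup.map_subtype_le _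
  have hFMn : Mstar ≤ Subgroup.normalizer (FM : Set G) :=
    Cfsg.Agent.Helper91.le_normalizer_map_subtype_of_normal
      (Cfsg.Agent.Lib.fittingSubgroup_normal (G := ↥Mstar))
  have hFMnil : Group.IsNilpotent ↥FM := Cfsg.Agent.Helper22.isNilpotent_map_fittingSubgroup Mstar
  -- `N = F(M*) ∩ H`
  set N : Subgroup G := FM ⊓ H with hN
  have hNle : N ≤ H ⊓ Mstar := le_inf inf_le_right (inf_le_left.trans hFMle)
  have hNn : H ⊓ Mstar ≤ Subgroup.normalizer (N : Set G) := by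
    intro x hx
    apply Cfsg.Agent.Helper60.BGAsm.mem_normalizer_inf (hFMn hx.2)
    exact Subgroup.le_normalizer hx.1
  have hNnil : Group.IsNilpotent ↥N := by
    have : Group.IsNilpotent ↥(N.subgroupOf FM) := inferInstance
    exact Group.nilpotent_of_mulEquiv (Subgroup.subgroupOfEquivOfLe (inf_le_left : N ≤ FM))
  have := Cfsg.Agent.Helper22.le_map_fittingSubgroup_of_le_normalizer hNle hNn hNnil
  exact (le_inf hKFM hKH).trans this

/-- (4): `N_H(U) ⊄ M`, given `U ≤ H_σ` -/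
theorem normalizer_not_le {M K U H : Subgroup G} (hM : IsCoatom M) (hH : IsCoatom H)
    (hKnU : K ≤ Subgroup.normalizer (U : Set G)) (hq : (Nat.card K).Prime)
    (hMH : M ⊓ H = U ⊔ K) (hHM : H ≠ M)
    (hqσ : ¬ Nat.card K ∣ Nat.card (Cfsg.sigmaCore H))
    (hnil : Group.IsNilpotent (Cfsg.sigmaCore H)) (hUs : U ≤ Cfsg.sigmaCore H) :
    ¬ H ⊓ Subgroup.normalizer (U : Set G) ≤ M := by
  intro hcon
  set Hs := Cfsg.sigmaCore H with hHs
  have hHsH : Hs ≤ H := sigmaCore_le H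
  -- `(U ⊔ K) ⊓ H_σ = U`
  have hW : (U ⊔ K) ⊓ Hs ≤ U := by
    set W := (U ⊔ K) ⊓ Hs with hWdef
    have hUW : U ≤ W := le_inf le_sup_left hUs
    have h1 : Nat.card W ∣ Nat.card K * Nat.card U := by
      have := Cfsg.Agent.Helper22.card_sup_dvd_of_le_normalizer K U hKnU
      rw [sup_comm] at this
      exact (Subgroup.card_dvd_of_le (inf_le_left : W ≤ U ⊔ K)).trans this
    have h2 : Nat.card U ∣ Nat.card W := Subgroup.card_dvd_of_le hUW
    obtain ⟨d, hd⟩ := h2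
    have hUpos : 0 < Nat.card U := Nat.card_pos
    have h3 : d ∣ Nat.card K := by
      rw [hd, mul_comm (Nat.card K)] at h1
      exact Nat.dvd_of_mul_dvd_mul_left hUpos h1
    rcases (Nat.dvd_prime hq).1 h3 with h | h
    · rw [h, mul_one] at hd
      have : W = U := (Subgroup.eq_of_le_of_card_ge hUW hd.le).symm
      rw [this]
    · exfalso
      apply hqσ
      rw [← h]
      exact (Dvd.intro_left _ hd.symm).trans (Subgroup.card_dvd_of_le (inf_le_right : W ≤ Hs))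
  have hNU : Hs ⊓ Subgroup.normalizer (U : Set G) ≤ U := by
    intro x hx
    apply hW
    refine Subgroup.mem_inf.2 ⟨?_, hx.1⟩
    rw [← hMH]
    exact Subgroup.mem_inf.2 ⟨hcon (Subgroup.mem_inf.2 ⟨hHsH hx.1, hx.2⟩), hHsH hx.1⟩
  -- normalizer condition in the nilpotent group `H_σ`
  haveI := hnil
  have hNC : NormalizerCondition ↥Hs := Group.normalizerCondition_of_isNilpotent
  have htop : U.subgroupOf Hs = ⊤ := by
    by_contra hne
    have hlt := hNC (U.subgroupOf Hs) (lt_top_iff_ne_top.2 hne)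
    obtain ⟨y, hyN, hyU⟩ := SetLike.exists_of_lt hlt
    apply hyU
    rw [Subgroup.mem_subgroupOf]
    apply hNU
    refine Subgroup.mem_inf.2 ⟨y.2, ?_⟩
    rw [Subgroup.mem_normalizer_iff]
    intro g
    rw [Subgroup.mem_normalizer_iff] at hyN
    constructor
    · intro hg
      have h1 := (hyN ⟨g, hUs hg⟩).1 (Subgroup.mem_subgroupOf.2 hg)
      exact Subgroup.mem_subgroupOf.1 h1
    · intro hg
      have hgs : g ∈ Hs := by
        have h1 : (y : G)⁻¹ * ((y : G) * g * (y : G)⁻¹) * (y : G) ∈ Hs :=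
          Hs.mul_mem (Hs.mul_mem (Hs.inv_mem y.2) (hUs hg)) y.2
        have h2 : (y : G)⁻¹ * ((y : G) * g * (y : G)⁻¹) * (y : G) = g := by group
        rwa [h2] at h1
      have h1 := (hyN ⟨g, hgs⟩).2 (Subgroup.mem_subgroupOf.2 hg)
      exact Subgroup.mem_subgroupOf.1 h1
  have hHsU : Hs ≤ U := by
    intro x hx
    have : (⟨x, hx⟩ : ↥Hs) ∈ U.subgroupOf Hs := by rw [htop]; trivial
    exact Subgroup.mem_subgroupOf.1 this
  have hUeq : U = Hs := le_antisymm hUs hHsU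
  have hHM' : H ≤ M := by
    intro x hx
    apply hcon
    refine Subgroup.mem_inf.2 ⟨hx, ?_⟩
    rw [hUeq]
    exact Cfsg.Agent.Helper60.BGAsm.le_normalizer_sigmaCore H hx
  rcases eq_or_lt_of_le hHM' with h | h
  · exact hHM h
  · exact hM.1 (hH.2 M h)

/-- **(P4)**: conclusions (2), (4), (5), (6) of S1435 -/
theorem concl2456 (hG : Cfsg.IsMinSimpleOddOrder G) (hU : UniquenessThm G)
    (h1352 : H1352 G) (h1364 : H1364 G) (h1368 : H1368 G)
    (M : Subgroup G) (hM : IsCoatom M) (K U : Subgroup G)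
    (hKU : Cfsg.IsSigmaDecomposition M K U) (hK1 : K ≠ ⊥) (hU1 : U ≠ ⊥) (Mstar : Subgroup G)
    (hMstar : IsCoatom Mstar)
    (hKst : K = Cfsg.sigmaCore Mstar ⊓
      Subgroup.centralizer ((Cfsg.sigmaCore M ⊓ Subgroup.centralizer (K : Set G)) : Set G))
    (hKstH : Cfsg.IsPiHallOf (Cfsg.kappa Mstar)
      (Cfsg.sigmaCore M ⊓ Subgroup.centralizer (K : Set G)) Mstar)
    (H : Subgroup G) (hH : IsCoatom H)
    (hq : (Nat.card K).Prime) (hUab : ∀ a ∈ U, ∀ b ∈ U, a * b = b * a)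
    (hMH : M ⊓ H = U ⊔ K) (hHM : H ≠ M) (hqσ : Nat.card K ∉ Cfsg.sigma H)
    (hnil : Group.IsNilpotent (Cfsg.sigmaCore H))
    (hE : ∀ E : Subgroup G, Cfsg.IsComplIn E (Cfsg.sigmaCore H) H → K ≤ E → E ≤ Mstar)
    (p0 : Cfsg.sigmaCore H ⊓ Mstar = ⊥) :
    U ≤ Cfsg.sigmaCore H ∧ ¬ H ⊓ Subgroup.normalizer (U : Set G) ≤ M ∧
      K ≤ Cfsg.fittingOf (H ⊓ Mstar) ∧ Cfsg.IsComplIn (H ⊓ Mstar) (Cfsg.sigmaCore H) H := by
  have hKH : K ≤ H := le_sup_right.trans (hMH ▸ inf_le_right)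
  have hUH : U ≤ H := le_sup_left.trans (hMH ▸ inf_le_right)
  have hUM : U ≤ M := hKU.compl.1
  have hKσ : ∀ p : ℕ, p.Prime → p ∣ Nat.card K → p ∉ Cfsg.sigma H := by
    intro p hp hd
    rw [(Nat.prime_dvd_prime_iff_eq hp hq).1 hd]
    exact hqσ
  have hHall := (thm_10_2_sigma hG hU H hH).1
  -- a subgroup of `U` inside `M*` is trivial
  have hUMs : ∀ B : Subgroup G, B ≤ U → B ≤ Mstar → B = ⊥ := by
    intro B hBU hBMs
    have h68 := (h1368 M hM K U hKU hK1 Mstar hMstar hKst hKstH).1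
    have h1 : B ≤ K ⊔ Cfsg.sigmaCore M := by
      have : B ≤ M ⊓ Mstar := le_inf (hBU.trans hUM) hBMs
      rw [h68] at this
      exact this.trans (sup_le_sup_left inf_le_left K)
    have h2 : U ⊓ (K ⊔ Cfsg.sigmaCore M) = ⊥ := hKU.compl.2.2.1
    rw [eq_bot_iff, ← h2]
    exact le_inf hBU h1
  -- (2)
  have hprimes : ∀ p : ℕ, p.Prime → p ∣ Nat.card U → p ∈ Cfsg.sigma H := by
    intro p hpp hpU
    by_contra hpσ
    haveI : Fact p.Prime := ⟨hpp⟩
    set B := Setting.omegaSub U hUab p with hB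
    have hBU : B ≤ U := fun u hu => hu.1
    have hBp : ∀ b ∈ B, b ^ p = 1 := fun b hb => hb.2
    have hB1 : B ≠ ⊥ := Setting.omegaSub_ne_bot hUab hpU
    have hKB : K ≤ Subgroup.normalizer (B : Set G) := by
      apply Cfsg.Agent.Helper60.BGAsm.le_normalizer_of_forall_conj_mem
      intro k hk b hb
      refine ⟨(Subgroup.mem_normalizer_iff.1 (hKU.normal hk) b).1 hb.1, ?_⟩
      rw [conj_pow, hb.2, mul_one, mul_inv_cancel]
    have hBpg : IsPGroup p B := by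
      intro x
      refine ⟨1, Subtype.ext ?_⟩
      simpa using hBp x x.2
    have hY : ∀ p' : ℕ, p'.Prime → p' ∣ Nat.card ↥(B ⊔ K) → p' ∉ Cfsg.sigma H := by
      intro p' hp' hd
      have h1 : Nat.card ↥(K ⊔ B) ∣ Nat.card K * Nat.card B :=
        Cfsg.Agent.Helper22.card_sup_dvd_of_le_normalizer K B hKB
      rw [sup_comm] at hd
      rcases (Nat.Prime.dvd_mul hp').1 (hd.trans h1) with h | h
      · exact hKσ p' hp' h
      · obtain ⟨n, hn⟩ := IsPGroup.iff_card.1 hBpg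
        rw [hn] at h
        rw [(Nat.prime_dvd_prime_iff_eq hp' hpp).1 (hp'.dvd_of_dvd_pow h)]
        exact hpσ
    obtain ⟨E, hEc, hBKE⟩ := Cfsg.Agent.Helper71.BGHall.exists_isComplIn_sigmaCore_ge hG hU hH
      (sup_le (hBU.trans hUH) hKH) hY
    have hEMs := hE E hEc (le_sup_right.trans hBKE)
    exact hB1 (hUMs B hBU ((le_sup_left.trans hBKE).trans hEMs))
  have hUs : U ≤ Cfsg.sigmaCore H := by
    apply Cfsg.Agent.Helper60.BGAsm.le_of_coprime_relIndex
      (Cfsg.Agent.Helper60.BGAsm.le_normalizer_sigmaCore H) hUH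
    exact Nat.coprime_of_dvd fun p hp h1 h2 => hHall.2.2 p hp (hprimes p hp h1) h2
  -- (6)
  obtain ⟨E, hEc, hKE⟩ := Cfsg.Agent.Helper71.BGHall.exists_isComplIn_sigmaCore_ge hG hU hH
    hKH hKσ
  have hEMs := hE E hEc hKE
  have h6 : Cfsg.IsComplIn (H ⊓ Mstar) (Cfsg.sigmaCore H) H := by
    refine ⟨inf_le_left, sigmaCore_le H, ?_, ?_⟩
    · rw [eq_bot_iff, ← p0]
      exact le_inf inf_le_right (inf_le_left.trans inf_le_right)
    · intro h hh
      obtain ⟨a, ha, b, hb, hab⟩ := hEc.2.2.2 h hh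
      exact ⟨a, Subgroup.mem_inf.2 ⟨hEc.1 ha, hEMs ha⟩, b, hb, hab⟩
  -- (4)
  have hqdvd : ¬ Nat.card K ∣ Nat.card (Cfsg.sigmaCore H) := fun h =>
    hqσ (hHall.2.1 _ hq h)
  exact ⟨hUs, normalizer_not_le hM hH hKU.normal hq hMH hHM hqdvd hnil hUs,
    K_le_fittingOf hG h1352 h1364 M hM K U hKU hK1 Mstar hMstar hKst hKstH H hKH, h6⟩

end Cfsg.Agent.Helper91.BG159
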