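import Mathlib
import Cfsg.Agent.Helper3.E27Defs

/-!
# S3701 (helper3's WANTED #6444), piece (B3): Gram matrix of multiplicity differences.  helper91.

`gram'` takes the needed facts of (B0) `lam_facts` and (B2) `col_orth` as explicit hypotheses.
-/

set_option autoImplicit false
open Cfsg Finset
open scoped ComplexConjugate

namespace Cfsg.Agent.Helper91.E27
open Cfsg.Agent.Helper3.E27

universe u

section B
variable (ζ : ℂ)
variable {G : Type u} [Group G] [Fintype G] {τ : Vec → G}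

/-- the basic pairing: `∑ χ, (m u χ - m u' χ) * m w χ`. -/
theorem pairing [Fintype (IrrCharacter G)]
    (hswap : ∀ σ u v : Vec, lam ζ (σ * u) v = lam ζ u (σ * v))
    (hzero : ∀ u : Vec, lam ζ u 0 = 1)
    (horth : ∀ u w : Vec, ∑ v : Vec, lam ζ u v * conj (lam ζ w v) = if u = w then 27 else 0)
    (hcol : ∀ v v' : Vec, v ≠ 0 →
      ∑ χ : IrrCharacter G, (χ : G → ℂ) (τ v) * conj ((χ : G → ℂ) (τ v')) =
        27 * ((Vs.filter (fun σ => σ * v = v')).card : ℂ))
    (m : Vec → IrrCharacter G → ℕ) (hm : IsMult τ ζ m) (u u' w : Vec) :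
    ∑ χ : IrrCharacter G, ((m u χ : ℂ) - m u' χ) * (m w χ : ℂ) =
      ∑ σ ∈ Vs, ((if u = σ * w then (1 : ℂ) else 0) - (if u' = σ * w then 1 else 0)) := by
  classical
  have ha0 : conj (lam ζ u 0) - conj (lam ζ u' 0) = 0 := by
    rw [hzero, hzero, sub_self]
  have hA : ∀ χ : IrrCharacter G, ((m u χ : ℂ) - m u' χ) = (1 / 27 : ℂ) *
      ∑ v : Vec, (χ : G → ℂ) (τ v) * (conj (lam ζ u v) - conj (lam ζ u' v)) := by
    intro χ
    rw [hm u χ, hm u' χ, ← mul_sub, ← Finset.sum_sub_distrib]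
    congr 1
    refine Finset.sum_congr rfl fun v _ => ?_
    ring
  have hB : ∀ χ : IrrCharacter G, (m w χ : ℂ) = (1 / 27 : ℂ) *
      ∑ v : Vec, lam ζ w v * conj ((χ : G → ℂ) (τ v)) := by
    intro χ
    have h1 : conj ((m w χ : ℂ)) = (m w χ : ℂ) := Complex.conj_natCast _
    rw [← h1, hm w χ, map_mul, map_sum]
    congr 1
    · simp only [map_div₀, map_one]
      congr 1
      exact Complex.conj_ofNat 27
    · refine Finset.sum_congr rfl fun v _ => ?_
      rw [map_mul, Complex.conj_conj, mul_comm]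
  -- step 2': `∑ χ, χ (τ v) * m w χ`, multiplied by `a v`
  have h2 : ∀ v : Vec, (conj (lam ζ u v) - conj (lam ζ u' v)) *
      ∑ χ : IrrCharacter G, (χ : G → ℂ) (τ v) * (m w χ : ℂ) =
      (conj (lam ζ u v) - conj (lam ζ u' v)) * ∑ σ ∈ Vs, lam ζ (σ * w) v := by
    intro v
    by_cases hv : v = 0
    · rw [hv, ha0, zero_mul, zero_mul]
    · congr 1
      have h3 : ∑ χ : IrrCharacter G, (χ : G → ℂ) (τ v) * (m w χ : ℂ) =
          (1 / 27 : ℂ) * ∑ v' : Vec, lam ζ w v' *
            ∑ χ : IrrCharacter G, (χ : G → ℂ) (τ v) * conj ((χ : G → ℂ) (τ v')) := by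
        simp only [hB, Finset.mul_sum]
        rw [Finset.sum_comm]
        refine Finset.sum_congr rfl fun v' _ => Finset.sum_congr rfl fun χ _ => ?_
        ring
      rw [h3]
      have h4 : ∀ v' : Vec, lam ζ w v' *
          ∑ χ : IrrCharacter G, (χ : G → ℂ) (τ v) * conj ((χ : G → ℂ) (τ v')) =
          27 * ∑ σ ∈ Vs, if σ * v = v' then lam ζ w v' else 0 := by
        intro v'
        rw [hcol v v' hv, Finset.card_filter]
        push_cast
        rw [Finset.mul_sum, Finset.mul_sum, Finset.mul_sum]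
        refine Finset.sum_congr rfl fun σ _ => ?_
        split_ifs <;> ring
      simp only [h4]
      rw [← Finset.mul_sum, Finset.sum_comm]
      have h5 : ∀ σ ∈ Vs, ∑ v' : Vec, (if σ * v = v' then lam ζ w v' else 0) = lam ζ (σ * w) v := by
        intro σ _
        rw [Finset.sum_ite_eq, if_pos (Finset.mem_univ _), hswap]
      rw [Finset.sum_congr rfl h5]
      ring
  -- step 1'
  have h1 : ∑ χ : IrrCharacter G, ((m u χ : ℂ) - m u' χ) * (m w χ : ℂ) =
      (1 / 27 : ℂ) * ∑ v : Vec, (conj (lam ζ u v) - conj (lam ζ u' v)) *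
        ∑ χ : IrrCharacter G, (χ : G → ℂ) (τ v) * (m w χ : ℂ) := by
    simp only [hA, Finset.mul_sum, Finset.sum_mul]
    rw [Finset.sum_comm]
    refine Finset.sum_congr rfl fun v _ => Finset.sum_congr rfl fun χ _ => ?_
    ring
  rw [h1]
  simp only [h2]
  -- now orthogonality
  have h6 : ∑ v : Vec, (conj (lam ζ u v) - conj (lam ζ u' v)) * ∑ σ ∈ Vs, lam ζ (σ * w) v =
      ∑ σ ∈ Vs, ((if σ * w = u then (27 : ℂ) else 0) - (if σ * w = u' then 27 else 0)) := by
    simp only [Finset.mul_sum]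
    rw [Finset.sum_comm]
    refine Finset.sum_congr rfl fun σ _ => ?_
    rw [← horth (σ * w) u, ← horth (σ * w) u', ← Finset.sum_sub_distrib]
    refine Finset.sum_congr rfl fun v _ => ?_
    ring
  rw [h6, Finset.mul_sum]
  refine Finset.sum_congr rfl fun σ _ => ?_
  by_cases h7 : u = σ * w <;> by_cases h8 : u' = σ * w <;>
    simp [h7, h8, eq_comm]

/-- (B3), primed: Gram matrix of multiplicity differences. -/
theorem gram' [Fintype (IrrCharacter G)]
    (hswap : ∀ σ u v : Vec, lam ζ (σ * u) v = lam ζ u (σ * v))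
    (hzero : ∀ u : Vec, lam ζ u 0 = 1)
    (horth : ∀ u w : Vec, ∑ v : Vec, lam ζ u v * conj (lam ζ w v) = if u = w then 27 else 0)
    (hcol : ∀ v v' : Vec, v ≠ 0 →
      ∑ χ : IrrCharacter G, (χ : G → ℂ) (τ v) * conj ((χ : G → ℂ) (τ v')) =
        27 * ((Vs.filter (fun σ => σ * v = v')).card : ℂ))
    (m : Vec → IrrCharacter G → ℕ) (hm : IsMult τ ζ m) (u u' w w' : Vec) :
    ∑ χ : IrrCharacter G, ((m u χ : ℤ) - m u' χ) * ((m w χ : ℤ) - m w' χ) =
      ∑ σ ∈ Vs, ((if u = σ * w then (1 : ℤ) else 0) - (if u = σ * w' then 1 else 0)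
        - (if u' = σ * w then 1 else 0) + (if u' = σ * w' then 1 else 0)) := by
  classical
  have p1 := pairing ζ hswap hzero horth hcol m hm u u' w
  have p2 := pairing ζ hswap hzero horth hcol m hm u u' w'
  apply Int.cast_injective (α := ℂ)
  push_cast
  have e1 : ∑ χ : IrrCharacter G, ((m u χ : ℂ) - m u' χ) * ((m w χ : ℂ) - m w' χ) =
      ∑ χ : IrrCharacter G, ((m u χ : ℂ) - m u' χ) * (m w χ : ℂ) -
        ∑ χ : IrrCharacter G, ((m u χ : ℂ) - m u' χ) * (m w' χ : ℂ) := by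
    rw [← Finset.sum_sub_distrib]
    refine Finset.sum_congr rfl fun χ _ => ?_
    ring
  rw [e1, p1, p2, ← Finset.sum_sub_distrib]
  refine Finset.sum_congr rfl fun σ _ => ?_
  ring

end B

end Cfsg.Agent.Helper91.E27
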