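import Mathlib
import Cfsg.Agent.Helper3.E27Defs
import Cfsg.Agent.Helper79.ClassMult

/-!
# S3701 (helper3's WANTED #6444), piece (B8): localized third moments.  helper91.
-/

set_option autoImplicit false
open Cfsg Finset
open scoped ComplexConjugate

namespace Cfsg.Agent.Helper91.E27
open Cfsg.Agent.Helper3.E27 Cfsg.Agent.Helper3.S3S3

universe u

section B
variable (ζ : ℂ)
variable {G : Type u} [Group G] [Fintype G] {T : Subgroup G} {τ : Vec → G} {a b : G}

/-- the multiplicities are real: the conjugate formula. -/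
theorem mult_conj (m : Vec → IrrCharacter G → ℕ) (hm : IsMult τ ζ m) (w : Vec)
    (χ : IrrCharacter G) : (m w χ : ℂ) = (1 / 27 : ℂ) *
      ∑ v : Vec, lam ζ w v * conj ((χ : G → ℂ) (τ v)) := by
  have h1 : conj ((m w χ : ℂ)) = (m w χ : ℂ) := Complex.conj_natCast _
  rw [← h1, hm w χ, map_mul, map_sum]
  congr 1
  · simp only [map_div₀, map_one]
    congr 1
    exact Complex.conj_ofNat 27
  · refine Finset.sum_congr rfl fun v _ => ?_
    rw [map_mul, Complex.conj_conj, mul_comm]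

/-- (B8) localized third moments. -/
theorem third_moment [DecidableEq G] [Fintype (IrrCharacter G)] (h : HCfg T τ a b)
    (m : Vec → IrrCharacter G → ℕ) (hm : IsMult τ ζ m) (u w : Vec) (k₁ k₂ : G) :
    ∑ χ : IrrCharacter G, (χ : G → ℂ) k₁ * (χ : G → ℂ) k₂ * ((m u χ : ℂ) - m w χ)
        / (χ : G → ℂ) 1 =
      (1 / (27 * (Nat.card G : ℂ))) *
        ∑ v : Vec, (lam ζ u v - lam ζ w v) * (pairCount k₁ k₂ (τ v) : ℂ) := by
  classical
  have hG : (Nat.card G : ℂ) ≠ 0 := by
    have : 0 < Nat.card G := Nat.card_pos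
    exact_mod_cast this.ne'
  have hpc : ∀ v : Vec, (pairCount k₁ k₂ (τ v) : ℂ) = (Nat.card G : ℂ) *
      ∑ χ : IrrCharacter G, (χ : G → ℂ) k₁ * (χ : G → ℂ) k₂ * conj ((χ : G → ℂ) (τ v)) /
        (χ : G → ℂ) 1 := by
    intro v
    unfold pairCount
    exact Cfsg.Agent.Helper79.card_conj_mul_conj_eq (G := G) k₁ k₂ (τ v)
  have hdiff : ∀ χ : IrrCharacter G, ((m u χ : ℂ) - m w χ) = (1 / 27 : ℂ) *
      ∑ v : Vec, (lam ζ u v - lam ζ w v) * conj ((χ : G → ℂ) (τ v)) := by
    intro χ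
    rw [mult_conj ζ m hm u χ, mult_conj ζ m hm w χ, ← mul_sub, ← Finset.sum_sub_distrib]
    congr 1
    refine Finset.sum_congr rfl fun v _ => ?_
    ring
  simp only [hpc, hdiff, Finset.mul_sum, Finset.sum_mul, Finset.sum_div]
  rw [Finset.sum_comm]
  refine Finset.sum_congr rfl fun v _ => Finset.sum_congr rfl fun χ _ => ?_
  field_simp

end B

end Cfsg.Agent.Helper91.E27
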