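/-
Helper91: general lemmas for piece (D6) of helper30's S4150 (a (3,3)-element and a 5-cycle on six
points generate `A_6` or a copy of `A_5`).
-/
import Mathlib

set_option autoImplicit false

open Equiv Equiv.Perm

namespace Cfsg.Agent.Helper91.GenD6

/-! ### small permutation facts -/

/-- a permutation of odd order is even -/
theorem sign_eq_one_of_pow_odd {α : Type*} [Fintype α] [DecidableEq α] (g : Perm α) {k : ℕ}
    (hk : Odd k) (hg : g ^ k = 1) : Equiv.Perm.sign g = 1 := by
  have h1 : (Equiv.Perm.sign g) ^ k = 1 := by rw [← map_pow, hg, map_one]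
  rcases Int.units_eq_one_or (Equiv.Perm.sign g) with h | h
  · exact h
  · rw [h, hk.neg_one_pow] at h1
    exact absurd h1 (by decide)

/-- a permutation of prime order `p` moving fewer than `2p` points has cycle type `{p}` -/
theorem cycleType_of_prime_order {α : Type*} [Fintype α] [DecidableEq α] (g : Perm α) {p : ℕ}
    (hp : p.Prime) (hg : orderOf g = p) (hc : g.support.card < 2 * p) : g.cycleType = {p} := by
  obtain ⟨n, hn⟩ := Equiv.Perm.cycleType_prime_order (σ := g) (by rw [hg]; exact hp)
  rw [hg] at hn
  have hs : g.cycleType.sum = (n + 1) * p := by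
    rw [hn, Multiset.sum_replicate, smul_eq_mul]
  rw [Equiv.Perm.sum_cycleType] at hs
  have hn0 : n = 0 := by
    by_contra h
    have : 2 ≤ n + 1 := by omega
    have : 2 * p ≤ (n + 1) * p := Nat.mul_le_mul_right p this
    omega
  rw [hn, hn0]
  rfl

theorem cycleType_permCongr {α β : Type*} [Fintype α] [DecidableEq α] [Fintype β] [DecidableEq β]
    (e : α ≃ β) (g : Perm α) : (e.permCongr g).cycleType = g.cycleType := by
  let f : α ≃ Subtype (fun _ : β => True) := e.trans (Equiv.subtypeUnivEquiv (fun _ => trivial)).symm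
  have h : g.extendDomain f = e.permCongr g := by
    ext b
    rw [Equiv.Perm.extendDomain_apply_subtype _ _ trivial]
    simp [f]
  rw [← h, Equiv.Perm.cycleType_extendDomain]

/-! ### two generators of `A_5` -/

theorem closure_eq_alt_five (a b : Perm (Fin 5)) (ha : orderOf a = 3) (hb : orderOf b = 5) :
    Subgroup.closure ({a, b} : Set (Perm (Fin 5))) = alternatingGroup (Fin 5) := by
  have hact : a.cycleType = {3} :=
    cycleType_of_prime_order a Nat.prime_three ha (by
      have := a.support.card_le_univ
      simp at this; omega)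
  have hbct : b.cycleType = {5} :=
    cycleType_of_prime_order b Nat.prime_five hb (by
      have := b.support.card_le_univ
      simp at this; omega)
  have ha3 : a.IsThreeCycle := hact
  have hbc : b.IsCycle := by
    rw [← Equiv.Perm.card_cycleType_eq_one, hbct]; rfl
  have hbs : b.support = Finset.univ := by
    apply Finset.eq_univ_of_card
    rw [← Equiv.Perm.sum_cycleType, hbct]; rfl
  have hbm : ∀ x, b x ≠ x := fun x => by
    rw [← Equiv.Perm.mem_support, hbs]; exact Finset.mem_univ _
  apply le_antisymm
  · rw [Subgroup.closure_le]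
    intro g hg
    rcases hg with rfl | rfl
    · exact Equiv.Perm.mem_alternatingGroup.2
        (sign_eq_one_of_pow_odd _ (by decide : Odd 3)
          (by have := pow_orderOf_eq_one g; rwa [ha] at this))
    · exact Equiv.Perm.mem_alternatingGroup.2
        (sign_eq_one_of_pow_odd _ (by decide : Odd 5)
          (by have := pow_orderOf_eq_one g; rwa [hb] at this))
  · set H := Subgroup.closure ({a, b} : Set (Perm (Fin 5))) with hH
    have haH : a ∈ H := Subgroup.subset_closure (by simp)
    have hbH : b ∈ H := Subgroup.subset_closure (by simp)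
    have htr : MulAction.IsPretransitive H (Fin 5) := by
      constructor
      intro x y
      obtain ⟨i, hi⟩ := hbc.exists_zpow_eq (hbm x) (hbm y)
      exact ⟨⟨b ^ i, H.zpow_mem hbH i⟩, hi⟩
    have hprim : MulAction.IsPreprimitive H (Fin 5) := by
      apply MulAction.IsPreprimitive.of_prime_card
      rw [Nat.card_eq_fintype_card, Fintype.card_fin]
      exact Nat.prime_five
    exact Equiv.Perm.alternatingGroup_le_of_isPreprimitive_of_isThreeCycle_mem hprim ha3 haH

/-! ### the normaliser of a finite family and its permutation action -/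

section Norm

variable {G : Type*} [Group G] {ι : Type*}

/-- elements permuting the family `s` by conjugation -/
def normSub (s : ι → G) : Subgroup G where
  carrier := {g | ∃ π : Perm ι, ∀ i, g * s i * g⁻¹ = s (π i)}
  one_mem' := ⟨1, fun i => by simp⟩
  mul_mem' := by
    rintro g h ⟨π, hπ⟩ ⟨ρ, hρ⟩
    refine ⟨π * ρ, fun i => ?_⟩
    rw [Equiv.Perm.mul_apply, ← hπ, ← hρ]
    group
  inv_mem' := by
    rintro g ⟨π, hπ⟩
    refine ⟨π⁻¹, fun i => ?_⟩
    have := hπ (π⁻¹ i)
    have h2 : π (π⁻¹ i) = i := by simp
    rw [h2] at this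
    rw [← this]
    group

theorem mem_normSub_of [Finite ι] {s : ι → G} (hs : Function.Injective s) (g : G)
    (h : ∀ i, ∃ j, g * s i = s j * g) : g ∈ normSub s := by
  choose f hf using h
  have hfi : Function.Injective f := by
    intro i j hij
    have h1 := hf i
    have h2 := hf j
    rw [hij] at h1
    have : g * s i = g * s j := by rw [h1, h2]
    exact hs (mul_left_cancel this)
  have hfb : Function.Bijective f := Finite.injective_iff_bijective.1 hfi
  refine ⟨Equiv.ofBijective f hfb, fun i => ?_⟩
  rw [hf i]
  simp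

/-- the induced permutation -/
noncomputable def normHom {s : ι → G} (hs : Function.Injective s) : ↥(normSub s) →* Perm ι where
  toFun g := Classical.choose g.2
  map_one' := by
    ext i
    apply hs
    have := Classical.choose_spec (1 : ↥(normSub s)).2 i
    rw [← this]
    simp
  map_mul' := by
    intro g h
    ext i
    apply hs
    have h1 := Classical.choose_spec (g * h).2 i
    have h2 := Classical.choose_spec g.2 (Classical.choose h.2 i)
    have h3 := Classical.choose_spec h.2 i
    rw [Equiv.Perm.mul_apply, ← h1, ← h2, ← h3]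
    simp only [Subgroup.coe_mul]
    group

theorem normHom_spec {s : ι → G} (hs : Function.Injective s) (g : ↥(normSub s)) (i : ι) :
    (g : G) * s i * (g : G)⁻¹ = s (normHom hs g i) :=
  Classical.choose_spec g.2 i

theorem normHom_injective {s : ι → G} (hs : Function.Injective s)
    (hc : ∀ g : G, (∀ i, g * s i = s i * g) → g = 1) : Function.Injective (normHom hs) := by
  rw [injective_iff_map_eq_one]
  intro g hg
  apply Subtype.ext
  apply hc
  intro i
  have := normHom_spec hs g i
  rw [hg, Equiv.Perm.one_apply] at this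
  calc (g : G) * s i = ((g : G) * s i * (g : G)⁻¹) * g := by group
    _ = s i * g := by rw [this]

/-- if two elements of orders `3` and `5` permute a family of five elements with trivial common
centraliser, they generate a copy of `A_5`. -/
theorem nonempty_mulEquiv_alt_five {s : Fin 5 → G} (hs : Function.Injective s)
    (hc : ∀ g : G, (∀ i, g * s i = s i * g) → g = 1) (x y : G) (hx : x ∈ normSub s)
    (hy : y ∈ normSub s) (hx3 : orderOf x = 3) (hy5 : orderOf y = 5) :
    Nonempty (↥(Subgroup.closure ({x, y} : Set G)) ≃* ↥(alternatingGroup (Fin 5))) := by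
  set N := normSub s with hN
  set x' : ↥N := ⟨x, hx⟩ with hx'
  set y' : ↥N := ⟨y, hy⟩ with hy'
  set K : Subgroup ↥N := Subgroup.closure ({x', y'} : Set ↥N) with hK
  have hinj := normHom_injective hs hc
  have h1 : K.map N.subtype = Subgroup.closure ({x, y} : Set G) := by
    rw [hK, MonoidHom.map_closure, Set.image_pair]
    rfl
  have h2 : K.map (normHom hs) = alternatingGroup (Fin 5) := by
    rw [hK, MonoidHom.map_closure, Set.image_pair]
    apply closure_eq_alt_five
    · rw [orderOf_injective _ hinj]
      exact (Subgroup.orderOf_coe x').symm.trans hx3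
    · rw [orderOf_injective _ hinj]
      exact (Subgroup.orderOf_coe y').symm.trans hy5
  exact ⟨((MulEquiv.subgroupCongr h1).symm.trans
    (K.equivMapOfInjective N.subtype (Subgroup.subtype_injective N)).symm).trans
    ((K.equivMapOfInjective (normHom hs) hinj).trans (MulEquiv.subgroupCongr h2))⟩

end Norm

/-! ### a one-point-stabiliser criterion for containing the alternating group -/

theorem alt_le_closure_of_threeCycle {α : Type*} [Fintype α] [DecidableEq α] (σ τ : Perm α) (p : α)
    (hτ : τ.IsCycle) (hp : τ p = p) (hmove : ∀ x, x ≠ p → τ x ≠ x) (hσp : σ p ≠ p)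
    (w : Perm α) (hw : w ∈ Subgroup.closure ({σ, τ} : Set (Perm α))) (h3 : w.IsThreeCycle) :
    alternatingGroup α ≤ Subgroup.closure ({σ, τ} : Set (Perm α)) := by
  set H := Subgroup.closure ({σ, τ} : Set (Perm α)) with hH
  have hσH : σ ∈ H := Subgroup.subset_closure (by simp)
  have hτH : τ ∈ H := Subgroup.subset_closure (by simp)
  -- every point can be moved to `p`
  have hT : ∀ x, ∃ g ∈ H, g x = p := by
    intro x
    by_cases hx : x = p
    · exact ⟨1, H.one_mem, by simp [hx]⟩
    · obtain ⟨i, hi⟩ := hτ.exists_zpow_eq (hmove x hx) (hmove (σ p) hσp)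
      refine ⟨σ⁻¹ * τ ^ i, H.mul_mem (H.inv_mem hσH) (H.zpow_mem hτH i), ?_⟩
      rw [Equiv.Perm.mul_apply, hi]
      simp
  -- the stabiliser of `p` is transitive on the other points
  have hS : ∀ x y, x ≠ p → y ≠ p → ∃ h ∈ H, h p = p ∧ h x = y := by
    intro x y hx hy
    obtain ⟨i, hi⟩ := hτ.exists_zpow_eq (hmove x hx) (hmove y hy)
    refine ⟨τ ^ i, H.zpow_mem hτH i, ?_, hi⟩
    exact (Equiv.Perm.zpow_apply_eq_self_of_apply_eq_self hp i)
  have h2 : MulAction.IsMultiplyPretransitive H α 2 := by
    rw [MulAction.is_two_pretransitive_iff]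
    intro a b c d hab hcd
    obtain ⟨g1, hg1, h1⟩ := hT a
    obtain ⟨g2, hg2, h2⟩ := hT c
    have hb : g1 b ≠ p := fun h => hab (g1.injective (h1.trans h.symm))
    have hd : g2 d ≠ p := fun h => hcd (g2.injective (h2.trans h.symm))
    obtain ⟨h, hh, hhp, hhx⟩ := hS (g1 b) (g2 d) hb hd
    refine ⟨⟨g2⁻¹ * h * g1, H.mul_mem (H.mul_mem (H.inv_mem hg2) hh) hg1⟩, ?_, ?_⟩
    · show (g2⁻¹ * h * g1) a = c
      rw [Equiv.Perm.mul_apply, Equiv.Perm.mul_apply, h1, hhp, ← h2]
      simp
    · show (g2⁻¹ * h * g1) b = d
      rw [Equiv.Perm.mul_apply, Equiv.Perm.mul_apply, hhx]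
      simp
  have hprim : MulAction.IsPreprimitive H α := MulAction.isPreprimitive_of_is_two_pretransitive h2
  exact Equiv.Perm.alternatingGroup_le_of_isPreprimitive_of_isThreeCycle_mem hprim h3 hw

/-! ### transport along a bijection -/

theorem transport {α β : Type*} [Fintype α] [DecidableEq α] [Fintype β] [DecidableEq β]
    (e : α ≃ β) (σ τ : Perm α)
    (h : Subgroup.closure ({e.permCongr σ, e.permCongr τ} : Set (Perm β)) = alternatingGroup β ∨
      Nonempty (↥(Subgroup.closure ({e.permCongr σ, e.permCongr τ} : Set (Perm β))) ≃*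
        ↥(alternatingGroup (Fin 5)))) :
    Subgroup.closure ({σ, τ} : Set (Perm α)) = alternatingGroup α ∨
      Nonempty (↥(Subgroup.closure ({σ, τ} : Set (Perm α))) ≃* ↥(alternatingGroup (Fin 5))) := by
  set φ : Perm α ≃* Perm β := e.permCongrHom with hφ
  have hφa : ∀ g, φ g = e.permCongr g := fun g => rfl
  have hmap : (Subgroup.closure ({σ, τ} : Set (Perm α))).map φ.toMonoidHom =
      Subgroup.closure ({e.permCongr σ, e.permCongr τ} : Set (Perm β)) := by
    rw [MonoidHom.map_closure, Set.image_pair]
    rfl
  have halt : (alternatingGroup α).map φ.toMonoidHom = alternatingGroup β := by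
    ext g
    rw [Subgroup.mem_map, Equiv.Perm.mem_alternatingGroup]
    constructor
    · rintro ⟨x, hx, rfl⟩
      show Equiv.Perm.sign (e.permCongr x) = 1
      rw [Equiv.Perm.sign_permCongr]
      exact Equiv.Perm.mem_alternatingGroup.1 hx
    · intro hg
      refine ⟨φ.symm g, ?_, by simp⟩
      rw [Equiv.Perm.mem_alternatingGroup]
      have : Equiv.Perm.sign (e.permCongr (φ.symm g)) = Equiv.Perm.sign (φ.symm g) :=
        Equiv.Perm.sign_permCongr e _
      rw [← this]
      have h2 : e.permCongr (φ.symm g) = g := φ.apply_symm_apply g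
      rw [h2, hg]
  rcases h with h | h
  · left
    rw [← hmap, ← halt] at h
    exact Subgroup.map_injective φ.injective h
  · right
    obtain ⟨f⟩ := h
    exact ⟨(((Subgroup.closure ({σ, τ} : Set (Perm α))).equivMapOfInjective φ.toMonoidHom
      φ.injective).trans (MulEquiv.subgroupCongr hmap)).trans f⟩

end Cfsg.Agent.Helper91.GenD6
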