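/-
Helper91: piece (D6) for helper30 (S4150): on six points, an element of cycle type (3,3) and a
5-cycle generate `A_6` or a group isomorphic to `A_5`.

Route: transport to `Fin 6` with the 5-cycle in standard position `c0`; a kernel-checked
enumeration shows that the (3,3)-element either permutes (by conjugation) the five synthemes of
the total fixed by `c0` (then the group embeds into `Sym(5)` with image `A_5`), or some
`σ * c0 ^ k` is a 3-cycle (then Jordan's theorem gives `A_6`).
-/
import Mathlib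
import Cfsg.Agent.Helper91.GenD6a

set_option autoImplicit false

open Equiv Equiv.Perm

namespace Cfsg.Agent.Helper91.GenD6

/-- the standard 5-cycle `(0 1 2 3 4)` on six points -/
def c0 : Perm (Fin 6) := ⟨![1,2,3,4,0,5], ![4,0,1,2,3,5], by decide, by decide⟩

/-- the five synthemes of the total fixed by `c0` -/
def syn : Fin 5 → Perm (Fin 6) := ![
  ⟨![1,0,4,5,2,3], ![1,0,4,5,2,3], by decide, by decide⟩,
  ⟨![2,5,0,4,3,1], ![2,5,0,4,3,1], by decide, by decide⟩,
  ⟨![3,2,1,0,5,4], ![3,2,1,0,5,4], by decide, by decide⟩,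
  ⟨![4,3,5,1,0,2], ![4,3,5,1,0,2], by decide, by decide⟩,
  ⟨![5,4,3,2,1,0], ![5,4,3,2,1,0], by decide, by decide⟩]

set_option maxRecDepth 100000 in
theorem dichotomy : ∀ σ : Perm (Fin 6), σ * σ * σ = 1 → (∀ i, σ i ≠ i) →
    (∀ i : Fin 5, ∃ j : Fin 5, σ * syn i = syn j * σ) ∨
      (∃ k : Fin 5, (σ * c0 ^ (k : ℕ)).support.card = 3) := by
  decide +kernel

set_option maxRecDepth 100000 in
theorem syn_cent : ∀ g : Perm (Fin 6), (∀ i : Fin 5, g * syn i = syn i * g) → g = 1 := by
  decide +kernel

theorem syn_inj : ∀ i j : Fin 5, syn i = syn j → i = j := by decide +kernel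

theorem c0_norm : ∀ i : Fin 5, ∃ j : Fin 5, c0 * syn i = syn j * c0 := by decide +kernel

theorem c0_pow : c0 ^ 5 = 1 := by decide +kernel

theorem c0_ne : c0 ≠ 1 := by decide +kernel

theorem c0_supp : c0.support.card = 5 := by decide +kernel

theorem c0_fix : c0 5 = 5 := by decide +kernel

theorem c0_move : ∀ x : Fin 6, x ≠ 5 → c0 x ≠ x := by decide +kernel

theorem c0_order : orderOf c0 = 5 :=
  haveI : Fact (Nat.Prime 5) := ⟨Nat.prime_five⟩
  orderOf_eq_prime c0_pow c0_ne

theorem c0_cycleType : c0.cycleType = {5} :=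
  cycleType_of_prime_order c0 Nat.prime_five c0_order (by rw [c0_supp]; norm_num)

theorem c0_isCycle : c0.IsCycle := by
  rw [← Equiv.Perm.card_cycleType_eq_one, c0_cycleType]; rfl

theorem deg6_fin (σ : Perm (Fin 6)) (h3 : σ ^ 3 = 1) (hfp : ∀ i, σ i ≠ i) :
    Subgroup.closure ({σ, c0} : Set (Perm (Fin 6))) = alternatingGroup (Fin 6) ∨
      Nonempty (↥(Subgroup.closure ({σ, c0} : Set (Perm (Fin 6)))) ≃*
        ↥(alternatingGroup (Fin 5))) := by
  have hne : σ ≠ 1 := by
    intro h
    exact hfp 0 (by rw [h]; rfl)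
  have ho : orderOf σ = 3 :=
    haveI : Fact (Nat.Prime 3) := ⟨Nat.prime_three⟩
    orderOf_eq_prime h3 hne
  have hinj : Function.Injective syn := fun i j h => syn_inj i j h
  rcases dichotomy σ (by rw [← h3]; simp [pow_succ]) hfp with hN | ⟨k, hk⟩
  · right
    exact nonempty_mulEquiv_alt_five hinj syn_cent σ c0 (mem_normSub_of hinj σ hN)
      (mem_normSub_of hinj c0 c0_norm) ho c0_order
  · left
    have hσH : σ ∈ Subgroup.closure ({σ, c0} : Set (Perm (Fin 6))) :=
      Subgroup.subset_closure (by simp)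
    have hcH : c0 ∈ Subgroup.closure ({σ, c0} : Set (Perm (Fin 6))) :=
      Subgroup.subset_closure (by simp)
    apply le_antisymm
    · rw [Subgroup.closure_le]
      intro g hg
      rcases hg with rfl | rfl
      · exact Equiv.Perm.mem_alternatingGroup.2
          (sign_eq_one_of_pow_odd _ (by decide : Odd 3) h3)
      · exact Equiv.Perm.mem_alternatingGroup.2
          (sign_eq_one_of_pow_odd _ (by decide : Odd 5) c0_pow)
    · exact alt_le_closure_of_threeCycle σ c0 5 c0_isCycle c0_fix c0_move (hfp 5)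
        (σ * c0 ^ (k : ℕ)) (Subgroup.mul_mem _ hσH (Subgroup.pow_mem _ hcH _))
        (card_support_eq_three_iff.1 hk)

theorem deg6 {α : Type*} [Fintype α] [DecidableEq α] (hα : Fintype.card α = 6) (σ τ : Perm α)
    (hσ : σ.cycleType = {3, 3}) (hτc : τ.IsCycle) (hτ5 : τ.support.card = 5) :
    Subgroup.closure ({σ, τ} : Set (Perm α)) = alternatingGroup α ∨
      Nonempty (↥(Subgroup.closure ({σ, τ} : Set (Perm α))) ≃* ↥(alternatingGroup (Fin 5))) := by
  classical
  let e0 : α ≃ Fin 6 := Fintype.equivFinOfCardEq hα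
  have hτct : (e0.permCongr τ).cycleType = c0.cycleType := by
    rw [cycleType_permCongr, hτc.cycleType, hτ5, c0_cycleType]
  obtain ⟨g, hg⟩ := isConj_iff.1 (Equiv.Perm.isConj_iff_cycleType_eq.2 hτct)
  let e : α ≃ Fin 6 := e0.trans g
  have heτ : e.permCongr τ = c0 := by
    rw [← hg]
    ext i
    simp [e, Equiv.permCongr_apply]
  have hσct : (e.permCongr σ).cycleType = {3, 3} := by rw [cycleType_permCongr, hσ]
  have ho : orderOf (e.permCongr σ) = 3 := by
    rw [← Equiv.Perm.lcm_cycleType, hσct]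
    rfl
  have h3 : (e.permCongr σ) ^ 3 = 1 := by rw [← ho]; exact pow_orderOf_eq_one _
  have hsupp : (e.permCongr σ).support = Finset.univ := by
    apply Finset.eq_univ_of_card
    rw [← Equiv.Perm.sum_cycleType, hσct]
    rfl
  have hfp : ∀ i, (e.permCongr σ) i ≠ i := fun i => by
    rw [← Equiv.Perm.mem_support, hsupp]; exact Finset.mem_univ _
  apply transport e σ τ
  rw [heτ]
  exact deg6_fin _ h3 hfp

end Cfsg.Agent.Helper91.GenD6
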