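/-
Helper91: piece (RS) for helper30 (S4150): restrict two even permutations of `Fin m` to the
union of their supports.
-/
import Mathlib

set_option autoImplicit false

open Equiv Equiv.Perm

namespace Cfsg.Agent.Helper91.GenRS

theorem exists_restrict {m : ℕ} (x y : alternatingGroup (Fin m)) :
    ∃ (α : Type) (_ : Fintype α) (_ : DecidableEq α) (σ τ : Perm α),
      σ.cycleType = (x : Perm (Fin m)).cycleType ∧ τ.cycleType = (y : Perm (Fin m)).cycleType ∧
      σ.support ∪ τ.support = Finset.univ ∧ Fintype.card α ≤ m ∧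
      Nonempty (↥(Subgroup.closure ({x, y} : Set (alternatingGroup (Fin m)))) ≃*
        ↥(Subgroup.closure ({σ, τ} : Set (Perm α)))) := by
  classical
  set Δ : Finset (Fin m) := (x : Perm (Fin m)).support ∪ (y : Perm (Fin m)).support with hΔ
  have hx1 : ∀ i, (x : Perm (Fin m)) i ∈ Δ ↔ i ∈ Δ := by
    intro i
    rw [hΔ, Finset.mem_union, Finset.mem_union, Equiv.Perm.apply_mem_support]
    by_cases hi : i ∈ (x : Perm (Fin m)).support
    · simp [hi]
    · have : (x : Perm (Fin m)) i = i := Equiv.Perm.notMem_support.1 hi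
      rw [this]
  have hy1 : ∀ i, (y : Perm (Fin m)) i ∈ Δ ↔ i ∈ Δ := by
    intro i
    rw [hΔ, Finset.mem_union, Finset.mem_union, Equiv.Perm.apply_mem_support]
    by_cases hi : i ∈ (y : Perm (Fin m)).support
    · simp [hi]
    · have : (y : Perm (Fin m)) i = i := Equiv.Perm.notMem_support.1 hi
      rw [this]
  have hx2 : ∀ i, (x : Perm (Fin m)) i ≠ i → i ∈ Δ := fun i hi =>
    Finset.mem_union_left _ (Equiv.Perm.mem_support.2 hi)
  have hy2 : ∀ i, (y : Perm (Fin m)) i ≠ i → i ∈ Δ := fun i hi =>
    Finset.mem_union_right _ (Equiv.Perm.mem_support.2 hi)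
  set σ : Perm {i // i ∈ Δ} := (x : Perm (Fin m)).subtypePerm hx1 with hσ
  set τ : Perm {i // i ∈ Δ} := (y : Perm (Fin m)).subtypePerm hy1 with hτ
  have hσo : ofSubtype σ = (x : Perm (Fin m)) := Equiv.Perm.ofSubtype_subtypePerm hx1 hx2
  have hτo : ofSubtype τ = (y : Perm (Fin m)) := Equiv.Perm.ofSubtype_subtypePerm hy1 hy2
  refine ⟨{i // i ∈ Δ}, inferInstance, inferInstance, σ, τ, ?_, ?_, ?_, ?_, ?_⟩
  · rw [← hσo, Equiv.Perm.cycleType_ofSubtype]
  · rw [← hτo, Equiv.Perm.cycleType_ofSubtype]
  · ext a
    simp only [Finset.mem_union, Equiv.Perm.mem_support, Finset.mem_univ, iff_true]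
    have ha : (a : Fin m) ∈ (x : Perm (Fin m)).support ∪ (y : Perm (Fin m)).support := a.2
    rw [Finset.mem_union, Equiv.Perm.mem_support, Equiv.Perm.mem_support] at ha
    rcases ha with ha | ha
    · left
      intro h
      apply ha
      have := congrArg Subtype.val h
      simpa [hσ] using this
    · right
      intro h
      apply ha
      have := congrArg Subtype.val h
      simpa [hτ] using this
  · rw [Fintype.card_coe]
    calc Δ.card ≤ (Finset.univ : Finset (Fin m)).card := Finset.card_le_card (Finset.subset_univ _)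
      _ = m := by simp
  · -- the isomorphism
    let f : ↥(alternatingGroup (Fin m)) →* Perm (Fin m) := (alternatingGroup (Fin m)).subtype
    have hf : Function.Injective f := Subgroup.subtype_injective _
    let g : Perm {i // i ∈ Δ} →* Perm (Fin m) := ofSubtype
    have hg : Function.Injective g := Equiv.Perm.ofSubtype_injective
    have heq : (Subgroup.closure ({x, y} : Set (alternatingGroup (Fin m)))).map f =
        (Subgroup.closure ({σ, τ} : Set (Perm {i // i ∈ Δ}))).map g := by
      rw [MonoidHom.map_closure, MonoidHom.map_closure, Set.image_pair, Set.image_pair]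
      show Subgroup.closure {(x : Perm (Fin m)), (y : Perm (Fin m))} =
        Subgroup.closure {ofSubtype σ, ofSubtype τ}
      rw [hσo, hτo]
    exact ⟨((Subgroup.closure ({x, y} : Set (alternatingGroup (Fin m)))).equivMapOfInjective f hf).trans
      ((MulEquiv.subgroupCongr heq).trans
        ((Subgroup.closure ({σ, τ} : Set (Perm {i // i ∈ Δ}))).equivMapOfInjective g hg).symm)⟩

end Cfsg.Agent.Helper91.GenRS
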