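import Mathlib
import Cfsg.Agent.Helper64.GrossMidDefs
import Cfsg.Agent.Helper81.SGW6
import Cfsg.Agent.S0027

/-!
# Gross's theorem S3795 (helper64's WANTED #6324), piece (AC) `abelian_cent`.  helper91.
-/

set_option autoImplicit false

namespace Cfsg.Agent.Helper91.Gross

open Subgroup Cfsg.Agent.Helper64.Gross Cfsg.Agent.Helper47.SG
open scoped commutatorElement

universe uΓ uW

/-- (AC) -/
theorem abelian_cent : AbelianCentStmt.{uΓ, uW} := by
  intro Γ _ _ W _ _ q r n φ U x hq hr hq2 hr2 hqr hexp hUq hUab hxU hx hφU hfixW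
  classical
  have : Fact q.Prime := ⟨hq⟩
  have hτ2 : (x ^ (2 ^ n)) ^ 2 = 1 := by
    rw [← pow_mul, ← pow_succ]; exact hx
  have hτx : x * x ^ (2 ^ n) * x⁻¹ = x ^ (2 ^ n) := by
    rw [← pow_succ', pow_succ, mul_inv_cancel_right]
  have hτU : x ^ (2 ^ n) ∈ normalizer (U : Set Γ) := Subgroup.pow_mem _ hxU _
  have hTU : zpowers (x ^ (2 ^ n)) ≤ normalizer (U : Set Γ) := by
    rw [zpowers_le]; exact hτU
  -- coprimality
  have hcop : (Nat.card (zpowers (x ^ (2 ^ n)))).Coprime (Nat.card U) := by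
    obtain ⟨k, hk⟩ := IsPGroup.iff_card.mp hUq
    rw [hk, Nat.card_zpowers]
    have h1 : orderOf (x ^ (2 ^ n)) ∣ 2 := orderOf_dvd_of_pow_eq_one hτ2
    apply Nat.Coprime.coprime_dvd_left h1
    exact Nat.Coprime.pow_right _ ((Nat.coprime_primes Nat.prime_two hq).mpr (Ne.symm hq2))
  have hsolv : Group.IsSolvable (zpowers (x ^ (2 ^ n))) := inferInstance
  have h27 := Cfsg.Agent.S0027.result (zpowers (x ^ (2 ^ n))) U hTU hcop (Or.inl hsolv)
  have hU1U : ⁅U, zpowers (x ^ (2 ^ n))⁆ ≤ U :=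
    Subgroup.le_normalizer_iff_commutator_le_left.mp hTU
  -- `x` normalizes `U1`
  have hxU1 : x ∈ normalizer ((⁅U, zpowers (x ^ (2 ^ n))⁆ : Subgroup Γ) : Set Γ) := by
    rw [mem_normalizer_iff_map_conj_eq]
    have e1 : U.map (MulAut.conj x).toMonoidHom = U := mem_normalizer_iff_map_conj_eq.mp hxU
    have e2 : (zpowers (x ^ (2 ^ n))).map (MulAut.conj x).toMonoidHom =
        zpowers (x ^ (2 ^ n)) := by
      rw [MonoidHom.map_zpowers]
      congr 1
    exact (Subgroup.map_commutator U (zpowers (x ^ (2 ^ n))) (MulAut.conj x).toMonoidHom).trans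
      (by rw [e1, e2])
  -- apply `kl_abelian` inside the normalizer of `U1`
  have hτN : x ^ (2 ^ n) ∈ normalizer ((⁅U, zpowers (x ^ (2 ^ n))⁆ : Subgroup Γ) : Set Γ) :=
    Subgroup.pow_mem _ hxU1 _
  have hU1N : ⁅U, zpowers (x ^ (2 ^ n))⁆ ≤
      normalizer ((⁅U, zpowers (x ^ (2 ^ n))⁆ : Subgroup Γ) : Set Γ) := le_normalizer
  have hkl := Cfsg.Agent.Helper81.SG.kl_abelian.{uΓ, uW}
    (normalizer ((⁅U, zpowers (x ^ (2 ^ n))⁆ : Subgroup Γ) : Set Γ)) W 2 q r n
    (φ.comp (Subgroup.subtype _))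
    ((⁅U, zpowers (x ^ (2 ^ n))⁆ : Subgroup Γ).subgroupOf
      (normalizer ((⁅U, zpowers (x ^ (2 ^ n))⁆ : Subgroup Γ) : Set Γ)))
    ⟨x, hxU1⟩ Nat.prime_two hq hr (Ne.symm hq2) (Ne.symm hr2) hqr hexp
    ((hUq.to_le hU1U).comap_subtype)
    (by
      intro a ha b hb
      apply Subtype.ext
      exact hUab a (hU1U (mem_subgroupOf.mp ha)) b (hU1U (mem_subgroupOf.mp hb)))
    (by
      apply Subtype.ext
      simpa using hx)
    (by
      intro a ha h1
      apply Subtype.ext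
      exact hφU a (hU1U (mem_subgroupOf.mp ha)) h1)
    (by
      intro w hw
      exact hfixW w hw)
    (by
      apply Subgroup.map_injective (Subgroup.subtype_injective
        (normalizer ((⁅U, zpowers (x ^ (2 ^ n))⁆ : Subgroup Γ) : Set Γ)))
      rw [Subgroup.map_commutator, Subgroup.map_subgroupOf_eq_of_le hU1N, MonoidHom.map_zpowers]
      exact h27)
  have hU1bot : ⁅U, zpowers (x ^ (2 ^ n))⁆ = ⊥ := by
    have h1 := Subgroup.subgroupOf_eq_bot.mp hkl
    exact h1.eq_bot_of_le hU1N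
  intro a ha
  have hc : ⁅a, x ^ (2 ^ n)⁆ ∈ ⁅U, zpowers (x ^ (2 ^ n))⁆ :=
    Subgroup.commutator_mem_commutator ha (mem_zpowers _)
  rw [hU1bot, mem_bot, commutatorElement_def] at hc
  have h2 : a * x ^ (2 ^ n) = x ^ (2 ^ n) * a := by
    have h3 : a * x ^ (2 ^ n) * a⁻¹ = x ^ (2 ^ n) := by
      rw [mul_inv_eq_one] at hc
      exact hc
    calc a * x ^ (2 ^ n) = (a * x ^ (2 ^ n) * a⁻¹) * a := by group
      _ = x ^ (2 ^ n) * a := by rw [h3]
  exact h2.symm

end Cfsg.Agent.Helper91.Gross
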