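import Mathlib
import Cfsg.Prelude.Def_Classical
import Cfsg.Agent.Helper84.RU3.Defs

/-!
# S2283 (helper84's WANTED #6065), piece (CRITA) `lE_mem_of_mult`.  helper91.
-/

set_option autoImplicit false

namespace Cfsg.Agent.Helper91.RU3

open Matrix Cfsg.Agent.Helper84.RU3

variable {K : Type*} [Field K] (bar : K →+* K)

theorem lM_mul (c d c' d' : K) :
    lM bar c d * lM bar c' d' = lM bar (c + c') (d + d' - bar c * c') := by
  ext i j
  fin_cases i <;> fin_cases j <;>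
    simp [lM, Matrix.mul_apply, Fin.sum_univ_three] <;> ring

theorem lM_zero : lM bar 0 0 = 1 := by
  ext i j
  fin_cases i <;> fin_cases j <;> simp [lM]

theorem lM_mul_inv (c d : K) : lM bar c d * lM bar (-c) (-d - c * bar c) = 1 := by
  rw [lM_mul, ← lM_zero bar]
  congr 1 <;> ring

/-- a lower unitriangular element of the model group is an `lM`. -/
theorem mt_eq_lM_of_lower (g : SUJ bar) (h00 : mt bar g 0 0 = 1) (h01 : mt bar g 0 1 = 0)
    (h02 : mt bar g 0 2 = 0) (h11 : mt bar g 1 1 = 1) (h12 : mt bar g 1 2 = 0)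
    (h22 : mt bar g 2 2 = 1) : mt bar g = lM bar (mt bar g 1 0) (mt bar g 2 0) := by
  have hU := isUn_mt bar g
  unfold IsUn at hU
  have h10 := congrFun (congrFun hU 1) 0
  simp [Matrix.mul_apply, Fin.sum_univ_three, Jm, h00, h01, h11] at h10
  have h21 : mt bar g 2 1 = -bar (mt bar g 1 0) := by linear_combination h10
  ext i j
  fin_cases i <;> fin_cases j <;> simp [lM, h00, h01, h02, h11, h12, h22, h21]

/-- conjugating a lower unitriangular matrix by a lower triangular one. -/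
theorem lower_conj (M N : Matrix (Fin 3) (Fin 3) K) (hMN : M * N = 1) (h01 : M 0 1 = 0)
    (h02 : M 0 2 = 0) (h12 : M 1 2 = 0) (hdet : M.det = 1) (c d e : K) :
    (M * !![1, 0, 0; c, 1, 0; d, e, 1] * N) 0 0 = 1 ∧
    (M * !![1, 0, 0; c, 1, 0; d, e, 1] * N) 0 1 = 0 ∧
    (M * !![1, 0, 0; c, 1, 0; d, e, 1] * N) 0 2 = 0 ∧
    (M * !![1, 0, 0; c, 1, 0; d, e, 1] * N) 1 1 = 1 ∧
    (M * !![1, 0, 0; c, 1, 0; d, e, 1] * N) 1 2 = 0 ∧
    (M * !![1, 0, 0; c, 1, 0; d, e, 1] * N) 2 2 = 1 ∧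
    (M * !![1, 0, 0; c, 1, 0; d, e, 1] * N) 1 0 = M 1 1 / M 0 0 * c := by
  have hd : M 0 0 * M 1 1 * M 2 2 = 1 := by
    rw [Matrix.det_fin_three, h01, h02, h12] at hdet
    linear_combination hdet
  have h0 : M 0 0 ≠ 0 := by
    intro h; rw [h] at hd; simp at hd
  have h1 : M 1 1 ≠ 0 := by
    intro h; rw [h] at hd; simp at hd
  have h2 : M 2 2 ≠ 0 := by
    intro h; rw [h] at hd; simp at hd
  have e00 := congrFun (congrFun hMN 0) 0
  have e01 := congrFun (congrFun hMN 0) 1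
  have e02 := congrFun (congrFun hMN 0) 2
  have e10 := congrFun (congrFun hMN 1) 0
  have e11 := congrFun (congrFun hMN 1) 1
  have e12 := congrFun (congrFun hMN 1) 2
  have e22 := congrFun (congrFun hMN 2) 2
  simp [Matrix.mul_apply, Fin.sum_univ_three, h01, h02, h12] at e00 e01 e02 e10 e11 e12 e22
  have n01 : N 0 1 = 0 := e01.resolve_left h0
  have n02 : N 0 2 = 0 := e02.resolve_left h0
  rw [n01] at e11
  rw [n02] at e12 e22
  simp at e11 e12 e22
  have n12 : N 1 2 = 0 := e12.resolve_left h1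
  rw [n12] at e22
  simp at e22
  refine ⟨?_, ?_, ?_, ?_, ?_, ?_, ?_⟩ <;>
    simp [Matrix.mul_apply, Fin.sum_univ_three, h01, h02, h12, n01, n02, n12]
  · exact e00
  · exact e11
  · exact e22
  · field_simp
    linear_combination (M 0 0) * e10 + (M 1 1 * c) * e00

section main

variable (hb : ∀ x, bar (bar x) = x)
include hb

/-- (CRITA) -/
theorem lE_mem_of_mult (htr : ∀ y : K, bar y = y → ∃ t, t + bar t = y)
    (G : Subgroup (SUJ bar))
    {c₀ d₀ : K} (h₁ : d₀ + bar d₀ + c₀ * bar c₀ = 0) (hv : lE bar hb c₀ d₀ h₁ ∈ G)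
    (m : SUJ bar) (hm : m ∈ G) (hm01 : mt bar m 0 1 = 0) (hm02 : mt bar m 0 2 = 0)
    (hm12 : mt bar m 1 2 = 0)
    (hA : ∀ A : AddSubgroup K, (∀ x ∈ A, mt bar m 1 1 / mt bar m 0 0 * x ∈ A) → c₀ ∈ A → A = ⊤)
    (c d : K) (h : d + bar d + c * bar c = 0) : lE bar hb c d h ∈ G := by
  -- `P c d` : some element of `G` has matrix `lM c d`
  have Pmul : ∀ c d c' d' : K, (∃ g ∈ G, mt bar g = lM bar c d) →
      (∃ g ∈ G, mt bar g = lM bar c' d') →
      ∃ g ∈ G, mt bar g = lM bar (c + c') (d + d' - bar c * c') := by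
    rintro c d c' d' ⟨g, hg, hgm⟩ ⟨g', hg', hgm'⟩
    exact ⟨g * g', G.mul_mem hg hg', by rw [mt_mul, hgm, hgm', lM_mul]⟩
  have Pinv : ∀ c d : K, (∃ g ∈ G, mt bar g = lM bar c d) →
      ∃ g ∈ G, mt bar g = lM bar (-c) (-d - c * bar c) := by
    rintro c d ⟨g, hg, hgm⟩
    refine ⟨g⁻¹, G.inv_mem hg, ?_⟩
    have h1 : mt bar g⁻¹ * mt bar g = 1 := mt_inv_mul bar g
    calc mt bar g⁻¹ = mt bar g⁻¹ * (lM bar c d * lM bar (-c) (-d - c * bar c)) := by
          rw [lM_mul_inv, mul_one]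
      _ = (mt bar g⁻¹ * mt bar g) * lM bar (-c) (-d - c * bar c) := by
          rw [hgm, Matrix.mul_assoc]
      _ = lM bar (-c) (-d - c * bar c) := by rw [h1, one_mul]
  have Pone : ∃ g ∈ G, mt bar g = lM bar 0 0 := ⟨1, G.one_mem, by rw [mt_one, lM_zero]⟩
  -- the additive subgroup `A`
  let A : AddSubgroup K :=
    { carrier := {c | ∃ d : K, ∃ g ∈ G, mt bar g = lM bar c d}
      zero_mem' := ⟨0, Pone⟩
      add_mem' := by
        rintro c c' ⟨d, hd⟩ ⟨d', hd'⟩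
        exact ⟨_, Pmul c d c' d' hd hd'⟩
      neg_mem' := by
        rintro c ⟨d, hd⟩
        exact ⟨_, Pinv c d hd⟩ }
  have hAmem : ∀ c : K, c ∈ A ↔ ∃ d : K, ∃ g ∈ G, mt bar g = lM bar c d := fun c => Iff.rfl
  have hAtop : A = ⊤ := by
    apply hA A
    · rintro x ⟨d, g, hg, hgm⟩
      have hconj : m * g * m⁻¹ ∈ G := G.mul_mem (G.mul_mem hm hg) (G.inv_mem hm)
      obtain ⟨k00, k01, k02, k11, k12, k22, k10⟩ := lower_conj (mt bar m) (mt bar m⁻¹)
        (mt_mul_inv bar m) hm01 hm02 hm12 (det_mt bar m) x d (-bar x)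
      have hmt : mt bar (m * g * m⁻¹) = mt bar m * !![1, 0, 0; x, 1, 0; d, -bar x, 1] *
          mt bar m⁻¹ := by
        rw [mt_mul, mt_mul, hgm]; rfl
      rw [← hmt] at k00 k01 k02 k11 k12 k22 k10
      have := mt_eq_lM_of_lower bar (m * g * m⁻¹) k00 k01 k02 k11 k12 k22
      rw [k10] at this
      exact ⟨_, m * g * m⁻¹, hconj, this⟩
    · exact ⟨d₀, lE bar hb c₀ d₀ h₁, hv, rfl⟩
  have hall : ∀ c : K, ∃ d : K, ∃ g ∈ G, mt bar g = lM bar c d := by
    intro c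
    rw [← hAmem, hAtop]
    exact AddSubgroup.mem_top c
  -- central elements
  have hcent : ∀ y : K, y + bar y = 0 → ∃ g ∈ G, mt bar g = lM bar 0 y := by
    intro y hy
    obtain ⟨e₀, he₀⟩ := htr 1 (map_one bar)
    obtain ⟨d1, hd1⟩ := hall (y * e₀)
    obtain ⟨d2, hd2⟩ := hall 1
    have hp1 := Pmul _ _ _ _ hd1 hd2
    have hp2 := Pinv _ _ (Pmul _ _ _ _ hd2 hd1)
    obtain ⟨g, hg, hgm⟩ := Pmul _ _ _ _ hp1 hp2
    refine ⟨g, hg, ?_⟩
    rw [hgm]
    have hby : bar y = -y := by linear_combination hy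
    congr 1
    · ring
    · simp only [map_add, map_mul, map_one, hby]
      linear_combination (y) * he₀
  -- conclusion
  obtain ⟨d', hd'⟩ := hall c
  have hyy : (d - d') + bar (d - d') = 0 := by
    obtain ⟨g, hg, hgm⟩ := hd'
    -- `d' + bar d' + c * bar c = 0` from `IsUn`
    have hU := isUn_mt bar g
    unfold IsUn at hU
    rw [hgm] at hU
    have h00 := congrFun (congrFun hU 0) 0
    simp [Matrix.mul_apply, Fin.sum_univ_three, Jm, lM] at h00
    rw [map_sub]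
    linear_combination h - h00
  obtain ⟨g, hg, hgm⟩ := Pmul _ _ _ _ hd' (hcent (d - d') hyy)
  have hfin : g = lE bar hb c d h := by
    apply ext_mt
    rw [hgm, mt_lE]
    congr 1
    · ring
    · ring
  rw [← hfin]
  exact hg

end main

end Cfsg.Agent.Helper91.RU3
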