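import Mathlib
import Cfsg.Prelude.Def_Classical
import Cfsg.Agent.Helper84.RU3.Defs

/-!
# S2283 (helper84's WANTED #6065), pieces (PAT) `pattern11` and (REG) `regular_uE`.  helper91.
-/

set_option autoImplicit false

namespace Cfsg.Agent.Helper91.RU3

open Matrix Cfsg.Agent.Helper84.RU3

variable {K : Type*} [Field K] (bar : K →+* K) (hb : ∀ x, bar (bar x) = x)

theorem b_ne_zero {a b : K} (ha : a ≠ 0) (h : b + bar b + a * bar a = 0) : b ≠ 0 := by
  rintro rfl
  simp only [map_zero, add_zero, zero_add, mul_eq_zero] at h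
  rcases h with h | h
  · exact ha h
  · exact ha ((map_eq_zero bar).mp h)

include hb in
theorem hprime {a b : K} (ha : a ≠ 0) (h : b + bar b + a * bar a = 0) :
    (1 / bar b - 1 / b + (a * bar a) ^ 2 / (b ^ 2 * bar b)) +
      bar (1 / bar b - 1 / b + (a * bar a) ^ 2 / (b ^ 2 * bar b)) +
      (a * (a * bar a) / (b * bar b)) * bar (a * (a * bar a) / (b * bar b)) = 0 := by
  have hb0 : b ≠ 0 := b_ne_zero bar ha h
  have hB0 : bar b ≠ 0 := (map_ne_zero bar).mpr hb0
  simp only [map_add, map_sub, map_div₀, map_mul, map_pow, map_one, hb]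
  field_simp
  linear_combination ((a * bar a) ^ 2) * h

/-- The product `u(a,b) l(c,d) u(a,b)` written out (`C` stands for `bar c`). -/
theorem ulu (a b c d : K) :
    uM bar a b * lM bar c d * uM bar a b =
      !![1 - bar a * c + b * d, -2 * bar a + bar a ^ 2 * c - bar a * b * d - b * bar c,
          2 * b - bar a * b * c + b ^ 2 * d - a * bar a - a * b * bar c;
        c + a * d, 1 - bar a * c - a * bar a * d - a * bar c,
          b * c + a * b * d + 2 * a - a ^ 2 * bar c;
        d, -bar a * d - bar c, b * d - a * bar c + 1] := by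
  ext i j
  fin_cases i <;> fin_cases j <;>
    simp [uM, lM, Matrix.mul_apply, Fin.sum_univ_three] <;> ring

theorem ulu_00 (a b c d : K) :
    (uM bar a b * lM bar c d * uM bar a b) 0 0 = 1 - bar a * c + b * d := by
  rw [ulu]; rfl

theorem ulu_01 (a b c d : K) :
    (uM bar a b * lM bar c d * uM bar a b) 0 1 =
      -2 * bar a + bar a ^ 2 * c - bar a * b * d - b * bar c := by
  rw [ulu]; rfl

theorem ulu_02 (a b c d : K) :
    (uM bar a b * lM bar c d * uM bar a b) 0 2 =
      2 * b - bar a * b * c + b ^ 2 * d - a * bar a - a * b * bar c := by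
  rw [ulu]; rfl

theorem ulu_11 (a b c d : K) :
    (uM bar a b * lM bar c d * uM bar a b) 1 1 =
      1 - bar a * c - a * bar a * d - a * bar c := by
  rw [ulu]; rfl

theorem ulu_12 (a b c d : K) :
    (uM bar a b * lM bar c d * uM bar a b) 1 2 =
      b * c + a * b * d + 2 * a - a ^ 2 * bar c := by
  rw [ulu]; rfl

/-- (PAT) the pattern `u v u ∈ B⁻` -/
theorem pattern11 {a b : K} (ha : a ≠ 0) (h : b + bar b + a * bar a = 0) :
    ∃ (c d : K) (h' : d + bar d + c * bar c = 0), c = a * (a * bar a) / (b * bar b) ∧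
      mt bar (uE bar hb a b h * lE bar hb c d h' * uE bar hb a b h) 0 1 = 0 ∧
      mt bar (uE bar hb a b h * lE bar hb c d h' * uE bar hb a b h) 0 2 = 0 ∧
      mt bar (uE bar hb a b h * lE bar hb c d h' * uE bar hb a b h) 1 2 = 0 ∧
      mt bar (uE bar hb a b h * lE bar hb c d h' * uE bar hb a b h) 1 1 /
        mt bar (uE bar hb a b h * lE bar hb c d h' * uE bar hb a b h) 0 0 = (bar b / b) ^ 3 := by
  have hb0 : b ≠ 0 := b_ne_zero bar ha h
  have hB0 : bar b ≠ 0 := (map_ne_zero bar).mpr hb0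
  have hC : bar (a * (a * bar a) / (b * bar b)) = bar a * (a * bar a) / (b * bar b) := by
    simp only [map_div₀, map_mul, hb]
    ring
  have e01 : -2 * bar a + bar a ^ 2 * (a * (a * bar a) / (b * bar b)) -
      bar a * b * (1 / bar b - 1 / b + (a * bar a) ^ 2 / (b ^ 2 * bar b)) -
      b * (bar a * (a * bar a) / (b * bar b)) = 0 := by
    field_simp
    linear_combination (-(bar a) * b) * h
  have e02 : 2 * b - bar a * b * (a * (a * bar a) / (b * bar b)) +
      b ^ 2 * (1 / bar b - 1 / b + (a * bar a) ^ 2 / (b ^ 2 * bar b)) - a * bar a -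
      a * b * (bar a * (a * bar a) / (b * bar b)) = 0 := by
    field_simp
    linear_combination (b - a * bar a) * h
  have e12 : b * (a * (a * bar a) / (b * bar b)) +
      a * b * (1 / bar b - 1 / b + (a * bar a) ^ 2 / (b ^ 2 * bar b)) + 2 * a -
      a ^ 2 * (bar a * (a * bar a) / (b * bar b)) = 0 := by
    field_simp
    linear_combination (a * b) * h
  have e00 : 1 - bar a * (a * (a * bar a) / (b * bar b)) +
      b * (1 / bar b - 1 / b + (a * bar a) ^ 2 / (b ^ 2 * bar b)) = b / bar b := by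
    field_simp
    ring
  have e11 : 1 - bar a * (a * (a * bar a) / (b * bar b)) -
      a * bar a * (1 / bar b - 1 / b + (a * bar a) ^ 2 / (b ^ 2 * bar b)) -
      a * (bar a * (a * bar a) / (b * bar b)) = (bar b / b) ^ 2 := by
    field_simp
    linear_combination (-(a * bar a) ^ 2 + (bar b - b) * (a * bar a) + bar b * (b - bar b)) * h
  refine ⟨a * (a * bar a) / (b * bar b), 1 / bar b - 1 / b + (a * bar a) ^ 2 / (b ^ 2 * bar b),
    hprime bar hb ha h, rfl, ?_, ?_, ?_, ?_⟩
  · rw [mt_mul, mt_mul, mt_uE, mt_lE, ulu_01, hC]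
    exact e01
  · rw [mt_mul, mt_mul, mt_uE, mt_lE, ulu_02, hC]
    exact e02
  · rw [mt_mul, mt_mul, mt_uE, mt_lE, ulu_12, hC]
    exact e12
  · rw [mt_mul, mt_mul, mt_uE, mt_lE, ulu_11, ulu_00, hC, e11, e00]
    field_simp

/-- (REG) the elements `uE a b` with `a ≠ 0` are regular unipotent -/
theorem regular_uE {a b : K} (ha : a ≠ 0) (h : b + bar b + a * bar a = 0) :
    (mt bar (uE bar hb a b h) - 1) ^ 3 = 0 ∧ (mt bar (uE bar hb a b h) - 1) ^ 2 ≠ 0 := by
  have hA : bar a ≠ 0 := (map_ne_zero bar).mpr ha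
  constructor
  · ext i j
    fin_cases i <;> fin_cases j <;>
      simp [pow_succ, uM, Matrix.mul_apply, Fin.sum_univ_three, Matrix.sub_apply, Matrix.one_apply]
  · intro h0
    have h1 := congrFun (congrFun h0 0) 2
    simp [pow_succ, uM, Matrix.mul_apply, Fin.sum_univ_three, Matrix.sub_apply,
      Matrix.one_apply] at h1
    exact ha h1

end Cfsg.Agent.Helper91.RU3
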