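-- helper91: piece (R2) `good_of_normal_p'` of board post 5064 for helper58 (S4016):
-- if `N ≠ ⊥` is a normal `p'`-subgroup of `G` (with `Hyp p G`) and `G ⧸ N` is `Good`, so is `G`.
import Mathlib
import Cfsg.Agent.Helper58.PADefs
import Cfsg.Agent.Helper22.Sup
import Cfsg.Agent.Helper11.PACYC

set_option autoImplicit false

namespace Cfsg.Agent.Helper91.PAR2

open Cfsg.Agent.Helper58.PA

variable {G : Type*} [Group G] [Finite G]

/-- The preimage of a subgroup `L` of `G ⧸ N` has `#L * #N` elements. -/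
theorem card_comap_mk (N : Subgroup G) [N.Normal] (L : Subgroup (G ⧸ N)) :
    Nat.card (L.comap (QuotientGroup.mk' N)) = Nat.card L * Nat.card N := by
  have h1 := Subgroup.card_mul_index (L.comap (QuotientGroup.mk' N))
  have h2 := Subgroup.card_mul_index L
  have h3 := Subgroup.card_eq_card_quotient_mul_card_subgroup N
  rw [L.index_comap_of_surjective (QuotientGroup.mk'_surjective N)] at h1
  have hpos : 0 < L.index := Nat.pos_of_ne_zero Subgroup.index_ne_zero_of_finite
  apply Nat.eq_of_mul_eq_mul_right hpos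
  rw [h1, h3, ← h2]
  ring

variable {p : ℕ} [Fact p.Prime]

/-- (a) a normal `p`-complement of `G ⧸ N`, `N` a normal `p'`-subgroup, lifts to `G`. -/
theorem compl_of_quot_compl (N : Subgroup G) [N.Normal] (hN : ¬ p ∣ Nat.card N)
    (hq : Cfsg.HasNormalPComplement p (G ⧸ N)) : Cfsg.HasNormalPComplement p G := by
  obtain ⟨P', L', hL'n, hcompl⟩ := hq
  obtain ⟨P⟩ : Nonempty (Sylow p G) := inferInstance
  refine ⟨P, L'.comap (QuotientGroup.mk' N), hL'n.comap _, ?_⟩
  have hp : p.Prime := Fact.out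
  have hcardG : Nat.card G = Nat.card (G ⧸ N) * Nat.card N :=
    Subgroup.card_eq_card_quotient_mul_card_subgroup N
  have hPP' : Nat.card P = Nat.card P' := by
    rw [Sylow.card_eq_multiplicity, Sylow.card_eq_multiplicity, hcardG,
      Nat.factorization_mul Nat.card_pos.ne' Nat.card_pos.ne', Finsupp.add_apply,
      Nat.factorization_eq_zero_of_not_dvd hN, add_zero]
  have h1 : Nat.card L' * Nat.card P' = Nat.card (G ⧸ N) := hcompl.card_mul_card
  have h2 := card_comap_mk N L'
  have h3 : Nat.card (L'.comap (QuotientGroup.mk' N)) * Nat.card P = Nat.card G := by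
    rw [h2, hPP', hcardG, ← h1]; ring
  apply Subgroup.isComplement'_of_coprime h3
  have h4 : Nat.card P * (P : Subgroup G).index = Nat.card G := Subgroup.card_mul_index _
  have h5 : Nat.card (L'.comap (QuotientGroup.mk' N)) = (P : Subgroup G).index := by
    apply Nat.eq_of_mul_eq_mul_left (Nat.card_pos (α := P))
    rw [h4, mul_comm, h3]
  rw [h5]
  exact P.card_coprime_index.symm

/-- Every `p'`-element centralizes a normal `p'`-subgroup (abelian `p'`-subgroups). -/
theorem p'_centralizes (hG : Hyp p G) (N : Subgroup G) [N.Normal] (hN : ¬ p ∣ Nat.card N)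
    (h : G) (hcop : (orderOf h).Coprime p) : ∀ n ∈ N, h * n = n * h := by
  have hp : p.Prime := Fact.out
  have hz : ¬ p ∣ Nat.card (Subgroup.zpowers h) := by
    rw [Nat.card_zpowers]
    intro hd
    exact hp.one_lt.ne' (Nat.Coprime.eq_one_of_dvd hcop.symm hd)
  have hle : Subgroup.zpowers h ≤ Subgroup.normalizer (N : Set G) := by
    rw [Subgroup.normalizer_eq_top]; exact le_top
  have hsup := Cfsg.Agent.Helper22.not_dvd_card_sup_of_le_normalizer p hp _ N hle hz hN
  have hc := hG.2 _ hsup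
  intro n hn
  have := hc.is_comm.comm ⟨h, Subgroup.mem_sup_left (Subgroup.mem_zpowers h)⟩
    ⟨n, Subgroup.mem_sup_right hn⟩
  exact congrArg Subtype.val this

/-- A `p`-element normalizing a Sylow `p`-subgroup lies in it. -/
theorem mem_sylow_of_pow_eq_one (P : Sylow p G) (u : G)
    (hu : u ∈ Subgroup.normalizer ((P : Subgroup G) : Set G)) (k : ℕ) (huk : u ^ p ^ k = 1) :
    u ∈ (P : Subgroup G) := by
  have hz : IsPGroup p (Subgroup.zpowers u) := by
    rintro ⟨x, hx⟩
    obtain ⟨i, rfl⟩ := Subgroup.mem_zpowers_iff.mp hx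
    refine ⟨k, Subtype.ext ?_⟩
    simp only [Subgroup.coe_pow, Subgroup.coe_one]
    rw [← zpow_natCast, ← zpow_mul, mul_comm, zpow_mul, zpow_natCast, huk, one_zpow]
  have hle : Subgroup.zpowers u ≤ Subgroup.normalizer ((P : Subgroup G) : Set G) := by
    rw [Subgroup.zpowers_le]; exact hu
  have hsup := IsPGroup.to_sup_of_normal_right' hz P.2 hle
  have := P.is_maximal' hsup le_sup_right
  rw [← this]
  exact Subgroup.mem_sup_left (Subgroup.mem_zpowers u)

/-- If some element of `N_G(P)` does not centralize the abelian Sylow `P`, some `p'`-element of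
`N_G(P)` does not. -/
theorem exists_p'_not_cent (P : Sylow p G)
    (hcomm : ∀ a ∈ (P : Subgroup G), ∀ b ∈ (P : Subgroup G), a * b = b * a)
    (g : G) (hg : g ∈ Subgroup.normalizer ((P : Subgroup G) : Set G))
    (hgc : g ∉ Subgroup.centralizer ((P : Subgroup G) : Set G)) :
    ∃ h ∈ Subgroup.normalizer ((P : Subgroup G) : Set G), (orderOf h).Coprime p ∧
      h ∉ Subgroup.centralizer ((P : Subgroup G) : Set G) := by
  have hp : p.Prime := Fact.out
  have hn : orderOf g ≠ 0 := (orderOf_pos g).ne'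
  obtain ⟨k, m, hm, hkm⟩ := Nat.exists_eq_pow_mul_and_not_dvd hn p hp.ne_one
  refine ⟨g ^ (p ^ k), Subgroup.pow_mem _ hg _, ?_, ?_⟩
  · have hd : orderOf (g ^ (p ^ k)) ∣ m := by
      apply orderOf_dvd_of_pow_eq_one
      rw [← pow_mul, ← hkm, pow_orderOf_eq_one]
    exact Nat.Coprime.coprime_dvd_left hd ((Nat.Prime.coprime_iff_not_dvd hp).2 hm).symm
  · intro hc
    apply hgc
    have hu : g ^ m ∈ (P : Subgroup G) := by
      apply mem_sylow_of_pow_eq_one P _ (Subgroup.pow_mem _ hg _) k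
      rw [← pow_mul, mul_comm, ← hkm, pow_orderOf_eq_one]
    have huc : g ^ m ∈ Subgroup.centralizer ((P : Subgroup G) : Set G) := by
      rw [Subgroup.mem_centralizer_iff]
      intro y hy
      exact hcomm y hy _ hu
    have hcop : Nat.Coprime m (p ^ k) :=
      (Nat.Coprime.pow_left k ((Nat.Prime.coprime_iff_not_dvd hp).2 hm)).symm
    have hb := Int.gcd_eq_gcd_ab (m : ℤ) ((p ^ k : ℕ) : ℤ)
    rw [Int.gcd_natCast_natCast, hcop] at hb
    have hg1 : g = (g ^ m) ^ (Int.gcdA (m : ℤ) ((p ^ k : ℕ) : ℤ)) *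
        (g ^ (p ^ k)) ^ (Int.gcdB (m : ℤ) ((p ^ k : ℕ) : ℤ)) := by
      rw [← zpow_natCast, ← zpow_natCast, ← zpow_mul, ← zpow_mul, ← zpow_add, ← hb]
      simp
    rw [hg1]
    exact Subgroup.mul_mem _ (Subgroup.zpow_mem _ huc _) (Subgroup.zpow_mem _ hc _)

/-- (b) if the Sylow `p`-subgroups of `G ⧸ N` are normal. -/
theorem good_of_quot_normal (hG : Hyp p G) (N : Subgroup G) [N.Normal]
    (hN : ¬ p ∣ Nat.card N)
    (hq : ∀ P : Sylow p (G ⧸ N), (P : Subgroup (G ⧸ N)).Normal) : Good p G := by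
  obtain ⟨P⟩ : Nonempty (Sylow p G) := inferInstance
  have hπ := QuotientGroup.mk'_surjective N
  have hcyc : IsCyclic ↥(P : Subgroup G) := hG.1 P
  have hcomm : ∀ a ∈ (P : Subgroup G), ∀ b ∈ (P : Subgroup G), a * b = b * a := by
    intro a ha b hb
    let _ := IsCyclic.commGroup (α := ↥(P : Subgroup G))
    exact congrArg Subtype.val (mul_comm (⟨a, ha⟩ : ↥(P : Subgroup G)) ⟨b, hb⟩)
  have hPbar : ((P : Subgroup G).map (QuotientGroup.mk' N)).Normal := by
    have := hq (P.mapSurjective hπ)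
    rwa [Sylow.coe_mapSurjective] at this
  have hPNn : (((P : Subgroup G).map (QuotientGroup.mk' N)).comap (QuotientGroup.mk' N)).Normal :=
    hPbar.comap _
  have hPle : (P : Subgroup G) ≤
      ((P : Subgroup G).map (QuotientGroup.mk' N)).comap (QuotientGroup.mk' N) :=
    Subgroup.le_comap_map _ _
  have hfr : Subgroup.normalizer ((P : Subgroup G) : Set G) ⊔
      ((P : Subgroup G).map (QuotientGroup.mk' N)).comap (QuotientGroup.mk' N) = ⊤ :=
    Sylow.normalizer_sup_eq_top' P hPle
  have hMN : Subgroup.normalizer ((P : Subgroup G) : Set G) ⊔ N = ⊤ := by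
    rw [Subgroup.comap_map_eq, QuotientGroup.ker_mk', ← sup_assoc,
      sup_eq_left.mpr (Subgroup.le_normalizer (H := (P : Subgroup G)))] at hfr
    exact hfr
  by_cases hc : Subgroup.normalizer ((P : Subgroup G) : Set G) ≤
      Subgroup.centralizer ((P : Subgroup G) : Set G)
  · left
    exact ⟨P, (MonoidHom.transferSylow P hc).ker, MonoidHom.normal_ker _,
      MonoidHom.ker_transferSylow_isComplement' P hc⟩
  · right
    obtain ⟨g, hgM, hgc⟩ := SetLike.not_le_iff_exists.mp hc
    obtain ⟨h, hhM, hcop, hhc⟩ := exists_p'_not_cent P hcomm g hgM hgc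
    -- `C_P(h) = 1`
    have hfix : ∀ x ∈ (P : Subgroup G), h * x = x * h → x = 1 := by
      intro x hx hxh
      by_contra hx1
      apply hhc
      rw [Subgroup.mem_centralizer_iff]
      intro y hy
      exact (Cfsg.Agent.Helper11.PACYC.cyclic_coprime_centralizes (P : Subgroup G) P.2 hcyc h hhM
        hcop x hx hx1 hxh y hy).symm
    have hconj : ∀ x ∈ (P : Subgroup G), h * x * h⁻¹ ∈ (P : Subgroup G) := fun x hx =>
      (Subgroup.mem_normalizer_iff.mp hhM x).mp hx
    -- `x ↦ x⁻¹ (h x h⁻¹)` is a bijection of `P`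
    let f : ↥(P : Subgroup G) → ↥(P : Subgroup G) := fun x =>
      ⟨(x : G)⁻¹ * (h * x * h⁻¹), Subgroup.mul_mem _ (Subgroup.inv_mem _ x.2) (hconj x x.2)⟩
    have hfinj : Function.Injective f := by
      intro x y hxy
      have e : (x : G)⁻¹ * (h * x * h⁻¹) = (y : G)⁻¹ * (h * y * h⁻¹) := congrArg Subtype.val hxy
      have e2 : h * ((x : G) * (y : G)⁻¹) = ((x : G) * (y : G)⁻¹) * h := by
        have e3 : h * (x : G) * h⁻¹ = (x : G) * ((y : G)⁻¹ * (h * y * h⁻¹)) := by
          rw [← e]; group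
        have e4 : h * ((x : G) * (y : G)⁻¹) * h⁻¹ = (x : G) * (y : G)⁻¹ := by
          calc h * ((x : G) * (y : G)⁻¹) * h⁻¹ = (h * x * h⁻¹) * (h * y * h⁻¹)⁻¹ := by group
            _ = (x : G) * (y : G)⁻¹ := by rw [e3]; group
        calc h * ((x : G) * (y : G)⁻¹) = (h * ((x : G) * (y : G)⁻¹) * h⁻¹) * h := by group
          _ = ((x : G) * (y : G)⁻¹) * h := by rw [e4]
      have := hfix _ (Subgroup.mul_mem _ x.2 (Subgroup.inv_mem _ y.2)) e2
      exact Subtype.ext (mul_inv_eq_one.mp this)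
    have hfsurj : Function.Surjective f := Finite.injective_iff_surjective.mp hfinj
    have hNc := p'_centralizes hG N hN h hcop
    -- `P` centralizes `N`
    have hPN : ∀ y ∈ (P : Subgroup G), ∀ n ∈ N, y * n = n * y := by
      intro y hy n hn
      obtain ⟨x, hx⟩ := hfsurj ⟨y, hy⟩
      have hy' : y = (x : G)⁻¹ * (h * x * h⁻¹) := (congrArg Subtype.val hx).symm
      have c1 : Commute h n := hNc n hn
      have c2 : Commute h ((x : G) * n * (x : G)⁻¹) :=
        hNc _ (Subgroup.Normal.conj_mem inferInstance n hn x)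
      rw [hy']
      calc (x : G)⁻¹ * (h * x * h⁻¹) * n = (x : G)⁻¹ * (h * x * (h⁻¹ * n)) := by group
        _ = (x : G)⁻¹ * (h * x * (n * h⁻¹)) := by rw [c1.inv_left.eq]
        _ = (x : G)⁻¹ * ((h * ((x : G) * n * (x : G)⁻¹)) * x * h⁻¹) := by group
        _ = (x : G)⁻¹ * ((((x : G) * n * (x : G)⁻¹) * h) * x * h⁻¹) := by rw [c2.eq]
        _ = n * ((x : G)⁻¹ * (h * x * h⁻¹)) := by group
    have hNle : N ≤ Subgroup.normalizer ((P : Subgroup G) : Set G) := by
      refine le_trans ?_ (Subgroup.centralizer_le_normalizer ((P : Subgroup G) : Set G))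
      intro n hn
      rw [Subgroup.mem_centralizer_iff]
      intro y hy
      exact hPN y hy n hn
    have htop : Subgroup.normalizer ((P : Subgroup G) : Set G) = ⊤ := by
      rw [← hMN]; exact (sup_eq_left.mpr hNle).symm
    have hPn : (P : Subgroup G).Normal := Subgroup.normalizer_eq_top_iff.mp htop
    intro Q
    have := Sylow.unique_of_normal P hPn
    rw [Subsingleton.elim Q P]
    exact hPn

/-- **(R2)** -/
theorem good_of_normal_p' (hG : Hyp p G) (N : Subgroup G) [N.Normal] (hN : ¬ p ∣ Nat.card N)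
    (hN1 : N ≠ ⊥) (hq : Good p (G ⧸ N)) : Good p G := by
  have _ := hN1
  rcases hq with hq | hq
  · exact Or.inl (compl_of_quot_compl N hN hq)
  · exact good_of_quot_normal hG N hN hq

end Cfsg.Agent.Helper91.PAR2
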