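import Mathlib

set_option autoImplicit false
open scoped Pointwise

namespace Cfsg.Agent.Helper91

variable {G : Type*} [Group G]

/-- Relative subnormality inside a fixed ambient group: `RelSN H N` means `H ≤ N` and `H` is
subnormal in `N`. -/
inductive RelSN : Subgroup G → Subgroup G → Prop
  | refl (N : Subgroup G) : RelSN N N
  | step (H K N : Subgroup G) : H ≤ K → K ≤ Subgroup.normalizer (H : Set G) → RelSN K N → RelSN H N

namespace RelSN

theorem le {H N : Subgroup G} (h : RelSN H N) : H ≤ N := by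
  induction h with
  | refl => exact le_rfl
  | step H K N hHK _ _ ih => exact hHK.trans ih

theorem of_normal {H N : Subgroup G} (hle : H ≤ N) (hn : N ≤ Subgroup.normalizer (H : Set G)) :
    RelSN H N := step H N N hle hn (refl N)

theorem trans {H K N : Subgroup G} (h₁ : RelSN H K) (h₂ : RelSN K N) : RelSN H N := by
  induction h₁ with
  | refl => exact h₂
  | step H K' _ hle hn _ ih => exact step H K' N hle hn (ih h₂)

/-- Intersecting with a subgroup. -/
theorem inf_right {H N : Subgroup G} (h : RelSN H N) (L : Subgroup G) : RelSN (H ⊓ L) (N ⊓ L) := by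
  induction h with
  | refl => exact refl _
  | step H K N hle hn _ ih =>
    refine step (H ⊓ L) (K ⊓ L) (N ⊓ L) (inf_le_inf_right L hle) ?_ ih
    intro x hx
    have hxK : x ∈ Subgroup.normalizer (H : Set G) := hn hx.1
    rw [Subgroup.mem_normalizer_iff] at hxK ⊢
    intro y
    constructor
    · rintro ⟨hyH, hyL⟩
      exact ⟨(hxK y).1 hyH, L.mul_mem (L.mul_mem hx.2 hyL) (L.inv_mem hx.2)⟩
    · rintro ⟨hyH, hyL⟩
      refine ⟨(hxK y).2 hyH, ?_⟩
      have := L.mul_mem (L.mul_mem (L.inv_mem hx.2) hyL) hx.2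
      have e : x⁻¹ * (x * y * x⁻¹) * x = y := by group
      rwa [e] at this

/-- Shrinking the container. -/
theorem mono {H K N : Subgroup G} (h : RelSN H N) (hHK : H ≤ K) (hKN : K ≤ N) : RelSN H K := by
  have := h.inf_right K
  rwa [inf_eq_left.2 hHK, inf_eq_right.2 hKN] at this

theorem smul {H N : Subgroup G} (h : RelSN H N) (g : G) :
    RelSN (MulAut.conj g • H) (MulAut.conj g • N) := by
  induction h with
  | refl => exact refl _
  | step H K N hle hn _ ih =>
    refine step _ (MulAut.conj g • K) _ (Subgroup.pointwise_smul_le_pointwise_smul_iff.2 hle) ?_ ih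
    intro x hx
    rw [Subgroup.mem_pointwise_smul_iff_inv_smul_mem] at hx
    have hx' := hn hx
    rw [Subgroup.mem_normalizer_iff] at hx' ⊢
    intro y
    rw [Subgroup.mem_pointwise_smul_iff_inv_smul_mem, Subgroup.mem_pointwise_smul_iff_inv_smul_mem,
      hx' ((MulAut.conj g)⁻¹ • y)]
    have e : (MulAut.conj g)⁻¹ • x * (MulAut.conj g)⁻¹ • y * ((MulAut.conj g)⁻¹ • x)⁻¹ =
        (MulAut.conj g)⁻¹ • (x * y * x⁻¹) := by
      simp [smul_mul']
    rw [e]

/-- A proper relatively subnormal subgroup lies in a proper normal subgroup of the container. -/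
theorem exists_normal {H N : Subgroup G} (h : RelSN H N) (hne : H ≠ N) :
    ∃ K, H ≤ K ∧ K < N ∧ N ≤ Subgroup.normalizer (K : Set G) ∧ RelSN H K := by
  induction h with
  | refl => exact absurd rfl hne
  | step H K N hle hn hKN ih =>
    by_cases hK : K = N
    · subst hK
      exact ⟨H, le_rfl, lt_of_le_of_ne hle hne, hn, refl H⟩
    · obtain ⟨K₁, h1, h2, h3, h4⟩ := ih hK
      exact ⟨K₁, hle.trans h1, h2, h3, step H K K₁ hle hn h4⟩

end RelSN

/-- Translation from Mathlib's `IsSubnormal` in the subgroup `N` viewed as a group. -/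
theorem relSN_map_of_isSubnormal {N : Subgroup G} {H' : Subgroup ↥N} (h : H'.IsSubnormal) :
    RelSN (H'.map N.subtype) N := by
  induction h with
  | top =>
    rw [← MonoidHom.range_eq_map, Subgroup.range_subtype]
    exact RelSN.refl N
  | step H' K' hle _ hN ih =>
    refine RelSN.step _ (K'.map N.subtype) N (Subgroup.map_mono hle) ?_ ih
    rw [Subgroup.normal_subgroupOf_iff_le_normalizer hle] at hN
    exact le_trans (Subgroup.map_mono hN) (Subgroup.le_normalizer_map _)

theorem isSubnormal_subgroupOf_of_relSN {H N : Subgroup G} (h : RelSN H N) :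
    (H.subgroupOf N).IsSubnormal := by
  induction h with
  | refl => rw [Subgroup.subgroupOf_self]; exact Subgroup.IsSubnormal.top
  | step H K N hle hn hKN ih =>
    have hHN : H ≤ N := hle.trans hKN.le
    refine Subgroup.IsSubnormal.step (H.subgroupOf N) (K.subgroupOf N)
      (Subgroup.subgroupOf_mono N hle) ih ?_
    rw [Subgroup.normal_subgroupOf_iff_le_normalizer
      (Subgroup.subgroupOf_mono N hle), ← Subgroup.subgroupOf_normalizer_eq hHN]
    exact Subgroup.subgroupOf_mono N hn

theorem relSN_iff {H N : Subgroup G} :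
    RelSN H N ↔ H ≤ N ∧ (H.subgroupOf N).IsSubnormal := by
  constructor
  · intro h
    exact ⟨h.le, isSubnormal_subgroupOf_of_relSN h⟩
  · rintro ⟨hle, h⟩
    have := relSN_map_of_isSubnormal h
    rwa [Subgroup.map_subgroupOf_eq_of_le hle] at this

theorem relSN_top_iff {H : Subgroup G} : RelSN H ⊤ ↔ H.IsSubnormal := by
  rw [relSN_iff]
  constructor
  · rintro ⟨_, h⟩
    have := h.map (f := (Subgroup.topEquiv : (⊤ : Subgroup G) ≃* G).toMonoidHom)
      (Subgroup.topEquiv : (⊤ : Subgroup G) ≃* G).surjective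
    convert this using 1
    ext x
    simp [Subgroup.mem_map, Subgroup.mem_subgroupOf]
  · intro h
    exact ⟨le_top, h.subgroupOf⟩


/-! ### Minimal normal subgroups normalise subnormal subgroups; the join theorem -/

/-- A minimal normal subgroup. -/
def IsMinNormal (M : Subgroup G) : Prop :=
  M.Normal ∧ M ≠ ⊥ ∧ ∀ M' : Subgroup G, M'.Normal → M' ≤ M → M' ≠ ⊥ → M' = M

theorem exists_minNormal_le [Finite G] {N : Subgroup G} (hN : N.Normal) (hne : N ≠ ⊥) :
    ∃ M, IsMinNormal M ∧ M ≤ N := by
  let 𝒮 : Set (Subgroup G) := {L | L.Normal ∧ L ≠ ⊥ ∧ L ≤ N}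
  have hN𝒮 : N ∈ 𝒮 := ⟨hN, hne, le_rfl⟩
  obtain ⟨M, hMN, hMmin⟩ := (Set.toFinite 𝒮).exists_le_minimal hN𝒮
  obtain ⟨h1, h2, h3⟩ := hMmin.prop
  refine ⟨M, ⟨h1, h2, fun M' hM'n hM'le hM'ne => ?_⟩, h3⟩
  have : M' ∈ 𝒮 := ⟨hM'n, hM'ne, hM'le.trans h3⟩
  exact le_antisymm hM'le (hMmin.le_of_le this hM'le)

theorem IsMinNormal.smul {M : Subgroup G} (hM : IsMinNormal M) (φ : MulAut G) :
    IsMinNormal (φ • M) := by
  obtain ⟨h1, h2, h3⟩ := hM
  refine ⟨h1.map φ.toMonoidHom φ.surjective, ?_, ?_⟩
  · intro h
    apply h2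
    have := congrArg (fun X => φ⁻¹ • X) h
    simpa using this
  · intro M' hM'n hM'le hM'ne
    have hn' : (φ⁻¹ • M').Normal :=
      hM'n.map (φ⁻¹ : MulAut G).toMonoidHom (φ⁻¹ : MulAut G).surjective
    have h4 : φ⁻¹ • M' = M := by
      refine h3 (φ⁻¹ • M') hn' ?_ ?_
      · rw [Subgroup.pointwise_smul_subset_iff, inv_inv]; exact hM'le
      · intro h
        apply hM'ne
        have := congrArg (fun X => φ • X) h
        rwa [smul_inv_smul, Subgroup.smul_bot] at this
    rw [← h4, smul_inv_smul]

theorem normalizer_inf_le_normalizer_sup (A B : Subgroup G) :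
    Subgroup.normalizer (A : Set G) ⊓ Subgroup.normalizer (B : Set G) ≤
      Subgroup.normalizer ((A ⊔ B : Subgroup G) : Set G) := by
  intro x hx
  obtain ⟨hA, hB⟩ := Subgroup.mem_inf.1 hx
  rw [Subgroup.mem_normalizer_iff_map_conj_eq] at hA hB
  rw [Subgroup.mem_normalizer_iff_map_conj_eq, Subgroup.map_sup, hA, hB]

theorem card_subgroup_lt [Finite G] {K : Subgroup G} (hK : K < ⊤) : Nat.card ↥K < Nat.card G := by
  refine lt_of_le_of_ne (Subgroup.card_le_card_group K) ?_
  intro h
  exact hK.ne (Subgroup.eq_top_of_card_eq K h)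

theorem card_quotient_lt [Finite G] {M : Subgroup G} (hM : M ≠ ⊥) :
    Nat.card (G ⧸ M) < Nat.card G := by
  have h1 := Subgroup.card_mul_index M
  rw [Subgroup.index_eq_card] at h1
  have h2 : 1 < Nat.card ↥M := (Subgroup.one_lt_card_iff_ne_bot M).2 hM
  have h3 : 0 < Nat.card (G ⧸ M) := Nat.card_pos
  nlinarith

universe u

theorem minNormal_le_normalizer_aux : ∀ (n : ℕ) (G : Type u) [Group G] [Finite G],
    Nat.card G = n → ∀ (M H : Subgroup G), IsMinNormal M → H.IsSubnormal →
      M ≤ Subgroup.normalizer (H : Set G) := by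
  intro n
  induction n using Nat.strong_induction_on with
  | _ n ih =>
    intro G _ _ hcard M H hM hH
    by_cases hHtop : H = ⊤
    · subst hHtop
      intro x _
      rw [Subgroup.mem_normalizer_iff]
      intro h; simp
    obtain ⟨K, hKn, hHK, hKtop⟩ := hH.exists_normal_and_le_and_lt_top_of_ne hHtop
    have hM' := hM
    obtain ⟨hMn, hMne, hMmin⟩ := hM
    by_cases hdisj : M ⊓ K = ⊥
    · have hcomm := Subgroup.commute_of_normal_of_disjoint M K hMn hKn (disjoint_iff.2 hdisj)
      intro m hm
      rw [Subgroup.mem_normalizer_iff]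
      intro h
      constructor
      · intro hh
        have := (hcomm m h hm (hHK hh)).eq
        have e : m * h * m⁻¹ = h := by rw [this]; group
        rwa [e]
      · intro hh
        have hK1 : m * h * m⁻¹ ∈ K := hHK hh
        have hK2 : h ∈ K := by
          have := hKn.conj_mem _ hK1 m⁻¹
          have e : m⁻¹ * (m * h * m⁻¹) * m⁻¹⁻¹ = h := by group
          rwa [e] at this
        have := (hcomm m h hm hK2).eq
        have e : m * h * m⁻¹ = h := by rw [this]; group
        rwa [e] at hh
    · have hMK : M ≤ K := by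
        have h1 : (M ⊓ K).Normal := Subgroup.normal_inf_normal M K
        have h2 := hMmin (M ⊓ K) h1 inf_le_left hdisj
        exact h2 ▸ inf_le_right
      have hcardK : Nat.card ↥K < n := hcard ▸ card_subgroup_lt hKtop
      have hH' : (H.subgroupOf K).IsSubnormal := hH.subgroupOf
      have hM'n : (M.subgroupOf K).Normal := hMn.subgroupOf K
      have hM'ne : M.subgroupOf K ≠ ⊥ := by
        rw [Ne, Subgroup.subgroupOf_eq_bot, disjoint_iff, inf_eq_left.2 hMK]
        exact hMne
      obtain ⟨L, hLmin, hLM'⟩ := exists_minNormal_le hM'n hM'ne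
      have key : ∀ g : G, (MulAut.conjNormal g : MulAut ↥K) • L ≤
          Subgroup.normalizer ((H.subgroupOf K : Subgroup ↥K) : Set ↥K) :=
        fun g => ih _ hcardK ↥K rfl _ _ (hLmin.smul _) hH'
      set L₀ : Subgroup G := L.map K.subtype with hL₀
      have hL₀M : L₀ ≤ M := by
        rintro _ ⟨l, hl, rfl⟩
        exact Subgroup.mem_subgroupOf.1 (hLM' hl)
      have hL₀ne : L₀ ≠ ⊥ := by
        intro h
        apply hLmin.2.1
        rw [hL₀, Subgroup.map_eq_bot_iff_of_injective _ K.subtype_injective] at h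
        exact h
      have hnc : Subgroup.normalClosure (L₀ : Set G) = M := by
        apply hMmin _ Subgroup.normalClosure_normal
        · exact Subgroup.normalClosure_le_normal hL₀M
        · intro h
          apply hL₀ne
          exact eq_bot_iff.2 (h ▸ Subgroup.le_normalClosure)
      rw [← hnc, Subgroup.normalClosure, Subgroup.closure_le]
      intro x hx
      obtain ⟨a, ha, hax⟩ := Group.mem_conjugatesOfSet_iff.1 hx
      obtain ⟨g, rfl⟩ := isConj_iff.1 hax
      obtain ⟨l, hl, rfl⟩ := ha
      have h1 : (MulAut.conjNormal g : MulAut ↥K) • l ∈ (MulAut.conjNormal g : MulAut ↥K) • L :=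
        Subgroup.smul_mem_pointwise_smul _ _ _ hl
      have h2 := key g h1
      rw [← Subgroup.subgroupOf_normalizer_eq hHK] at h2
      have h3 := Subgroup.mem_subgroupOf.1 h2
      rw [MulAut.smul_def, MulAut.conjNormal_apply] at h3
      exact h3

theorem minNormal_le_normalizer {G : Type u} [Group G] [Finite G] {M H : Subgroup G}
    (hM : IsMinNormal M) (hH : H.IsSubnormal) : M ≤ Subgroup.normalizer (H : Set G) :=
  minNormal_le_normalizer_aux _ G rfl M H hM hH

theorem sup_isSubnormal_aux : ∀ (n : ℕ) (G : Type u) [Group G] [Finite G], Nat.card G = n →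
    ∀ (A B : Subgroup G), A.IsSubnormal → B.IsSubnormal → (A ⊔ B).IsSubnormal := by
  intro n
  induction n using Nat.strong_induction_on with
  | _ n ih =>
    intro G _ _ hcard A B hA hB
    by_cases htriv : (⊤ : Subgroup G) = ⊥
    · have : A ⊔ B = ⊤ := by
        rw [htriv]; exact eq_bot_iff.2 (htriv ▸ le_top)
      rw [this]; exact .top
    obtain ⟨M, hM, -⟩ := exists_minNormal_le (N := (⊤ : Subgroup G)) inferInstance htriv
    have hMA := minNormal_le_normalizer hM hA
    have hMB := minNormal_le_normalizer hM hB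
    have hMn : M.Normal := hM.1
    have hcardQ : Nat.card (G ⧸ M) < n := hcard ▸ card_quotient_lt hM.2.1
    have h1 := ih _ hcardQ (G ⧸ M) rfl (A.map (QuotientGroup.mk' M)) (B.map (QuotientGroup.mk' M))
      (hA.map (QuotientGroup.mk'_surjective M)) (hB.map (QuotientGroup.mk'_surjective M))
    rw [← Subgroup.map_sup] at h1
    have h2 := h1.comap (QuotientGroup.mk' M)
    rw [Subgroup.comap_map_eq, QuotientGroup.ker_mk'] at h2
    refine Subgroup.IsSubnormal.step (A ⊔ B) ((A ⊔ B) ⊔ M) le_sup_left h2 ?_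
    rw [Subgroup.normal_subgroupOf_iff_le_normalizer le_sup_left]
    refine sup_le Subgroup.le_normalizer ?_
    exact le_trans (le_inf hMA hMB) (normalizer_inf_le_normalizer_sup A B)

/-- Wielandt's join theorem: the join of two subnormal subgroups of a finite group is subnormal. -/
theorem sup_isSubnormal {G : Type u} [Group G] [Finite G] {A B : Subgroup G}
    (hA : A.IsSubnormal) (hB : B.IsSubnormal) : (A ⊔ B).IsSubnormal :=
  sup_isSubnormal_aux _ G rfl A B hA hB

end Cfsg.Agent.Helper91
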