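/-
Helper91: piece (J2-A) for helper7 (J2 icosian cluster S1619-S1622): pure quaternion algebra for the
Hermitian product `qip` and the quaternionic reflections `qrefl` on `ℍ³`.
-/
import Mathlib
import Cfsg.Agent.Helper7.J2.Defs

set_option autoImplicit false

open Quaternion Cfsg.Spor Cfsg.Agent.Helper7.J2

namespace Cfsg.Agent.Helper91.J2A

theorem qip_add_left (x y r : Fin 3 → ℍ[ℝ]) : qip (x + y) r = qip x r + qip y r := by
  simp only [qip, Pi.add_apply, add_mul, Finset.sum_add_distrib]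

theorem qip_add_right (x r s : Fin 3 → ℍ[ℝ]) : qip x (r + s) = qip x r + qip x s := by
  simp only [qip, Pi.add_apply, star_add, mul_add, Finset.sum_add_distrib]

theorem qip_neg_left (x r : Fin 3 → ℍ[ℝ]) : qip (-x) r = -qip x r := by
  simp only [qip, Pi.neg_apply, neg_mul, Finset.sum_neg_distrib]

theorem qip_neg_right (x r : Fin 3 → ℍ[ℝ]) : qip x (-r) = -qip x r := by
  simp only [qip, Pi.neg_apply, star_neg, mul_neg, Finset.sum_neg_distrib]

theorem qip_sub_left (x y r : Fin 3 → ℍ[ℝ]) : qip (x - y) r = qip x r - qip y r := by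
  rw [sub_eq_add_neg, qip_add_left, qip_neg_left, ← sub_eq_add_neg]

theorem qip_sub_right (x r s : Fin 3 → ℍ[ℝ]) : qip x (r - s) = qip x r - qip x s := by
  rw [sub_eq_add_neg, qip_add_right, qip_neg_right, ← sub_eq_add_neg]

theorem qip_lsmul_left (a : ℍ[ℝ]) (x r : Fin 3 → ℍ[ℝ]) : qip (lsmul a x) r = a * qip x r := by
  simp only [qip, lsmul_apply, Finset.mul_sum, mul_assoc]

theorem qip_lsmul_right (a : ℍ[ℝ]) (x r : Fin 3 → ℍ[ℝ]) :
    qip x (lsmul a r) = qip x r * star a := by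
  simp only [qip, lsmul_apply, star_mul, Finset.sum_mul, mul_assoc]

theorem star_qip (x r : Fin 3 → ℍ[ℝ]) : star (qip x r) = qip r x := by
  simp only [qip, star_sum, star_mul, star_star]

theorem qrefl_eq (r x : Fin 3 → ℍ[ℝ]) :
    qrefl r x = x - lsmul ((1 / 2 : ℝ) • qip x r) r := by
  funext t
  rfl

theorem qrefl_add (r x y : Fin 3 → ℍ[ℝ]) : qrefl r (x + y) = qrefl r x + qrefl r y := by
  funext t
  simp only [qrefl, Pi.add_apply, qip_add_left, smul_add, add_mul]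
  abel

theorem qrefl_neg (r x : Fin 3 → ℍ[ℝ]) : qrefl r (-x) = -qrefl r x := by
  funext t
  simp only [qrefl, Pi.neg_apply, qip_neg_left, smul_neg, neg_mul]
  abel

theorem qrefl_lsmul (r : Fin 3 → ℍ[ℝ]) (a : ℍ[ℝ]) (x : Fin 3 → ℍ[ℝ]) :
    qrefl r (lsmul a x) = lsmul a (qrefl r x) := by
  funext t
  simp only [qrefl, lsmul_apply, qip_lsmul_left, mul_sub]
  congr 1
  rw [← mul_smul_comm, mul_assoc]

theorem half_smul_four : (1 / 2 : ℝ) • (4 : ℍ[ℝ]) = 2 := by
  have h4 : (4 : ℍ[ℝ]) = ((4 : ℝ) : ℍ[ℝ]) := by norm_cast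
  have h2 : (2 : ℍ[ℝ]) = ((2 : ℝ) : ℍ[ℝ]) := by norm_cast
  rw [h4, h2, ← Quaternion.coe_smul]
  norm_num

theorem qrefl_self (r : Fin 3 → ℍ[ℝ]) (hr : qip r r = 4) : qrefl r r = -r := by
  funext t
  simp only [qrefl, hr, half_smul_four, Pi.neg_apply]
  noncomm_ring

theorem qip_qrefl_left (r x : Fin 3 → ℍ[ℝ]) (hr : qip r r = 4) :
    qip (qrefl r x) r = -qip x r := by
  rw [qrefl_eq, qip_sub_left, qip_lsmul_left, hr, smul_mul_assoc]
  have : qip x r * 4 = (4 : ℝ) • qip x r := by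
    rw [show (4 : ℍ[ℝ]) = ((4 : ℝ) : ℍ[ℝ]) by norm_cast, ← Quaternion.coe_commutes,
      Quaternion.coe_mul_eq_smul]
  rw [this, smul_smul]
  norm_num
  rw [two_smul]
  abel

theorem qrefl_qrefl (r x : Fin 3 → ℍ[ℝ]) (hr : qip r r = 4) : qrefl r (qrefl r x) = x := by
  rw [qrefl_eq r (qrefl r x), qip_qrefl_left r x hr, qrefl_eq]
  funext t
  simp only [Pi.sub_apply, lsmul_apply, smul_neg, neg_mul]
  abel

theorem qip_qrefl (r x y : Fin 3 → ℍ[ℝ]) (hr : qip r r = 4) :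
    qip (qrefl r x) (qrefl r y) = qip x y := by
  rw [qrefl_eq r y, qip_sub_right, qip_lsmul_right, qip_qrefl_left r x hr, qrefl_eq r x,
    qip_sub_left, qip_lsmul_left, Quaternion.star_smul, star_qip, smul_mul_assoc,
    mul_smul_comm, neg_mul, smul_neg]
  abel

theorem star_mul_self_of_mul_star {u : ℍ[ℝ]} (hu : u * star u = 1) : star u * u = 1 := by
  rw [Quaternion.star_mul_self, ← Quaternion.self_mul_star, hu]

theorem qrefl_unit_lsmul (u : ℍ[ℝ]) (r x : Fin 3 → ℍ[ℝ]) (hu : u * star u = 1) :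
    qrefl (lsmul u r) x = qrefl r x := by
  funext t
  simp only [qrefl, lsmul_apply, qip_lsmul_right]
  congr 1
  rw [← smul_mul_assoc, mul_assoc, ← mul_assoc (star u), star_mul_self_of_mul_star hu, one_mul]

theorem qrefl_eq_self_of_orth (r x : Fin 3 → ℍ[ℝ]) (h : qip x r = 0) : qrefl r x = x := by
  funext t
  simp only [qrefl, h, smul_zero, zero_mul, sub_zero]

theorem qrefl_conj (g : (Fin 3 → ℍ[ℝ]) → (Fin 3 → ℍ[ℝ]))
    (hadd : ∀ x y, g (x + y) = g x + g y) (hneg : ∀ x, g (-x) = -g x)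
    (hlin : ∀ a x, g (lsmul a x) = lsmul a (g x)) (hip : ∀ x y, qip (g x) (g y) = qip x y)
    (r x : Fin 3 → ℍ[ℝ]) : g (qrefl r x) = qrefl (g r) (g x) := by
  rw [qrefl_eq, qrefl_eq, hip, sub_eq_add_neg, hadd, hneg, hlin, ← sub_eq_add_neg]

end Cfsg.Agent.Helper91.J2A
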