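/-
Helper91: piece (J2-B) for helper7 (J2 icosian cluster S1619-S1622): the icosian Leech lattice is
stable under the reflections in its vectors of norm 4.
-/
import Mathlib
import Cfsg.Agent.Helper7.J2.Icosian
import Cfsg.Agent.Helper7.J2.Defs

set_option autoImplicit false

open Quaternion Cfsg.Spor Cfsg.Agent.Helper7.J2

namespace Cfsg.Agent.Helper91.J2B

theorem codeOK_conj {X : Q8} (h : Q8.codeOK X) : Q8.codeOK (Q8.conj X) := by
  unfold Q8.codeOK at *
  simp only [Q8.conj]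
  omega

theorem star_mem_icosians {q : ℍ[ℝ]} (h : q ∈ icosians) : star q ∈ icosians := by
  obtain ⟨X, hX, rfl⟩ := Q8.mem_icosians_iff.1 h
  rw [← Q8.toH_conj]
  exact Q8.mem_icosians_iff.2 ⟨Q8.conj X, codeOK_conj hX, rfl⟩

theorem icoH_eq : icoH = Q8.toH ⟨1, -2, 1, 0, 1, 0, 1, 0⟩ := by
  have h5 := sqrt5_eq
  ext
  · simp only [icoH, Q8.toH_re]
    push_cast
    rw [h5]; ring
  · simp only [icoH, Q8.toH_imI]
    push_cast
    ring
  · simp only [icoH, Q8.toH_imJ]
    push_cast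
    ring
  · simp only [icoH, Q8.toH_imK]
    push_cast
    ring

theorem icoH_mem : icoH ∈ icosians := by
  rw [icoH_eq]
  exact Q8.mem_icosians_iff.2 ⟨_, by decide, rfl⟩

theorem normSq_icoH : Quaternion.normSq icoH = 2 := by
  rw [Quaternion.normSq_def']
  simp only [icoH]
  have h5 := sqrt5_sq
  ring_nf
  ring_nf at h5
  rw [h5]
  norm_num

theorem icoH_mul_star : icoH * star icoH = 2 := by
  rw [Quaternion.self_mul_star, normSq_icoH]
  norm_cast

theorem star_icoH_mul : star icoH * icoH = 2 := by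
  rw [Quaternion.star_mul_self, normSq_icoH]
  norm_cast

theorem star_icoH_mem : star icoH ∈ icosians := star_mem_icosians icoH_mem

/-! ### the lattice is a left module over the icosians -/

theorem leftIdeal_add {q u v : ℍ[ℝ]} (hu : u ∈ leftIdeal q) (hv : v ∈ leftIdeal q) :
    u + v ∈ leftIdeal q := by
  obtain ⟨a, ha, rfl⟩ := hu
  obtain ⟨b, hb, rfl⟩ := hv
  exact ⟨a + b, icosians.add_mem ha hb, by rw [add_mul]⟩

theorem leftIdeal_neg {q u : ℍ[ℝ]} (hu : u ∈ leftIdeal q) : -u ∈ leftIdeal q := by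
  obtain ⟨a, ha, rfl⟩ := hu
  exact ⟨-a, icosians.neg_mem ha, by rw [neg_mul]⟩

theorem leftIdeal_mul {q u a : ℍ[ℝ]} (ha : a ∈ icosians) (hu : u ∈ leftIdeal q) :
    a * u ∈ leftIdeal q := by
  obtain ⟨b, hb, rfl⟩ := hu
  exact ⟨a * b, icosians.mul_mem ha hb, by rw [mul_assoc]⟩

theorem icoLeech_add {x y : Fin 3 → ℍ[ℝ]} (hx : x ∈ icoLeech) (hy : y ∈ icoLeech) :
    x + y ∈ icoLeech := by
  obtain ⟨hx0, hx1, hx2, hx3⟩ := hx
  obtain ⟨hy0, hy1, hy2, hy3⟩ := hy
  refine ⟨fun t => icosians.add_mem (hx0 t) (hy0 t), ?_, ?_, ?_⟩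
  · have : (x + y) 0 - (x + y) 1 = (x 0 - x 1) + (y 0 - y 1) := by
      simp only [Pi.add_apply]; abel
    rw [this]; exact leftIdeal_add hx1 hy1
  · have : (x + y) 1 - (x + y) 2 = (x 1 - x 2) + (y 1 - y 2) := by
      simp only [Pi.add_apply]; abel
    rw [this]; exact leftIdeal_add hx2 hy2
  · have : (x + y) 0 + (x + y) 1 + (x + y) 2 = (x 0 + x 1 + x 2) + (y 0 + y 1 + y 2) := by
      simp only [Pi.add_apply]; abel
    rw [this]; exact leftIdeal_add hx3 hy3

theorem icoLeech_neg {x : Fin 3 → ℍ[ℝ]} (hx : x ∈ icoLeech) : -x ∈ icoLeech := by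
  obtain ⟨hx0, hx1, hx2, hx3⟩ := hx
  refine ⟨fun t => icosians.neg_mem (hx0 t), ?_, ?_, ?_⟩
  · have : (-x) 0 - (-x) 1 = -(x 0 - x 1) := by
      simp only [Pi.neg_apply]; abel
    rw [this]; exact leftIdeal_neg hx1
  · have : (-x) 1 - (-x) 2 = -(x 1 - x 2) := by
      simp only [Pi.neg_apply]; abel
    rw [this]; exact leftIdeal_neg hx2
  · have : (-x) 0 + (-x) 1 + (-x) 2 = -(x 0 + x 1 + x 2) := by
      simp only [Pi.neg_apply]; abel
    rw [this]; exact leftIdeal_neg hx3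

theorem icoLeech_lsmul {a : ℍ[ℝ]} (ha : a ∈ icosians) {x : Fin 3 → ℍ[ℝ]} (hx : x ∈ icoLeech) :
    lsmul a x ∈ icoLeech := by
  obtain ⟨hx0, hx1, hx2, hx3⟩ := hx
  refine ⟨fun t => icosians.mul_mem ha (hx0 t), ?_, ?_, ?_⟩
  · have : lsmul a x 0 - lsmul a x 1 = a * (x 0 - x 1) := by
      simp only [lsmul_apply, mul_sub]
    rw [this]; exact leftIdeal_mul ha hx1
  · have : lsmul a x 1 - lsmul a x 2 = a * (x 1 - x 2) := by
      simp only [lsmul_apply, mul_sub]
    rw [this]; exact leftIdeal_mul ha hx2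
  · have : lsmul a x 0 + lsmul a x 1 + lsmul a x 2 = a * (x 0 + x 1 + x 2) := by
      simp only [lsmul_apply, mul_add]
    rw [this]; exact leftIdeal_mul ha hx3

/-! ### the Hermitian product of two lattice vectors lies in `2 I` -/

theorem qip_fin3 (x r : Fin 3 → ℍ[ℝ]) :
    qip x r = x 0 * star (r 0) + x 1 * star (r 1) + x 2 * star (r 2) := by
  simp only [qip, Fin.sum_univ_three]

/-- the bilinear identity behind `qip_mem_two` -/
theorem three_qip (x0 x1 x2 y0 y1 y2 : ℍ[ℝ]) :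
    3 * (x0 * y0 + x1 * y1 + x2 * y2) =
      (x0 + x1 + x2) * (y0 + y1 + y2) + 2 * ((x0 - x1) * (y0 - y1)) + (x0 - x1) * (y1 - y2) +
        (x1 - x2) * (y0 - y1) + 2 * ((x1 - x2) * (y1 - y2)) := by
  noncomm_ring

theorem mul_h_star {a b : ℍ[ℝ]} : (a * icoH) * star (b * icoH) = 2 * (a * star b) := by
  rw [star_mul, mul_assoc, ← mul_assoc icoH, icoH_mul_star]
  noncomm_ring

theorem mul_hbar_star {a b : ℍ[ℝ]} :
    (a * star icoH) * star (b * star icoH) = 2 * (a * star b) := by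
  rw [star_mul, star_star, mul_assoc, ← mul_assoc (star icoH), star_icoH_mul]
  noncomm_ring

theorem qip_mem_icosians {x r : Fin 3 → ℍ[ℝ]} (hx : x ∈ icoLeech) (hr : r ∈ icoLeech) :
    qip x r ∈ icosians := by
  unfold qip
  exact icosians.sum_mem (fun t _ => icosians.mul_mem (hx.1 t) (star_mem_icosians (hr.1 t)))

theorem qip_mem_two {x r : Fin 3 → ℍ[ℝ]} (hx : x ∈ icoLeech) (hr : r ∈ icoLeech) :
    ∃ a ∈ icosians, qip x r = a + a := by
  have hB := qip_mem_icosians hx hr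
  obtain ⟨-, ⟨a, ha, hxa⟩, ⟨b, hb, hxb⟩, ⟨c, hc, hxc⟩⟩ := hx
  obtain ⟨-, ⟨a', ha', hra⟩, ⟨b', hb', hrb⟩, ⟨c', hc', hrc⟩⟩ := hr
  have hsa' := star_mem_icosians ha'
  have hsb' := star_mem_icosians hb'
  have hsc' := star_mem_icosians hc'
  set A : ℍ[ℝ] := c * star c' + 2 * (a * star a') + a * star b' + b * star a' + 2 * (b * star b')
    with hA
  have hAmem : A ∈ icosians := by
    have h2 : (2 : ℍ[ℝ]) ∈ icosians := by
      have : (2 : ℍ[ℝ]) = 1 + 1 := by norm_num
      rw [this]; exact icosians.add_mem icosians.one_mem icosians.one_mem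
    refine icosians.add_mem (icosians.add_mem (icosians.add_mem (icosians.add_mem ?_ ?_) ?_) ?_) ?_
    · exact icosians.mul_mem hc hsc'
    · exact icosians.mul_mem h2 (icosians.mul_mem ha hsa')
    · exact icosians.mul_mem ha hsb'
    · exact icosians.mul_mem hb hsa'
    · exact icosians.mul_mem h2 (icosians.mul_mem hb hsb')
  have key : 3 * qip x r = 2 * A := by
    rw [qip_fin3, three_qip]
    have e1 : star (r 0) + star (r 1) + star (r 2) = star (r 0 + r 1 + r 2) := by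
      simp only [star_add]
    have e2 : star (r 0) - star (r 1) = star (r 0 - r 1) := by simp only [star_sub]
    have e3 : star (r 1) - star (r 2) = star (r 1 - r 2) := by simp only [star_sub]
    rw [e1, e2, e3, hxa, hxb, hxc, hra, hrb, hrc, mul_hbar_star, mul_h_star, mul_h_star,
      mul_h_star, mul_h_star, hA]
    noncomm_ring
  refine ⟨A - qip x r, icosians.sub_mem hAmem hB, ?_⟩
  have : A - qip x r + (A - qip x r) = 2 * A - 3 * qip x r + qip x r := by noncomm_ring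
  rw [this, key, sub_self, zero_add]

theorem qrefl_mem {r x : Fin 3 → ℍ[ℝ]} (hr : r ∈ icoLeech) (h4 : qip r r = 4)
    (hx : x ∈ icoLeech) : qrefl r x ∈ icoLeech := by
  obtain ⟨a, ha, hqa⟩ := qip_mem_two hx hr
  have hhalf : (1 / 2 : ℝ) • qip x r = a := by
    rw [hqa, ← two_smul ℝ a, smul_smul]
    norm_num
  have : qrefl r x = x + -(lsmul a r) := by
    funext t
    simp only [qrefl, hhalf, Pi.add_apply, Pi.neg_apply, lsmul_apply]
    abel
  rw [this]
  exact icoLeech_add hx (icoLeech_neg (icoLeech_lsmul ha hr))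

end Cfsg.Agent.Helper91.J2B
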