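-- helper91: piece (C1) `exists_Z` of board posts 5064/5067 for helper58 (S4016).
import Mathlib
import Cfsg.Agent.Helper58.PADefs
import Cfsg.Agent.Helper22.Sup

set_option autoImplicit false

namespace Cfsg.Agent.Helper91.PAC1

open Cfsg.Agent.Helper58.PA

variable {p : ℕ} [Fact p.Prime] {G : Type*} [Group G] [Finite G]

/-- A divisor of `a * b` coprime to `a` divides `b`, packaged for cards. -/
theorem dvd_of_dvd_mul_pow {n a b p k : ℕ} (hp : p.Prime) (h : n ∣ a * b) (ha : a = p ^ k)
    (hn : ¬ p ∣ n) : n ∣ b := by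
  subst ha
  exact (Nat.Coprime.pow_right k ((Nat.Prime.coprime_iff_not_dvd hp).2 hn).symm).dvd_of_dvd_mul_left h

/-- **(C1)** -/
theorem exists_Z (c : Ctx p G) (P : Sylow p G) (K : Subgroup G) (hL : Loc p P K)
    (hsyl : ∀ (q : ℕ) [Fact q.Prime], q ≠ p → ∀ Q : Sylow q G, (Q : Subgroup G) ≠ ⊥ →
      SylQ p (Q : Subgroup G))
    (d : G) (hdK : d ∈ K) (hdc : d ∈ Subgroup.centralizer ((P : Subgroup G) : Set G))
    (s : ℕ) [Fact s.Prime] (hs : orderOf d = s) :
    (Nat.card G).factorization s = (Nat.card K).factorization s ∧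
    ∃ Z : Subgroup G, IsPGroup p Z ∧ Z ≠ ⊥ ∧ Z ≤ Subgroup.normalizer (K : Set G) ∧
      ∀ z ∈ Z, z ≠ 1 → ∀ w ∈ K, z * w = w * z → w = 1 := by
  have hp : p.Prime := Fact.out
  have hsp : s.Prime := Fact.out
  have hd1 : d ≠ 1 := by
    intro h
    rw [h, orderOf_one] at hs
    exact hsp.ne_one hs.symm
  have hcent := hL.cent_K0 d hdK hdc hd1
  have hsK : s ∣ Nat.card K := hs ▸ Subgroup.orderOf_dvd_natCard K hdK
  have hsp_ne : s ≠ p := by
    intro h
    exact hL.K_p' (h ▸ hsK)
  have hK0 : Nat.card K ≠ 0 := Nat.card_pos.ne'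
  have hG0 : Nat.card G ≠ 0 := Nat.card_pos.ne'
  obtain ⟨n, hPn⟩ := IsPGroup.iff_card.mp P.2
  -- the factorization equality
  have hfact : (Nat.card G).factorization s = (Nat.card K).factorization s := by
    apply le_antisymm
    · -- a Sylow `s`-subgroup containing `d` lies in `M`
      have hzd : IsPGroup s (Subgroup.zpowers d) := by
        apply IsPGroup.of_card (n := 1)
        rw [Nat.card_zpowers, hs, pow_one]
      obtain ⟨S', hS'⟩ := hzd.exists_le_sylow
      have hS'card : Nat.card S' = s ^ (Nat.card G).factorization s := S'.card_eq_multiplicity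
      have hS'p : ¬ p ∣ Nat.card S' := by
        rw [hS'card]
        intro h
        exact hsp_ne ((Nat.prime_dvd_prime_iff_eq hp hsp).mp (hp.dvd_of_dvd_pow h)).symm
      have hS'comm := c.hyp.2 _ hS'p
      have hS'M : (S' : Subgroup G) ≤ Subgroup.normalizer ((P : Subgroup G) : Set G) := by
        rw [← hcent]
        intro x hx
        rw [Subgroup.mem_centralizer_iff]
        intro y hy
        rw [Set.mem_singleton_iff] at hy
        subst hy
        have := hS'comm.is_comm.comm ⟨y, hS' (Subgroup.mem_zpowers y)⟩ ⟨x, hx⟩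
        exact congrArg Subtype.val this
      have h1 : Nat.card S' ∣ Nat.card P * Nat.card K := by
        rw [← hL.card_M]
        exact Subgroup.card_dvd_of_le hS'M
      have h2 : Nat.card S' ∣ Nat.card K := dvd_of_dvd_mul_pow hp h1 hPn hS'p
      rw [hS'card] at h2
      exact (Nat.Prime.pow_dvd_iff_le_factorization hsp hK0).1 h2
    · exact (Nat.factorization_le_iff_dvd hK0 hG0).2 (Subgroup.card_subgroup_dvd_card K) s
  refine ⟨hfact, ?_⟩
  -- a Sylow `s`-subgroup of `G` inside `K`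
  obtain ⟨SK⟩ : Nonempty (Sylow s K) := inferInstance
  have hScard : Nat.card ((SK : Subgroup K).map K.subtype) =
      s ^ (Nat.card G).factorization s := by
    rw [Subgroup.card_map_of_injective K.subtype_injective, hfact]
    exact SK.card_eq_multiplicity
  let Q : Sylow s G := Sylow.ofCard _ hScard
  have hQeq : (Q : Subgroup G) = (SK : Subgroup K).map K.subtype := Sylow.coe_ofCard _ hScard
  have hQK : (Q : Subgroup G) ≤ K := by
    rw [hQeq]; exact Subgroup.map_subtype_le _
  have hQ1 : (Q : Subgroup G) ≠ ⊥ := by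
    intro h
    have h1 : Nat.card (Q : Subgroup G) = 1 := by rw [h]; exact Subgroup.card_bot
    rw [hQeq, hScard, hfact] at h1
    have h2 : 1 ≤ (Nat.card K).factorization s :=
      (Nat.Prime.pow_dvd_iff_le_factorization hsp hK0).1 (by simpa using hsK)
    have h3 : s ^ 1 ≤ s ^ (Nat.card K).factorization s := Nat.pow_le_pow_right hsp.pos h2
    rw [h1, pow_one] at h3
    exact absurd h3 (not_le.mpr hsp.one_lt)
  obtain ⟨B, Z, hQB, hBcomm, hBp', hZp, hZ1, hBN, hZN, hNB, hcardN, hfpf⟩ :=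
    hsyl s hsp_ne Q hQ1
  obtain ⟨j, hZj⟩ := IsPGroup.iff_card.mp hZp
  -- `K ≤ N(Q)`
  have hKN : K ≤ Subgroup.normalizer ((Q : Subgroup G) : Set G) := by
    refine le_trans ?_ (Subgroup.centralizer_le_normalizer ((Q : Subgroup G) : Set G))
    intro k hk
    rw [Subgroup.mem_centralizer_iff]
    intro x hx
    exact hL.K_comm x (hQK hx) k hk
  -- `K ≤ B`
  have hKB : K ≤ B := by
    have hKNB : K ≤ Subgroup.normalizer (B : Set G) := hKN.trans hNB
    have hd1 := Cfsg.Agent.Helper22.card_sup_dvd_of_le_normalizer K B hKNB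
    have hp' : ¬ p ∣ Nat.card ↥(K ⊔ B) :=
      Cfsg.Agent.Helper22.not_dvd_card_sup_of_le_normalizer p hp K B hKNB hL.K_p' hBp'
    have hle : K ⊔ B ≤ Subgroup.normalizer ((Q : Subgroup G) : Set G) := sup_le hKN hBN
    have h1 : Nat.card ↥(K ⊔ B) ∣ Nat.card Z * Nat.card B := by
      rw [mul_comm, ← hcardN]
      exact Subgroup.card_dvd_of_le hle
    have h2 : Nat.card ↥(K ⊔ B) ∣ Nat.card B := dvd_of_dvd_mul_pow hp h1 hZj hp'
    have h3 : B = K ⊔ B :=
      Subgroup.eq_of_le_of_card_ge le_sup_right (Nat.le_of_dvd Nat.card_pos h2)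
    rw [h3]
    exact le_sup_left
  -- `B ≤ M`, hence `B = K`
  have hBM : B ≤ Subgroup.normalizer ((P : Subgroup G) : Set G) := by
    rw [← hcent]
    intro b hb
    rw [Subgroup.mem_centralizer_iff]
    intro y hy
    rw [Set.mem_singleton_iff] at hy
    subst hy
    exact hBcomm y (hKB hdK) b hb
  have hBK : K = B := by
    have h1 : Nat.card B ∣ Nat.card P * Nat.card K := by
      rw [← hL.card_M]
      exact Subgroup.card_dvd_of_le hBM
    have h2 : Nat.card B ∣ Nat.card K := dvd_of_dvd_mul_pow hp h1 hPn hBp'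
    exact Subgroup.eq_of_le_of_card_ge hKB (Nat.le_of_dvd Nat.card_pos h2)
  refine ⟨Z, hZp, hZ1, ?_, ?_⟩
  · rw [hBK]
    exact hZN.trans hNB
  · intro z hz hz1 w hw hzw
    exact hfpf z hz hz1 w (hBK ▸ hw) hzw

end Cfsg.Agent.Helper91.PAC1
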