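/-
Helper91: piece (T9) for helper61 (S4221, M. Hall's theorem): the even-degree case is impossible.
-/
import Cfsg.Agent.Helper61.HallDefs
import Cfsg.Agent.Helper68.HallT1
import Cfsg.Agent.Helper79.HallT3
import Cfsg.Agent.Helper63.HallBW
import Cfsg.Agent.Helper68.HallT6
import Cfsg.Agent.Helper69.HallT5

set_option autoImplicit false

namespace Cfsg.Agent.Helper91.HallT9

open MulAction Cfsg.Agent.Helper61.Hall

variable {G : Type*} [Group G] {Ω : Type*} [MulAction G Ω]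

/-! ### general lemmas -/

/-- orbit-stabilizer for a subgroup, with the stabilizer written inside `G` -/
theorem card_orbit_mul [Finite G] (H : Subgroup G) (q : Ω) :
    Nat.card (orbit H q) * Nat.card (H ⊓ stabilizer G q : Subgroup G) = Nat.card H := by
  have h1 : Nat.card (orbit H q) = (stabilizer H q).index := by
    rw [Subgroup.index_eq_card]
    exact Nat.card_congr (orbitEquivQuotientStabilizer H q)
  have h2 : Nat.card (stabilizer H q) = Nat.card (H ⊓ stabilizer G q : Subgroup G) := by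
    apply Nat.card_congr
    exact
      { toFun := fun x => ⟨x.1.1, ⟨x.1.2, x.2⟩⟩
        invFun := fun y => ⟨⟨y.1, y.2.1⟩, y.2.2⟩
        left_inv := fun x => rfl
        right_inv := fun y => rfl }
  rw [h1, ← h2]
  exact Subgroup.index_mul_card _

/-- an element of an odd-order subgroup which fixes `x` after two steps fixes `x` -/
theorem smul_eq_of_sq {H : Subgroup G} [Finite H] (hH : Odd (Nat.card H)) {g : G} (hg : g ∈ H)
    {x : Ω} (h : g • g • x = x) : g • x = x := by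
  have ho : Odd (orderOf g) := Odd.of_dvd_nat hH (Subgroup.orderOf_dvd_natCard _ hg)
  have := Cfsg.Agent.Helper68.HallT.pow_odd_smul h ho
  rw [pow_orderOf_eq_one, one_smul] at this
  exact this.symm

/-- an involution preserving a finite set of odd size fixes one of its points -/
theorem exists_fixed_of_odd [Finite Ω] {s : G} (hs : s * s = 1) (S : Set Ω)
    (hS : ∀ x ∈ S, s • x ∈ S) (hodd : Odd (Nat.card S)) : ∃ x ∈ S, s • x = x := by
  classical
  by_contra hno
  push Not at hno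
  have : Fintype S := Fintype.ofFinite S
  let f : Function.End S := fun x => ⟨s • x.1, hS x.1 x.2⟩
  have hf : ∀ x, f (f x) = x := by
    intro x
    apply Subtype.ext
    show s • s • x.1 = x.1
    rw [← mul_smul, hs, one_smul]
  have hpow : f ^ 2 ^ 1 = 1 := by
    rw [pow_one, pow_two]
    funext x
    exact hf x
  have : Fact (Nat.Prime 2) := ⟨Nat.prime_two⟩
  have hmod := Equiv.Perm.card_fixedPoints_modEq (p := 2) (n := 1) hpow
  have hempty : IsEmpty (Function.fixedPoints f) := by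
    constructor
    rintro ⟨x, hx⟩
    have : f x = x := hx
    exact hno x.1 x.2 (congrArg Subtype.val this)
  rw [Fintype.card_eq_zero_iff.2 hempty] at hmod
  rw [Nat.card_eq_fintype_card] at hodd
  have : Fintype.card S % 2 = 0 := hmod
  rcases hodd with ⟨m, hm⟩
  omega

theorem stab4_swap12 (a b c d : Ω) : stab4 G b a c d = stab4 G a b c d := by
  ext g; simp only [mem_stab4]; tauto

theorem stab4_swap34 (a b c d : Ω) : stab4 G a b d c = stab4 G a b c d := by
  ext g; simp only [mem_stab4]; tauto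

theorem stab4_rot (a b c d : Ω) : stab4 G c d a b = stab4 G a b c d := by
  ext g; simp only [mem_stab4]; tauto

theorem conj_mem_stab4 {u g : G} {a b c d a' b' c' d' : Ω} (ha : u • a' = a) (hb : u • b' = b)
    (hc : u • c' = c) (hd : u • d' = d) (hg : g ∈ stab4 G a' b' c' d') :
    u * g * u⁻¹ ∈ stab4 G a b c d := by
  obtain ⟨g1, g2, g3, g4⟩ := mem_stab4.1 hg
  refine mem_stab4.2 ⟨?_, ?_, ?_, ?_⟩
  · rw [← ha, mul_smul, mul_smul, inv_smul_smul, g1]
  · rw [← hb, mul_smul, mul_smul, inv_smul_smul, g2]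
  · rw [← hc, mul_smul, mul_smul, inv_smul_smul, g3]
  · rw [← hd, mul_smul, mul_smul, inv_smul_smul, g4]


/-! ### T9, first part -/

theorem even_Ha_transitive [Fintype Ω] [Finite G] (h4 : IsMultiplyPretransitive G Ω 4)
    (hodd : OddStab4 G Ω) (hn : 8 ≤ Fintype.card Ω) (heven : Even (Fintype.card Ω))
    {s t : G} {p1 p2 p3 p4 a b : Ω} (cfg : Config s t p1 p2 p3 p4)
    (hfs : ∀ q, s • q = q ↔ q = p3 ∨ q = p4) (hfst : ∀ q, (s * t) • q = q ↔ q = p1 ∨ q = p2)
    (hab : a ≠ b) (hft : ∀ q, t • q = q ↔ q = a ∨ q = b) (sa : s • a = b) (sb : s • b = a) :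
    -- every orbit of H outside {p1..p4} has size (n-4)/2
    (∀ q : Ω, q ≠ p1 → q ≠ p2 → q ≠ p3 → q ≠ p4 →
      Nat.card (orbit (stab4 G p1 p2 p3 p4) q) * 2 = Fintype.card Ω - 4) ∧
    -- b is not in the H-orbit of a
    (¬ ∃ h ∈ stab4 G p1 p2 p3 p4, h • a = b) ∧
    -- H_a is transitive on H b
    (∀ h ∈ stab4 G p1 p2 p3 p4, ∃ h' ∈ stab4 G p1 p2 p3 p4, h' • a = a ∧ h' • b = h • b) := by
  classical
  obtain ⟨h12, h13, h14, h23, h24, h34, hs, ht, hst, t1, t2, t3, t4, s1, s2, s3, s4⟩ := cfg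
  obtain ⟨k, hk⟩ := Cfsg.Agent.Helper68.HallT.cenConst_exists h4 hodd
  set H : Subgroup G := stab4 G p1 p2 p3 p4 with hH
  have hHodd : Odd (Nat.card H) := hodd p1 p2 p3 p4 h12 h13 h14 h23 h24 h34
  -- basic facts on the involutions
  have hsinv : s⁻¹ = s := inv_eq_of_mul_eq_one_left hs
  have htinv : t⁻¹ = t := inv_eq_of_mul_eq_one_left ht
  have hstst : (s * t) * (s * t) = 1 := by
    calc (s * t) * (s * t) = s * (t * s) * t := by group
      _ = s * (s * t) * t := by rw [hst]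
      _ = (s * s) * (t * t) := by group
      _ = 1 := by rw [hs, ht, one_mul]
  have st1 : (s * t) • p1 = p1 := by rw [mul_smul, t1, s2]
  have st2 : (s * t) • p2 = p2 := by rw [mul_smul, t2, s1]
  have st3 : (s * t) • p3 = p4 := by rw [mul_smul, t3, s4]
  have st4 : (s * t) • p4 = p3 := by rw [mul_smul, t4, s3]
  have ta : t • a = a := (hft a).2 (Or.inl rfl)
  have tb : t • b = b := (hft b).2 (Or.inr rfl)
  have sta : (s * t) • a = b := by rw [mul_smul, ta, sa]
  -- `a`, `b` are not among the `p`'s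
  have hap : ∀ q, t • q = q → q ≠ p1 ∧ q ≠ p2 ∧ q ≠ p3 ∧ q ≠ p4 := by
    intro q hq
    refine ⟨?_, ?_, ?_, ?_⟩ <;> rintro rfl
    · rw [t1] at hq; exact h12 hq.symm
    · rw [t2] at hq; exact h12 hq
    · rw [t3] at hq; exact h34 hq.symm
    · rw [t4] at hq; exact h34 hq
  obtain ⟨ha1, ha2, ha3, ha4⟩ := hap a ta
  obtain ⟨hb1, hb2, hb3, hb4⟩ := hap b tb
  -- T6 for `s`
  obtain ⟨hA, hAq⟩ := Cfsg.Agent.Helper68.HallT.even_cen_orbits h4 hodd hk (by omega) (u := s)
    (w := s * t) h12 h13 h14 h23 h24 h34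
    hs s1 s2 hfs (by rw [mul_assoc, ← hst])
    st1 st3
  -- T6 for `s * t`
  obtain ⟨hA', hAq'⟩ := Cfsg.Agent.Helper68.HallT.even_cen_orbits h4 hodd hk (by omega)
    (u := s * t) (w := s) h34 h13.symm h23.symm
    h14.symm h24.symm h12 hstst st3 st4 hfst
    (by rw [mul_assoc s t s, ← hst]) s3 s1
  rw [stab4_rot] at hA'
  have hAq'' : ∀ q : Ω, q ≠ p1 → q ≠ p2 → q ≠ p3 → q ≠ p4 →
      Nat.card (H ⊓ Subgroup.centralizer {s * t} ⊓ stabilizer G q : Subgroup G) = k := by
    intro q q1 q2 q3 q4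
    have := (hAq' q q3 q4 q1 q2).1
    rwa [stab4_rot] at this
  -- first conclusion
  have hO : ∀ q : Ω, q ≠ p1 → q ≠ p2 → q ≠ p3 → q ≠ p4 →
      Nat.card (orbit H q) * 2 = Fintype.card Ω - 4 := fun q q1 q2 q3 q4 => (hAq q q1 q2 q3 q4).2
  -- `s` and `t` normalise `H`
  have hsH : ∀ g ∈ H, s * g * s⁻¹ ∈ H := by
    intro g hg
    have : g ∈ stab4 G p2 p1 p3 p4 := by rw [stab4_swap12]; exact hg
    exact conj_mem_stab4 s2 s1 s3 s4 this
  have htH : ∀ g ∈ H, t * g * t⁻¹ ∈ H := by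
    intro g hg
    have : g ∈ stab4 G p2 p1 p4 p3 := by rw [stab4_swap12, stab4_swap34]; exact hg
    exact conj_mem_stab4 t2 t1 t4 t3 this
  -- orbit sizes
  set Ka := Nat.card (orbit H a) with hKa
  have hKa2 : Ka * 2 = Fintype.card Ω - 4 := hO a ha1 ha2 ha3 ha4
  have hKb2 : Nat.card (orbit H b) * 2 = Fintype.card Ω - 4 := hO b hb1 hb2 hb3 hb4
  have hKb : Nat.card (orbit H b) = Ka := by omega
  have hKapos : 0 < Ka := by omega
  have hKaH : Ka * Nat.card (H ⊓ stabilizer G a : Subgroup G) = Nat.card H := card_orbit_mul H a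
  have hKaodd : Odd Ka := (Nat.odd_mul.1 (hKaH ▸ hHodd)).1
  -- second conclusion
  have hnot : ¬ ∃ h ∈ H, h • a = b := by
    rintro ⟨h0, hh0, h0a⟩
    have hinv : ∀ x ∈ orbit H a, s • x ∈ orbit H a := by
      rintro x ⟨h, rfl⟩
      refine ⟨⟨s * h.1 * s⁻¹, hsH h.1 h.2⟩ * ⟨h0, hh0⟩, ?_⟩
      show (s * h.1 * s⁻¹ * h0) • a = s • (h.1 • a)
      rw [mul_smul, h0a, mul_smul, mul_smul, hsinv, sb]
    obtain ⟨x, ⟨h, rfl⟩, hx⟩ := exists_fixed_of_odd hs (orbit H a) hinv hKaodd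
    obtain ⟨g1, g2, g3, g4⟩ := mem_stab4.1 h.2
    have hha : ∀ p, h.1 • p = p → h.1 • a ≠ p := by
      intro p hp hcon
      have : a = p := by
        have := congrArg (fun y => h.1⁻¹ • y) hcon
        simp only [inv_smul_smul] at this
        rw [this, inv_smul_eq_iff, hp]
      have hq := hap a ta
      rcases (hfs (h.1 • a)).1 hx with h3 | h3
      · exact absurd (this.trans (hcon.symm.trans h3)) (by
          intro h'; exact hq.2.2.1 h')
      · exact absurd (this.trans (hcon.symm.trans h3)) (by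
          intro h'; exact hq.2.2.2 h')
    rcases (hfs (h.1 • a)).1 hx with h3 | h3
    · exact hha p3 g3 h3
    · exact hha p4 g4 h3
  refine ⟨hO, hnot, ?_⟩
  -- Brauer-Wielandt on `H`
  have hBW1 := Cfsg.Agent.Helper63.HallBW.brauer_wielandt H hHodd hs ht hst hsH htH
  -- the group `X`
  set X : Subgroup G := H ⊓ stabilizer G a ⊓ stabilizer G b with hX
  have hXle : X ≤ H := inf_le_left.trans inf_le_left
  have hXodd : Odd (Nat.card X) := Odd.of_dvd_nat hHodd (Subgroup.card_dvd_of_le hXle)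
  have hsX : ∀ g ∈ X, s * g * s⁻¹ ∈ X := by
    intro g hg
    obtain ⟨⟨hgH, hga⟩, hgb⟩ := hg
    have hga' : g • a = a := hga
    have hgb' : g • b = b := hgb
    refine ⟨⟨hsH g hgH, ?_⟩, ?_⟩
    · show (s * g * s⁻¹) • a = a
      rw [mul_smul, mul_smul, hsinv, sa, hgb', sb]
    · show (s * g * s⁻¹) • b = b
      rw [mul_smul, mul_smul, hsinv, sb, hga', sa]
  have htX : ∀ g ∈ X, t * g * t⁻¹ ∈ X := by
    intro g hg
    obtain ⟨⟨hgH, hga⟩, hgb⟩ := hg
    have hga' : g • a = a := hga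
    have hgb' : g • b = b := hgb
    refine ⟨⟨htH g hgH, ?_⟩, ?_⟩
    · show (t * g * t⁻¹) • a = a
      rw [mul_smul, mul_smul, htinv, ta, hga', ta]
    · show (t * g * t⁻¹) • b = b
      rw [mul_smul, mul_smul, htinv, tb, hgb', tb]
  have hBW2 := Cfsg.Agent.Helper63.HallBW.brauer_wielandt X hXodd hs ht hst hsX htX
  -- elements of `H ⊓ C(t)` fix `a` and `b`
  have hTfix : ∀ g ∈ H, g * t = t * g → g • a = a ∧ g • b = b := by
    intro g hg hgt
    have hperm : ∀ q : Ω, t • q = q → t • (g • q) = g • q := by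
      intro q hq
      rw [← mul_smul, ← hgt, mul_smul, hq]
    have hga : g • a = a ∨ g • a = b := (hft _).1 (hperm a ta)
    have hgb : g • b = a ∨ g • b = b := (hft _).1 (hperm b tb)
    have key : g • a = a := by
      rcases hga with h | h
      · exact h
      · rcases hgb with h' | h'
        · exact smul_eq_of_sq hHodd hg (by rw [h, h'])
        · exact absurd (MulAction.injective g (h.trans h'.symm)) hab
    refine ⟨key, ?_⟩
    rcases hgb with h' | h'
    · exact absurd (MulAction.injective g (key.trans h'.symm)) hab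
    · exact h'
  -- the four identifications
  have E1 : X ⊓ Subgroup.centralizer {t} = H ⊓ Subgroup.centralizer {t} := by
    apply le_antisymm
    · exact inf_le_inf_right _ hXle
    · intro g hg
      obtain ⟨hgH, hgt⟩ := hg
      obtain ⟨f1, f2⟩ := hTfix g hgH (mem_cen.1 hgt)
      exact ⟨⟨⟨hgH, f1⟩, f2⟩, hgt⟩
  have E2 : X ⊓ Subgroup.centralizer {s} = H ⊓ Subgroup.centralizer {s} ⊓ stabilizer G a := by
    ext g
    constructor
    · rintro ⟨⟨⟨hgH, hga⟩, -⟩, hgs⟩
      exact ⟨⟨hgH, hgs⟩, hga⟩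
    · rintro ⟨⟨hgH, hgs⟩, hga⟩
      refine ⟨⟨⟨hgH, hga⟩, ?_⟩, hgs⟩
      have hga' : g • a = a := hga
      show g • b = b
      rw [← sa, ← mul_smul, mem_cen.1 hgs, mul_smul, hga']
  have E3 : X ⊓ Subgroup.centralizer {s * t} =
      H ⊓ Subgroup.centralizer {s * t} ⊓ stabilizer G a := by
    ext g
    constructor
    · rintro ⟨⟨⟨hgH, hga⟩, -⟩, hgs⟩
      exact ⟨⟨hgH, hgs⟩, hga⟩
    · rintro ⟨⟨hgH, hgs⟩, hga⟩
      refine ⟨⟨⟨hgH, hga⟩, ?_⟩, hgs⟩
      have hga' : g • a = a := hga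
      show g • b = b
      rw [← sta, ← mul_smul, mem_cen.1 hgs, mul_smul, hga']
  have E4 : X ⊓ Subgroup.centralizer {s} ⊓ Subgroup.centralizer {t} =
      H ⊓ Subgroup.centralizer {s} ⊓ Subgroup.centralizer {t} := by
    apply le_antisymm
    · exact inf_le_inf_right _ (inf_le_inf_right _ hXle)
    · intro g hg
      obtain ⟨⟨hgH, hgs⟩, hgt⟩ := hg
      obtain ⟨f1, f2⟩ := hTfix g hgH (mem_cen.1 hgt)
      exact ⟨⟨⟨⟨hgH, f1⟩, f2⟩, hgs⟩, hgt⟩
  -- cardinalities
  have cT : Nat.card (H ⊓ Subgroup.centralizer {t} : Subgroup G) = k := by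
    have := hk t p1 p3 ht (by rw [t1]; exact h12.symm) (by rw [t3]; exact h34.symm) h13.symm
      (by rw [t1]; exact h23.symm)
    rw [t1, t3] at this
    rw [inf_comm]
    exact this
  have cA : Nat.card (H ⊓ Subgroup.centralizer {s} : Subgroup G) = Ka * k := by
    have : Nat.card (H ⊓ Subgroup.centralizer {s} : Subgroup G) * 2 = (Ka * k) * 2 := by
      rw [hA, ← hKa2]; ring
    omega
  have cA' : Nat.card (H ⊓ Subgroup.centralizer {s * t} : Subgroup G) = Ka * k := by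
    have : Nat.card (H ⊓ Subgroup.centralizer {s * t} : Subgroup G) * 2 = (Ka * k) * 2 := by
      rw [hA', ← hKa2]; ring
    omega
  have cAa : Nat.card (H ⊓ Subgroup.centralizer {s} ⊓ stabilizer G a : Subgroup G) = k :=
    (hAq a ha1 ha2 ha3 ha4).1
  have cAa' : Nat.card (H ⊓ Subgroup.centralizer {s * t} ⊓ stabilizer G a : Subgroup G) = k :=
    hAq'' a ha1 ha2 ha3 ha4
  rw [cA, cT, cA'] at hBW1
  rw [E4, E2, E1, E3, cAa, cT, cAa'] at hBW2
  set W := Nat.card (H ⊓ Subgroup.centralizer {s} ⊓ Subgroup.centralizer {t} : Subgroup G) with hW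
  have hWpos : 0 < W := Nat.card_pos
  have hXpos : 0 < Nat.card X := Nat.card_pos
  -- `|H| = Ka² |X|`
  have hHX : Nat.card H = Ka * Ka * Nat.card X := by
    have h1 : Nat.card H * W ^ 2 = (Ka * Ka * Nat.card X) * W ^ 2 := by
      calc Nat.card H * W ^ 2 = Ka * k * k * (Ka * k) := hBW1
        _ = Ka * Ka * (k * k * k) := by ring
        _ = Ka * Ka * (Nat.card X * W ^ 2) := by rw [hBW2]
        _ = (Ka * Ka * Nat.card X) * W ^ 2 := by ring
    exact Nat.eq_of_mul_eq_mul_right (pow_pos hWpos 2) h1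
  -- `|H_a| = Ka |X|`
  set Ha : Subgroup G := H ⊓ stabilizer G a with hHa
  have hHa_card : Nat.card Ha = Ka * Nat.card X := by
    have : Ka * Nat.card Ha = Ka * (Ka * Nat.card X) := by rw [hKaH, hHX]; ring
    exact Nat.eq_of_mul_eq_mul_left hKapos this
  -- orbit of `b` under `H_a`
  have hOb : Nat.card (orbit Ha b) * Nat.card X = Nat.card Ha := card_orbit_mul Ha b
  have hOb' : Nat.card (orbit Ha b) = Ka := by
    rw [hHa_card] at hOb
    exact Nat.eq_of_mul_eq_mul_right hXpos hOb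
  have hsub : orbit Ha b ⊆ orbit H b := by
    rintro x ⟨h, rfl⟩
    exact ⟨⟨h.1, h.2.1⟩, rfl⟩
  have heq : orbit Ha b = orbit H b := by
    apply Set.eq_of_subset_of_ncard_le hsub _ (Set.toFinite _)
    rw [← Nat.card_coe_set_eq, ← Nat.card_coe_set_eq, hOb', hKb]
  intro h hh
  have : h • b ∈ orbit Ha b := by
    rw [heq]; exact ⟨⟨h, hh⟩, rfl⟩
  obtain ⟨h', hh'⟩ := this
  refine ⟨h'.1, h'.2.1, ?_, hh'⟩
  exact mem_stabilizer_iff.1 h'.2.2


/-! ### T9, second part -/

theorem even_contra [Fintype Ω] [Finite G] (h4 : IsMultiplyPretransitive G Ω 4)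
    (hodd : OddStab4 G Ω) (hn : 8 ≤ Fintype.card Ω) (heven : Even (Fintype.card Ω)) :
    False := by
  classical
  -- four distinct points
  obtain ⟨e⟩ : Nonempty (Fin 4 ↪ Ω) :=
    Function.Embedding.nonempty_of_card_le (by rw [Fintype.card_fin]; omega)
  have hne : ∀ i j : Fin 4, i ≠ j → e i ≠ e j := fun i j hij h => hij (e.injective h)
  obtain ⟨p1, hp1⟩ : ∃ p, p = e 0 := ⟨_, rfl⟩
  obtain ⟨p2, hp2⟩ : ∃ p, p = e 1 := ⟨_, rfl⟩
  obtain ⟨p3, hp3⟩ : ∃ p, p = e 2 := ⟨_, rfl⟩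
  obtain ⟨p4, hp4⟩ : ∃ p, p = e 3 := ⟨_, rfl⟩
  have h12 : p1 ≠ p2 := by rw [hp1, hp2]; exact hne _ _ (by decide)
  have h13 : p1 ≠ p3 := by rw [hp1, hp3]; exact hne _ _ (by decide)
  have h14 : p1 ≠ p4 := by rw [hp1, hp4]; exact hne _ _ (by decide)
  have h23 : p2 ≠ p3 := by rw [hp2, hp3]; exact hne _ _ (by decide)
  have h24 : p2 ≠ p4 := by rw [hp2, hp4]; exact hne _ _ (by decide)
  have h34 : p3 ≠ p4 := by rw [hp3, hp4]; exact hne _ _ (by decide)
  obtain ⟨s, t, cfg⟩ := Cfsg.Agent.Helper68.HallT.exists_config h4 hodd h12 h13 h14 h23 h24 h34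
  obtain ⟨hfs, hfst, a, b, hab, hft, sa, sb⟩ :=
    Cfsg.Agent.Helper69.HallT5.fixed_points_even h4 hodd hn heven cfg
  obtain ⟨hO, hnot, htrans⟩ :=
    even_Ha_transitive h4 hodd hn heven cfg hfs hfst hab hft sa sb
  set H : Subgroup G := stab4 G p1 p2 p3 p4 with hH
  have hHodd : Odd (Nat.card H) := hodd p1 p2 p3 p4 h12 h13 h14 h23 h24 h34
  -- `a`, `b` are not among the `p`'s
  have ta : t • a = a := (hft a).2 (Or.inl rfl)
  have tb : t • b = b := (hft b).2 (Or.inr rfl)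
  have hap : ∀ q, t • q = q → q ≠ p1 ∧ q ≠ p2 ∧ q ≠ p3 ∧ q ≠ p4 := by
    intro q hq
    refine ⟨?_, ?_, ?_, ?_⟩ <;> rintro rfl
    · rw [cfg.t1] at hq; exact h12 hq.symm
    · rw [cfg.t2] at hq; exact h12 hq
    · rw [cfg.t3] at hq; exact h34 hq.symm
    · rw [cfg.t4] at hq; exact h34 hq
  obtain ⟨ha1, ha2, ha3, ha4⟩ := hap a ta
  obtain ⟨hb1, hb2, hb3, hb4⟩ := hap b tb
  -- the three-point stabilizer
  set K : Subgroup G := stabilizer G p1 ⊓ stabilizer G p2 ⊓ stabilizer G p3 with hK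
  have memK : ∀ g : G, g ∈ K ↔ g • p1 = p1 ∧ g • p2 = p2 ∧ g • p3 = p3 := by
    intro g
    simp only [hK, Subgroup.mem_inf, mem_stabilizer_iff, and_assoc]
  have memH : ∀ g : G, g ∈ K → g • p4 = p4 → g ∈ H := by
    intro g hg h4'
    obtain ⟨g1, g2, g3⟩ := (memK g).1 hg
    exact mem_stab4.2 ⟨g1, g2, g3, h4'⟩
  have HK : ∀ g : G, g ∈ H → g ∈ K := by
    intro g hg
    obtain ⟨g1, g2, g3, -⟩ := mem_stab4.1 hg
    exact (memK g).2 ⟨g1, g2, g3⟩
  have hKH : (K ⊓ stabilizer G p4 : Subgroup G) = H := rfl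
  -- every point outside `p1, p2, p3` is in the `K`-orbit of `p4`
  have hKtrans : ∀ q : Ω, q ≠ p1 → q ≠ p2 → q ≠ p3 → ∃ k ∈ K, k • p4 = q := by
    intro q q1 q2 q3
    obtain ⟨g, g1, g2, g3, g4⟩ := Cfsg.Agent.S0708.exists_map4 h4 h12 h13 h14 h23 h24 h34
      h12 h13 (Ne.symm q1) h23 (Ne.symm q2) (Ne.symm q3)
    exact ⟨g, (memK g).2 ⟨g1, g2, g3⟩, g4⟩
  have hKorb : orbit K p4 = ((({p1, p2, p3} : Finset Ω) : Set Ω))ᶜ := by
    ext q
    simp only [Set.mem_compl_iff, Finset.coe_insert, Finset.coe_singleton, Set.mem_insert_iff,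
      Set.mem_singleton_iff, not_or]
    constructor
    · rintro ⟨k, rfl⟩
      obtain ⟨k1, k2, k3⟩ := (memK k.1).1 k.2
      refine ⟨?_, ?_, ?_⟩
      · intro h
        exact h14 (MulAction.injective k.1 (k1.trans h.symm))
      · intro h
        exact h24 (MulAction.injective k.1 (k2.trans h.symm))
      · intro h
        exact h34 (MulAction.injective k.1 (k3.trans h.symm))
    · rintro ⟨q1, q2, q3⟩
      obtain ⟨k, hk, hkq⟩ := hKtrans q q1 q2 q3
      exact ⟨⟨k, hk⟩, hkq⟩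
  have hKorbcard : Nat.card (orbit K p4) = Fintype.card Ω - 3 := by
    rw [hKorb, Nat.card_coe_set_eq, Set.ncard_compl, Set.ncard_coe_finset,
      Nat.card_eq_fintype_card]
    congr 1
    rw [Finset.card_insert_of_notMem (by simp [h12, h13]), Finset.card_pair h23]
  have hKodd : Odd (Nat.card K) := by
    have h1 := card_orbit_mul K p4
    rw [hKH, hKorbcard] at h1
    rw [← h1]
    apply Odd.mul _ hHodd
    obtain ⟨r, hr⟩ := heven
    exact ⟨r - 2, by omega⟩
  -- the two orbits of `H` cover the complement of the `p`'s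
  have hOa := hO a ha1 ha2 ha3 ha4
  have hOb := hO b hb1 hb2 hb3 hb4
  have hsubA : orbit H a ∪ orbit H b ⊆ ((({p1, p2, p3, p4} : Finset Ω) : Set Ω))ᶜ := by
    have key : ∀ c : Ω, c ≠ p1 → c ≠ p2 → c ≠ p3 → c ≠ p4 → ∀ h : H,
        h • c ∉ (({p1, p2, p3, p4} : Finset Ω) : Set Ω) := by
      intro c c1 c2 c3 c4 h hmem
      obtain ⟨g1, g2, g3, g4⟩ := mem_stab4.1 h.2
      simp only [Finset.coe_insert, Finset.coe_singleton, Set.mem_insert_iff,
        Set.mem_singleton_iff] at hmem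
      rcases hmem with hm | hm | hm | hm
      · exact c1 (MulAction.injective h.1 (hm.trans g1.symm))
      · exact c2 (MulAction.injective h.1 (hm.trans g2.symm))
      · exact c3 (MulAction.injective h.1 (hm.trans g3.symm))
      · exact c4 (MulAction.injective h.1 (hm.trans g4.symm))
    rintro x (⟨h, rfl⟩ | ⟨h, rfl⟩)
    · exact key a ha1 ha2 ha3 ha4 h
    · exact key b hb1 hb2 hb3 hb4 h
  have hdisj : Disjoint (orbit H a) (orbit H b) := by
    rw [Set.disjoint_left]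
    rintro x ⟨h, rfl⟩ ⟨h', hh'⟩
    apply hnot
    refine ⟨h'.1⁻¹ * h.1, H.mul_mem (H.inv_mem h'.2) h.2, ?_⟩
    have : h'.1 • b = h.1 • a := hh'
    rw [mul_smul, ← this, inv_smul_smul]
  have hcover : orbit H a ∪ orbit H b = ((({p1, p2, p3, p4} : Finset Ω) : Set Ω))ᶜ := by
    apply Set.eq_of_subset_of_ncard_le hsubA _ (Set.toFinite _)
    rw [Set.ncard_union_eq hdisj, Set.ncard_compl, Set.ncard_coe_finset, Nat.card_eq_fintype_card,
      ← Nat.card_coe_set_eq, ← Nat.card_coe_set_eq]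
    have h4c : ({p1, p2, p3, p4} : Finset Ω).card = 4 := by
      rw [Finset.card_insert_of_notMem (by simp [h12, h13, h14]),
        Finset.card_insert_of_notMem (by simp [h23, h24]), Finset.card_pair h34]
    rw [h4c]
    omega
  -- a second point in the orbit of `a`
  have hOa2 : 2 ≤ Nat.card (orbit H a) := by omega
  obtain ⟨a', ha'mem, ha'ne⟩ : ∃ a' ∈ orbit H a, a' ≠ a := by
    by_contra hcon
    push Not at hcon
    have : orbit H a ⊆ {a} := fun x hx => hcon x hx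
    have h1 : (orbit H a).ncard ≤ ({a} : Set Ω).ncard := Set.ncard_le_ncard this
    rw [Set.ncard_singleton, ← Nat.card_coe_set_eq] at h1
    omega
  obtain ⟨h0, hh0⟩ := ha'mem
  -- apply the tournament lemma
  refine Cfsg.Agent.Helper79.HallT.tournament_contra K hKodd (p := p4) (a := a) (b := b)
    (a' := a') ?_ ha4 hb4 (hKtrans a ha1 ha2 ha3) (hKtrans b hb1 hb2 hb3) ?_ ?_ ha'ne ?_
  · -- hcover
    intro q hq4 ⟨k, hk, hkq⟩
    obtain ⟨k1, k2, k3⟩ := (memK k).1 hk
    have hq : q ∈ ((({p1, p2, p3, p4} : Finset Ω) : Set Ω))ᶜ := by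
      simp only [Set.mem_compl_iff, Finset.coe_insert, Finset.coe_singleton,
        Set.mem_insert_iff, Set.mem_singleton_iff, not_or]
      refine ⟨?_, ?_, ?_, hq4⟩
      · intro h
        exact h14 (MulAction.injective k (k1.trans (h.symm.trans hkq.symm)))
      · intro h
        exact h24 (MulAction.injective k (k2.trans (h.symm.trans hkq.symm)))
      · intro h
        exact h34 (MulAction.injective k (k3.trans (h.symm.trans hkq.symm)))
    rw [← hcover] at hq
    rcases hq with ⟨h, hh⟩ | ⟨h, hh⟩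
    · left
      exact ⟨h.1, HK h.1 h.2, (mem_stab4.1 h.2).2.2.2, hh⟩
    · right
      exact ⟨h.1, HK h.1 h.2, (mem_stab4.1 h.2).2.2.2, hh⟩
  · -- hab
    rintro ⟨k, hk, hk4, hkab⟩
    exact hnot ⟨k, memH k hk hk4, hkab⟩
  · -- htr
    rintro b' ⟨k, hk, hk4, hkb⟩
    obtain ⟨h', hh', h'a, h'b⟩ := htrans k (memH k hk hk4)
    exact ⟨h', HK h' hh', (mem_stab4.1 hh').2.2.2, h'a, h'b.trans hkb⟩
  · -- haa'
    exact ⟨h0.1, HK h0.1 h0.2, (mem_stab4.1 h0.2).2.2.2, hh0⟩

end Cfsg.Agent.Helper91.HallT9
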