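import Cfsg.Agent.Helper91.HSQ
import Cfsg.Agent.Helper53.HSHQ

/-!
# S3032 (helper74's WANTED #5823), piece (Q), unprimed: exact skeleton signature.  helper91.
-/

set_option autoImplicit false

namespace Cfsg.Agent.Helper91.HS

open Cfsg.Agent.Helper74.HS

universe u

variable {G : Type u} [Group G] [Finite G]

/-- (Q) `HypE` passes to the quotient by a normal Sylow subgroup. -/
theorem hypE_map_mk {E : Subgroup G} (hE : HypE E) {q : ℕ} [Fact q.Prime]
    (Q : Subgroup G) [Q.Normal] (hQE : Q ≤ E) (hQ : IsPGroup q Q) (hQs : ¬ q ∣ Q.relIndex E) :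
    HypE (E.map (QuotientGroup.mk' Q)) :=
  hypE_map_mk' hE Q hQE hQ hQs
    (fun _ _ hr F hF h => Cfsg.Agent.Helper53.HS.isH_map_mk Q hr F hF h)

end Cfsg.Agent.Helper91.HS
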