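-- helper91: piece (IP-C) of board post 5491 for helper77 (S4813).
import Mathlib
import Cfsg.Agent.Helper77.PrimeDegDefs
import Cfsg.Agent.Helper74.RestrictIrr

set_option autoImplicit false

namespace Cfsg.Agent.Helper91.PrimeDeg

open Cfsg Cfsg.Agent.Helper77.PrimeDeg

universe u

/-- **(IP-C)** -/
theorem restrict_irreducible_of_prime_index {G : Type u} [Group G] [Finite G] (N : Subgroup G)
    [N.Normal] (s : ℕ) (hs : s.Prime) (hidx : N.index = s) (χ : IrrCharacter G)
    (hχ : ¬ s ∣ charDegree (χ : G → ℂ)) :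
    ∃ θ : IrrCharacter N, ∀ x : N, (χ : G → ℂ) x = (θ : N → ℂ) x := by
  haveI : Fintype G := Fintype.ofFinite G
  haveI : Fintype N := Fintype.ofFinite N
  have hcop : (charDegree (χ : G → ℂ)).Coprime N.index := by
    rw [hidx]
    exact ((Nat.Prime.coprime_iff_not_dvd hs).2 hχ).symm
  obtain ⟨h1, _⟩ := Cfsg.Agent.Helper74.restrict_irr_of_coprime N χ.2 hcop
  exact ⟨⟨fun n : N => (χ : G → ℂ) n, h1⟩, fun x => rfl⟩

end Cfsg.Agent.Helper91.PrimeDeg
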