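-- helper91: piece (IP-H) of board post 5491 for helper77 (S4813).
import Mathlib
import Cfsg.Agent.Helper77.PrimeDegDefs
import Cfsg.Agent.Helper82.PSingCaseC

set_option autoImplicit false

namespace Cfsg.Agent.Helper91.PrimeDeg

open Cfsg Cfsg.Agent.Helper77.PrimeDeg

universe u

/-- **(IP-H)** the product of an irreducible character and a linear character. -/
theorem irr_mul_linear {N : Type u} [Group N] [Finite N] (θ lam : IrrCharacter N)
    (h1 : charDegree (lam : N → ℂ) = 1) :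
    ∃ ξ : IrrCharacter N, (∀ x, (ξ : N → ℂ) x = (θ : N → ℂ) x * (lam : N → ℂ) x) ∧
      charDegree (ξ : N → ℂ) = charDegree (θ : N → ℂ) := by
  haveI : Fintype N := Fintype.ofFinite N
  have hμ : IsCharacter N (lam : N → ℂ) := Cfsg.Agent.Helper74.isCharacter_of_isIrr lam.2
  have hμ1 : (lam : N → ℂ) 1 = 1 := by
    rw [← Cfsg.Agent.Helper74.charDegree_cast hμ, h1, Nat.cast_one]
  have hirr : IsIrrCharacter N ((lam : N → ℂ) * (θ : N → ℂ)) :=
    Cfsg.Agent.Helper82.isIrrCharacter_linear_mul hμ hμ1 θ.2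
  refine ⟨⟨(lam : N → ℂ) * (θ : N → ℂ), hirr⟩, fun x => ?_, ?_⟩
  · show (lam : N → ℂ) x * (θ : N → ℂ) x = (θ : N → ℂ) x * (lam : N → ℂ) x
    exact mul_comm _ _
  · have hθc : IsCharacter N (θ : N → ℂ) := Cfsg.Agent.Helper74.isCharacter_of_isIrr θ.2
    have hξc : IsCharacter N ((lam : N → ℂ) * (θ : N → ℂ)) :=
      Cfsg.Agent.Helper74.isCharacter_of_isIrr hirr
    have e : ((charDegree ((lam : N → ℂ) * (θ : N → ℂ)) : ℕ) : ℂ) =
        ((charDegree (θ : N → ℂ) : ℕ) : ℂ) := by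
      rw [Cfsg.Agent.Helper74.charDegree_cast hξc, Cfsg.Agent.Helper74.charDegree_cast hθc]
      show (lam : N → ℂ) 1 * (θ : N → ℂ) 1 = (θ : N → ℂ) 1
      rw [hμ1, one_mul]
    exact_mod_cast e

end Cfsg.Agent.Helper91.PrimeDeg
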