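/-
Helper91: piece (D') for helper85 (S5287): an abelian metacyclic group of order `(p^n)^2` and
exponent dividing `p^n` is homocyclic of rank two (generalisation of Helper58.MetaTwoD from 2 to p).
-/
import Mathlib
import Cfsg.Prelude.Def_OddOrderLocal

set_option autoImplicit false

namespace Cfsg.Agent.Helper91.SSDp

theorem homocyclic_mulEquiv_prod {Q : Type*} [Group Q] [Finite Q] {p : ℕ} [Fact p.Prime]
    (hm : Cfsg.IsMetacyclic Q)
    (hab : ∀ a b : Q, a * b = b * a) (n : ℕ) (hcard : Nat.card Q = (p ^ n) ^ 2)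
    (hexp : ∀ q : Q, q ^ p ^ n = 1) :
    Nonempty (Q ≃* Multiplicative (ZMod (p ^ n)) × Multiplicative (ZMod (p ^ n))) := by
  classical
  obtain ⟨N, hNn, hNc, hQc⟩ := hm
  have hp : p.Prime := Fact.out
  obtain ⟨m, hm⟩ : ∃ m, m = p ^ n := ⟨_, rfl⟩
  have hmpos : 0 < m := by rw [hm]; exact pow_pos hp.pos n
  have : NeZero m := ⟨hmpos.ne'⟩
  rw [← hm] at hexp hcard ⊢
  have hcard' : Nat.card Q = m * m := by
    rw [hcard, pow_two]
  -- generators
  obtain ⟨a, ha⟩ := hNc.exists_generator
  obtain ⟨c, hc⟩ := hQc.exists_generator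
  obtain ⟨b, rfl⟩ := QuotientGroup.mk_surjective c
  have hNcard : Nat.card N = orderOf a := (orderOf_eq_card_of_forall_mem_zpowers ha).symm
  have hQcard : Nat.card (Q ⧸ N) = orderOf (b : Q ⧸ N) :=
    (orderOf_eq_card_of_forall_mem_zpowers hc).symm
  have ha_dvd : orderOf a ∣ m := by
    apply orderOf_dvd_of_pow_eq_one
    apply Subtype.ext
    rw [Subgroup.coe_pow]
    exact hexp _
  have hb_dvd : orderOf (b : Q ⧸ N) ∣ m := by
    apply orderOf_dvd_of_pow_eq_one
    rw [← QuotientGroup.mk_pow, hexp]
    rfl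
  have hmul : orderOf a * orderOf (b : Q ⧸ N) = m * m := by
    rw [← hNcard, ← hQcard, ← hcard', mul_comm]
    have := Subgroup.card_eq_card_quotient_mul_card_subgroup N
    rw [this]
  have hle1 : orderOf a ≤ m := Nat.le_of_dvd hmpos ha_dvd
  have hle2 : orderOf (b : Q ⧸ N) ≤ m := Nat.le_of_dvd hmpos hb_dvd
  have hoa : orderOf a = m := by
    by_contra hne
    have hlt : orderOf a < m := lt_of_le_of_ne hle1 hne
    have : orderOf a * orderOf (b : Q ⧸ N) < m * m :=
      Nat.mul_lt_mul_of_lt_of_le hlt hle2 hmpos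
    omega
  have hob : orderOf (b : Q ⧸ N) = m := by
    rw [hoa] at hmul
    exact Nat.eq_of_mul_eq_mul_left hmpos hmul
  -- the map
  have hpa : (a : Q) ^ m = 1 := hexp _
  have hpb : b ^ m = 1 := hexp _
  let f : Multiplicative (ZMod m) × Multiplicative (ZMod m) →* Q :=
    MonoidHom.mk' (fun v => (a : Q) ^ (Multiplicative.toAdd v.1).val *
        b ^ (Multiplicative.toAdd v.2).val) (by
      intro v w
      have h0 : (Multiplicative.toAdd (v * w).1).val =
          ((Multiplicative.toAdd v.1).val + (Multiplicative.toAdd w.1).val) % m := by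
        show ((Multiplicative.toAdd v.1) + (Multiplicative.toAdd w.1)).val = _
        exact ZMod.val_add _ _
      have h1 : (Multiplicative.toAdd (v * w).2).val =
          ((Multiplicative.toAdd v.2).val + (Multiplicative.toAdd w.2).val) % m := by
        show ((Multiplicative.toAdd v.2) + (Multiplicative.toAdd w.2)).val = _
        exact ZMod.val_add _ _
      show (a : Q) ^ (Multiplicative.toAdd (v * w).1).val *
        b ^ (Multiplicative.toAdd (v * w).2).val = _
      rw [h0, h1, ← pow_eq_pow_mod _ hpa, ← pow_eq_pow_mod _ hpb, pow_add, pow_add]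
      set x := (a : Q) ^ (Multiplicative.toAdd v.1).val
      set y := (a : Q) ^ (Multiplicative.toAdd w.1).val
      set z := b ^ (Multiplicative.toAdd v.2).val
      set t := b ^ (Multiplicative.toAdd w.2).val
      calc x * y * (z * t) = x * (y * z) * t := by group
        _ = x * (z * y) * t := by rw [hab y z]
        _ = x * z * (y * t) := by group)
  have hfapp : ∀ v, f v = (a : Q) ^ (Multiplicative.toAdd v.1).val *
      b ^ (Multiplicative.toAdd v.2).val := fun v => rfl
  have hfinj : Function.Injective f := by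
    rw [injective_iff_map_eq_one]
    intro v hv
    rw [hfapp] at hv
    set i := (Multiplicative.toAdd v.1).val with hi
    set j := (Multiplicative.toAdd v.2).val with hj
    have hilt : i < m := ZMod.val_lt _
    have hjlt : j < m := ZMod.val_lt _
    -- `b^j ∈ N`
    have hbj : b ^ j ∈ N := by
      have : b ^ j = ((a : Q) ^ i)⁻¹ := eq_inv_of_mul_eq_one_right hv
      rw [this]
      exact N.inv_mem (N.pow_mem a.2 i)
    have hbj' : (b : Q ⧸ N) ^ j = 1 := by
      rw [← QuotientGroup.mk_pow]
      exact (QuotientGroup.eq_one_iff _).2 hbj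
    have hj0 : j = 0 := by
      have := orderOf_dvd_of_pow_eq_one hbj'
      rw [hob] at this
      exact Nat.eq_zero_of_dvd_of_lt this hjlt
    rw [hj0, pow_zero, mul_one] at hv
    have hi0 : i = 0 := by
      have h1 : a ^ i = 1 := by
        apply Subtype.ext
        rw [Subgroup.coe_pow]
        exact hv
      have := orderOf_dvd_of_pow_eq_one h1
      rw [hoa] at this
      exact Nat.eq_zero_of_dvd_of_lt this hilt
    have h0 : Multiplicative.toAdd v.1 = 0 := (ZMod.val_eq_zero _).1 (hi ▸ hi0)
    have h1 : Multiplicative.toAdd v.2 = 0 := (ZMod.val_eq_zero _).1 (hj ▸ hj0)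
    exact Prod.ext h0 h1
  have hfbij : Function.Bijective f := by
    apply hfinj.bijective_of_nat_card_le
    rw [hcard']
    have : Nat.card (Multiplicative (ZMod m) × Multiplicative (ZMod m)) = m * m := by
      rw [Nat.card_prod]
      show Nat.card (ZMod m) * Nat.card (ZMod m) = m * m
      rw [Nat.card_eq_fintype_card, ZMod.card]
    rw [this]
  exact ⟨(MulEquiv.ofBijective f hfbij).symm⟩

end Cfsg.Agent.Helper91.SSDp
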