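/-
Helper91: piece (FR) for helper85 (S5287): the Frattini quotient of a metacyclic `p`-group has
order dividing `p^2`.
-/
import Mathlib
import Cfsg.Prelude.Def_OddOrderLocal
import Cfsg.Agent.Helper63.Frattini
import Cfsg.Agent.Helper70.FrattiniAction

set_option autoImplicit false

namespace Cfsg.Agent.Helper91.SSFR

theorem frattini_index_dvd_of_metacyclic {G : Type*} [Group G] [Finite G] {p : ℕ} [Fact p.Prime]
    (hG : IsPGroup p G) (hm : Cfsg.IsMetacyclic G) : (frattini G).index ∣ p ^ 2 := by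
  classical
  have hp : p.Prime := Fact.out
  obtain ⟨N, hNn, hNc, hQc⟩ := hm
  obtain ⟨a, ha⟩ := hNc.exists_generator
  obtain ⟨c, hc⟩ := hQc.exists_generator
  obtain ⟨b, rfl⟩ := QuotientGroup.mk_surjective c
  -- every element is `a^i * b^j` with integer exponents
  have hdecomp : ∀ g : G, ∃ i j : ℤ, g = (a : G) ^ i * b ^ j := by
    intro g
    obtain ⟨j, hj⟩ := Subgroup.mem_zpowers_iff.1 (hc (g : G ⧸ N))
    have hmem : g * (b ^ j)⁻¹ ∈ N := by
      rw [← QuotientGroup.eq_one_iff, QuotientGroup.mk_mul, QuotientGroup.mk_inv,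
        QuotientGroup.mk_zpow, hj, mul_inv_cancel]
    obtain ⟨i, hi⟩ := Subgroup.mem_zpowers_iff.1 (ha ⟨_, hmem⟩)
    refine ⟨i, j, ?_⟩
    have := congrArg Subtype.val hi
    simp only [Subgroup.coe_zpow] at this
    rw [this]; group
  -- images in the Frattini quotient
  set Φ := frattini G with hΦ
  set a' : G ⧸ Φ := ((a : G) : G ⧸ Φ) with ha'
  set b' : G ⧸ Φ := (b : G ⧸ Φ) with hb'
  have hap : a' ^ p = 1 := by
    rw [ha', ← QuotientGroup.mk_pow, QuotientGroup.eq_one_iff]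
    exact Cfsg.Agent.Helper63.pow_prime_mem_frattini hG _
  have hbp : b' ^ p = 1 := by
    rw [hb', ← QuotientGroup.mk_pow, QuotientGroup.eq_one_iff]
    exact Cfsg.Agent.Helper63.pow_prime_mem_frattini hG _
  -- surjection from `ZMod p × ZMod p`
  have : NeZero p := ⟨hp.ne_zero⟩
  let f : ZMod p × ZMod p → G ⧸ Φ := fun v => a' ^ v.1.val * b' ^ v.2.val
  have hzpow : ∀ (x : G ⧸ Φ), x ^ p = 1 → ∀ i : ℤ, x ^ i = x ^ ((i : ZMod p).val) := by
    intro x hx i
    have h1 : (((i : ZMod p).val : ℕ) : ℤ) = i % (p : ℤ) := by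
      rw [ZMod.val_intCast]
    rw [← zpow_natCast, h1]
    exact zpow_eq_zpow_emod' i hx
  have hsurj : Function.Surjective f := by
    intro x
    obtain ⟨g, rfl⟩ := QuotientGroup.mk_surjective x
    obtain ⟨i, j, hg⟩ := hdecomp g
    refine ⟨((i : ZMod p), (j : ZMod p)), ?_⟩
    show a' ^ ((i : ZMod p).val) * b' ^ ((j : ZMod p).val) = _
    rw [← hzpow a' hap i, ← hzpow b' hbp j, hg, QuotientGroup.mk_mul, QuotientGroup.mk_zpow,
      QuotientGroup.mk_zpow]
  have hle : Nat.card (G ⧸ Φ) ≤ p * p := by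
    have := Nat.card_le_card_of_surjective f hsurj
    rwa [Nat.card_prod, Nat.card_zmod] at this
  -- the quotient is a `p`-group
  have hQ : IsPGroup p (G ⧸ Φ) := hG.to_quotient Φ
  obtain ⟨k, hk⟩ := IsPGroup.iff_card.1 hQ
  rw [Subgroup.index_eq_card, hk]
  apply pow_dvd_pow
  rw [hk, ← pow_two] at hle
  exact (Nat.pow_le_pow_iff_right hp.one_lt).1 hle

end Cfsg.Agent.Helper91.SSFR
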