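/-
Helper91: piece (SL2b) for helper87 (S2863 / S2861): a subgroup of `SL₂(F)` of order `|F|` is a
conjugate of the upper unitriangular group.
-/
import Mathlib
import Cfsg.Agent.Helper87.FrakLDefs
import Cfsg.Agent.Helper5.ProjLine

set_option autoImplicit false

open Matrix Cfsg.Agent.Helper87.FrakL

namespace Cfsg.Agent.Helper91.FrakL

variable {F : Type*} [Field F]

theorem uU_add (s s' : F) : uU (s + s') = uU s * uU s' := by
  apply Subtype.ext
  show !![1, s + s'; 0, 1] = !![1, s; 0, 1] * !![1, s'; 0, 1]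
  rw [Matrix.mul_fin_two]
  simp [add_comm]

theorem uU_zero : uU (0 : F) = 1 := by
  apply Subtype.ext
  show !![1, (0 : F); 0, 1] = 1
  exact Matrix.one_fin_two.symm

theorem uU_injective : Function.Injective (uU : F → SpecialLinearGroup (Fin 2) F) := by
  intro s s' h
  have := congrArg (fun g : SpecialLinearGroup (Fin 2) F => (g : Matrix (Fin 2) (Fin 2) F) 0 1) h
  simpa [uU] using this

/-- the upper unitriangular group as the range of a homomorphism -/
def uHom : Multiplicative F →* SpecialLinearGroup (Fin 2) F where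
  toFun s := uU (Multiplicative.toAdd s)
  map_one' := uU_zero
  map_mul' _ _ := uU_add _ _

theorem uHom_injective : Function.Injective (uHom : Multiplicative F →* SpecialLinearGroup (Fin 2) F) :=
  fun _ _ h => Multiplicative.toAdd.injective (uU_injective h)

theorem mem_uHom_range (x : SpecialLinearGroup (Fin 2) F) :
    x ∈ (uHom : Multiplicative F →* SpecialLinearGroup (Fin 2) F).range ↔ ∃ s : F, x = uU s := by
  constructor
  · rintro ⟨s, rfl⟩
    exact ⟨Multiplicative.toAdd s, rfl⟩
  · rintro ⟨s, rfl⟩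
    exact ⟨Multiplicative.ofAdd s, rfl⟩

theorem exists_conj_eq_upper {F : Type*} [Field F] [Fintype F]
    (P : Subgroup (SpecialLinearGroup (Fin 2) F)) (hP : Nat.card P = Fintype.card F) :
    ∃ g : SpecialLinearGroup (Fin 2) F, ∀ x, x ∈ P ↔ ∃ s : F, x = g * uU s * g⁻¹ := by
  classical
  obtain ⟨n, hp, hq⟩ := FiniteField.card F (ringChar F)
  set p := ringChar F with hpdef
  have : Fact p.Prime := ⟨hp⟩
  set q := Fintype.card F with hqdef
  have hq1 : 1 ≤ q := Fintype.card_pos
  -- the `p`-part of `|SL₂(F)|`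
  have hcard : Nat.card (SpecialLinearGroup (Fin 2) F) = q * (q ^ 2 - 1) :=
    Cfsg.Agent.Helper5.card_SL2
  have hndvd : ¬ p ∣ q ^ 2 - 1 := by
    intro h
    have h1 : p ∣ q ^ 2 := by
      rw [hq, ← pow_mul]
      exact dvd_pow_self p (by positivity)
    have h2 : q ^ 2 = (q ^ 2 - 1) + 1 := by
      have : 1 ≤ q ^ 2 := Nat.one_le_pow _ _ hq1
      omega
    rw [h2] at h1
    have := (Nat.dvd_add_right h).1 h1
    exact hp.one_lt.ne' (Nat.dvd_one.1 this)
  have hq21 : q ^ 2 - 1 ≠ 0 := fun h => hndvd (h ▸ dvd_zero p)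
  have hfac : (Nat.card (SpecialLinearGroup (Fin 2) F)).factorization p = n := by
    rw [hcard, Nat.factorization_mul (by omega) hq21, Finsupp.add_apply,
      Nat.factorization_eq_zero_of_not_dvd hndvd, add_zero, hq, hp.factorization_pow]
    simp
  -- both groups are Sylow
  set U : Subgroup (SpecialLinearGroup (Fin 2) F) :=
    (uHom : Multiplicative F →* SpecialLinearGroup (Fin 2) F).range with hU
  have hUcard : Nat.card U = p ^ (Nat.card (SpecialLinearGroup (Fin 2) F)).factorization p := by
    rw [hfac, ← hq]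
    have : Nat.card U = Nat.card (Multiplicative F) :=
      (Nat.card_congr (MonoidHom.ofInjective uHom_injective).toEquiv).symm
    rw [this]
    show Nat.card F = q
    rw [Nat.card_eq_fintype_card]
  have hPcard : Nat.card P = p ^ (Nat.card (SpecialLinearGroup (Fin 2) F)).factorization p := by
    rw [hfac, ← hq, hP]
  let SU : Sylow p (SpecialLinearGroup (Fin 2) F) := Sylow.ofCard U hUcard
  let SP : Sylow p (SpecialLinearGroup (Fin 2) F) := Sylow.ofCard P hPcard
  obtain ⟨g, hg⟩ := MulAction.exists_smul_eq (SpecialLinearGroup (Fin 2) F) SU SP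
  refine ⟨g, fun x => ?_⟩
  have hPeq : (P : Subgroup (SpecialLinearGroup (Fin 2) F)) = (g • SU : Sylow p _) := by
    rw [hg]; rfl
  rw [hPeq, Sylow.coe_subgroup_smul, Subgroup.mem_smul_pointwise_iff_exists]
  constructor
  · rintro ⟨u, hu, rfl⟩
    obtain ⟨s, rfl⟩ := (mem_uHom_range u).1 hu
    exact ⟨s, rfl⟩
  · rintro ⟨s, rfl⟩
    exact ⟨uU s, (mem_uHom_range _).2 ⟨s, rfl⟩, rfl⟩

end Cfsg.Agent.Helper91.FrakL
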