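import Cfsg.Agent.Helper75.FrobeniusKernel
import Cfsg.Agent.Helper1.CoprimeSylow

set_option autoImplicit false
open scoped Pointwise

namespace Cfsg.Agent.Helper91

universe u

section

variable {G : Type u} [Group G]

/-- In a group with a Frobenius complement `H`, centralisers of non-identity elements of `H`
lie in `H`. -/
theorem frobenius_centralizer_le {H : Subgroup G} (hF : Cfsg.IsFrobeniusComplement H) {a : G}
    (ha : a ∈ H) (ha1 : a ≠ 1) {x : G} (hx : x * a = a * x) : x ∈ H := by
  by_contra hxH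
  have h1 := hF.2.2 x hxH
  have h2 : a ∈ H ⊓ MulAut.conj x • H := by
    refine Subgroup.mem_inf.2 ⟨ha, ?_⟩
    rw [Subgroup.mem_pointwise_smul_iff_inv_smul_mem]
    simp only [MulAut.smul_def, MulAut.conj_inv_apply]
    have : x⁻¹ * a * x = a := by
      calc x⁻¹ * a * x = x⁻¹ * (a * x) := by group
        _ = x⁻¹ * (x * a) := by rw [hx]
        _ = a := by group
    rw [this]; exact ha
  rw [h1] at h2
  exact ha1 (Subgroup.mem_bot.1 h2)

/-- **Frobenius group with abelian maximal complement is metabelian.** -/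
theorem frobenius_abelian_coatom_metabelian [Finite G] (H : Subgroup G)
    (hF : Cfsg.IsFrobeniusComplement H) (hmax : IsCoatom H)
    (hab : ∀ a ∈ H, ∀ b ∈ H, a * b = b * a) : derivedSeries G 2 = ⊥ := by
  obtain ⟨N, -, hNn, hc⟩ := Cfsg.Agent.Helper75.frobenius_kernel_theorem H hF
  have hdisj : N ⊓ H = ⊥ := hc.disjoint.eq_bot
  have hsup : N ⊔ H = ⊤ := hc.sup_eq_top
  have hHN : H ≤ Subgroup.normalizer (N : Set G) := Subgroup.le_normalizer_of_normal
  -- `H`-invariant subgroups of `N`
  have hinv : ∀ Q : Subgroup G, Q ≤ N → H ≤ Subgroup.normalizer (Q : Set G) → Q ≠ ⊥ → Q = N := by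
    intro Q hQN hHQ hQ1
    have h1 : H ⊔ Q = ⊤ := by
      apply hmax.2
      refine lt_of_le_of_ne le_sup_left ?_
      intro h
      have h2 : Q ≤ H := h ▸ le_sup_right
      exact hQ1 (le_bot_iff.1 (hdisj ▸ le_inf hQN h2))
    apply le_antisymm hQN
    intro x hx
    have hx' : x ∈ ((H ⊔ Q : Subgroup G) : Set G) := by rw [h1]; trivial
    rw [Subgroup.coe_mul_of_left_le_normalizer_right H Q hHQ] at hx'
    obtain ⟨a, ha, q, hq, hxe⟩ := hx'
    have hxe' : a * q = x := hxe
    subst hxe'
    have haN : a ∈ N := by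
      have : a = (a * q) * q⁻¹ := by group
      rw [this]; exact N.mul_mem hx (N.inv_mem (hQN hq))
    have ha1 : a = 1 := Subgroup.mem_bot.1 (hdisj ▸ (⟨haN, ha⟩ : a ∈ N ⊓ H))
    rw [ha1, one_mul]; exact hq
  -- coprimality
  have hcop : (Nat.card H).Coprime (Nat.card N) := by
    apply Nat.coprime_of_dvd
    intro r hr hrH hrN
    have : Fact r.Prime := ⟨hr⟩
    obtain ⟨a, ha⟩ := exists_prime_orderOf_dvd_card' r hrH
    have ha1 : (a : G) ≠ 1 := by
      intro h
      have : orderOf (a : G) = 1 := by rw [h, orderOf_one]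
      rw [Subgroup.orderOf_coe, ha] at this
      exact hr.one_lt.ne' this
    set P : Subgroup G := Subgroup.zpowers (a : G) with hP
    have hPp : IsPGroup r ↥P := by
      apply IsPGroup.of_card (n := 1)
      rw [hP, Nat.card_zpowers, Subgroup.orderOf_coe, ha, pow_one]
    letI : MulAction ↥P ↥N := MulAction.compHom ↥N ((MulAut.conjNormal (H := N)).comp P.subtype)
    have hmod := hPp.card_modEq_card_fixedPoints ↥N
    have hfix : ∀ n : ↥N, n ∈ MulAction.fixedPoints ↥P ↥N → n = 1 := by
      intro n hn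
      have h1 : ((MulAut.conjNormal (H := N)) (a : G)) n = n :=
        hn ⟨(a : G), Subgroup.mem_zpowers _⟩
      have h2 : (a : G) * (n : G) * (a : G)⁻¹ = n := by
        have := congrArg Subtype.val h1
        rwa [MulAut.conjNormal_apply] at this
      by_contra hn1
      have hnH : (n : G) ∈ H := by
        refine frobenius_centralizer_le hF a.2 ha1 ?_
        calc (n : G) * a = ((a : G) * n * (a : G)⁻¹) * a := by rw [h2]
          _ = a * n := by group
      have : (n : G) = 1 := Subgroup.mem_bot.1 (hdisj ▸ (⟨n.2, hnH⟩ : (n : G) ∈ N ⊓ H))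
      exact hn1 (Subtype.ext this)
    have hcard : Nat.card (MulAction.fixedPoints ↥P ↥N) = 1 := by
      rw [Nat.card_eq_one_iff_unique]
      refine ⟨⟨?_⟩, ⟨⟨1, fun g => by
        show ((MulAut.conjNormal (H := N)).comp P.subtype) g 1 = 1
        exact map_one _⟩⟩⟩
      intro x y
      apply Subtype.ext
      rw [hfix x.1 x.2, hfix y.1 y.2]
    rw [hcard] at hmod
    have h3 : (1 : ℕ) % r = 0 := by
      rw [← hmod]
      exact Nat.mod_eq_zero_of_dvd hrN
    rw [Nat.mod_eq_of_lt hr.one_lt] at h3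
    exact one_ne_zero h3
  -- `N ≠ ⊥`
  have hN1 : N ≠ ⊥ := by
    intro h
    rw [h, bot_sup_eq] at hsup
    exact hF.2.1 hsup
  -- `N` is a `q`-group
  have hcardN : Nat.card N ≠ 1 := by
    intro h
    exact hN1 (Subgroup.card_eq_one.1 h)
  obtain ⟨q, hq, hqN⟩ := Nat.exists_prime_and_dvd hcardN
  have : Fact q.Prime := ⟨hq⟩
  have hsolv : Group.IsSolvable ↥H := Group.isSolvable_of_comm (fun a b => Subtype.ext (hab a a.2 b b.2))
  obtain ⟨S, hS⟩ := Cfsg.Agent.Helper1.exists_invariant_sylow H N hHN hcop (Or.inl hsolv) q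
  have hS1 : (S : Subgroup ↥N).map N.subtype ≠ ⊥ := by
    intro h
    have h1 : (S : Subgroup ↥N) = ⊥ := by
      rw [eq_bot_iff]
      intro x hx
      have : (x : G) ∈ (S : Subgroup ↥N).map N.subtype := ⟨x, hx, rfl⟩
      rw [h] at this
      exact Subtype.ext (Subgroup.mem_bot.1 this)
    have h2 := S.card_eq_multiplicity
    rw [h1, Subgroup.card_bot] at h2
    have h3 : (Nat.card ↥N).factorization q = 0 := by
      by_contra h4
      have : 1 < q ^ (Nat.card ↥N).factorization q := Nat.one_lt_pow h4 hq.one_lt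
      omega
    have h5 : 0 < (Nat.card ↥N).factorization q :=
      hq.factorization_pos_of_dvd Nat.card_pos.ne' hqN
    omega
  have hSN := hinv _ (Subgroup.map_subtype_le _) hS hS1
  have hNq : IsPGroup q ↥N := by
    have : (S : Subgroup ↥N) = ⊤ := by
      rw [eq_top_iff]
      intro x _
      have hx : (x : G) ∈ (S : Subgroup ↥N).map N.subtype := by rw [hSN]; exact x.2
      obtain ⟨y, hy, hyx⟩ := hx
      have : y = x := Subtype.ext hyx
      rw [← this]; exact hy
    intro x
    obtain ⟨k, hk⟩ := S.2 ⟨x, this ▸ Subgroup.mem_top x⟩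
    exact ⟨k, by simpa using congrArg Subtype.val hk⟩
  -- `N` is abelian
  have hNnt : Nontrivial ↥N := by
    rw [Subgroup.nontrivial_iff_ne_bot]; exact hN1
  have hZnt := hNq.center_nontrivial
  have hZn : ((Subgroup.center ↥N).map N.subtype).Normal :=
    ConjAct.normal_of_characteristic_of_normal
  have hZ1 : (Subgroup.center ↥N).map N.subtype ≠ ⊥ := by
    intro h
    obtain ⟨z, hz⟩ := exists_ne (1 : ↥(Subgroup.center ↥N))
    have : ((z : ↥N) : G) ∈ (Subgroup.center ↥N).map N.subtype := ⟨z, z.2, rfl⟩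
    rw [h] at this
    exact hz (Subtype.ext (Subtype.ext (Subgroup.mem_bot.1 this)))
  have hZN := hinv _ (Subgroup.map_subtype_le _) Subgroup.le_normalizer_of_normal hZ1
  have hNab : N ≤ Subgroup.centralizer (N : Set G) := by
    intro x hx
    rw [Subgroup.mem_centralizer_iff]
    intro y hy
    have hx' : x ∈ (Subgroup.center ↥N).map N.subtype := by rw [hZN]; exact hx
    obtain ⟨z, hz, rfl⟩ := hx'
    have := (Subgroup.mem_center_iff.1 hz) ⟨y, hy⟩
    exact congrArg Subtype.val this
  -- `G/N` is abelian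
  have hGN : commutator G ≤ N := by
    rw [← Subgroup.Normal.quotient_commutative_iff_commutator_le]
    refine ⟨⟨fun x y => ?_⟩⟩
    obtain ⟨x, rfl⟩ := QuotientGroup.mk_surjective x
    obtain ⟨y, rfl⟩ := QuotientGroup.mk_surjective y
    have hx : x ∈ ((N ⊔ H : Subgroup G) : Set G) := by rw [hsup]; trivial
    have hy : y ∈ ((N ⊔ H : Subgroup G) : Set G) := by rw [hsup]; trivial
    rw [Subgroup.normal_mul] at hx hy
    obtain ⟨n, hn, a, ha, rfl⟩ := hx
    obtain ⟨m, hm, b, hb, rfl⟩ := hy
    have e1 : ((n * a : G) : G ⧸ N) = (a : G ⧸ N) := by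
      rw [QuotientGroup.mk_mul, (QuotientGroup.eq_one_iff n).2 hn, one_mul]
    have e2 : ((m * b : G) : G ⧸ N) = (b : G ⧸ N) := by
      rw [QuotientGroup.mk_mul, (QuotientGroup.eq_one_iff m).2 hm, one_mul]
    rw [e1, e2, ← QuotientGroup.mk_mul, ← QuotientGroup.mk_mul, hab a ha b hb]
  have h1 : derivedSeries G 1 ≤ N := by
    rw [derivedSeries_one]; exact hGN
  rw [derivedSeries_succ, eq_bot_iff]
  calc ⁅derivedSeries G 1, derivedSeries G 1⁆ ≤ ⁅N, N⁆ := Subgroup.commutator_mono h1 h1
    _ = ⊥ := Subgroup.commutator_eq_bot_iff_le_centralizer.2 hNab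

theorem normalizer_eq_of_coatom_not_normal {A : Subgroup G} (hA : IsCoatom A) (hn : ¬ A.Normal) :
    Subgroup.normalizer (A : Set G) = A := by
  by_contra h
  have hlt : A < Subgroup.normalizer (A : Set G) :=
    lt_of_le_of_ne Subgroup.le_normalizer (Ne.symm h)
  exact hn (Subgroup.normalizer_eq_top_iff.1 (hA.2 _ hlt))

theorem center_le_of_coatom_not_normal {A : Subgroup G} (hA : IsCoatom A) (hn : ¬ A.Normal) :
    Subgroup.center G ≤ A := by
  have hNA := normalizer_eq_of_coatom_not_normal hA hn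
  by_contra h
  have hlt : A < A ⊔ Subgroup.center G :=
    lt_of_le_of_ne le_sup_left (fun h' => h (le_sup_right.trans_eq h'.symm))
  have h1 := hA.2 _ hlt
  have h2 : A ⊔ Subgroup.center G ≤ Subgroup.normalizer (A : Set G) :=
    sup_le Subgroup.le_normalizer (Subgroup.center_le_normalizer _)
  rw [h1, hNA] at h2
  exact hA.1 (eq_top_iff.2 h2)

/-- Distinct conjugates of a non-normal abelian maximal subgroup meet in the centre. -/
theorem inf_conj_le_center [Finite G] {A : Subgroup G} (hA : IsCoatom A) (hn : ¬ A.Normal)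
    (hab : ∀ a ∈ A, ∀ b ∈ A, a * b = b * a) {g : G} (hg : g ∉ A) :
    A ⊓ MulAut.conj g • A ≤ Subgroup.center G := by
  have hNA := normalizer_eq_of_coatom_not_normal hA hn
  intro x hx
  obtain ⟨hxA, hxg⟩ := Subgroup.mem_inf.1 hx
  have hne : ¬ MulAut.conj g • A ≤ A := by
    intro hle
    have hcard : Nat.card (MulAut.conj g • A : Subgroup G) = Nat.card A :=
      (Nat.card_congr (Subgroup.equivSMul (MulAut.conj g) A).toEquiv).symm
    have heq : MulAut.conj g • A = A :=
      Subgroup.eq_of_le_of_card_ge hle (le_of_eq hcard.symm)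
    apply hg
    rw [← hNA]
    exact Cfsg.Agent.Helper1.mem_normalizer_of_conj_smul_eq heq
  have hsup : A ⊔ MulAut.conj g • A = ⊤ := by
    apply hA.2
    exact lt_of_le_of_ne le_sup_left (fun h' => hne (le_sup_right.trans_eq h'.symm))
  have hcent : A ⊔ MulAut.conj g • A ≤ Subgroup.centralizer ({x} : Set G) := by
    refine sup_le ?_ ?_
    · intro a ha
      rw [Subgroup.mem_centralizer_iff]
      intro y hy
      rw [Set.mem_singleton_iff.1 hy]
      exact hab x hxA a ha
    · intro a ha
      rw [Subgroup.mem_centralizer_iff]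
      intro y hy
      rw [Set.mem_singleton_iff.1 hy]
      have ha' : g⁻¹ * a * g ∈ A := Cfsg.Agent.Helper1.mem_conj_smul.1 ha
      have hx' : g⁻¹ * x * g ∈ A := Cfsg.Agent.Helper1.mem_conj_smul.1 hxg
      have := hab _ hx' _ ha'
      calc x * a = g * ((g⁻¹ * x * g) * (g⁻¹ * a * g)) * g⁻¹ := by group
        _ = g * ((g⁻¹ * a * g) * (g⁻¹ * x * g)) * g⁻¹ := by rw [this]
        _ = a * x := by group
  rw [hsup] at hcent
  rw [Subgroup.mem_center_iff]
  intro y
  have := (Subgroup.mem_centralizer_iff.1 (hcent (Subgroup.mem_top y))) x rfl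
  exact this.symm

/-- For a non-normal abelian maximal subgroup `A`, the image of `A` in `G / Z(G)` is an abelian
maximal Frobenius complement. -/
theorem frobenius_quotient_center [Finite G] {A : Subgroup G} (hA : IsCoatom A) (hn : ¬ A.Normal)
    (hab : ∀ a ∈ A, ∀ b ∈ A, a * b = b * a) :
    Cfsg.IsFrobeniusComplement (A.map (QuotientGroup.mk' (Subgroup.center G))) ∧
    IsCoatom (A.map (QuotientGroup.mk' (Subgroup.center G))) ∧
    ∀ a ∈ A.map (QuotientGroup.mk' (Subgroup.center G)),
      ∀ b ∈ A.map (QuotientGroup.mk' (Subgroup.center G)), a * b = b * a := by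
  have hZA := center_le_of_coatom_not_normal hA hn
  have hπs : Function.Surjective (QuotientGroup.mk' (Subgroup.center G)) :=
    QuotientGroup.mk'_surjective _
  have hcomap : (A.map (QuotientGroup.mk' (Subgroup.center G))).comap
      (QuotientGroup.mk' (Subgroup.center G)) = A := by
    rw [Subgroup.comap_map_eq, QuotientGroup.ker_mk', sup_eq_left.2 hZA]
  have hmemA : ∀ g : G, QuotientGroup.mk' (Subgroup.center G) g ∈
      A.map (QuotientGroup.mk' (Subgroup.center G)) ↔ g ∈ A := fun g => by
    rw [← Subgroup.mem_comap, hcomap]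
  have hFrob : Cfsg.IsFrobeniusComplement (A.map (QuotientGroup.mk' (Subgroup.center G))) := by
    refine ⟨?_, ?_, ?_⟩
    · intro h
      have h1 : A ≤ Subgroup.center G := by
        intro a ha
        have : QuotientGroup.mk' (Subgroup.center G) a ∈
            A.map (QuotientGroup.mk' (Subgroup.center G)) := Subgroup.mem_map_of_mem _ ha
        rw [h, Subgroup.mem_bot] at this
        exact (QuotientGroup.eq_one_iff a).1 this
      have h2 : A = Subgroup.center G := le_antisymm h1 hZA
      exact hn (h2 ▸ (inferInstance : (Subgroup.center G).Normal))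
    · intro h
      rw [h, Subgroup.comap_top] at hcomap
      exact hA.1 hcomap.symm
    · intro gbar hg
      obtain ⟨g, rfl⟩ := hπs gbar
      have hgA : g ∉ A := fun h => hg ((hmemA g).2 h)
      rw [eq_bot_iff]
      intro xbar hx
      obtain ⟨hx1, hx2⟩ := Subgroup.mem_inf.1 hx
      obtain ⟨x, rfl⟩ := hπs xbar
      have hx2' := Cfsg.Agent.Helper1.mem_conj_smul.1 hx2
      have h1 : x ∈ A := (hmemA x).1 hx1
      have h2 : g⁻¹ * x * g ∈ A := by
        rw [← hmemA]
        rw [map_mul, map_mul, map_inv]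
        exact hx2'
      have h3 : x ∈ MulAut.conj g • A := Cfsg.Agent.Helper1.mem_conj_smul.2 h2
      have h4 : x ∈ Subgroup.center G :=
        inf_conj_le_center hA hn hab hgA (Subgroup.mem_inf.2 ⟨h1, h3⟩)
      rw [Subgroup.mem_bot]
      exact (QuotientGroup.eq_one_iff x).2 h4
  refine ⟨hFrob, ⟨hFrob.2.1, fun B hB => ?_⟩, ?_⟩
  · have h1 : A < B.comap (QuotientGroup.mk' (Subgroup.center G)) := by
      rw [← hcomap]
      refine lt_of_le_of_ne (Subgroup.comap_mono hB.le) ?_
      intro h
      have := congrArg (Subgroup.map (QuotientGroup.mk' (Subgroup.center G))) h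
      rw [Subgroup.map_comap_eq_self_of_surjective hπs,
        Subgroup.map_comap_eq_self_of_surjective hπs] at this
      exact hB.ne this
    have h2 := hA.2 _ h1
    rw [← Subgroup.map_comap_eq_self_of_surjective hπs B, h2, ← MonoidHom.range_eq_map,
      MonoidHom.range_eq_top.2 hπs]
  · rintro _ ⟨a, ha, rfl⟩ _ ⟨b, hb, rfl⟩
    rw [← map_mul, ← map_mul, hab a ha b hb]

/-- **Herstein**: a finite group with an abelian maximal subgroup has derived length at most 3. -/
theorem derivedSeries_three_of_abelian_coatom [Finite G] (A : Subgroup G) (hA : IsCoatom A)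
    (hab : ∀ a ∈ A, ∀ b ∈ A, a * b = b * a) : derivedSeries G 3 = ⊥ := by
  have hAA : ⁅A, A⁆ = ⊥ := by
    rw [Subgroup.commutator_eq_bot_iff_le_centralizer]
    intro a ha
    rw [Subgroup.mem_centralizer_iff]
    intro b hb
    exact hab b hb a ha
  by_cases hn : A.Normal
  · -- `A` normal: `G/A` is cyclic
    obtain ⟨g, hg⟩ : ∃ g : G, g ∉ A := by
      by_contra h
      push Not at h
      exact hA.1 (eq_top_iff.2 fun x _ => h x)
    have hsup : Subgroup.zpowers g ⊔ A = ⊤ := by
      apply hA.2
      refine lt_of_le_of_ne le_sup_right ?_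
      intro h
      exact hg (h ▸ (le_sup_left : Subgroup.zpowers g ≤ _) (Subgroup.mem_zpowers g))
    have hGA : commutator G ≤ A := by
      rw [← Subgroup.Normal.quotient_commutative_iff_commutator_le]
      refine ⟨⟨fun x y => ?_⟩⟩
      obtain ⟨x, rfl⟩ := QuotientGroup.mk_surjective x
      obtain ⟨y, rfl⟩ := QuotientGroup.mk_surjective y
      have hx : x ∈ Subgroup.zpowers g ⊔ A := by rw [hsup]; trivial
      have hy : y ∈ Subgroup.zpowers g ⊔ A := by rw [hsup]; trivial
      rw [Subgroup.mem_sup_of_normal_right] at hx hy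
      obtain ⟨u, hu, a, ha, rfl⟩ := hx
      obtain ⟨v, hv, b, hb, rfl⟩ := hy
      obtain ⟨k, rfl⟩ := Subgroup.mem_zpowers_iff.1 hu
      obtain ⟨l, rfl⟩ := Subgroup.mem_zpowers_iff.1 hv
      have e1 : ((g ^ k * a : G) : G ⧸ A) = ((g ^ k : G) : G ⧸ A) := by
        rw [QuotientGroup.mk_mul, (QuotientGroup.eq_one_iff a).2 ha, mul_one]
      have e2 : ((g ^ l * b : G) : G ⧸ A) = ((g ^ l : G) : G ⧸ A) := by
        rw [QuotientGroup.mk_mul, (QuotientGroup.eq_one_iff b).2 hb, mul_one]
      rw [e1, e2, ← QuotientGroup.mk_mul, ← QuotientGroup.mk_mul, ← zpow_add, ← zpow_add, add_comm]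
    have h1 : derivedSeries G 1 ≤ A := by rw [derivedSeries_one]; exact hGA
    have h2 : derivedSeries G 2 = ⊥ := by
      rw [derivedSeries_succ, eq_bot_iff, ← hAA]
      exact Subgroup.commutator_mono h1 h1
    rw [derivedSeries_succ, h2, Subgroup.commutator_bot_left]
  · -- `A` self-normalising
    obtain ⟨hFrob, hmaxbar, habbar⟩ := frobenius_quotient_center hA hn hab
    have hπs : Function.Surjective (QuotientGroup.mk' (Subgroup.center G)) :=
      QuotientGroup.mk'_surjective _
    have h2 := frobenius_abelian_coatom_metabelian _ hFrob hmaxbar habbar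
    have h3 : derivedSeries G 2 ≤ Subgroup.center G := by
      have := map_derivedSeries_eq hπs 2
      rw [h2] at this
      intro x hx
      have hx' : QuotientGroup.mk' (Subgroup.center G) x ∈
          (derivedSeries G 2).map (QuotientGroup.mk' (Subgroup.center G)) :=
        Subgroup.mem_map_of_mem _ hx
      rw [this, Subgroup.mem_bot] at hx'
      exact (QuotientGroup.eq_one_iff x).1 hx'
    rw [derivedSeries_succ, eq_bot_iff]
    calc ⁅derivedSeries G 2, derivedSeries G 2⁆ ≤ ⁅Subgroup.center G, Subgroup.center G⁆ :=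
          Subgroup.commutator_mono h3 h3
      _ = ⊥ := by
        rw [Subgroup.commutator_eq_bot_iff_le_centralizer]
        intro a ha
        rw [Subgroup.mem_centralizer_iff]
        intro b _
        exact ((Subgroup.mem_center_iff.1 ha) b)

end

end Cfsg.Agent.Helper91
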