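import Mathlib
import Cfsg.Agent.Helper62.FrobActGroup

/-!
# B-G Theorem 15.9 (S1435): generic group-theoretic lemmas (helper91)

* `pow_conj_of_commute`: `k x k⁻¹ = x y`, `k y = y k` ⟹ `k^i x k^-i = x y^i`.
* `exists_fpf_sub`: an element `k` with `k ^ q = 1` normalizing, but not centralizing, a finite
  abelian subgroup `T` without `k`-fixed elements of order `q`: `[T, k]` is a nontrivial
  `k`-invariant subgroup on which `k` acts fixed-point-freely.
* `commute_of_centralizes_commutator`: `k ∈ E` centralizing `E'` (no fixed elements of order `q`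
  in `E'`) is central in `E`.
* `card_eq_of_frobenius`, `le_centralizer_of_frobenius`, `eq_bot_of_frobenius`: consequences of
  helper62's fixed point formula for a Frobenius group of conjugations.
-/

set_option autoImplicit false

namespace Cfsg.Agent.Helper91.BG159

open scoped commutatorElement

variable {X : Type*} [Group X]

theorem pow_conj_of_commute (k x y : X) (h1 : k * x * k⁻¹ = x * y) (h2 : k * y = y * k) :
    ∀ i : ℕ, k ^ i * x * (k ^ i)⁻¹ = x * y ^ i := by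
  intro i
  induction i with
  | zero => simp
  | succ n ih =>
    have h3 : k * y ^ n * k⁻¹ = y ^ n := by
      have : Commute k (y ^ n) := (show Commute k y from h2).pow_right n
      rw [this.eq, mul_assoc, mul_inv_cancel, mul_one]
    calc k ^ (n + 1) * x * (k ^ (n + 1))⁻¹
        = k * (k ^ n * x * (k ^ n)⁻¹) * k⁻¹ := by rw [pow_succ', mul_inv_rev]; group
      _ = k * (x * y ^ n) * k⁻¹ := by rw [ih]
      _ = (k * x * k⁻¹) * (k * y ^ n * k⁻¹) := by group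
      _ = x * y * y ^ n := by rw [h1, h3]
      _ = x * y ^ (n + 1) := by rw [pow_succ', mul_assoc]

/-- the commutator subgroup `[T, k]` of an abelian subgroup `T` normalized by `k` -/
theorem exists_fpf_sub (T : Subgroup X) (hT : ∀ a ∈ T, ∀ b ∈ T, a * b = b * a) (k : X) (q : ℕ)
    (hkq : k ^ q = 1) (hkT : ∀ a ∈ T, k * a * k⁻¹ ∈ T)
    (hfree : ∀ y ∈ T, y ^ q = 1 → k * y = y * k → y = 1) (hnc : ∃ a ∈ T, k * a ≠ a * k) :
    ∃ T₀ : Subgroup X, T₀ ≤ T ∧ T₀ ≠ ⊥ ∧ (∀ a ∈ T₀, k * a * k⁻¹ ∈ T₀) ∧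
      (∀ y ∈ T₀, k * y = y * k → y = 1) := by
  let T₀ : Subgroup X :=
    { carrier := {y | ∃ x ∈ T, y = x⁻¹ * (k * x * k⁻¹)}
      one_mem' := ⟨1, T.one_mem, by simp⟩
      mul_mem' := by
        rintro _ _ ⟨x, hx, rfl⟩ ⟨x', hx', rfl⟩
        refine ⟨x * x', T.mul_mem hx hx', ?_⟩
        have c1 := hT _ (hkT x hx) _ (T.inv_mem hx')
        have c2 := hT _ (T.inv_mem hx) _ (T.inv_mem hx')
        calc x⁻¹ * (k * x * k⁻¹) * (x'⁻¹ * (k * x' * k⁻¹))
            = x⁻¹ * ((k * x * k⁻¹) * x'⁻¹) * (k * x' * k⁻¹) := by group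
          _ = x⁻¹ * (x'⁻¹ * (k * x * k⁻¹)) * (k * x' * k⁻¹) := by rw [c1]
          _ = (x⁻¹ * x'⁻¹) * (k * (x * x') * k⁻¹) := by group
          _ = (x'⁻¹ * x⁻¹) * (k * (x * x') * k⁻¹) := by rw [c2]
          _ = (x * x')⁻¹ * (k * (x * x') * k⁻¹) := by rw [mul_inv_rev]
      inv_mem' := by
        rintro _ ⟨x, hx, rfl⟩
        refine ⟨x⁻¹, T.inv_mem hx, ?_⟩
        have c1 := hT _ (hkT x⁻¹ (T.inv_mem hx)) _ hx
        calc (x⁻¹ * (k * x * k⁻¹))⁻¹ = (k * x⁻¹ * k⁻¹) * x := by group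
          _ = x * (k * x⁻¹ * k⁻¹) := c1
          _ = x⁻¹⁻¹ * (k * x⁻¹ * k⁻¹) := by rw [inv_inv] }
  have hmem : ∀ y, y ∈ T₀ ↔ ∃ x ∈ T, y = x⁻¹ * (k * x * k⁻¹) := fun y => Iff.rfl
  have hle : T₀ ≤ T := by
    rintro _ ⟨x, hx, rfl⟩
    exact T.mul_mem (T.inv_mem hx) (hkT x hx)
  refine ⟨T₀, hle, ?_, ?_, ?_⟩
  · obtain ⟨a, ha, hak⟩ := hnc
    intro hb
    have h1 : a⁻¹ * (k * a * k⁻¹) ∈ T₀ := ⟨a, ha, rfl⟩
    rw [hb, Subgroup.mem_bot] at h1
    apply hak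
    have h2 : k * a * k⁻¹ = a := by
      have := congrArg (fun z => a * z) h1
      simpa [mul_assoc] using this
    calc k * a = (k * a * k⁻¹) * k := by group
      _ = a * k := by rw [h2]
  · rintro _ ⟨x, hx, rfl⟩
    refine ⟨k * x * k⁻¹, hkT x hx, ?_⟩
    group
  · rintro _ ⟨x, hx, rfl⟩ hc
    set y := x⁻¹ * (k * x * k⁻¹) with hy
    have h1 : k * x * k⁻¹ = x * y := by rw [hy]; group
    have h2 := pow_conj_of_commute k x y h1 hc q
    rw [hkq, inv_one, one_mul, mul_one] at h2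
    have h3 : y ^ q = 1 := by
      have := congrArg (fun z => x⁻¹ * z) h2
      simpa using this.symm
    exact hfree y (hle ⟨x, hx, rfl⟩) h3 hc

/-- an element of `E` centralizing `E'` is central, if it fixes no element of order `q` of `E'` -/
theorem commute_of_centralizes_commutator (E : Subgroup X) (k : X) (hk : k ∈ E) (q : ℕ)
    (hkq : k ^ q = 1) (hc : ∀ y ∈ ⁅E, E⁆, k * y = y * k)
    (hfree : ∀ y ∈ ⁅E, E⁆, y ^ q = 1 → k * y = y * k → y = 1) :
    ∀ e ∈ E, k * e = e * k := by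
  intro e he
  set y := e⁻¹ * (k * e * k⁻¹) with hy
  have hyE : y ∈ ⁅E, E⁆ := by
    have : y = ⁅e⁻¹, k⁆ := by rw [hy, commutatorElement_def]; group
    rw [this]
    exact Subgroup.commutator_mem_commutator (E.inv_mem he) hk
  have h1 : k * e * k⁻¹ = e * y := by rw [hy]; group
  have h2 := pow_conj_of_commute k e y h1 (hc y hyE) q
  rw [hkq, inv_one, one_mul, mul_one] at h2
  have h3 : y ^ q = 1 := by
    have := congrArg (fun z => e⁻¹ * z) h2
    simpa using this.symm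
  have h4 := hfree y hyE h3 (hc y hyE)
  rw [h4, mul_one] at h1
  calc k * e = (k * e * k⁻¹) * k := by group
    _ = e * k := by rw [h1]

section frob
variable [Finite X]

/-- Frobenius group `U ⋊ E` of conjugations on a solvable `H` of coprime order with
`C_H(E) = 1`: `|H| = |C_H(U)|`. -/
theorem card_eq_of_frobenius (U E H : Subgroup X) (hE1 : E ≠ ⊥)
    (hUn : ∀ e ∈ E, ∀ u ∈ U, e * u * e⁻¹ ∈ U)
    (hfpf : ∀ e ∈ E, e ≠ 1 → ∀ u ∈ U, e * u = u * e → u = 1)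
    (hHn : ∀ x ∈ U ⊔ E, ∀ h ∈ H, x * h * x⁻¹ ∈ H) (hsolv : Group.IsSolvable H)
    (hcop : Nat.Coprime (Nat.card H) (Nat.card ↥(U ⊔ E)))
    (hCE : H ⊓ Subgroup.centralizer (E : Set X) = ⊥) :
    Nat.card H = Nat.card ↥(H ⊓ Subgroup.centralizer (U : Set X)) := by
  have h := Cfsg.Agent.Helper62.FrobAct.frobenius_fixed_point_formula U E hE1 hUn hfpf
    (Nat.card H) H rfl hHn hsolv hcop
  have h1 : H ⊓ Subgroup.centralizer ((U ⊔ E : Subgroup X) : Set X) = ⊥ := by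
    rw [eq_bot_iff, ← hCE]
    exact inf_le_inf_left _ (Subgroup.centralizer_le (by exact_mod_cast (le_sup_right : E ≤ U ⊔ E)))
  rw [h1, hCE, Subgroup.card_bot, one_pow, one_mul, one_mul] at h
  exact h

theorem le_centralizer_of_frobenius (U E H : Subgroup X) (hE1 : E ≠ ⊥)
    (hUn : ∀ e ∈ E, ∀ u ∈ U, e * u * e⁻¹ ∈ U)
    (hfpf : ∀ e ∈ E, e ≠ 1 → ∀ u ∈ U, e * u = u * e → u = 1)
    (hHn : ∀ x ∈ U ⊔ E, ∀ h ∈ H, x * h * x⁻¹ ∈ H) (hsolv : Group.IsSolvable H)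
    (hcop : Nat.Coprime (Nat.card H) (Nat.card ↥(U ⊔ E)))
    (hCE : H ⊓ Subgroup.centralizer (E : Set X) = ⊥) :
    H ≤ Subgroup.centralizer (U : Set X) := by
  have h := card_eq_of_frobenius U E H hE1 hUn hfpf hHn hsolv hcop hCE
  have h2 : H ⊓ Subgroup.centralizer (U : Set X) = H :=
    Subgroup.eq_of_le_of_card_ge inf_le_left h.le
  rw [← h2]
  exact inf_le_right

theorem eq_bot_of_frobenius (U E H : Subgroup X) (hE1 : E ≠ ⊥)
    (hUn : ∀ e ∈ E, ∀ u ∈ U, e * u * e⁻¹ ∈ U)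
    (hfpf : ∀ e ∈ E, e ≠ 1 → ∀ u ∈ U, e * u = u * e → u = 1)
    (hHn : ∀ x ∈ U ⊔ E, ∀ h ∈ H, x * h * x⁻¹ ∈ H) (hsolv : Group.IsSolvable H)
    (hcop : Nat.Coprime (Nat.card H) (Nat.card ↥(U ⊔ E)))
    (hCE : H ⊓ Subgroup.centralizer (E : Set X) = ⊥)
    (hCU : H ⊓ Subgroup.centralizer (U : Set X) = ⊥) : H = ⊥ := by
  have h := card_eq_of_frobenius U E H hE1 hUn hfpf hHn hsolv hcop hCE
  rw [hCU, Subgroup.card_bot] at h
  exact Subgroup.card_eq_one.1 h

end frob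

end Cfsg.Agent.Helper91.BG159
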