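import Mathlib
import Cfsg.Prelude.Def_OddOrderLocal
import Cfsg.Agent.Helper91.BG159Defs
import Cfsg.Agent.Helper91.BG159A
import Cfsg.Agent.Helper91.BGPF
import Cfsg.Agent.Helper29.BG10F
import Cfsg.Agent.Helper29.BG11C
import Cfsg.Agent.Helper68.BG12A
import Cfsg.Agent.Helper71.BGHall
import Cfsg.Agent.Helper60.BGAsmB
import Cfsg.Agent.Helper60.BGAsmD
import Cfsg.Agent.Helper50.DerivedKillsAction
import Cfsg.Agent.Helper22.Sup

/-!
# B-G Theorem 15.9 (S1435): the setting and its first consequences (helper91)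

`Setting M K U Mstar H q`: the hypotheses of S1435 together with the conclusions (1), (3) and the
non-conjugacy of `H` to `M`, `M*` (supplied by the caller), `|K| = q` prime, `U` abelian, `UK`
Frobenius, and the frozen statements used, as statement-shaped hypotheses.
-/

set_option autoImplicit false
set_option linter.unusedVariables false
set_option linter.unusedSectionVars false
set_option linter.style.haveILetI false

namespace Cfsg.Agent.Helper91.BG159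

open Cfsg Cfsg.Agent.Helper29.BG10 Cfsg.Agent.Helper68.BG12

variable {G : Type*} [Group G] [Finite G]

/-- the setting of B-G Theorem 15.9 -/
structure Setting (M K U Mstar H : Subgroup G) (q : ℕ) : Prop where
  hG : Cfsg.IsMinSimpleOddOrder G
  hU : UniquenessThm G
  hM : IsCoatom M
  hMstar : IsCoatom Mstar
  hH : IsCoatom H
  hKU : Cfsg.IsSigmaDecomposition M K U
  hK1 : K ≠ ⊥
  hU1 : U ≠ ⊥
  hKst : K = Cfsg.sigmaCore Mstar ⊓
    Subgroup.centralizer ((Cfsg.sigmaCore M ⊓ Subgroup.centralizer (K : Set G)) : Set G)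
  hKstH : Cfsg.IsPiHallOf (Cfsg.kappa Mstar)
    (Cfsg.sigmaCore M ⊓ Subgroup.centralizer (K : Set G)) Mstar
  hqp : q.Prime
  hKq : Nat.card K = q
  hUab : ∀ a ∈ U, ∀ b ∈ U, a * b = b * a
  hfrob : ∀ k ∈ K, k ≠ 1 → U ⊓ Subgroup.centralizer ({k} : Set G) = ⊥
  hκ : Cfsg.kappa H = ∅
  hMH : M ⊓ H = U ⊔ K
  hHM : ∀ g : G, H ≠ M.map (MulAut.conj g).toMonoidHom
  hHMs : ∀ g : G, H ≠ Mstar.map (MulAut.conj g).toMonoidHom
  h1352 : H1352 G
  h1364 : H1364 G
  h1367 : H1367 G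
  h1368 : H1368 G
  h1372 : H1372 G
  h1378 : H1378 G
  h1404 : H1404 G
  h1416 : H1416 G
  h1417 : H1417 G
  h1418 : H1418 G
  h1419 : H1419 G
  h1420 : H1420 G
  h1425 : H1425 G
  h1429 : H1429 G
  h1431 : H1431 G
  h1432 : H1432 G

namespace Setting

variable {M K U Mstar H : Subgroup G} {q : ℕ} (S : Setting M K U Mstar H q)
include S

theorem hKH : K ≤ H := le_sup_right.trans (S.hMH ▸ inf_le_right)
theorem hUH : U ≤ H := le_sup_left.trans (S.hMH ▸ inf_le_right)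
theorem hKM : K ≤ M := S.hKU.hall.1
theorem hUM : U ≤ M := S.hKU.compl.1

/-- `hKst` with the intersection taken in the lattice of subgroups -/
theorem hKst' : K = Cfsg.sigmaCore Mstar ⊓ Subgroup.centralizer
    (((Cfsg.sigmaCore M ⊓ Subgroup.centralizer (K : Set G) : Subgroup G)) : Set G) := by
  have h := S.hKst
  have h2 : (((Cfsg.sigmaCore M ⊓ Subgroup.centralizer (K : Set G) : Subgroup G)) : Set G) =
      ((Cfsg.sigmaCore M : Set G) ⊓ (Subgroup.centralizer (K : Set G) : Set G)) :=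
    Subgroup.coe_inf _ _
  rw [h2]
  exact h

theorem hKsMs : K ≤ Cfsg.sigmaCore Mstar := (le_of_eq S.hKst).trans inf_le_left
theorem hKMs : K ≤ Mstar := S.hKsMs.trans (sigmaCore_le Mstar)

theorem fact_q : Fact q.Prime := ⟨S.hqp⟩

theorem sigmaHall (L : Subgroup G) (hL : IsCoatom L) :
    Cfsg.IsPiHallOf (Cfsg.sigma L) (Cfsg.sigmaCore L) L :=
  (thm_10_2_sigma S.hG S.hU L hL).1

theorem q_dvd_K : q ∣ Nat.card K := by rw [S.hKq]

theorem q_mem_sigma_Ms : q ∈ Cfsg.sigma Mstar :=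
  (S.sigmaHall Mstar S.hMstar).2.1 q S.hqp
    (S.q_dvd_K.trans (Subgroup.card_dvd_of_le S.hKsMs))

/-- `σ(H)` and `σ(M*)` are disjoint -/
theorem sigma_disj {p : ℕ} (hp : p ∈ Cfsg.sigma H) : p ∉ Cfsg.sigma Mstar := by
  intro hp'
  obtain ⟨g, hg⟩ := S.h1378.2 Mstar H S.hMstar S.hH ⟨p, hp', hp⟩
  exact S.hHMs g hg

theorem q_not_mem_sigma_H : q ∉ Cfsg.sigma H := fun h => S.sigma_disj h S.q_mem_sigma_Ms

theorem q_dvd_H : q ∣ Nat.card H := S.q_dvd_K.trans (Subgroup.card_dvd_of_le S.hKH)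

theorem K_not_sigma : ∀ p : ℕ, p.Prime → p ∣ Nat.card K → p ∉ Cfsg.sigma H := by
  intro p hp hd
  rw [S.hKq] at hd
  rw [(Nat.prime_dvd_prime_iff_eq hp S.hqp).1 hd]
  exact S.q_not_mem_sigma_H

/-- `C_G(K) ≤ M*`, uniquely -/
theorem hCK : Subgroup.centralizer (K : Set G) ≤ Mstar ∧
    ∀ L : Subgroup G, IsCoatom L → Subgroup.centralizer (K : Set G) ≤ L → L = Mstar :=
  (S.h1367 M S.hM K U S.hKU S.hK1 Mstar S.hMstar S.hKst S.hKstH).2 K le_rfl (S.hKq ▸ S.hqp)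

/-- `N_G(K) ≤ M*` -/
theorem hNK : Subgroup.normalizer (K : Set G) ≤ Mstar := by
  haveI := S.fact_q
  have hKp : IsPGroup q K := IsPGroup.of_card (n := 1) (by rw [S.hKq, pow_one])
  rw [(S.h1404 Mstar S.hMstar q S.q_mem_sigma_Ms K hKp S.hK1 S.hKMs).2]
  exact sup_le inf_le_left S.hCK.1

theorem H_ne_Ms : H ≠ Mstar := by
  intro h
  apply S.hHMs 1
  rw [h]
  ext x
  simp

theorem H_ne_M : H ≠ M := by
  intro h
  apply S.hHM 1
  rw [h]
  ext x
  simp

/-- `H` is not of type `𝒫₁` -/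
theorem not_P1 : ¬ (∀ p : ℕ, p.Prime → p ∣ Nat.card H → p ∉ Cfsg.sigma H → p ∈ Cfsg.kappa H) := by
  intro h
  have := h q S.hqp S.q_dvd_H S.q_not_mem_sigma_H
  rw [S.hκ] at this
  exact this

theorem nilpotent : Group.IsNilpotent (Cfsg.sigmaCore H) := by
  haveI := S.fact_q
  obtain ⟨P⟩ : Nonempty (Sylow q ↥H) := inferInstance
  refine (S.h1429 H S.hH S.not_P1 q S.q_dvd_H ?_ P).2.2
  rintro (h | h)
  · exact S.q_not_mem_sigma_H h
  · rw [S.hκ] at h; exact h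

theorem ne_bot : Cfsg.sigmaCore H ≠ ⊥ := Cfsg.Agent.Helper29.BG11.sigmaCore_ne_bot S.hG S.hU S.hH

theorem exists_k : ∃ k ∈ K, k ≠ 1 := by
  by_contra h
  push Not at h
  exact S.hK1 ((Subgroup.eq_bot_iff_forall K).2 h)

theorem pow_q {k : G} (hk : k ∈ K) : k ^ q = 1 := by
  have := pow_card_eq_one' (G := K) (x := ⟨k, hk⟩)
  rw [S.hKq] at this
  exact congrArg Subtype.val this

/-- `K = ⟨k⟩` for every `k ∈ K#` -/
theorem mem_zpowers {k : G} (hk : k ∈ K) (hk1 : k ≠ 1) {k' : G} (hk' : k' ∈ K) :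
    k' ∈ Subgroup.zpowers k := by
  haveI : Fact (Nat.card K).Prime := ⟨S.hKq ▸ S.hqp⟩
  have h1 : (⟨k, hk⟩ : K) ≠ 1 := fun h => hk1 (congrArg Subtype.val h)
  have h2 := zpowers_eq_top_of_prime_card (G := K) rfl h1
  have h3 : (⟨k', hk'⟩ : K) ∈ Subgroup.zpowers (⟨k, hk⟩ : K) := by rw [h2]; trivial
  obtain ⟨n, hn⟩ := Subgroup.mem_zpowers_iff.1 h3
  exact Subgroup.mem_zpowers_iff.2 ⟨n, by simpa using congrArg Subtype.val hn⟩

/-- an element commuting with one `k ∈ K#` commutes with `K` -/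
theorem commute_of_commute {k : G} (hk : k ∈ K) (hk1 : k ≠ 1) {a : G} (h : k * a = a * k)
    {k' : G} (hk' : k' ∈ K) : k' * a = a * k' := by
  obtain ⟨n, rfl⟩ := Subgroup.mem_zpowers_iff.1 (S.mem_zpowers hk hk1 hk')
  exact ((show Commute k a from h).zpow_left n).eq

/-- the complement context of `H` -/
theorem ctx {E : Subgroup G} (hE : Cfsg.IsComplIn E (Cfsg.sigmaCore H) H) : ECtx H E :=
  eCtx_of S.hG S.hU S.hH hE

theorem coprime_E {E : Subgroup G} (hE : Cfsg.IsComplIn E (Cfsg.sigmaCore H) H) :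
    (Nat.card E).Coprime (Nat.card (Cfsg.sigmaCore H)) :=
  Nat.coprime_of_dvd fun k hk hkm hkn =>
    (S.ctx hE).not_sigma_of_dvd k hk hkm ((S.ctx hE).sigma_of_dvd k hk hkn)

theorem conj_mem_sigmaCore {x h : G} (hx : x ∈ H) (hh : h ∈ Cfsg.sigmaCore H) :
    x * h * x⁻¹ ∈ Cfsg.sigmaCore H :=
  Cfsg.Agent.Helper68.BG12.conj_mem_sigmaCore hx hh

/-- **Frobenius step**: `K ≤ E` acting fixed-point-freely on `A ≤ E`, `C_{H_σ}(K) = 1`:
`A` centralizes `H_σ`. -/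
theorem frob_step {E : Subgroup G} (hE : Cfsg.IsComplIn E (Cfsg.sigmaCore H) H) (hKE : K ≤ E)
    {A : Subgroup G} (hAE : A ≤ E) (hKA : ∀ k ∈ K, ∀ a ∈ A, k * a * k⁻¹ ∈ A)
    (hfix : ∀ k ∈ K, k ≠ 1 → ∀ a ∈ A, k * a = a * k → a = 1)
    (hCK : Cfsg.sigmaCore H ⊓ Subgroup.centralizer (K : Set G) = ⊥) :
    Cfsg.sigmaCore H ≤ Subgroup.centralizer (A : Set G) := by
  have hAKE : A ⊔ K ≤ E := sup_le hAE hKE
  apply le_centralizer_of_frobenius A K (Cfsg.sigmaCore H) S.hK1 hKA hfix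
  · intro x hx h hh
    exact S.conj_mem_sigmaCore (hE.1 (hAKE hx)) hh
  · haveI := S.nilpotent
    infer_instance
  · exact ((S.coprime_E hE).coprime_dvd_left (Subgroup.card_dvd_of_le hAKE)).symm
  · exact hCK

/-- (A): if `q ∉ τ₂(H)` then `C_{H_σ}(K) = 1` -/
theorem CK_bot (hq2 : q ∉ Cfsg.tau2 H) :
    Cfsg.sigmaCore H ⊓ Subgroup.centralizer (K : Set G) = ⊥ := by
  rw [Subgroup.eq_bot_iff_forall]
  intro x hx
  by_contra hx1
  obtain ⟨k, hk, hk1⟩ := S.exists_k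
  have hxk : k ∈ H ⊓ Subgroup.centralizer ({x} : Set G) := by
    refine Subgroup.mem_inf.2 ⟨S.hKH hk, ?_⟩
    rw [Subgroup.mem_centralizer_iff]
    intro y hy
    rw [Set.mem_singleton_iff] at hy
    rw [hy]
    exact (Subgroup.mem_centralizer_iff.1 (Subgroup.mem_inf.1 hx).2 k hk).symm
  have hord : ∀ p : ℕ, p.Prime → p ∣ orderOf k → p = q := by
    intro p hp hd
    have h2 : orderOf k ∣ q := orderOf_dvd_of_pow_eq_one (S.pow_q hk)
    exact (Nat.prime_dvd_prime_iff_eq hp S.hqp).1 (hd.trans h2)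
  have hqo : q ∣ orderOf k := by
    have h2 : orderOf k ∣ q := orderOf_dvd_of_pow_eq_one (S.pow_q hk)
    rcases (Nat.dvd_prime S.hqp).1 h2 with h | h
    · exact absurd (orderOf_eq_one_iff.1 h) hk1
    · rw [h]
  rcases S.h1432 H S.hH x (Subgroup.mem_inf.1 hx).1 hx1 k hxk hk1
    (fun p hp hd => by rw [hord p hp hd]; exact S.q_not_mem_sigma_H) with h | h
  · have := h.1 q S.hqp hqo
    rw [S.hκ] at this
    exact this
  · exact hq2 (h.1 q S.hqp hqo)


/-- `K* ≠ 1` -/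
theorem Kst_ne_bot : Cfsg.sigmaCore M ⊓ Subgroup.centralizer (K : Set G) ≠ ⊥ :=
  (S.h1364 M S.hM K U S.hKU S.hK1).2.1

theorem isPGroup_of_pow {p : ℕ} {B : Subgroup G} (hB : ∀ b ∈ B, b ^ p = 1) : IsPGroup p B := by
  intro x
  refine ⟨1, Subtype.ext ?_⟩
  simpa using hB x x.2

/-- elements of order `p` of `E` lie in the `E_{p^2}` of `E` -/
theorem mem_A_of_pow {E : Subgroup G} (hE : Cfsg.IsComplIn E (Cfsg.sigmaCore H) H) {p : ℕ}
    [hp : Fact p.Prime] (hp2 : p ∈ Cfsg.tau2 H) {A : Subgroup G} (hAE : A ≤ E)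
    (hAe : Cfsg.IsElementaryAbelian p A) (hAc : Nat.card A = p ^ 2) {x : G} (hxE : x ∈ E)
    (hxp : x ^ p = 1) : x ∈ A := by
  by_cases hx1 : x = 1
  · rw [hx1]; exact A.one_mem
  · have h18 := (S.h1418 H S.hH E hE p hp2 A ⟨hAE, hAe, hAc⟩).1.2
    have hc : Nat.card (Subgroup.zpowers x) = p := by
      rw [Nat.card_zpowers]; exact orderOf_eq_prime hxp hx1
    exact h18 (Subgroup.zpowers x) ((Subgroup.zpowers_le).2 hxE) hc (Subgroup.mem_zpowers x)

theorem normalizes_A {E : Subgroup G} (hE : Cfsg.IsComplIn E (Cfsg.sigmaCore H) H) {p : ℕ}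
    [hp : Fact p.Prime] (hp2 : p ∈ Cfsg.tau2 H) {A : Subgroup G} (hAE : A ≤ E)
    (hAe : Cfsg.IsElementaryAbelian p A) (hAc : Nat.card A = p ^ 2) :
    ∀ e ∈ E, ∀ a ∈ A, e * a * e⁻¹ ∈ A := by
  intro e he a ha
  have h18 := (S.h1418 H S.hH E hE p hp2 A ⟨hAE, hAe, hAc⟩).1.1
  exact (Subgroup.mem_normalizer_iff.1 (h18 he) a).1 ha

/-- (B): `K` fixes a non-identity element of every `E_{p^2}` of a complement containing it, if
`C_{H_σ}(K) = 1` -/
theorem exists_fixed {E : Subgroup G} (hE : Cfsg.IsComplIn E (Cfsg.sigmaCore H) H) (hKE : K ≤ E)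
    {p : ℕ} [hp : Fact p.Prime] (hp2 : p ∈ Cfsg.tau2 H) {A : Subgroup G} (hAE : A ≤ E)
    (hAe : Cfsg.IsElementaryAbelian p A) (hAc : Nat.card A = p ^ 2)
    (hCK : Cfsg.sigmaCore H ⊓ Subgroup.centralizer (K : Set G) = ⊥) :
    ∃ a ∈ A, a ≠ 1 ∧ ∀ k ∈ K, k * a = a * k := by
  by_contra hcon
  push Not at hcon
  have hfix : ∀ k ∈ K, k ≠ 1 → ∀ a ∈ A, k * a = a * k → a = 1 := by
    intro k hk hk1 a ha hka
    by_contra ha1
    obtain ⟨k', hk', hne⟩ := hcon a ha ha1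
    exact hne (S.commute_of_commute hk hk1 hka hk')
  have h1 := S.frob_step hE hKE hAE
    (fun k hk a ha => S.normalizes_A hE hp2 hAE hAe hAc k (hKE hk) a ha) hfix hCK
  have h2 := (S.h1417 H S.hH p hp2 A ⟨hAE.trans hE.1, hAe, hAc⟩).2.2.2.1
  apply S.ne_bot
  rw [eq_bot_iff, ← h2]
  exact le_inf le_rfl h1

/-- the elements of order dividing `p` of an abelian subgroup -/
def omegaSub (V : Subgroup G) (hV : ∀ a ∈ V, ∀ b ∈ V, a * b = b * a) (p : ℕ) : Subgroup G where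
  carrier := {u | u ∈ V ∧ u ^ p = 1}
  one_mem' := ⟨V.one_mem, one_pow p⟩
  mul_mem' := by
    rintro a b ⟨ha, ha'⟩ ⟨hb, hb'⟩
    exact ⟨V.mul_mem ha hb, by
      rw [(show Commute a b from hV a ha b hb).mul_pow, ha', hb', one_mul]⟩
  inv_mem' := by
    rintro a ⟨ha, ha'⟩
    exact ⟨V.inv_mem ha, by rw [inv_pow, ha', inv_one]⟩

omit S [Finite G] in
theorem mem_omegaSub {V : Subgroup G} {hV : ∀ a ∈ V, ∀ b ∈ V, a * b = b * a} {p : ℕ} {u : G} :
    u ∈ omegaSub V hV p ↔ u ∈ V ∧ u ^ p = 1 := Iff.rfl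

omit S in
theorem omegaSub_ne_bot {V : Subgroup G} (hV : ∀ a ∈ V, ∀ b ∈ V, a * b = b * a) {p : ℕ}
    [hp : Fact p.Prime] (hd : p ∣ Nat.card V) : omegaSub V hV p ≠ ⊥ := by
  obtain ⟨u, hu⟩ := exists_prime_orderOf_dvd_card' (G := V) p hd
  intro hb
  have h1 : (u : G) ∈ omegaSub V hV p := by
    refine ⟨u.2, ?_⟩
    have := pow_orderOf_eq_one u
    rw [hu] at this
    exact congrArg Subtype.val this
  rw [hb, Subgroup.mem_bot] at h1
  have h2 : u = 1 := Subtype.ext h1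
  rw [h2, orderOf_one] at hu
  exact hp.out.one_lt.ne hu

/-- a subgroup of `U` contained in `M*` is trivial -/
theorem U_inf_Ms {B : Subgroup G} (hBU : B ≤ U) (hBMs : B ≤ Mstar) : B = ⊥ := by
  have h68 := (S.h1368 M S.hM K U S.hKU S.hK1 Mstar S.hMstar S.hKst S.hKstH).1
  have h1 : B ≤ K ⊔ Cfsg.sigmaCore M := by
    have : B ≤ M ⊓ Mstar := le_inf (hBU.trans S.hUM) hBMs
    rw [h68] at this
    exact this.trans (sup_le_sup_left inf_le_left K)
  have h2 : U ⊓ (K ⊔ Cfsg.sigmaCore M) = ⊥ := S.hKU.compl.2.2.1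
  rw [eq_bot_iff, ← h2]
  exact le_inf hBU h1

/-- primes dividing `|U|` are not in `σ(M)` -/
theorem U_not_sigma {p : ℕ} (hp : p.Prime) (hd : p ∣ Nat.card U) : p ∉ Cfsg.sigma M := by
  intro h
  have h50 := S.sigmaHall M S.hM
  have hcard : Nat.card U = (K ⊔ Cfsg.sigmaCore M).relIndex M :=
    Cfsg.Agent.Helper60.BGAsm.card_eq_relIndex_of_isComplIn S.hKU.compl
  rw [hcard] at hd
  exact h50.2.2 p hp h (hd.trans (Subgroup.relIndex_dvd_of_le_left M le_sup_right))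

/-- `κ(M*) ⊆ σ(M)` -/
theorem kappa_Ms_sub {p : ℕ} (hp : p ∈ Cfsg.kappa Mstar) : p ∈ Cfsg.sigma M := by
  have hpp : p.Prime := hp.1
  have h1 : ¬ p ∣ (Cfsg.sigmaCore M ⊓ Subgroup.centralizer (K : Set G)).relIndex Mstar :=
    S.hKstH.2.2 p hpp hp
  have h2 : p ∣ Nat.card Mstar := hp.2.1
  have h3 : Nat.card (Cfsg.sigmaCore M ⊓ Subgroup.centralizer (K : Set G) : Subgroup G) *
      (Cfsg.sigmaCore M ⊓ Subgroup.centralizer (K : Set G)).relIndex Mstar = Nat.card Mstar :=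
    Cfsg.Agent.Helper60.BGAsm.card_mul_relIndex_of_le S.hKstH.1
  rw [← h3] at h2
  rcases (Nat.Prime.dvd_mul hpp).1 h2 with h | h
  · exact (S.sigmaHall M S.hM).2.1 p hpp (h.trans (Subgroup.card_dvd_of_le inf_le_left))
  · exact absurd h h1

/-- (C), case `q ∉ τ₂(H)`: no prime of `τ₂(H)` divides `|U|` -/
theorem lite_case2 (hq2 : q ∉ Cfsg.tau2 H) {p : ℕ} (hp2 : p ∈ Cfsg.tau2 H)
    (hpU : p ∣ Nat.card U) : False := by
  haveI : Fact p.Prime := ⟨hp2.1⟩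
  haveI := S.fact_q
  have hpp : p.Prime := hp2.1
  set B := omegaSub U S.hUab p with hB
  have hBU : B ≤ U := fun u hu => hu.1
  have hBp : ∀ b ∈ B, b ^ p = 1 := fun b hb => hb.2
  have hB1 : B ≠ ⊥ := omegaSub_ne_bot S.hUab hpU
  have hKB : K ≤ Subgroup.normalizer (B : Set G) := by
    apply Cfsg.Agent.Helper60.BGAsm.le_normalizer_of_forall_conj_mem
    intro k hk b hb
    refine ⟨(Subgroup.mem_normalizer_iff.1 (S.hKU.normal hk) b).1 hb.1, ?_⟩
    rw [conj_pow, hb.2, mul_one, mul_inv_cancel]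
  -- `B ⊔ K` is a `σ(H)'`-group
  have hY : ∀ p' : ℕ, p'.Prime → p' ∣ Nat.card ↥(B ⊔ K) → p' ∉ Cfsg.sigma H := by
    intro p' hp' hd
    have h1 : Nat.card ↥(K ⊔ B) ∣ Nat.card K * Nat.card B :=
      Cfsg.Agent.Helper22.card_sup_dvd_of_le_normalizer K B hKB
    rw [sup_comm] at hd
    rcases (Nat.Prime.dvd_mul hp').1 (hd.trans h1) with h | h
    · exact S.K_not_sigma p' hp' h
    · obtain ⟨n, hn⟩ := IsPGroup.iff_card.1 (S.isPGroup_of_pow hBp)
      rw [hn] at h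
      rw [(Nat.prime_dvd_prime_iff_eq hp' hpp).1 (hp'.dvd_of_dvd_pow h)]
      exact hp2.2.1
  obtain ⟨E, hE, hBKE⟩ := Cfsg.Agent.Helper71.BGHall.exists_isComplIn_sigmaCore_ge S.hG S.hU S.hH
    (sup_le (hBU.trans S.hUH) S.hKH) hY
  have hBE : B ≤ E := le_sup_left.trans hBKE
  have hKE : K ≤ E := le_sup_right.trans hBKE
  obtain ⟨A, hAE, hAe, hAc⟩ := Cfsg.Agent.Helper71.BGHall.exists_elementaryAbelian_sq_le_compl
    (S.ctx hE) hp2.2.1 hp2.2.2.1 hp2.2.2.2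
  have hBA : B ≤ A := fun b hb => S.mem_A_of_pow hE hp2 hAE hAe hAc (hBE hb) (hBp b hb)
  obtain ⟨a, haA, ha1, hak⟩ := S.exists_fixed hE hKE hp2 hAE hAe hAc (S.CK_bot hq2)
  have haMs : a ∈ Mstar := by
    apply S.hCK.1
    rw [Subgroup.mem_centralizer_iff]
    intro k hk
    exact hak k hk
  have hfin : B ≤ Mstar → False := fun h => hB1 (S.U_inf_Ms hBU h)
  by_cases hpσ : p ∈ Cfsg.sigma Mstar
  · -- `B K` is a `σ(M*)`-group meeting `K`
    have h31 := (S.h1431 Mstar S.hMstar _ S.hKstH S.Kst_ne_bot).2.2.2 (B ⊔ K)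
    rw [← S.hKst'] at h31
    apply hfin
    refine le_sup_left.trans ((h31 ?_ ?_).trans (sigmaCore_le Mstar))
    · intro p' hp' hd
      have h1 : Nat.card ↥(K ⊔ B) ∣ Nat.card K * Nat.card B :=
        Cfsg.Agent.Helper22.card_sup_dvd_of_le_normalizer K B hKB
      rw [sup_comm] at hd
      rcases (Nat.Prime.dvd_mul hp').1 (hd.trans h1) with h | h
      · rw [S.hKq] at h
        rw [(Nat.prime_dvd_prime_iff_eq hp' S.hqp).1 h]
        exact S.q_mem_sigma_Ms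
      · obtain ⟨n, hn⟩ := IsPGroup.iff_card.1 (S.isPGroup_of_pow hBp)
        rw [hn] at h
        rw [(Nat.prime_dvd_prime_iff_eq hp' hpp).1 (hp'.dvd_of_dvd_pow h)]
        exact hpσ
    · rw [inf_of_le_right (le_sup_right : K ≤ B ⊔ K)]
      exact S.hK1
  · obtain ⟨k, hk, hk1⟩ := S.exists_k
    have hao : orderOf a = p := orderOf_eq_prime (hAe.2 a haA) ha1
    have hak' : a ∈ Mstar ⊓ Subgroup.centralizer ({k} : Set G) := by
      refine Subgroup.mem_inf.2 ⟨haMs, ?_⟩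
      rw [Subgroup.mem_centralizer_iff]
      intro y hy
      rw [Set.mem_singleton_iff] at hy
      rw [hy]
      exact hak k hk
    rcases S.h1432 Mstar S.hMstar k (S.hKsMs hk) hk1 a hak' ha1
      (fun p' hp' hd => by
        rw [hao] at hd
        rw [(Nat.prime_dvd_prime_iff_eq hp' hpp).1 hd]
        exact hpσ) with h | h
    · have h1 := h.1 p hpp (by rw [hao])
      exact S.U_not_sigma hpp hpU (S.kappa_Ms_sub h1)
    · apply hfin
      intro b hb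
      apply h.2.2.1
      rw [Subgroup.mem_centralizer_iff]
      intro y hy
      rw [Set.mem_singleton_iff] at hy
      rw [hy]
      have := hAe.1.is_comm.comm ⟨a, haA⟩ ⟨b, hBA hb⟩
      exact congrArg Subtype.val this

end Setting

end Cfsg.Agent.Helper91.BG159
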