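import Cfsg.Agent.Helper91.BG159B

/-!
# B-G Theorem 15.9 (S1435): the case `q ∈ τ₂(H)` and "lite 15.8" (helper91)

* `Setting.case1`: if `q = |K| ∈ τ₂(H)` then a complement `E ∋ K` of `H_σ` lies in `M*`,
  `τ₂(H) = {q}` (the Sylow `q`-subgroups of `G` are nonabelian: S1431 for `M*` + S1419), and
  `K` centralizes `H_σ` or acts fixed-point-freely on it.
* `Setting.lite`: no prime of `τ₂(H)` divides `|U|`.
-/

set_option autoImplicit false
set_option linter.unusedVariables false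
set_option linter.unusedSectionVars false
set_option linter.style.haveILetI false

namespace Cfsg.Agent.Helper91.BG159

open Cfsg Cfsg.Agent.Helper29.BG10 Cfsg.Agent.Helper68.BG12

variable {G : Type*} [Group G] [Finite G]

omit [Finite G] in
/-- an elementary abelian group of order `p ^ 2` is not cyclic -/
theorem not_isCyclic_of_elementaryAbelian_sq {p : ℕ} [hp : Fact p.Prime] {A : Subgroup G}
    (hAe : Cfsg.IsElementaryAbelian p A) (hAc : Nat.card A = p ^ 2) : ¬ IsCyclic A := by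
  intro hc
  obtain ⟨g, hg⟩ := hc.exists_generator
  have h1 : orderOf g = Nat.card A := orderOf_eq_card_of_forall_mem_zpowers hg
  have h2 : g ^ p = 1 := Subtype.ext (by simpa using hAe.2 g g.2)
  have h3 : orderOf g ∣ p := orderOf_dvd_of_pow_eq_one h2
  rw [h1, hAc] at h3
  have h4 := Nat.le_of_dvd hp.out.pos h3
  have h5 : p < p ^ 2 := by
    have := hp.out.one_lt
    nlinarith
  omega

namespace Setting

variable {M K U Mstar H : Subgroup G} {q : ℕ} (S : Setting M K U Mstar H q)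
include S

/-- noncyclic `p`-subgroups of `M*`, `p ∈ σ(M*)`, have their normalizers in `M*` -/
theorem normalizer_le_Ms {p : ℕ} (hp : p ∈ Cfsg.sigma Mstar) {P : Subgroup G}
    (hP : IsPGroup p P) (hPM : P ≤ Mstar) (hPc : ¬ IsCyclic P) :
    Subgroup.normalizer (P : Set G) ≤ Mstar := by
  obtain ⟨E', hE'⟩ := Cfsg.Agent.Helper71.BGHall.exists_isComplIn_sigmaCore S.hG S.hU S.hMstar
  exact (S.h1420 Mstar S.hMstar E' hE').2.2.1 p P hp hP hPM hPc

/-- the case `q ∈ τ₂(H)` -/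
theorem case1 (hq2 : q ∈ Cfsg.tau2 H) :
    ∃ E : Subgroup G, Cfsg.IsComplIn E (Cfsg.sigmaCore H) H ∧ K ≤ E ∧ E ≤ Mstar ∧
      Cfsg.tau2 H = {q} ∧
      (K ≤ Subgroup.centralizer (Cfsg.sigmaCore H : Set G) ∨
        Cfsg.sigmaCore H ⊓ Subgroup.centralizer (K : Set G) = ⊥) := by
  haveI := S.fact_q
  obtain ⟨E, hE, hKE⟩ := Cfsg.Agent.Helper71.BGHall.exists_isComplIn_sigmaCore_ge S.hG S.hU S.hH
    S.hKH S.K_not_sigma
  obtain ⟨A, hAE, hAe, hAc⟩ := Cfsg.Agent.Helper71.BGHall.exists_elementaryAbelian_sq_le_compl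
    (S.ctx hE) hq2.2.1 hq2.2.2.1 hq2.2.2.2
  have h18 := S.h1418 H S.hH E hE q hq2 A ⟨hAE, hAe, hAc⟩
  have hKA : K ≤ A := h18.1.2 K hKE S.hKq
  have hAcomm : ∀ a ∈ A, ∀ b ∈ A, a * b = b * a := fun a ha b hb =>
    congrArg Subtype.val (hAe.1.is_comm.comm ⟨a, ha⟩ ⟨b, hb⟩)
  have hAMs : A ≤ Mstar := by
    intro a ha
    apply S.hCK.1
    rw [Subgroup.mem_centralizer_iff]
    intro k hk
    exact hAcomm k (hKA hk) a ha
  have hAp : IsPGroup q A := S.isPGroup_of_pow hAe.2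
  have hAs : A ≤ Cfsg.sigmaCore Mstar :=
    Cfsg.Agent.Helper91.BGPF.le_sigmaCore_of_isPGroup S.hG S.hU S.hMstar S.q_mem_sigma_Ms hAMs hAp
  have hNA : Subgroup.normalizer (A : Set G) ≤ Mstar :=
    S.normalizer_le_Ms S.q_mem_sigma_Ms hAp hAMs (not_isCyclic_of_elementaryAbelian_sq hAe hAc)
  have hEMs : E ≤ Mstar := h18.1.1.trans hNA
  -- a Sylow `q`-subgroup of `M*_σ` over `A`
  have hAp' : IsPGroup q (A.subgroupOf (Cfsg.sigmaCore Mstar)) := hAp.comap_subtype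
  obtain ⟨Q, hQ⟩ := hAp'.exists_le_sylow
  set Qg : Subgroup G :=
    (Q : Subgroup ↥(Cfsg.sigmaCore Mstar)).map (Cfsg.sigmaCore Mstar).subtype with hQg
  have hAQ : A ≤ Qg := fun a ha => ⟨⟨a, hAs ha⟩, hQ (Subgroup.mem_subgroupOf.2 ha), rfl⟩
  have h31 := (S.h1431 Mstar S.hMstar _ S.hKstH S.Kst_ne_bot).2.2.1 q S.hqp
    (by rw [← S.hKst']; exact S.q_dvd_K) Q
  have hQnc : ¬ ∀ a ∈ Qg, ∀ b ∈ Qg, a * b = b * a := by
    intro hc
    have hQH : Qg ≤ H := by
      intro x hx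
      apply (S.h1416 H S.hH q A ⟨hAE.trans hE.1, hAe, hAc⟩).1
      rw [Subgroup.mem_centralizer_iff]
      intro a ha
      exact hc a (hAQ ha) x hx
    obtain ⟨L, hL, huniq⟩ := h31.1
    have h1 := huniq H ⟨S.hH, hQH⟩
    have h2 := huniq Mstar ⟨S.hMstar, h31.2.1⟩
    exact S.H_ne_Ms (h1.trans h2.symm)
  have hS : ∀ P : Sylow q G, ¬ IsMulCommutative (P : Subgroup G) := by
    intro P hP
    have hQp : IsPGroup q Qg := Q.isPGroup'.map _
    obtain ⟨P₀, hP₀⟩ := hQp.exists_le_sylow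
    obtain ⟨g, rfl⟩ := MulAction.exists_smul_eq G P P₀
    apply hQnc
    have key : ∀ a ∈ Qg, g⁻¹ * a * g ∈ (P : Subgroup G) := by
      intro a ha
      have h1 := hP₀ ha
      rw [Sylow.coe_subgroup_smul, Subgroup.mem_pointwise_smul_iff_inv_smul_mem] at h1
      simpa [MulAut.smul_def, MulAut.conj_apply] using h1
    intro a ha b hb
    have h1 := hP.is_comm.comm ⟨_, key a ha⟩ ⟨_, key b hb⟩
    have h2 : g⁻¹ * a * g * (g⁻¹ * b * g) = g⁻¹ * b * g * (g⁻¹ * a * g) :=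
      congrArg Subtype.val h1
    have h3 : g⁻¹ * (a * b) * g = g⁻¹ * (b * a) * g := by
      simpa [mul_assoc] using h2
    exact mul_left_cancel (mul_right_cancel h3)
  have h19 := S.h1419 H S.hH E hE q hq2 hS A ⟨hAE, hAe, hAc⟩
  refine ⟨E, hE, hKE, hEMs, h19.1, ?_⟩
  by_cases hK : K = A ⊓ Subgroup.centralizer (Cfsg.sigmaCore H : Set G)
  · left
    exact (le_of_eq hK).trans inf_le_right
  · right
    exact (h19.2.2 K hKE S.hKq hK).1

/-- **lite 15.8**: no prime of `τ₂(H)` divides `|U|` -/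
theorem lite {p : ℕ} (hp2 : p ∈ Cfsg.tau2 H) (hpU : p ∣ Nat.card U) : False := by
  by_cases hq2 : q ∈ Cfsg.tau2 H
  · obtain ⟨E, -, -, -, h, -⟩ := S.case1 hq2
    rw [h, Set.mem_singleton_iff] at hp2
    subst hp2
    -- `q ∤ |U|`
    have h1 : Nat.card U = (K ⊔ Cfsg.sigmaCore M).relIndex M :=
      Cfsg.Agent.Helper60.BGAsm.card_eq_relIndex_of_isComplIn S.hKU.compl
    rw [h1] at hpU
    have h2 : p ∈ Cfsg.kappa M := S.hKU.hall.2.1 p S.hqp S.q_dvd_K
    exact S.hKU.hall.2.2 p S.hqp h2 (hpU.trans (Subgroup.relIndex_dvd_of_le_left M le_sup_left))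
  · exact S.lite_case2 hq2 hp2 hpU

end Setting

end Cfsg.Agent.Helper91.BG159
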