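import Cfsg.Agent.Helper91.BG159Defs
import Cfsg.Agent.Helper64.BG1372
import Cfsg.Agent.Helper71.BGHall
import Cfsg.Agent.Helper60.BGAsmB

/-!
# B-G Theorem 15.9 (S1435), STEP 7 of lead's #3815 (helper91)

`not_mem_tau2_of_mem_sigma`: for `M = K U M_σ` with `K ≠ 1 ≠ U`, no prime of `σ(M)` lies in
`τ₂(H')`, for any maximal subgroup `H'`.  (For `S = O_s(M_σ)`, `|Ω₁(Z(S))| > s²` by helper64's
`Setup.sq_lt_card_omegaZ`; an `E_{s²}` of `H'` is conjugate into `S` (S1425) and is then properly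
contained in an elementary abelian subgroup, against S1408.)
-/

set_option autoImplicit false
set_option linter.unusedVariables false
set_option linter.unusedSectionVars false
set_option linter.style.haveILetI false

namespace Cfsg.Agent.Helper91.BG159

open Cfsg Cfsg.Agent.Helper29.BG10 Cfsg.Agent.Helper64.BG1372

variable {G : Type*} [Group G] [Finite G]

/-- frozen shape of S1408 (after `hG`) -/
def H1408 (G : Type*) [Group G] [Finite G] : Prop :=
  ∀ (M : Subgroup G) (hM : IsCoatom M) (p : ℕ) [Fact p.Prime] (hp : p ∉ Cfsg.sigma M) (hr2 : Cfsg.PRankLE p 2 M) (hr1 : ¬ Cfsg.PRankLE p 1 M),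
    ¬ Cfsg.IsIdealPrime p G ∧ ∀ A : Subgroup G, A ≤ M → Cfsg.IsElementaryAbelian p A → Nat.card A = p ^ 2 →
        ∀ B : Subgroup G, Cfsg.IsElementaryAbelian p B → A ≤ B → B = A

omit [Finite G] in
theorem isElementaryAbelian_map {p : ℕ} {B : Subgroup G} (hB : Cfsg.IsElementaryAbelian p B)
    (f : G →* G) : Cfsg.IsElementaryAbelian p (B.map f) := by
  refine ⟨⟨⟨?_⟩⟩, ?_⟩
  · rintro ⟨_, a, ha, rfl⟩ ⟨_, b, hb, rfl⟩
    apply Subtype.ext
    have h1 := congrArg Subtype.val (hB.1.is_comm.comm ⟨a, ha⟩ ⟨b, hb⟩)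
    change f a * f b = f b * f a
    rw [← map_mul, ← map_mul]
    exact congrArg f h1
  · rintro _ ⟨a, ha, rfl⟩
    rw [← map_pow, hB.2 a ha, map_one]

/-- STEP 7: `σ(M) ∩ τ₂(H') = ∅` -/
theorem not_mem_tau2_of_mem_sigma (hG : Cfsg.IsMinSimpleOddOrder G) (hU : UniquenessThm G)
    {M K U : Subgroup G} (h : Setup M K U) (h1408 : H1408 G) (h1425 : H1425 G)
    {H' : Subgroup G} (hH' : IsCoatom H') {s : ℕ} (hsM : s ∈ Cfsg.sigma M) :
    s ∉ Cfsg.tau2 H' := by
  intro hs2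
  haveI : Fact s.Prime := ⟨hs2.1⟩
  have hsp : s.Prime := hs2.1
  obtain ⟨A, hAH, hAe, hAc⟩ := exists_elementaryAbelian_sq hs2.2.2.1 hs2.2.2.2
  have hA1 : A ≠ ⊥ := by
    intro hb
    rw [hb, Subgroup.card_bot] at hAc
    have := hsp.one_lt
    nlinarith
  have hAσ : ∀ p : ℕ, p.Prime → p ∣ Nat.card A → p ∈ Cfsg.sigma M := by
    intro p hp hd
    rw [hAc] at hd
    rw [(Nat.prime_dvd_prime_iff_eq hp hsp).1 (hp.dvd_of_dvd_pow hd)]
    exact hsM
  obtain ⟨g, hg⟩ := h1425 M h.hM A hA1 hAσ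
  set A' : Subgroup G := A.map (MulAut.conj g).toMonoidHom with hA'
  have hA'e : Cfsg.IsElementaryAbelian s A' := isElementaryAbelian_map hAe _
  have hA'p : IsPGroup s A' := by
    intro x
    refine ⟨1, Subtype.ext ?_⟩
    simpa using hA'e.2 x x.2
  obtain ⟨S, hA'S, hS⟩ := exists_isSylowIn_ge hg hA'p
  have hS1 : S ≠ ⊥ := by
    intro hb
    apply hA1
    rw [eq_bot_iff]
    intro a ha
    have h1 : (MulAut.conj g).toMonoidHom a ∈ S := hA'S ⟨a, ha, rfl⟩
    rw [hb, Subgroup.mem_bot] at h1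
    rw [Subgroup.mem_bot]
    exact (MulAut.conj g).injective (by simpa using h1)
  have hSn : M ≤ Subgroup.normalizer (S : Set G) :=
    (Cfsg.Agent.Helper60.BGAsm.le_normalizer_sigmaCore M).trans
      (Cfsg.Agent.Helper29.BG11.IsSylowIn.normalizer_le_of_isNilpotent hS h.hnil)
  have hlt := h.sq_lt_card_omegaZ hG hS.2.1 hS1 hS.1 hSn
  set V : Subgroup G := omegaZ s S with hV
  have hVe := isElementaryAbelian_omegaZ s S
  have hcomm : ∀ a ∈ A', ∀ v ∈ V, a * v = v * a := fun a ha v hv => hv.2.1 a (hA'S ha)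
  set B : Subgroup G := A' ⊔ V with hB
  have hBe : Cfsg.IsElementaryAbelian s B := by
    have key : ∀ x ∈ B, ∃ a ∈ A', ∃ v ∈ V, x = a * v := fun x hx =>
      Cfsg.Agent.Helper71.BGHall.exists_mul_of_mem_sup_of_commute hcomm hx
    refine ⟨⟨⟨?_⟩⟩, ?_⟩
    · rintro ⟨x, hx⟩ ⟨y, hy⟩
      apply Subtype.ext
      obtain ⟨a, ha, v, hv, rfl⟩ := key x hx
      obtain ⟨a', ha', v', hv', rfl⟩ := key y hy
      have c1 : a * a' = a' * a := congrArg Subtype.val (hA'e.1.is_comm.comm ⟨a, ha⟩ ⟨a', ha'⟩)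
      have c2 : v * v' = v' * v := congrArg Subtype.val (hVe.1.is_comm.comm ⟨v, hv⟩ ⟨v', hv'⟩)
      have c3 := hcomm a ha v' hv'
      have c4 := hcomm a' ha' v hv
      change a * v * (a' * v') = a' * v' * (a * v)
      calc a * v * (a' * v') = a * (v * a') * v' := by group
        _ = a * (a' * v) * v' := by rw [c4]
        _ = (a * a') * (v * v') := by group
        _ = (a' * a) * (v' * v) := by rw [c1, c2]
        _ = a' * (a * v') * v := by group
        _ = a' * (v' * a) * v := by rw [c3]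
        _ = a' * v' * (a * v) := by group
    · intro x hx
      obtain ⟨a, ha, v, hv, rfl⟩ := key x hx
      rw [(show Commute a v from hcomm a ha v hv).mul_pow, hA'e.2 a ha, hVe.2 v hv, one_mul]
  -- conjugate back
  set B₀ : Subgroup G := B.map (MulAut.conj g⁻¹).toMonoidHom with hB₀
  have hB₀e : Cfsg.IsElementaryAbelian s B₀ := isElementaryAbelian_map hBe _
  have hAB₀ : A ≤ B₀ := by
    intro a ha
    refine ⟨g * a * g⁻¹, (le_sup_left : A' ≤ B) ⟨a, ha, by simp⟩, ?_⟩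
    simp [mul_assoc]
  have h08 := (h1408 H' hH' s hs2.2.1 hs2.2.2.1 hs2.2.2.2).2 A hAH hAe hAc B₀ hB₀e hAB₀
  have hc1 : Nat.card B₀ = Nat.card B :=
    Subgroup.card_map_of_injective (MulAut.conj g⁻¹).injective
  have hc2 : Nat.card V ≤ Nat.card B := Subgroup.card_le_of_le le_sup_right
  rw [h08, hAc] at hc1
  omega

end Cfsg.Agent.Helper91.BG159
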