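import Cfsg.Agent.Helper91.ClassicalZipper
import Cfsg.Agent.Helper91.SubnormalNilpotent

set_option autoImplicit false
open scoped Pointwise

namespace Cfsg.Agent.Helper91

universe u

/-- The iterated commutator `[x, g, g, …, g]` (`n` entries `g`, `[a, b] = a b a⁻¹ b⁻¹`). -/
def engelIter {G : Type*} [Group G] (g : G) (n : ℕ) (x : G) : G :=
  (List.replicate n g).foldl (fun a b => a * b * a⁻¹ * b⁻¹) x

theorem engelIter_zero {G : Type*} [Group G] (g x : G) : engelIter g 0 x = x := rfl

theorem engelIter_succ {G : Type*} [Group G] (g : G) (n : ℕ) (x : G) :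
    engelIter g (n + 1) x = engelIter g n (x * g * x⁻¹ * g⁻¹) := by
  unfold engelIter
  rw [List.replicate_succ, List.foldl_cons]

theorem engelIter_map {G H : Type*} [Group G] [Group H] (f : G →* H) (g : G) (n : ℕ) (x : G) :
    f (engelIter g n x) = engelIter (f g) n (f x) := by
  induction n generalizing x with
  | zero => rfl
  | succ n ih => rw [engelIter_succ, engelIter_succ, ih]; simp

theorem engel_mem_fitting_aux : ∀ (n : ℕ) (G : Type u) [Group G] [Finite G], Nat.card G = n →
    ∀ g : G, (∀ x : G, ∃ k, engelIter g k x = 1) → g ∈ Cfsg.fittingSubgroup G := by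
  intro n
  induction n using Nat.strong_induction_on with
  | _ n ih =>
    intro G _ _ hcard g hg
    set A := Subgroup.zpowers g with hA
    have hgA : g ∈ A := Subgroup.mem_zpowers g
    by_cases hsn : A.IsSubnormal
    · have hnil : Group.IsNilpotent ↥A :=
        ⟨⟨1, Subgroup.upperCentralSeries_one_eq_top_iff.2 (Subgroup.zpowers_isMulCommutative g)⟩⟩
      exact le_fittingSubgroup_of_isSubnormal hsn hnil hgA
    · exfalso
      have hsub : ∀ V : Subgroup G, A ≤ V → V < ⊤ → RelSN A V := by
        intro V hAV hV
        have hgV : g ∈ V := hAV hgA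
        have hlt : Nat.card ↥V < n := hcard ▸ card_subgroup_lt hV
        have hEng : ∀ x : ↥V, ∃ k, engelIter (⟨g, hgV⟩ : ↥V) k x = 1 := by
          intro x
          obtain ⟨k, hk⟩ := hg x
          refine ⟨k, ?_⟩
          apply Subtype.ext
          have := engelIter_map V.subtype (⟨g, hgV⟩ : ↥V) k x
          simp only [Subgroup.subtype_apply] at this
          rw [this]
          simpa using hk
        have hF := ih _ hlt ↥V rfl ⟨g, hgV⟩ hEng
        rw [relSN_iff]
        refine ⟨hAV, ?_⟩
        have e : A.subgroupOf V = Subgroup.zpowers (⟨g, hgV⟩ : ↥V) := by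
          ext ⟨y, hy⟩
          simp only [Subgroup.mem_subgroupOf, hA, Subgroup.mem_zpowers_iff]
          constructor
          · rintro ⟨k, hk⟩; exact ⟨k, Subtype.ext (by simpa using hk)⟩
          · rintro ⟨k, hk⟩; exact ⟨k, by simpa using congrArg Subtype.val hk⟩
        rw [e]
        have hle : Subgroup.zpowers (⟨g, hgV⟩ : ↥V) ≤ Cfsg.fittingSubgroup ↥V :=
          (Subgroup.zpowers_le).2 hF
        have hFn : (Cfsg.fittingSubgroup ↥V).Normal := Cfsg.Agent.Lib.fittingSubgroup_normal
        have hnil : Group.IsNilpotent ↥(Cfsg.fittingSubgroup ↥V) :=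
          Cfsg.Agent.Lib.isNilpotent_fittingSubgroup
        exact Subgroup.IsSubnormal.trans hle (isSubnormal_of_isNilpotent _) hFn.isSubnormal
      have hnot : ¬ RelSN A ⊤ := by rwa [relSN_top_iff]
      obtain ⟨M, hAM, hMlt, hMmax⟩ := classical_zipper ⊤ A le_top hnot hsub
      have hgM : g ∈ M := hAM hgA
      have key : ∀ y : G, y * g * y⁻¹ * g⁻¹ ∈ M → y ∈ M := by
        intro y hy
        have h1 : y * g * y⁻¹ ∈ M := by
          have := M.mul_mem hy hgM
          simpa using this
        have h2 : A ≤ MulAut.conj y⁻¹ • M := by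
          rw [hA, Subgroup.zpowers_le, Subgroup.mem_pointwise_smul_iff_inv_smul_mem, ← map_inv,
            inv_inv, MulAut.smul_def, MulAut.conj_apply]
          exact h1
        have h3 : MulAut.conj y⁻¹ • M < ⊤ := by
          rw [lt_top_iff_ne_top]
          intro h
          apply hMlt.ne
          have h' : MulAut.conj y • MulAut.conj y⁻¹ • M = MulAut.conj y • ⊤ := by rw [h]
          rw [conj_smul_smul, mul_inv_cancel, map_one, one_smul] at h'
          rw [h']
          exact Subgroup.conj_smul_eq_self_of_mem (Subgroup.mem_top y)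
        have h4 := hMmax _ h2 h3
        have h5 : MulAut.conj y⁻¹ • M = M :=
          Subgroup.eq_of_le_of_card_ge h4
            (Nat.card_congr (Subgroup.equivSMul (MulAut.conj y⁻¹) M).toEquiv).le
        have h6 : y⁻¹ ∈ Subgroup.normalizer (M : Set G) := mem_normalizer_of_conj_smul_eq h5
        have h7 : y ∈ Subgroup.normalizer (M : Set G) := by
          simpa using Subgroup.inv_mem _ h6
        by_cases hN : Subgroup.normalizer (M : Set G) = ⊤
        · exfalso
          apply hnot
          exact (hsub M hAM hMlt).trans (RelSN.of_normal le_top (hN ▸ le_rfl))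
        · exact hMmax _ (hAM.trans Subgroup.le_normalizer) (lt_top_iff_ne_top.2 hN) h7
      have hall : ∀ k x, engelIter g k x = 1 → x ∈ M := by
        intro k
        induction k with
        | zero =>
          intro x hx
          rw [engelIter_zero] at hx
          rw [hx]; exact M.one_mem
        | succ k ih2 =>
          intro x hx
          rw [engelIter_succ] at hx
          exact key x (ih2 _ hx)
      apply hMlt.ne
      rw [eq_top_iff]
      intro x _
      obtain ⟨k, hk⟩ := hg x
      exact hall k x hk

/-- **Baer**: a left Engel element of a finite group lies in the Fitting subgroup. -/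
theorem engel_mem_fitting {G : Type u} [Group G] [Finite G] (g : G)
    (hg : ∀ x : G, ∃ k, engelIter g k x = 1) : g ∈ Cfsg.fittingSubgroup G :=
  engel_mem_fitting_aux _ G rfl g hg

/-- Elements of the Fitting subgroup of a finite group are left Engel elements. -/
theorem engel_of_mem_fitting {G : Type u} [Group G] [Finite G] {g : G}
    (hg : g ∈ Cfsg.fittingSubgroup G) (x : G) : ∃ k, engelIter g k x = 1 := by
  set F := Cfsg.fittingSubgroup G with hF
  have hFn : F.Normal := Cfsg.Agent.Lib.fittingSubgroup_normal
  have hnil : Group.IsNilpotent ↥F := Cfsg.Agent.Lib.isNilpotent_fittingSubgroup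
  obtain ⟨n, hn⟩ := (Subgroup.isNilpotent_iff_lowerCentralSeries F).1 hnil
  have main : ∀ (m k : ℕ) (y : G), y ∈ F.lowerCentralSeries k →
      F.lowerCentralSeries (k + m) = ⊥ → engelIter g m y = 1 := by
    intro m
    induction m with
    | zero =>
      intro k y hy hbot
      rw [add_zero] at hbot
      rw [hbot, Subgroup.mem_bot] at hy
      rw [engelIter_zero, hy]
    | succ m ih =>
      intro k y hy hbot
      rw [engelIter_succ]
      have hc : y * g * y⁻¹ * g⁻¹ ∈ F.lowerCentralSeries (k + 1) := by
        rw [Subgroup.lowerCentralSeries_succ]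
        exact Subgroup.commutator_mem_commutator hy hg
      exact ih (k + 1) _ hc (by rw [add_assoc, add_comm 1 m]; exact hbot)
  have hxg : x * g * x⁻¹ * g⁻¹ ∈ F := F.mul_mem (hFn.conj_mem g hg x) (F.inv_mem hg)
  refine ⟨n + 1, ?_⟩
  rw [engelIter_succ]
  exact main n 0 _ (by rw [Subgroup.lowerCentralSeries_zero]; exact hxg) (by rw [zero_add]; exact hn)

end Cfsg.Agent.Helper91
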