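import Cfsg.Agent.Helper91.WielandtSharp

set_option autoImplicit false
open scoped Pointwise

namespace Cfsg.Agent.Helper91

universe u
variable {G : Type u} [Group G]

/-- Wielandt's zipper lemma (classical form, relative to a top group `N`): if `A` is subnormal in
every proper subgroup of `N` containing it but not in `N`, then the proper subgroups of `N`
containing `A` have a greatest element. -/
theorem classical_zipper [Finite G] (N A : Subgroup G) (hAN : A ≤ N) (hnot : ¬ RelSN A N)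
    (hsub : ∀ V, A ≤ V → V < N → RelSN A V) :
    ∃ M, A ≤ M ∧ M < N ∧ ∀ V, A ≤ V → V < N → V ≤ M := by
  have hAneN : A ≠ N := by
    rintro rfl; exact hnot (RelSN.refl _)
  let 𝒞 : Set (Subgroup G) := {B | ∃ m ∈ N, B = MulAut.conj m • A}
  let U : Set (Subgroup G) := {V | A ≤ V ∧ V < N}
  let S : Subgroup G → Set (Subgroup G) := fun V => {B | B ∈ 𝒞 ∧ RelSN B V}
  have hA𝒞 : A ∈ 𝒞 := ⟨1, N.one_mem, by rw [map_one, one_smul]⟩
  have hAU : A ∈ U := ⟨le_rfl, lt_of_le_of_ne hAN hAneN⟩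
  have hmem : ∀ V ∈ U, ∀ B ∈ 𝒞, B ≤ V → B ∈ S V := by
    rintro V ⟨_, hVN⟩ B ⟨m, hm, rfl⟩ hBV
    refine ⟨⟨m, hm, rfl⟩, ?_⟩
    have h1 : A ≤ MulAut.conj m⁻¹ • V := by
      have := Subgroup.pointwise_smul_le_pointwise_smul_iff (a := MulAut.conj m⁻¹) |>.2 hBV
      rwa [conj_smul_smul, inv_mul_cancel, map_one, one_smul] at this
    have h2 : MulAut.conj m⁻¹ • V < N := by
      refine lt_of_le_of_ne (conj_smul_le_of_mem (N.inv_mem hm) hVN.le) ?_
      intro heq
      have h3 : MulAut.conj m • MulAut.conj m⁻¹ • V = MulAut.conj m • N := by rw [heq]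
      rw [conj_smul_smul, mul_inv_cancel, map_one, one_smul,
        Subgroup.conj_smul_eq_self_of_mem hm] at h3
      exact hVN.ne h3
    have h4 := (hsub _ h1 h2).smul m
    rwa [conj_smul_smul, mul_inv_cancel, map_one, one_smul] at h4
  have h𝒞conj : ∀ m ∈ N, ∀ B ∈ 𝒞, MulAut.conj m • B ∈ 𝒞 := by
    rintro m hm B ⟨m', hm', rfl⟩
    exact ⟨m * m', N.mul_mem hm hm', conj_smul_smul m m' A⟩
  have hzip : ∃ M ∈ U, ∀ V ∈ U, V ≤ M := by
    refine zipper N 𝒞 U ⟨A, hAU⟩ (fun V hV => hV.2.le) ?_ S (fun V B => Iff.rfl) ?_ ?_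
    · intro V hV B hB v hv
      exact h𝒞conj v (hV.2.le hv) B hB
    · intro V hV W _ B hB hBV
      exact hmem V hV B hB.1 hBV
    · intro V hV W hW
      set D := sSup (S V ∩ S W) with hD
      have hAS : A ∈ S V ∩ S W := ⟨hmem V hV A hA𝒞 hV.1, hmem W hW A hA𝒞 hW.1⟩
      have hAD : A ≤ D := le_sSup hAS
      have hDV : D ≤ V := sSup_le fun B hB => hB.1.2.le
      refine ⟨N ⊓ Subgroup.normalizer (D : Set G), ⟨?_, ?_⟩, le_rfl⟩
      · exact le_inf hAN (hAD.trans Subgroup.le_normalizer)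
      · refine lt_of_le_of_ne inf_le_left ?_
        intro heq
        have hNn : N ≤ Subgroup.normalizer (D : Set G) := inf_eq_left.1 heq
        have h1 : RelSN A D := (hAS.1.2).mono hAD hDV
        have h2 : RelSN D N := RelSN.of_normal (hDV.trans hV.2.le) hNn
        exact hnot (h1.trans h2)
  obtain ⟨M, hMU, hMmax⟩ := hzip
  exact ⟨M, hMU.1, hMU.2, fun V hAV hVN => hMmax V ⟨hAV, hVN⟩⟩

end Cfsg.Agent.Helper91
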