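import Cfsg.Agent.Helper91.Subnormal

set_option autoImplicit false
open scoped commutatorElement

namespace Cfsg.Agent.Helper91

universe u
variable {G : Type u} [Group G]

/-- The series `T, [T,H], [T,H,H], …`. -/
def commSeries (T H : Subgroup G) (m : ℕ) : Subgroup G := (fun K : Subgroup G => ⁅K, H⁆)^[m] T

theorem commSeries_zero (T H : Subgroup G) : commSeries T H 0 = T := rfl

theorem commSeries_succ (T H : Subgroup G) (m : ℕ) :
    commSeries T H (m + 1) = ⁅commSeries T H m, H⁆ :=
  Function.iterate_succ_apply' _ _ _

theorem commSeries_mono {T T' H H' : Subgroup G} (hT : T ≤ T') (hH : H ≤ H') (m : ℕ) :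
    commSeries T H m ≤ commSeries T' H' m := by
  induction m with
  | zero => exact hT
  | succ m ih => rw [commSeries_succ, commSeries_succ]; exact Subgroup.commutator_mono ih hH

theorem le_normalizer_commSeries {T H : Subgroup G} (hT : H ≤ Subgroup.normalizer (T : Set G)) :
    ∀ m, H ≤ Subgroup.normalizer ((commSeries T H m : Subgroup G) : Set G)
  | 0 => hT
  | m + 1 => by rw [commSeries_succ]; exact Subgroup.normalizer_commutator_ge_right _ _

theorem commSeries_succ_le {T H : Subgroup G} (hT : H ≤ Subgroup.normalizer (T : Set G)) (m : ℕ) :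
    commSeries T H (m + 1) ≤ commSeries T H m := by
  rw [commSeries_succ]
  exact Subgroup.le_normalizer_iff_commutator_le_left.1 (le_normalizer_commSeries hT m)

theorem commSeries_le {T H : Subgroup G} (hT : H ≤ Subgroup.normalizer (T : Set G)) (m : ℕ) :
    commSeries T H m ≤ T := by
  induction m with
  | zero => exact le_rfl
  | succ m ih => exact (commSeries_succ_le hT m).trans ih

theorem relSN_sup_commSeries {T H : Subgroup G} (hHT : H ≤ T) (m : ℕ) :
    RelSN (H ⊔ commSeries T H m) T := by
  have hT : H ≤ Subgroup.normalizer (T : Set G) := hHT.trans Subgroup.le_normalizer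
  induction m with
  | zero => rw [commSeries_zero, sup_eq_right.2 hHT]; exact RelSN.refl _
  | succ m ih =>
    refine RelSN.trans (RelSN.of_normal (sup_le_sup_left (commSeries_succ_le hT m) H) ?_) ih
    refine sup_le ?_ ?_
    · -- `H` normalises `H ⊔ K_{m+1}`
      exact le_trans (le_inf Subgroup.le_normalizer (le_normalizer_commSeries hT (m + 1)))
        (Subgroup.normalizer_inf_normalizer_le_normalizer_sup H _)
    · -- `K_m` normalises `H ⊔ K_{m+1}`
      rw [Subgroup.le_normalizer_iff]
      intro k hk l hl
      have hcomap : H ⊔ commSeries T H (m + 1) ≤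
          (H ⊔ commSeries T H (m + 1)).comap (MulAut.conj k).toMonoidHom := by
        refine sup_le ?_ ?_
        · intro h hh
          rw [Subgroup.mem_comap]
          have h1 : ⁅k, h⁆ ∈ commSeries T H (m + 1) := by
            rw [commSeries_succ]; exact Subgroup.commutator_mem_commutator hk hh
          have h2 : k * h * k⁻¹ = ⁅k, h⁆ * h := by
            rw [commutatorElement_def]; group
          change k * h * k⁻¹ ∈ _
          rw [h2]
          exact Subgroup.mul_mem _ (Subgroup.mem_sup_right h1) (Subgroup.mem_sup_left hh)
        · intro x hx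
          rw [Subgroup.mem_comap]
          have hk' : k ∈ Subgroup.normalizer ((commSeries T H (m + 1) : Subgroup G) : Set G) := by
            rw [commSeries_succ]
            exact Subgroup.normalizer_commutator_ge_left _ _ hk
          exact Subgroup.mem_sup_right ((Subgroup.mem_normalizer_iff.1 hk' x).1 hx)
      exact hcomap hl

theorem relSN_of_commSeries_le {T H : Subgroup G} (hHT : H ≤ T) {m : ℕ}
    (h : commSeries T H m ≤ H) : RelSN H T := by
  have := relSN_sup_commSeries hHT m
  rwa [sup_eq_left.2 h] at this

theorem exists_commSeries_le_of_relSN {T H : Subgroup G} (h : RelSN H T) :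
    ∃ m, commSeries T H m ≤ H := by
  induction h with
  | refl H => exact ⟨0, le_rfl⟩
  | step H K N hle hn _ ih =>
    obtain ⟨m, hm⟩ := ih
    refine ⟨m + 1, ?_⟩
    rw [commSeries_succ]
    refine le_trans (Subgroup.commutator_mono ((commSeries_mono le_rfl hle m).trans hm) le_rfl) ?_
    exact Subgroup.le_normalizer_iff_commutator_le_right.1 hn

theorem relSN_iff_commSeries {T H : Subgroup G} (hHT : H ≤ T) :
    RelSN H T ↔ ∃ m, commSeries T H m ≤ H :=
  ⟨exists_commSeries_le_of_relSN, fun ⟨_, hm⟩ => relSN_of_commSeries_le hHT hm⟩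

end Cfsg.Agent.Helper91
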