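import Mathlib

/-!
# S3779 (helper1's WANTED #6245), piece (B1): subset sums of `p - 1` nonzero residues cover
`ZMod p`.  helper91.
-/

set_option autoImplicit false

namespace Cfsg.Agent.Helper91.HKK

open Finset
open scoped Pointwise

/-- The set of subset sums over subsets of `I` has at least `min p (|I| + 1)` elements. -/
theorem card_subset_sums_ge {p : ℕ} [Fact p.Prime] {ι : Type*} [DecidableEq ι] (d : ι → ZMod p)
    (hd : ∀ t, d t ≠ 0) (I : Finset ι) :
    min p (I.card + 1) ≤ (I.powerset.image (fun S => ∑ s ∈ S, d s)).card := by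
  classical
  have hp : p.Prime := Fact.out
  induction I using Finset.induction_on with
  | empty =>
    simp only [Finset.powerset_empty, Finset.image_singleton, Finset.sum_empty, Finset.card_empty,
      zero_add, Finset.card_singleton]
    exact min_le_right _ _
  | insert a I ha ih =>
    have himg : (insert a I).powerset.image (fun S => ∑ s ∈ S, d s) =
        I.powerset.image (fun S => ∑ s ∈ S, d s) + {0, d a} := by
      ext x
      simp only [Finset.powerset_insert, Finset.image_union, Finset.mem_union, Finset.mem_image,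
        Finset.mem_powerset, Finset.mem_add, Finset.mem_insert, Finset.mem_singleton]
      constructor
      · rintro (⟨S, hS, rfl⟩ | ⟨S', ⟨S, hS, rfl⟩, rfl⟩)
        · exact ⟨_, ⟨S, hS, rfl⟩, 0, Or.inl rfl, add_zero _⟩
        · refine ⟨_, ⟨S, hS, rfl⟩, d a, Or.inr rfl, ?_⟩
          rw [Finset.sum_insert (fun h => ha (hS h)), add_comm]
      · rintro ⟨y, ⟨S, hS, rfl⟩, z, (rfl | rfl), rfl⟩
        · exact Or.inl ⟨S, hS, (add_zero _).symm⟩
        · refine Or.inr ⟨insert a S, ⟨S, hS, rfl⟩, ?_⟩
          rw [Finset.sum_insert (fun h => ha (hS h)), add_comm]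
    rw [himg, Finset.card_insert_of_notMem ha]
    have hne : (I.powerset.image (fun S => ∑ s ∈ S, d s)).Nonempty :=
      ⟨_, Finset.mem_image_of_mem _ (Finset.empty_mem_powerset I)⟩
    have h2 : ({0, d a} : Finset (ZMod p)).card = 2 :=
      Finset.card_pair (hd a).symm
    have hcd := ZMod.cauchy_davenport hp hne (Finset.insert_nonempty 0 {d a})
    rw [h2] at hcd
    refine le_trans ?_ hcd
    have : min p (I.card + 1) ≤ (I.powerset.image (fun S => ∑ s ∈ S, d s)).card := ih
    simp only [le_min_iff, min_le_iff] at this ⊢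
    omega

/-- (B1) subset sums of `p - 1` nonzero residues cover `ZMod p`. -/
theorem exists_subset_sum {p : ℕ} [Fact p.Prime] (d : Fin (p - 1) → ZMod p) (hd : ∀ t, d t ≠ 0)
    (t : ZMod p) : ∃ S : Finset (Fin (p - 1)), ∑ s ∈ S, d s = t := by
  classical
  have hp : p.Prime := Fact.out
  have h := card_subset_sums_ge d hd Finset.univ
  rw [Finset.card_univ, Fintype.card_fin, Nat.sub_add_cancel hp.one_le, min_self] at h
  have hle : ((Finset.univ : Finset (Fin (p - 1))).powerset.image
      (fun S => ∑ s ∈ S, d s)).card ≤ p := by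
    calc _ ≤ (Finset.univ : Finset (ZMod p)).card := Finset.card_le_univ _
      _ = p := by rw [Finset.card_univ, ZMod.card]
  have huniv : (Finset.univ : Finset (Fin (p - 1))).powerset.image
      (fun S => ∑ s ∈ S, d s) = Finset.univ := by
    apply Finset.eq_univ_of_card
    rw [ZMod.card]
    exact le_antisymm hle h
  have ht : t ∈ (Finset.univ : Finset (Fin (p - 1))).powerset.image
      (fun S => ∑ s ∈ S, d s) := by rw [huniv]; exact Finset.mem_univ t
  obtain ⟨S, -, hS⟩ := Finset.mem_image.mp ht
  exact ⟨S, hS⟩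

end Cfsg.Agent.Helper91.HKK
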