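import Mathlib
import Cfsg.Prelude.Def_Transfer
import Cfsg.Agent.Helper74.HSDefs

/-!
# S3032 (helper74's WANTED #5823), piece (Q): `HypE` passes to the quotient by a normal Sylow
subgroup.  helper91.

`hypE_map_mk'` takes the piece (HQ) (specialised to `N := Q`) as a hypothesis.
-/

set_option autoImplicit false

namespace Cfsg.Agent.Helper91.HS

open Cfsg.Agent.Helper74.HS

universe u

/-- A homomorphism is injective on a subgroup disjoint from its kernel. -/
theorem card_map_of_disjoint_ker {G H : Type*} [Group G] [Group H] (f : G →* H) (K : Subgroup G)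
    (h : Disjoint K f.ker) : Nat.card (K.map f) = Nat.card K := by
  symm
  refine Nat.card_congr (Equiv.ofBijective
    (fun x : K => (⟨f x, Subgroup.mem_map_of_mem f x.2⟩ : K.map f)) ⟨?_, ?_⟩)
  · intro x y hxy
    have hxy' : f x = f y := congrArg Subtype.val hxy
    have hk : (x : G)⁻¹ * y ∈ f.ker := by
      rw [MonoidHom.mem_ker, map_mul, map_inv, hxy', inv_mul_cancel]
    have hK : (x : G)⁻¹ * y ∈ K := K.mul_mem (K.inv_mem x.2) y.2
    have := Subgroup.disjoint_def.mp h hK hk
    exact Subtype.ext (inv_mul_eq_one.mp this)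
  · rintro ⟨_, x, hx, rfl⟩
    exact ⟨⟨x, hx⟩, rfl⟩

/-- A Sylow subgroup of a subgroup, as a subgroup of the ambient group. -/
theorem exists_sylow_in {G : Type*} [Group G] [Finite G] (r : ℕ) [Fact r.Prime] (L : Subgroup G) :
    ∃ P : Subgroup G, P ≤ L ∧ IsPGroup r P ∧ ¬ r ∣ P.relIndex L := by
  obtain ⟨P₀⟩ : Nonempty (Sylow r L) := inferInstance
  refine ⟨(P₀ : Subgroup L).map L.subtype, Subgroup.map_subtype_le _, P₀.isPGroup'.map L.subtype, ?_⟩
  have : ((P₀ : Subgroup L).map L.subtype).relIndex L = (P₀ : Subgroup L).index := by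
    rw [Subgroup.relIndex, Subgroup.subgroupOf,
      Subgroup.comap_map_eq_self_of_injective (Subgroup.subtype_injective L)]
  rw [this]
  exact P₀.not_dvd_index

variable {G : Type u} [Group G] [Finite G]

/-- (Q), primed: with the piece (HQ) for `N := Q` as a hypothesis. -/
theorem hypE_map_mk' {E : Subgroup G} (hE : HypE E) {q : ℕ} [Fact q.Prime]
    (Q : Subgroup G) [Q.Normal] (hQE : Q ≤ E) (hQ : IsPGroup q Q) (hQs : ¬ q ∣ Q.relIndex E)
    (hHQ : ∀ (r : ℕ) [Fact r.Prime], ¬ r ∣ Nat.card Q → ∀ F : Subgroup G, IsPGroup r F →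
      (∀ g : G, F.map (MulAut.conj g).toMonoidHom ⊓ Subgroup.normalizer (F : Set G) ≤ F) →
      ∀ x : G ⧸ Q, (F.map (QuotientGroup.mk' Q)).map (MulAut.conj x).toMonoidHom ⊓
        Subgroup.normalizer ((F.map (QuotientGroup.mk' Q) : Subgroup (G ⧸ Q)) : Set (G ⧸ Q)) ≤
          F.map (QuotientGroup.mk' Q)) :
    HypE (E.map (QuotientGroup.mk' Q)) := by
  classical
  have hker : (QuotientGroup.mk' Q).ker = Q := QuotientGroup.ker_mk' Q
  have hsurj : Function.Surjective (QuotientGroup.mk' Q) := QuotientGroup.mk'_surjective Q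
  intro r hr Pb hPbE hPb hPbS hPbc
  have : Fact r.Prime := ⟨hr⟩
  have hqp : q.Prime := Fact.out
  -- the order of the image of `E`
  have hcardE : Nat.card (E.map (QuotientGroup.mk' Q)) = Q.relIndex E := by
    have h1 := Subgroup.relIndex_map_map (QuotientGroup.mk' Q) Q E
    rw [hker, sup_idem, sup_of_le_left hQE] at h1
    have h2 : Q.map (QuotientGroup.mk' Q) = ⊥ :=
      (Subgroup.map_eq_bot_iff (H := Q) (f := QuotientGroup.mk' Q)).mpr (le_of_eq hker.symm)
    rw [h2, Subgroup.relIndex_bot_left] at h1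
    exact h1
  -- `r ≠ q`
  have hrq : r ≠ q := by
    rintro rfl
    apply hPbc
    have hdvd : Nat.card Pb ∣ Nat.card (E.map (QuotientGroup.mk' Q)) :=
      Subgroup.card_dvd_of_le hPbE
    obtain ⟨n, hn⟩ := IsPGroup.iff_card.mp hPb
    have hn0 : n = 0 := by
      by_contra hn0
      apply hQs
      rw [← hcardE]
      exact dvd_trans (hn ▸ dvd_pow_self r hn0) hdvd
    subst hn0
    rw [pow_zero] at hn
    have hbot : Pb = ⊥ := Subgroup.eq_bot_of_card_eq Pb hn
    rw [hbot]
    infer_instance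
  have hrQ : ¬ r ∣ Nat.card Q := by
    intro hdvd
    obtain ⟨n, hn⟩ := IsPGroup.iff_card.mp hQ
    rw [hn] at hdvd
    exact hrq ((Nat.prime_dvd_prime_iff_eq hr hqp).mp (hr.dvd_of_dvd_pow hdvd))
  -- the full preimage `L` of `Pb`
  have hQL : Q ≤ Pb.comap (QuotientGroup.mk' Q) :=
    le_trans (le_of_eq hker.symm) (Subgroup.ker_le_comap _ Pb)
  have hLE : Pb.comap (QuotientGroup.mk' Q) ≤ E := by
    have : Pb.comap (QuotientGroup.mk' Q) ≤
        (E.map (QuotientGroup.mk' Q)).comap (QuotientGroup.mk' Q) := Subgroup.comap_mono hPbE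
    rwa [Subgroup.comap_map_eq, hker, sup_of_le_left hQE] at this
  have hLmap : (Pb.comap (QuotientGroup.mk' Q)).map (QuotientGroup.mk' Q) = Pb :=
    Subgroup.map_comap_eq_self_of_surjective hsurj Pb
  obtain ⟨P, hPL, hPr, hPrelL⟩ := exists_sylow_in r (Pb.comap (QuotientGroup.mk' Q))
  have hLrelE : (Pb.comap (QuotientGroup.mk' Q)).relIndex E =
      Pb.relIndex (E.map (QuotientGroup.mk' Q)) := Subgroup.relIndex_comap Pb _ E
  have hPrelE : ¬ r ∣ P.relIndex E := by
    rw [← Subgroup.relIndex_mul_relIndex P _ E hPL hLE, hLrelE]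
    exact fun h => (hr.dvd_mul.mp h).elim hPrelL hPbS
  have hdisj : Disjoint P (QuotientGroup.mk' Q).ker := by
    rw [hker]; exact IsPGroup.disjoint_of_ne r q hrq P Q hPr hQ
  have hPmap : P.map (QuotientGroup.mk' Q) = Pb := by
    apply le_antisymm
    · rw [← hLmap]; exact Subgroup.map_mono hPL
    · rw [← Subgroup.relIndex_eq_one]
      have h1 : (P.map (QuotientGroup.mk' Q)).relIndex Pb ∣
          P.relIndex (Pb.comap (QuotientGroup.mk' Q)) := by
        conv_lhs => rw [← hLmap]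
        rw [Subgroup.relIndex_map_map, hker, sup_of_le_left hQL]
        exact Subgroup.relIndex_dvd_of_le_left _ le_sup_left
      have h2 : (P.map (QuotientGroup.mk' Q)).relIndex Pb ∣ Nat.card Pb :=
        Subgroup.relIndex_dvd_card _ _
      obtain ⟨n, hn⟩ := IsPGroup.iff_card.mp hPb
      rw [hn] at h2
      obtain ⟨m, _, hm'⟩ := (Nat.dvd_prime_pow hr).mp h2
      rw [hm'] at h1 ⊢
      rcases Nat.eq_zero_or_pos m with rfl | hmpos
      · rfl
      · exact absurd (dvd_trans (dvd_pow_self r hmpos.ne') h1) hPrelL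
  have hPc : ¬ IsCyclic P := by
    intro hc
    apply hPbc
    rw [← hPmap]
    exact isCyclic_of_surjective ((QuotientGroup.mk' Q).subgroupMap P)
      ((QuotientGroup.mk' Q).subgroupMap_surjective P)
  obtain ⟨D, hDP, hD1, hDlt, hDF⟩ := hE r hr P (hPL.trans hLE) hPr hPrelE hPc
  have hcardmap : ∀ K : Subgroup G, K ≤ P →
      Nat.card (K.map (QuotientGroup.mk' Q)) = Nat.card K := fun K hK =>
    card_map_of_disjoint_ker _ K (hdisj.mono_left hK)
  refine ⟨D.map (QuotientGroup.mk' Q), ?_, ?_, ?_, ?_⟩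
  · rw [← hPmap]; exact Subgroup.map_mono hDP
  · rw [hcardmap D hDP]; exact hD1
  · rw [hcardmap D hDP, ← hPmap, hcardmap P le_rfl]; exact hDlt
  · intro Fb hFbP hFbcard x
    have hFmap : (Fb.comap (QuotientGroup.mk' Q) ⊓ P).map (QuotientGroup.mk' Q) = Fb := by
      apply le_antisymm
      · rintro _ ⟨y, hy, rfl⟩
        exact hy.1
      · intro yb hyb
        have : yb ∈ P.map (QuotientGroup.mk' Q) := by rw [hPmap]; exact hFbP hyb
        obtain ⟨y, hyP, rfl⟩ := this
        exact ⟨y, ⟨hyb, hyP⟩, rfl⟩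
    have hFP : Fb.comap (QuotientGroup.mk' Q) ⊓ P ≤ P := inf_le_right
    have hFcard : Nat.card (Fb.comap (QuotientGroup.mk' Q) ⊓ P : Subgroup G) = Nat.card Fb := by
      rw [← hcardmap _ hFP, hFmap]
    have hcond : Nat.card (Fb.comap (QuotientGroup.mk' Q) ⊓ P : Subgroup G) = Nat.card D ∨
        (Nat.card D = 2 ∧ Nat.card (Fb.comap (QuotientGroup.mk' Q) ⊓ P : Subgroup G) = 4) := by
      rw [hFcard]
      rw [hcardmap D hDP] at hFbcard
      exact hFbcard
    have hHF := hDF _ hFP hcond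
    have := hHQ r hrQ _ (hPr.to_le hFP) hHF x
    rw [hFmap] at this
    exact this

end Cfsg.Agent.Helper91.HS
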