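import Cfsg.Agent.Helper91.J1SpecCode
import Cfsg.Agent.Helper91.J1SpecData

/-!
# Kernel checks for the spectrum of `J1`
-/

set_option autoImplicit false

namespace Cfsg.Agent.Helper91.J1Spec

open Cfsg Cfsg.Spor Matrix Cfsg.Agent.Helper98.J1

/-- conjugacy check: `regCmats[a] * cm i = cm (specR[ρ]) * regCmats[b]` for `lo ≤ i < lo + len` -/
def conjOK (lo len : ℕ) : Bool :=
  (List.range' lo len).all fun i =>
    withNat (fld specCertA 8 i) fun a => withNat (fld specCertR 8 i) fun ρ =>
      withNat (fld specCertB 8 i) fun b =>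
        decide (a < 120) && (decide (ρ < 22) && (decide (b < 120) &&
          withNat (regCmats.getD a 0) fun ha => withNat (cm i) fun A =>
            withNat (cm (specR.getD ρ 0)) fun B => withNat (regCmats.getD b 0) fun hb =>
              eqProd ha A B hb))

theorem conjOK_spec {lo len : ℕ} (h : conjOK lo len = true) (i : ℕ) (h1 : lo ≤ i)
    (h2 : i < lo + len) :
    fld specCertA 8 i < 120 ∧ fld specCertR 8 i < 22 ∧ fld specCertB 8 i < 120 ∧
      toMat (regCmats.getD (fld specCertA 8 i) 0) * toMat (cm i) =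
        toMat (cm (specR.getD (fld specCertR 8 i) 0)) *
          toMat (regCmats.getD (fld specCertB 8 i) 0) := by
  unfold conjOK at h
  rw [List.all_eq_true] at h
  have h3 := h i (List.mem_range'_1.2 ⟨h1, h2⟩)
  rw [withNat_eq, withNat_eq, withNat_eq, Bool.and_eq_true, Bool.and_eq_true, Bool.and_eq_true,
    withNat_eq, withNat_eq, withNat_eq, withNat_eq, decide_eq_true_eq, decide_eq_true_eq,
    decide_eq_true_eq] at h3
  exact ⟨h3.1, h3.2.1, h3.2.2.1, eqProd_spec h3.2.2.2⟩

/-- order check for the elements `cm (specR[k / 120]) * regCmats[k % 120]`, `lo ≤ k < lo + len` -/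
def specOK (lo len : ℕ) : Bool :=
  (List.range' lo len).all fun k =>
    withNat (cm (specR.getD (k / 120) 0)) fun A => withNat (regCmats.getD (k % 120) 0) fun h =>
      withNat (mulCode A h) ordOK

theorem specOK_spec {lo len : ℕ} (h : specOK lo len = true) (k : ℕ) (h1 : lo ≤ k)
    (h2 : k < lo + len) :
    ordOK (mulCode (cm (specR.getD (k / 120) 0)) (regCmats.getD (k % 120) 0)) = true := by
  unfold specOK at h
  rw [List.all_eq_true] at h
  have h3 := h k (List.mem_range'_1.2 ⟨h1, h2⟩)
  rw [withNat_eq, withNat_eq, withNat_eq] at h3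
  exact h3

end Cfsg.Agent.Helper91.J1Spec
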