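import Cfsg.Agent.Helper91.J1SpecCheck

/-!
# Kernel checks for the spectrum of `J1` (part A)
-/

set_option autoImplicit false

namespace Cfsg.Agent.Helper91.J1Spec

set_option maxRecDepth 1000000 in
set_option maxHeartbeats 0 in
theorem conj_ok_0 : conjOK 0 500 = true := by decide +kernel

set_option maxRecDepth 1000000 in
set_option maxHeartbeats 0 in
theorem conj_ok_1 : conjOK 500 500 = true := by decide +kernel

set_option maxRecDepth 1000000 in
set_option maxHeartbeats 0 in
theorem conj_ok_2 : conjOK 1000 463 = true := by decide +kernel

end Cfsg.Agent.Helper91.J1Spec
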