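import Cfsg.Agent.Helper91.J1SpecCheck

/-!
# Kernel checks for the spectrum of `J1` (part B)
-/

set_option autoImplicit false

namespace Cfsg.Agent.Helper91.J1Spec

set_option maxRecDepth 1000000 in
set_option maxHeartbeats 0 in
theorem spec_ok_0 : specOK 0 120 = true := by decide +kernel

set_option maxRecDepth 1000000 in
set_option maxHeartbeats 0 in
theorem spec_ok_1 : specOK 120 120 = true := by decide +kernel

set_option maxRecDepth 1000000 in
set_option maxHeartbeats 0 in
theorem spec_ok_2 : specOK 240 120 = true := by decide +kernel

set_option maxRecDepth 1000000 in
set_option maxHeartbeats 0 in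
theorem spec_ok_3 : specOK 360 120 = true := by decide +kernel

set_option maxRecDepth 1000000 in
set_option maxHeartbeats 0 in
theorem spec_ok_4 : specOK 480 120 = true := by decide +kernel

set_option maxRecDepth 1000000 in
set_option maxHeartbeats 0 in
theorem spec_ok_5 : specOK 600 120 = true := by decide +kernel

end Cfsg.Agent.Helper91.J1Spec
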