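import Cfsg.Agent.Helper91.J1SpecCheck

/-!
# Kernel checks for the spectrum of `J1` (part D)
-/

set_option autoImplicit false

namespace Cfsg.Agent.Helper91.J1Spec

set_option maxRecDepth 1000000 in
set_option maxHeartbeats 0 in
theorem spec_ok_12 : specOK 1440 120 = true := by decide +kernel

set_option maxRecDepth 1000000 in
set_option maxHeartbeats 0 in
theorem spec_ok_13 : specOK 1560 120 = true := by decide +kernel

set_option maxRecDepth 1000000 in
set_option maxHeartbeats 0 in
theorem spec_ok_14 : specOK 1680 120 = true := by decide +kernel

set_option maxRecDepth 1000000 in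
set_option maxHeartbeats 0 in
theorem spec_ok_15 : specOK 1800 120 = true := by decide +kernel

set_option maxRecDepth 1000000 in
set_option maxHeartbeats 0 in
theorem spec_ok_16 : specOK 1920 120 = true := by decide +kernel

end Cfsg.Agent.Helper91.J1Spec
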