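import Cfsg.Agent.Helper91.J1SpecCheck

/-!
# Kernel checks for the spectrum of `J1` (part E)
-/

set_option autoImplicit false

namespace Cfsg.Agent.Helper91.J1Spec

set_option maxRecDepth 1000000 in
set_option maxHeartbeats 0 in
theorem spec_ok_17 : specOK 2040 120 = true := by decide +kernel

set_option maxRecDepth 1000000 in
set_option maxHeartbeats 0 in
theorem spec_ok_18 : specOK 2160 120 = true := by decide +kernel

set_option maxRecDepth 1000000 in
set_option maxHeartbeats 0 in
theorem spec_ok_19 : specOK 2280 120 = true := by decide +kernel

set_option maxRecDepth 1000000 in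
set_option maxHeartbeats 0 in
theorem spec_ok_20 : specOK 2400 120 = true := by decide +kernel

set_option maxRecDepth 1000000 in
set_option maxHeartbeats 0 in
theorem spec_ok_21 : specOK 2520 120 = true := by decide +kernel

end Cfsg.Agent.Helper91.J1Spec
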