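import Cfsg.Agent.Helper98.J1Cent

/-!
# Computing products of packed `7 × 7` matrices over `ZMod 11`

On top of helper98's packed matrices (`Cfsg.Agent.Helper98.J1.toMat`), a product function
`mulCode` on codes with its correctness, powers, and Boolean order checks.
-/

set_option autoImplicit false

namespace Cfsg.Agent.Helper91.J1Spec

open Cfsg Cfsg.Spor Matrix Cfsg.Agent.Helper98.J1

/-- base 16 packing of a list of digits -/
def pack : List ℕ → ℕ
  | [] => 0
  | d :: L => d + 16 * pack L

theorem shift_pack (L : List ℕ) (hL : ∀ d ∈ L, d < 16) (k : ℕ) :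
    (pack L >>> (4 * k)) &&& 15 = L.getD k 0 := by
  induction L generalizing k with
  | nil => simp [pack]
  | cons d L ih =>
    have hd : d < 16 := hL d (List.mem_cons_self ..)
    have hL' : ∀ e ∈ L, e < 16 := fun e he => hL e (List.mem_cons_of_mem _ he)
    have h15 : (15 : ℕ) = 2 ^ 4 - 1 := by norm_num
    cases k with
    | zero =>
      simp only [pack, Nat.mul_zero, Nat.shiftRight_zero, List.getD_cons_zero]
      rw [h15, Nat.and_two_pow_sub_one_eq_mod]
      omega
    | succ k =>
      have h0 : (pack (d :: L)) >>> 4 = pack L := by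
        rw [Nat.shiftRight_eq_div_pow]
        simp only [pack]
        omega
      have h1 : (pack (d :: L)) >>> (4 * (k + 1)) = (pack L) >>> (4 * k) := by
        rw [show 4 * (k + 1) = 4 + 4 * k by ring, Nat.shiftRight_add, h0]
      rw [h1, List.getD_cons_succ]
      exact ih hL' k

/-- the code of the product of two packed matrices -/
def mulCode (A B : ℕ) : ℕ := pack ((List.range 49).map fun k => pe A B (k / 7) (k % 7))

theorem ent_mulCode (A B : ℕ) (i j : ℕ) (hi : i < 7) (hj : j < 7) :
    ent (mulCode A B) i j = pe A B i j := by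
  have h := shift_pack ((List.range 49).map fun k => pe A B (k / 7) (k % 7)) (by
    intro d hd
    rw [List.mem_map] at hd
    obtain ⟨k, -, rfl⟩ := hd
    exact lt_trans (pe_lt _ _ _ _) (by norm_num)) (7 * i + j)
  have h2 : 28 * i + 4 * j = 4 * (7 * i + j) := by ring
  rw [ent, mulCode, h2, h]
  have h3 : 7 * i + j < 49 := by omega
  rw [List.getD_eq_getElem _ _ (by simpa using h3)]
  simp only [List.getElem_map, List.getElem_range]
  have h4 : (7 * i + j) / 7 = i := by omega
  have h5 : (7 * i + j) % 7 = j := by omega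
  rw [h4, h5]

theorem toMat_mulCode (A B : ℕ) : toMat (mulCode A B) = toMat A * toMat B := by
  ext i j
  rw [toMat_mul_apply]
  show ((ent (mulCode A B) i j : ℕ) : ZMod 11) = _
  rw [ent_mulCode A B i j i.isLt j.isLt]

/-- `toMat A = 1` as a Boolean check -/
def isOne (A : ℕ) : Bool := eqProd A idCode idCode idCode

theorem isOne_spec {A : ℕ} (h : isOne A = true) : toMat A = 1 := by
  have := eqProd_spec h
  rwa [toMat_idCode, mul_one, mul_one] at this

theorem isOne_spec_false {A : ℕ} (h : isOne A = false) : toMat A ≠ 1 := by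
  have := eqProd_spec_false h
  rwa [toMat_idCode, mul_one, mul_one] at this

/-- `A` is the code of the identity matrix (a cheap sufficient check for `toMat A = 1`) -/
def isId (A : ℕ) : Bool := A == idCode

theorem isId_spec {A : ℕ} (h : isId A = true) : toMat A = 1 := by
  rw [isId, beq_iff_eq] at h
  rw [h, toMat_idCode]

/-- some power of the matrix with exponent `6, 7, 10, 11, 15, 19` is one -/
def ordOK (M : ℕ) : Bool :=
  withNat (mulCode M M) fun M2 =>
  withNat (mulCode M2 M) fun M3 =>
  withNat (mulCode M3 M2) fun M5 =>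
  (isId (mulCode M3 M3) ||
  (withNat (mulCode M5 M2) fun M7 => (isId M7 ||
  (withNat (mulCode M5 M5) fun M10 => (isId M10 ||
  (isId (mulCode M10 M) || (isId (mulCode M10 M5) ||
  (withNat (mulCode M10 M7) fun M17 => isId (mulCode M17 M2)))))))))

theorem ordOK_spec {M : ℕ} (h : ordOK M = true) (x : G7)
    (hx : (x : Matrix (Fin 7) (Fin 7) (ZMod 11)) = toMat M) :
    x ^ 6 = 1 ∨ x ^ 7 = 1 ∨ x ^ 10 = 1 ∨ x ^ 11 = 1 ∨ x ^ 15 = 1 ∨ x ^ 19 = 1 := by
  have key : ∀ (n : ℕ) (C : ℕ), toMat C = toMat M ^ n → toMat C = 1 → x ^ n = 1 := by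
    intro n C h1 h2
    apply Units.ext
    rw [Units.val_pow_eq_pow_val, hx, ← h1, h2]
    rfl
  simp only [ordOK, withNat_eq, Bool.or_eq_true] at h
  have e2 : toMat (mulCode M M) = toMat M ^ 2 := by rw [toMat_mulCode, pow_two]
  have e3 : toMat (mulCode (mulCode M M) M) = toMat M ^ 3 := by
    rw [toMat_mulCode, e2]; exact (pow_succ _ 2).symm
  have e5 : toMat (mulCode (mulCode (mulCode M M) M) (mulCode M M)) = toMat M ^ 5 := by
    rw [toMat_mulCode, e3, e2, ← pow_add]
  have e6 : toMat (mulCode (mulCode (mulCode M M) M) (mulCode (mulCode M M) M)) = toMat M ^ 6 := by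
    rw [toMat_mulCode, e3, ← pow_add]
  have e7 : toMat (mulCode (mulCode (mulCode (mulCode M M) M) (mulCode M M)) (mulCode M M)) =
      toMat M ^ 7 := by
    rw [toMat_mulCode, e5, e2, ← pow_add]
  have e10 : toMat (mulCode (mulCode (mulCode (mulCode M M) M) (mulCode M M))
      (mulCode (mulCode (mulCode M M) M) (mulCode M M))) = toMat M ^ 10 := by
    rw [toMat_mulCode, e5, ← pow_add]
  rcases h with h | h | h | h | h | h
  · exact Or.inl (key 6 _ e6 (isId_spec h))
  · exact Or.inr (Or.inl (key 7 _ e7 (isId_spec h)))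
  · exact Or.inr (Or.inr (Or.inl (key 10 _ e10 (isId_spec h))))
  · refine Or.inr (Or.inr (Or.inr (Or.inl (key 11 _ ?_ (isId_spec h)))))
    rw [toMat_mulCode, e10]; exact (pow_succ _ 10).symm
  · refine Or.inr (Or.inr (Or.inr (Or.inr (Or.inl (key 15 _ ?_ (isId_spec h))))))
    rw [toMat_mulCode, e10, e5, ← pow_add]
  · refine Or.inr (Or.inr (Or.inr (Or.inr (Or.inr (key 19 _ ?_ (isId_spec h))))))
    rw [toMat_mulCode, toMat_mulCode, e10, e7, e2, ← pow_add, ← pow_add]

/-- powers of a packed matrix -/
def powCode (M : ℕ) : ℕ → ℕ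
  | 0 => idCode
  | n + 1 => mulCode (powCode M n) M

theorem toMat_powCode (M n : ℕ) : toMat (powCode M n) = toMat M ^ n := by
  induction n with
  | zero => simp [powCode, toMat_idCode]
  | succ n ih => rw [powCode, toMat_mulCode, ih, pow_succ]

theorem pow_eq_one_of_powCode {M n : ℕ} (h : isOne (powCode M n) = true) (x : G7)
    (hx : (x : Matrix (Fin 7) (Fin 7) (ZMod 11)) = toMat M) : x ^ n = 1 := by
  apply Units.ext
  rw [Units.val_pow_eq_pow_val, hx, ← toMat_powCode, isOne_spec h]
  rfl

theorem pow_ne_one_of_powCode {M n : ℕ} (h : isOne (powCode M n) = false) (x : G7)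
    (hx : (x : Matrix (Fin 7) (Fin 7) (ZMod 11)) = toMat M) : x ^ n ≠ 1 := by
  intro e
  apply isOne_spec_false h
  rw [toMat_powCode, ← hx, ← Units.val_pow_eq_pow_val, e]
  rfl

end Cfsg.Agent.Helper91.J1Spec
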