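import Mathlib

/-!
# Groups of unbounded order with spectrum `{1, 2, 3, 5, 6, 10, 15}`

`gdih k` is the generalized dihedral group of `C₃ ^ (k + 1)`, realised inside `S₃ ^ (k + 1)` as the
tuples all of whose entries have the same sign; `gdih k × D₁₀` has element orders exactly
`1, 2, 3, 5, 6, 10, 15`.
-/

set_option autoImplicit false

namespace Cfsg.Agent.Helper91.J1Spec

open Equiv

/-- the generalized dihedral group of `C₃ ^ (k + 1)` -/
def gdih (k : ℕ) : Subgroup (Fin (k + 1) → Perm (Fin 3)) where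
  carrier := {f | ∀ i, Perm.sign (f i) = Perm.sign (f 0)}
  mul_mem' := by
    intro f g hf hg i
    simp only [Set.mem_setOf_eq] at hf hg
    simp only [Pi.mul_apply, map_mul]
    rw [hf i, hg i]
  one_mem' := by
    intro i
    simp
  inv_mem' := by
    intro f hf i
    simp only [Set.mem_setOf_eq] at hf
    simp only [Pi.inv_apply, map_inv]
    rw [hf i]

theorem perm3_even : ∀ σ : Perm (Fin 3), Perm.sign σ = 1 → σ ^ 3 = 1 := by decide

theorem perm3_odd : ∀ σ : Perm (Fin 3), Perm.sign σ = -1 → σ ^ 2 = 1 := by decide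

theorem gdih_pow (k : ℕ) (f : ↥(gdih k)) : f ^ 2 = 1 ∨ f ^ 3 = 1 := by
  obtain ⟨f, hf⟩ := f
  have hf' : ∀ i, Perm.sign (f i) = Perm.sign (f 0) := hf
  rcases Int.units_eq_one_or (Perm.sign (f 0)) with h | h
  · right
    apply Subtype.ext
    funext i
    show (f ^ 3) i = 1
    rw [Pi.pow_apply]
    exact perm3_even _ ((hf' i).trans h)
  · left
    apply Subtype.ext
    funext i
    show (f ^ 2) i = 1
    rw [Pi.pow_apply]
    exact perm3_odd _ ((hf' i).trans h)

/-- the constant tuple -/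
def gconst (k : ℕ) (σ : Perm (Fin 3)) : ↥(gdih k) := ⟨fun _ => σ, fun _ => rfl⟩

theorem gconst_pow (k : ℕ) (σ : Perm (Fin 3)) (n : ℕ) : gconst k σ ^ n = gconst k (σ ^ n) := by
  apply Subtype.ext
  funext i
  show ((fun _ => σ : Fin (k + 1) → Perm (Fin 3)) ^ n) i = σ ^ n
  rw [Pi.pow_apply]

theorem gconst_eq_one (k : ℕ) (σ : Perm (Fin 3)) (h : gconst k σ = 1) : σ = 1 :=
  congrFun (congrArg Subtype.val h) 0

theorem orderOf_gconst_two (k : ℕ) : orderOf (gconst k (swap 0 1)) = 2 := by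
  refine orderOf_eq_prime ?_ ?_
  · rw [gconst_pow]
    apply Subtype.ext
    funext i
    show (swap (0 : Fin 3) 1) ^ 2 = 1
    decide
  · intro h
    exact absurd (gconst_eq_one k _ h) (by decide)

theorem orderOf_gconst_three (k : ℕ) : orderOf (gconst k (finRotate 3)) = 3 := by
  haveI : Fact (Nat.Prime 3) := ⟨by norm_num⟩
  refine orderOf_eq_prime ?_ ?_
  · rw [gconst_pow]
    apply Subtype.ext
    funext i
    show (finRotate 3) ^ 3 = 1
    decide
  · intro h
    exact absurd (gconst_eq_one k _ h) (by decide)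

/-- an element supported at one coordinate -/
def gsingle (k : ℕ) (i : Fin (k + 1)) : ↥(gdih k) :=
  ⟨Pi.mulSingle i (finRotate 3), by
    intro j
    have h : ∀ l, Perm.sign ((Pi.mulSingle i (finRotate 3) : Fin (k + 1) → Perm (Fin 3)) l) = 1 := by
      intro l
      by_cases hl : l = i
      · subst hl
        rw [Pi.mulSingle_eq_same]
        decide
      · rw [Pi.mulSingle_eq_of_ne hl]
        simp
    rw [h j, h 0]⟩

theorem gsingle_injective (k : ℕ) : Function.Injective (gsingle k) := by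
  intro i j hij
  by_contra hne
  have h1 := congrFun (congrArg Subtype.val hij) i
  simp only [gsingle] at h1
  rw [Pi.mulSingle_eq_same, Pi.mulSingle_eq_of_ne hne] at h1
  exact absurd h1 (by decide)

/-- the groups `M k` -/
abbrev MM (k : ℕ) : Type := ↥(gdih k) × DihedralGroup 5

theorem dih5_pow : ∀ d : DihedralGroup 5, d ^ 2 = 1 ∨ d ^ 5 = 1 := by decide

/-- the spectrum of `MM k` -/
def specM : Finset ℕ := {1, 2, 3, 5, 6, 10, 15}

theorem orderOf_mem_specM (k : ℕ) (m : MM k) : orderOf m ∈ specM := by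
  obtain ⟨e, d⟩ := m
  have key : ∀ n : ℕ, 0 < n → ((e, d) : MM k) ^ n = 1 → orderOf ((e, d) : MM k) ∈ n.divisors :=
    fun n hn h => Nat.mem_divisors.2 ⟨orderOf_dvd_of_pow_eq_one h, hn.ne'⟩
  have h6 : Nat.divisors 6 ⊆ specM := by decide
  have h10 : Nat.divisors 10 ⊆ specM := by decide
  have h15 : Nat.divisors 15 ⊆ specM := by decide
  have hp : ∀ (a b n : ℕ), e ^ a = 1 → d ^ b = 1 → a ∣ n → b ∣ n → ((e, d) : MM k) ^ n = 1 := by
    intro a b n ha hb han hbn
    obtain ⟨a', rfl⟩ := han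
    obtain ⟨b', hb'⟩ := hbn
    rw [Prod.pow_mk]
    refine Prod.ext ?_ ?_
    · show e ^ (a * a') = 1
      rw [pow_mul, ha, one_pow]
    · show d ^ (a * a') = 1
      rw [hb', pow_mul, hb, one_pow]
  rcases gdih_pow k e with he | he <;> rcases dih5_pow d with hd | hd
  · exact h6 (key 6 (by norm_num) (hp 2 2 6 he hd (by norm_num) (by norm_num)))
  · exact h10 (key 10 (by norm_num) (hp 2 5 10 he hd (by norm_num) (by norm_num)))
  · exact h6 (key 6 (by norm_num) (hp 3 2 6 he hd (by norm_num) (by norm_num)))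
  · exact h15 (key 15 (by norm_num) (hp 3 5 15 he hd (by norm_num) (by norm_num)))

theorem range_orderOf_MM (k : ℕ) : Set.range (orderOf : MM k → ℕ) = ↑specM := by
  ext n
  constructor
  · rintro ⟨m, rfl⟩
    exact orderOf_mem_specM k m
  · intro hn
    have h2 := orderOf_gconst_two k
    have h3 := orderOf_gconst_three k
    have hs : orderOf (DihedralGroup.sr (0 : ZMod 5)) = 2 := DihedralGroup.orderOf_sr 0
    have hr : orderOf (DihedralGroup.r (1 : ZMod 5)) = 5 := DihedralGroup.orderOf_r_one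
    simp only [specM, Finset.coe_insert, Finset.coe_singleton, Set.mem_insert_iff,
      Set.mem_singleton_iff] at hn
    rcases hn with rfl | rfl | rfl | rfl | rfl | rfl | rfl
    · exact ⟨1, orderOf_one⟩
    · exact ⟨(gconst k (swap 0 1), 1), by rw [Prod.orderOf_mk, h2, orderOf_one]; rfl⟩
    · exact ⟨(gconst k (finRotate 3), 1), by rw [Prod.orderOf_mk, h3, orderOf_one]; rfl⟩
    · exact ⟨(1, DihedralGroup.r 1), by rw [Prod.orderOf_mk, hr, orderOf_one]; rfl⟩
    · exact ⟨(gconst k (finRotate 3), DihedralGroup.sr 0), by rw [Prod.orderOf_mk, h3, hs]; rfl⟩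
    · exact ⟨(gconst k (swap 0 1), DihedralGroup.r 1), by rw [Prod.orderOf_mk, h2, hr]; rfl⟩
    · exact ⟨(gconst k (finRotate 3), DihedralGroup.r 1), by rw [Prod.orderOf_mk, h3, hr]; rfl⟩

theorem range_orderOf_prod (A B : Type*) [Monoid A] [Monoid B] :
    Set.range (orderOf : A × B → ℕ) =
      Set.image2 Nat.lcm (Set.range (orderOf : A → ℕ)) (Set.range (orderOf : B → ℕ)) := by
  ext n
  rw [Set.mem_image2]
  constructor
  · rintro ⟨⟨a, b⟩, rfl⟩
    exact ⟨_, ⟨a, rfl⟩, _, ⟨b, rfl⟩, Prod.orderOf_mk.symm⟩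
  · rintro ⟨_, ⟨a, rfl⟩, _, ⟨b, rfl⟩, rfl⟩
    exact ⟨(a, b), Prod.orderOf_mk⟩

end Cfsg.Agent.Helper91.J1Spec
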