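import Cfsg.Agent.Helper91.J1SpecChkA
import Cfsg.Agent.Helper91.J1SpecChkB
import Cfsg.Agent.Helper91.J1SpecChkC
import Cfsg.Agent.Helper91.J1SpecChkD
import Cfsg.Agent.Helper91.J1SpecChkE

/-!
# The spectrum of the Janko group `J1`

Every element of `J1` (the explicit subgroup of `GL(7, 11)`) has order in
`{1, 2, 3, 5, 6, 7, 10, 11, 15, 19}`, and all these orders occur.
-/

set_option autoImplicit false

namespace Cfsg.Agent.Helper91.J1Spec

open Cfsg Cfsg.Spor Matrix Cfsg.Agent.Helper98.J1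

theorem conj_all (i : ℕ) (hi : i < 1463) :
    fld specCertA 8 i < 120 ∧ fld specCertR 8 i < 22 ∧ fld specCertB 8 i < 120 ∧
      toMat (regCmats.getD (fld specCertA 8 i) 0) * toMat (cm i) =
        toMat (cm (specR.getD (fld specCertR 8 i) 0)) *
          toMat (regCmats.getD (fld specCertB 8 i) 0) := by
  by_cases h1 : i < 500
  · exact conjOK_spec conj_ok_0 i (Nat.zero_le _) (by omega)
  · by_cases h2 : i < 1000
    · exact conjOK_spec conj_ok_1 i (by omega) (by omega)
    · exact conjOK_spec conj_ok_2 i (by omega) (by omega)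

theorem spec_all (ρ c : ℕ) (hρ : ρ < 22) (hc : c < 120) :
    ordOK (mulCode (cm (specR.getD ρ 0)) (regCmats.getD c 0)) = true := by
  have h1 : (120 * ρ + c) / 120 = ρ := by omega
  have h2 : (120 * ρ + c) % 120 = c := by omega
  have key : ordOK (mulCode (cm (specR.getD ((120 * ρ + c) / 120) 0))
      (regCmats.getD ((120 * ρ + c) % 120) 0)) = true := by
    interval_cases ρ
    · exact specOK_spec spec_ok_0 _ (by omega) (by omega)
    · exact specOK_spec spec_ok_1 _ (by omega) (by omega)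
    · exact specOK_spec spec_ok_2 _ (by omega) (by omega)
    · exact specOK_spec spec_ok_3 _ (by omega) (by omega)
    · exact specOK_spec spec_ok_4 _ (by omega) (by omega)
    · exact specOK_spec spec_ok_5 _ (by omega) (by omega)
    · exact specOK_spec spec_ok_6 _ (by omega) (by omega)
    · exact specOK_spec spec_ok_7 _ (by omega) (by omega)
    · exact specOK_spec spec_ok_8 _ (by omega) (by omega)
    · exact specOK_spec spec_ok_9 _ (by omega) (by omega)
    · exact specOK_spec spec_ok_10 _ (by omega) (by omega)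
    · exact specOK_spec spec_ok_11 _ (by omega) (by omega)
    · exact specOK_spec spec_ok_12 _ (by omega) (by omega)
    · exact specOK_spec spec_ok_13 _ (by omega) (by omega)
    · exact specOK_spec spec_ok_14 _ (by omega) (by omega)
    · exact specOK_spec spec_ok_15 _ (by omega) (by omega)
    · exact specOK_spec spec_ok_16 _ (by omega) (by omega)
    · exact specOK_spec spec_ok_17 _ (by omega) (by omega)
    · exact specOK_spec spec_ok_18 _ (by omega) (by omega)
    · exact specOK_spec spec_ok_19 _ (by omega) (by omega)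
    · exact specOK_spec spec_ok_20 _ (by omega) (by omega)
    · exact specOK_spec spec_ok_21 _ (by omega) (by omega)
  rwa [h1, h2] at key

theorem specR_lt : ∀ ρ < 22, specR.getD ρ 0 < 1463 := by decide

/-- The coset decomposition of `J1` over the centralizer `H` of the involution `t`, in coded form. -/
theorem j1_cover : ∃ H : Subgroup G7, H ≤ J1 ∧
    (∀ h ∈ H, ∃ c < 120, (h : Matrix (Fin 7) (Fin 7) (ZMod 11)) = toMat (regCmats.getD c 0)) ∧
    (∀ c < 120, Rep H (regCmats.getD c 0)) ∧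
    (∀ g ∈ J1, ∃ i < 1463, ∃ u ∈ J1, ∃ h ∈ H,
      (u : Matrix (Fin 7) (Fin 7) (ZMod 11)) = toMat (cm i) ∧ g = u * h) := by
  obtain ⟨-, ⟨gt, hgt, et⟩, ⟨gu, hgu, eu⟩, -, ⟨gq, hgq, eq⟩⟩ := repS
  have hrel := rel_checks
  simp only [Bool.and_eq_true, Bool.not_eq_true'] at hrel
  obtain ⟨⟨⟨⟨⟨⟨⟨⟨⟨⟨⟨⟨⟨⟨r1, r2⟩, r3⟩, r4⟩, r5⟩, r6⟩, r7⟩, r8⟩, r9⟩, r10⟩, r11⟩, r12⟩, r13⟩, r14⟩, r15⟩ :=
    hrel
  have repu : Rep J1 uCode := ⟨gu, hgu, eu⟩
  have repq : Rep J1 qqCode := ⟨gq, hgq, eq⟩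
  have repx : Rep J1 xxCode :=
    Rep.mul (Rep.mul repu (Rep.mul repq repq (eqMul_spec r11)) (eqMul_spec r12)) repu
      (eqMul_spec r13)
  have repy : Rep J1 yyCode := Rep.mul repu repq (eqMul_spec r14)
  obtain ⟨gx, hgx, ex⟩ := repx
  obtain ⟨gy, hgy, ey⟩ := repy
  have hok : regOK [tCode, xxCode, yyCode] regCpts regCmats regCperms regCpar regCpgen = true := by
    rw [← regC_facts.1]; exact regC_ok
  let gs : ℕ → G7 := fun j => if j = 0 then gt else if j = 1 then gx else gy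
  have hgsK : ∀ j, gs j ∈ J1 := by
    intro j
    simp only [gs]
    split_ifs
    · exact hgt
    · exact hgx
    · exact hgy
  obtain ⟨-, hcode, hrep⟩ := reg_level hok (by rw [regC_facts.2]; norm_num) gs (by
    intro j hj
    have : j = 0 ∨ j = 1 ∨ j = 2 := by
      simp only [List.length_cons, List.length_nil] at hj
      omega
    rcases this with rfl | rfl | rfl
    · exact et
    · exact ex
    · exact ey)
  rw [regC_facts.2] at hcode hrep
  set H := Subgroup.closure {g : G7 | ∃ j < [tCode, xxCode, yyCode].length, g = gs j} with hH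
  have hHK : H ≤ J1 := by
    rw [hH, Subgroup.closure_le]
    rintro g ⟨j, -, rfl⟩
    exact hgsK j
  let U : Fin 1463 → G7 := fun i => Classical.choose (rep_cm i.val i.isLt)
  have hU : ∀ i : Fin 1463, U i ∈ J1 ∧
      ((U i : G7) : Matrix (Fin 7) (Fin 7) (ZMod 11)) = toMat (cm i.val) :=
    fun i => Classical.choose_spec (rep_cm i.val i.isLt)
  have hU0 : U ⟨0, by norm_num⟩ = 1 := by
    apply Units.ext
    rw [(hU _).2]
    show toMat (cm 0) = 1
    rw [cm_zero, toMat_idCode]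
  have hstep : ∀ s ∈ ({jankoX, jankoY} : Set G7), ∀ i, ∃ j, ∃ h ∈ H, s * U i = U j * h := by
    intro s hs i
    rw [Set.mem_insert_iff, Set.mem_singleton_iff] at hs
    rcases hs with rfl | rfl
    · obtain ⟨h1, h2, h3⟩ := centStepOK_spec centX_ok i.val (Nat.zero_le _) (by
        rw [Nat.zero_add]; exact i.isLt)
      obtain ⟨hh, hhH, hhe⟩ := hrep _ h2
      refine ⟨⟨_, h1⟩, hh, hhH, ?_⟩
      apply Units.ext
      rw [Units.val_mul, Units.val_mul, jankoX_coe, (hU i).2, (hU _).2, hhe]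
      exact h3
    · obtain ⟨h1, h2, h3⟩ := centStepOK_spec centY_ok i.val (Nat.zero_le _) (by
        rw [Nat.zero_add]; exact i.isLt)
      obtain ⟨hh, hhH, hhe⟩ := hrep _ h2
      refine ⟨⟨_, h1⟩, hh, hhH, ?_⟩
      apply Units.ext
      rw [Units.val_mul, Units.val_mul, jankoY_coe, (hU i).2, (hU _).2, hhe]
      exact h3
  have hcover := coset_cover {jankoX, jankoY} H U ⟨0, by norm_num⟩
    (by rw [hU0]; exact H.one_mem) hstep
  refine ⟨H, hHK, hcode, hrep, ?_⟩
  intro g hg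
  obtain ⟨i, h, hh, e⟩ := hcover g hg
  exact ⟨i.val, i.isLt, U i, (hU i).1, h, hh, (hU i).2, e⟩

/-- Every element of `J1` satisfies one of `g ^ n = 1`, `n ∈ {6, 7, 10, 11, 15, 19}`. -/
theorem pow_cases (g : G7) (hg : g ∈ J1) :
    g ^ 6 = 1 ∨ g ^ 7 = 1 ∨ g ^ 10 = 1 ∨ g ^ 11 = 1 ∨ g ^ 15 = 1 ∨ g ^ 19 = 1 := by
  obtain ⟨H, hHK, hcode, hrep, hcov⟩ := j1_cover
  obtain ⟨i, hi, u, -, h, hh, eu, rfl⟩ := hcov g hg
  obtain ⟨ha, hρ, hb, hconj⟩ := conj_all i hi
  obtain ⟨ga, hga, ega⟩ := hrep _ ha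
  obtain ⟨gb, hgb, egb⟩ := hrep _ hb
  obtain ⟨ur, -, eur⟩ := rep_cm _ (specR_lt _ hρ)
  -- `ga * u = ur * gb`
  have e1 : ga * u = ur * gb := by
    apply Units.ext
    rw [Units.val_mul, Units.val_mul, ega, eu, eur, egb]
    exact hconj
  -- the conjugate
  set h' : G7 := gb * h * ga⁻¹ with hh'
  have hh'H : h' ∈ H := H.mul_mem (H.mul_mem hgb hh) (H.inv_mem hga)
  have e2 : ga * (u * h) * ga⁻¹ = ur * h' := by
    rw [hh', ← mul_assoc, ← mul_assoc, ← mul_assoc, e1]
  obtain ⟨c', hc', ec'⟩ := hcode h' hh'H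
  have e3 : ((ur * h' : G7) : Matrix (Fin 7) (Fin 7) (ZMod 11)) =
      toMat (mulCode (cm (specR.getD (fld specCertR 8 i) 0)) (regCmats.getD c' 0)) := by
    rw [Units.val_mul, eur, ec', toMat_mulCode]
  have h4 := ordOK_spec (spec_all _ _ hρ hc') (ur * h') e3
  have key : ∀ n : ℕ, (ur * h') ^ n = 1 → (u * h) ^ n = 1 := by
    intro n hn
    rw [← e2, conj_pow] at hn
    have : (u * h) ^ n = ga⁻¹ * (ga * (u * h) ^ n * ga⁻¹) * ga := by group
    rw [this, hn]
    group
  rcases h4 with h4 | h4 | h4 | h4 | h4 | h4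
  · exact Or.inl (key _ h4)
  · exact Or.inr (Or.inl (key _ h4))
  · exact Or.inr (Or.inr (Or.inl (key _ h4)))
  · exact Or.inr (Or.inr (Or.inr (Or.inl (key _ h4))))
  · exact Or.inr (Or.inr (Or.inr (Or.inr (Or.inl (key _ h4)))))
  · exact Or.inr (Or.inr (Or.inr (Or.inr (Or.inr (key _ h4)))))

/-- The possible element orders of `J1`. -/
def specJ1 : Finset ℕ := {1, 2, 3, 5, 6, 7, 10, 11, 15, 19}

theorem orderOf_mem_specJ1 (g : G7) (hg : g ∈ J1) : orderOf g ∈ specJ1 := by
  have key : ∀ n : ℕ, 0 < n → g ^ n = 1 → orderOf g ∈ n.divisors := fun n hn h =>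
    Nat.mem_divisors.2 ⟨orderOf_dvd_of_pow_eq_one h, hn.ne'⟩
  have h6 : Nat.divisors 6 ⊆ specJ1 := by decide
  have h7 : Nat.divisors 7 ⊆ specJ1 := by decide
  have h10 : Nat.divisors 10 ⊆ specJ1 := by decide
  have h11 : Nat.divisors 11 ⊆ specJ1 := by decide
  have h15 : Nat.divisors 15 ⊆ specJ1 := by decide
  have h19 : Nat.divisors 19 ⊆ specJ1 := by decide
  rcases pow_cases g hg with h | h | h | h | h | h
  · exact h6 (key 6 (by norm_num) h)
  · exact h7 (key 7 (by norm_num) h)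
  · exact h10 (key 10 (by norm_num) h)
  · exact h11 (key 11 (by norm_num) h)
  · exact h15 (key 15 (by norm_num) h)
  · exact h19 (key 19 (by norm_num) h)

end Cfsg.Agent.Helper91.J1Spec
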