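import Cfsg.Agent.Helper91.J1SpecMain

/-!
# The spectrum of `J1`: witnesses, and the final statement
-/

set_option autoImplicit false

namespace Cfsg.Agent.Helper91.J1Spec

open Cfsg Cfsg.Spor Matrix Cfsg.Agent.Helper98.J1

/-- the element `cm i * regCmats[c]` has order exactly `n` -/
def witOK (i c n : ℕ) : Bool :=
  withNat (mulCode (cm i) (regCmats.getD c 0)) fun M =>
    isOne (powCode M n) && (List.range' 1 (n - 1)).all fun m => !(isOne (powCode M m))

theorem exists_orderOf_of_witOK {i c n : ℕ} (hi : i < 1463) (hc : c < 120)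
    (hn : 0 < n) (h : witOK i c n = true) :
    ∃ g : G7, g ∈ J1 ∧ orderOf g = n := by
  obtain ⟨H, hHK, -, hrep, -⟩ := j1_cover
  obtain ⟨u, hu, eu⟩ := rep_cm i hi
  obtain ⟨k, hk, ek⟩ := hrep c hc
  rw [witOK, withNat_eq, Bool.and_eq_true, List.all_eq_true] at h
  have hx : ((u * k : G7) : Matrix (Fin 7) (Fin 7) (ZMod 11)) =
      toMat (mulCode (cm i) (regCmats.getD c 0)) := by
    rw [Units.val_mul, eu, ek, toMat_mulCode]
  refine ⟨u * k, J1.mul_mem hu (hHK hk), ?_⟩
  rw [orderOf_eq_iff hn]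
  refine ⟨pow_eq_one_of_powCode h.1 _ hx, ?_⟩
  intro m hm hm0
  have := h.2 m (List.mem_range'_1.2 ⟨hm0, by omega⟩)
  rw [Bool.not_eq_true'] at this
  exact pow_ne_one_of_powCode this _ hx

set_option maxRecDepth 100000 in
theorem wit_checks : (witOK 0 1 2 && witOK 0 2 3 && witOK 0 3 5 && witOK 0 4 6 &&
    witOK 1 0 7 && witOK 0 5 10 && witOK 1 7 11 && witOK 1 4 15 && witOK 1 1 19) = true := by
  decide +kernel

theorem exists_orderOf (n : ℕ) (hn : n ∈ specJ1) : ∃ g : G7, g ∈ J1 ∧ orderOf g = n := by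
  have hw := wit_checks
  simp only [Bool.and_eq_true] at hw
  obtain ⟨⟨⟨⟨⟨⟨⟨⟨w2, w3⟩, w5⟩, w6⟩, w7⟩, w10⟩, w11⟩, w15⟩, w19⟩ := hw
  simp only [specJ1, Finset.mem_insert, Finset.mem_singleton] at hn
  rcases hn with rfl | rfl | rfl | rfl | rfl | rfl | rfl | rfl | rfl | rfl
  · exact ⟨1, J1.one_mem, orderOf_one⟩
  · exact exists_orderOf_of_witOK (by norm_num) (by norm_num) (by norm_num) w2
  · exact exists_orderOf_of_witOK (by norm_num) (by norm_num) (by norm_num) w3
  · exact exists_orderOf_of_witOK (by norm_num) (by norm_num) (by norm_num) w5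
  · exact exists_orderOf_of_witOK (by norm_num) (by norm_num) (by norm_num) w6
  · exact exists_orderOf_of_witOK (by norm_num) (by norm_num) (by norm_num) w7
  · exact exists_orderOf_of_witOK (by norm_num) (by norm_num) (by norm_num) w10
  · exact exists_orderOf_of_witOK (by norm_num) (by norm_num) (by norm_num) w11
  · exact exists_orderOf_of_witOK (by norm_num) (by norm_num) (by norm_num) w15
  · exact exists_orderOf_of_witOK (by norm_num) (by norm_num) (by norm_num) w19

/-- **The spectrum of the Janko group `J1`.** -/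
theorem range_orderOf_J1 :
    Set.range (orderOf : ↥Cfsg.Spor.J1 → ℕ) = {1, 2, 3, 5, 6, 7, 10, 11, 15, 19} := by
  ext n
  have hS : n ∈ ({1, 2, 3, 5, 6, 7, 10, 11, 15, 19} : Set ℕ) ↔ n ∈ specJ1 := by
    simp [specJ1]
  rw [hS]
  constructor
  · rintro ⟨g, rfl⟩
    rw [← Subgroup.orderOf_coe]
    exact orderOf_mem_specJ1 g.1 g.2
  · intro hn
    obtain ⟨g, hg, e⟩ := exists_orderOf n hn
    exact ⟨⟨g, hg⟩, by rw [← e, ← Subgroup.orderOf_coe]⟩

end Cfsg.Agent.Helper91.J1Spec
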