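import Mathlib

/-!
# Data for the spectrum of `J2`: a conjugacy certificate for the 315 cosets of the stabiliser `L1`

Generated by a script.  `j2R` lists representatives of the `L1`-orbits on the cosets `U0 i * L1`
(equivalently on the 315 points).  For the coset `i`, the fields `i` of `j2CertJ` (width 8),
`j2CertK` (width 4), `j2CertR` (width 4) give `j`, `k`, `ρ` such that `U1 j * U2 k` maps the point
of the coset `i` to the point of the coset `j2R[ρ]`.
-/

namespace Cfsg.Agent.Helper91.J2Spec

/-- representatives of the orbits of `L1` on its 315 cosets -/
def j2R : List Nat := [0, 45, 101, 233, 256, 303]

/-- packed first indices of the conjugators -/
def j2CertJ : Nat := 0x80d0108020e06000d0127000e150b041200090a0104010316040a021202050a030312071b0902052b02330f09020101062b1602161b16020701000b0d2b0a31001b212e0f2b0404271206020d1227422700271209090721051b1b0121010b0b0608061b2702500d0a210209080106210005160404210b1b270e0804040408040208010d010408020b42164212420002272e090102082e21530d02021201080506270f2b0a160d022b09040d0b0b0102212b0a1b090607025321120532050d0a05010b020b06050104020d1516010521080f04020500150f0f051b11011b115353110102011602150006270b0a0512040804040302051606080212160b160405120d0a02042e0202050a01210800063232030504042b020509011b110f1b08020f2108020902000a0a140209040032000216040e01040e1b050500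

/-- packed second indices of the conjugators -/
def j2CertK : Nat := 0xa614a061b1002282b33102315852740602a1199266064013b47045233b063200600101231421990020632508aa82b97b923337008608368564840310016096022417556ba6946211136720010436205270429a160712450670490124221105ab983520821484626982083006004046364234a0a6242932817376260a2b510b1705a53276000ab0564040068b13b142902411a022702b312593a05b37640

/-- packed orbit indices -/
def j2CertR : Nat := 0x544552444515555454455142545151552252542541244235455555522545453523555434454245554355442535525555454545345534554533544555455544454424544255555535554525555452545443445543441455345555442555535345355554353245533554153255435555555534522534555354514254544555555354523525452551455542352342555551555344255534525455454455550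

end Cfsg.Agent.Helper91.J2Spec
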