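import Cfsg.Agent.Helper98.J2Eq
import Cfsg.Agent.Helper91.J2SpecData

/-!
# Kernel checks for the spectrum of the Hall–Janko group

Boolean checks on the packed transversals of `G315` (library of helper98), and their meaning for
permutations: the image of a base point under a power of a product, the order of a product of three
transversal elements, and the conjugacy certificate of `J2SpecData`.
-/

set_option autoImplicit false

namespace Cfsg.Agent.Helper91.J2Spec

open Cfsg.Agent.Helper7.J2 Cfsg.Agent.Helper98.J2

/-- the image of the point `p` under the `n`-th power of the product of the word `cs` -/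
def iterL (cs : List ℕ) (n p : ℕ) : ℕ :=
  Nat.rec (motive := fun _ => ℕ) p (fun _ q => evalL cs q) n

theorem iterL_zero (cs : List ℕ) (p : ℕ) : iterL cs 0 p = p := rfl

theorem iterL_succ (cs : List ℕ) (n p : ℕ) : iterL cs (n + 1) p = evalL cs (iterL cs n p) := rfl

theorem iterL_spec {gs : List P315} {cs : List ℕ} (h : List.Forall₂ IsCode gs cs) (n : ℕ)
    (i : Fin 315) : (((gs.prod ^ n) i : Fin 315) : ℕ) = iterL cs n i := by
  induction n with
  | zero => rfl
  | succ n ih =>
    rw [pow_succ', Equiv.Perm.mul_apply, evalL_spec h, ih, iterL_succ]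

/-- the `n`-th power of the product of the word `cs` fixes the three base points -/
def powFix (cs : List ℕ) (n : ℕ) : Bool :=
  (iterL cs n 0 == 0) && ((iterL cs n 106 == 106) && (iterL cs n 29 == 29))

theorem powFix_iff {gs : List P315} {cs : List ℕ} (h : List.Forall₂ IsCode gs cs)
    (m : ∀ g ∈ gs, g ∈ G315) (n : ℕ) : powFix cs n = true ↔ gs.prod ^ n = 1 := by
  have hmem : gs.prod ^ n ∈ G315 := G315.pow_mem (Subgroup.list_prod_mem _ m) n
  unfold powFix
  rw [Bool.and_eq_true, Bool.and_eq_true, beq_iff_eq, beq_iff_eq, beq_iff_eq]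
  constructor
  · rintro ⟨h0, h1, h2⟩
    apply eq_of_base hmem G315.one_mem
    · apply Fin.ext
      rw [iterL_spec h n b0]
      exact h0
    · apply Fin.ext
      rw [iterL_spec h n b1]
      exact h1
    · apply Fin.ext
      rw [iterL_spec h n b2]
      exact h2
  · intro e
    have k0 := iterL_spec h n b0
    have k1 := iterL_spec h n b1
    have k2 := iterL_spec h n b2
    rw [e] at k0 k1 k2
    exact ⟨k0.symm, k1.symm, k2.symm⟩

/-- the word of the element with index `e` in the list of `6 * 1920` class candidates -/
def elOK (e : ℕ) : Bool :=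
  withNat (fld trT0 pw (j2R.getD (e / 1920) 0)) fun A =>
  withNat (fld trT1 pw (e % 1920 / 12)) fun B =>
  withNat (fld trT2 pw (e % 12)) fun C =>
    powFix [A, B, C] 8 || (powFix [A, B, C] 12 || (powFix [A, B, C] 7 ||
      (powFix [A, B, C] 10 || powFix [A, B, C] 15)))

/-- the check of `elOK` on an interval of indices -/
def specOK (lo len : ℕ) : Bool := allBelow len fun t => elOK (lo + t)

theorem specOK_spec {lo len : ℕ} (h : specOK lo len = true) (e : ℕ) (h1 : lo ≤ e)
    (h2 : e < lo + len) : elOK e = true := by
  unfold specOK at h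
  rw [allBelow_eq_true] at h
  have := h (e - lo) (by omega)
  rwa [Nat.add_sub_cancel' h1] at this

theorem forall₂_triple {x y z : P315} {a b c : ℕ} (hx : IsCode x a) (hy : IsCode y b)
    (hz : IsCode z c) : List.Forall₂ IsCode [x, y, z] [a, b, c] :=
  List.Forall₂.cons hx (List.Forall₂.cons hy (List.Forall₂.cons hz List.Forall₂.nil))

theorem triple_prod (x y z : P315) : [x, y, z].prod = x * y * z := by
  rw [List.prod_cons, List.prod_cons, List.prod_singleton, mul_assoc]

/-- the meaning of `powFix` for a product of three transversal elements -/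
theorem powFix_triple {r j k : ℕ} (hr : r < 315) (hj : j < 160) (hk : k < 12) (n : ℕ) :
    powFix [fld trT0 pw r, fld trT1 pw j, fld trT2 pw k] n = true ↔
      (U0 r * U1 j * U2 k) ^ n = 1 := by
  rw [← triple_prod]
  apply powFix_iff (forall₂_triple (U0_code hr) (U1_code hj) (U2_code hk))
  intro g hg
  simp only [List.mem_cons, List.not_mem_nil, or_false] at hg
  rcases hg with rfl | rfl | rfl
  · exact U0_mem hr
  · exact L1_le (U1_mem hj)
  · exact L1_le (L2_le (U2_mem hk))

/-- the product of three transversal elements has order exactly `n` -/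
def witOK (r j k n : ℕ) : Bool :=
  withNat (fld trT0 pw r) fun A => withNat (fld trT1 pw j) fun B =>
  withNat (fld trT2 pw k) fun C =>
    powFix [A, B, C] n && allBelow n fun m => m == 0 || !powFix [A, B, C] m

theorem orderOf_of_witOK {r j k n : ℕ} (hr : r < 315) (hj : j < 160) (hk : k < 12) (hn : 0 < n)
    (h : witOK r j k n = true) : orderOf (U0 r * U1 j * U2 k) = n := by
  unfold witOK at h
  rw [withNat_eq, withNat_eq, withNat_eq, Bool.and_eq_true, allBelow_eq_true] at h
  obtain ⟨h1, h2⟩ := h
  rw [orderOf_eq_iff hn]
  refine ⟨(powFix_triple hr hj hk n).1 h1, fun m hm hm0 hp => ?_⟩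
  have h3 := h2 m hm
  rw [Bool.or_eq_true, beq_iff_eq, Bool.not_eq_true'] at h3
  rcases h3 with h0 | h0
  · omega
  · rw [(powFix_triple hr hj hk m).2 hp] at h0
    exact Bool.noConfusion h0

/-- the conjugacy certificate: for every coset `i` the element `U1 j * U2 k` with the indices of
the certificate maps the point of the coset `i` to the point of the representative coset -/
def orbOK : Bool :=
  allBelow 315 fun i =>
    withNat (fld j2CertJ 8 i) fun j => withNat (fld j2CertK 4 i) fun k =>
    withNat (fld j2CertR 4 i) fun ρ =>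
      decide (j < 160) && (decide (k < 12) && (decide (ρ < 6) &&
        (look (fld trT1 pw j) (look (fld trT2 pw k) (trPts0.getD i 999)) ==
          trPts0.getD (j2R.getD ρ 0) 999)))

theorem orbOK_spec (h : orbOK = true) (i : ℕ) (hi : i < 315) :
    fld j2CertJ 8 i < 160 ∧ fld j2CertK 4 i < 12 ∧ fld j2CertR 4 i < 6 ∧
      look (fld trT1 pw (fld j2CertJ 8 i)) (look (fld trT2 pw (fld j2CertK 4 i))
        (trPts0.getD i 999)) = trPts0.getD (j2R.getD (fld j2CertR 4 i) 0) 999 := by
  unfold orbOK at h
  rw [allBelow_eq_true] at h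
  have := h i hi
  rw [withNat_eq, withNat_eq, withNat_eq, Bool.and_eq_true, Bool.and_eq_true, Bool.and_eq_true,
    decide_eq_true_eq, decide_eq_true_eq, decide_eq_true_eq, beq_iff_eq] at this
  exact this

end Cfsg.Agent.Helper91.J2Spec
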