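import Cfsg.Agent.Helper91.J2SpecCheck

/-!
# Kernel checks for the spectrum of the Hall–Janko group, part A
-/

set_option autoImplicit false

namespace Cfsg.Agent.Helper91.J2Spec

theorem spec_chk0 : specOK 0 960 = true := by decide +kernel

theorem spec_chk1 : specOK 960 960 = true := by decide +kernel

theorem spec_chk2 : specOK 1920 960 = true := by decide +kernel

theorem spec_chk3 : specOK 2880 960 = true := by decide +kernel

theorem orb_ok : orbOK = true := by decide +kernel

end Cfsg.Agent.Helper91.J2Spec
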