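import Cfsg.Agent.Helper91.J2SpecCheck

/-!
# Kernel checks for the spectrum of the Hall–Janko group, part B
-/

set_option autoImplicit false

namespace Cfsg.Agent.Helper91.J2Spec

theorem spec_chk4 : specOK 3840 960 = true := by decide +kernel

theorem spec_chk5 : specOK 4800 960 = true := by decide +kernel

theorem spec_chk6 : specOK 5760 960 = true := by decide +kernel

theorem spec_chk7 : specOK 6720 960 = true := by decide +kernel

end Cfsg.Agent.Helper91.J2Spec
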