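import Cfsg.Agent.Helper91.J2SpecCheck

/-!
# Kernel checks for the spectrum of the Hall–Janko group, part C
-/

set_option autoImplicit false

namespace Cfsg.Agent.Helper91.J2Spec

theorem spec_chk8 : specOK 7680 960 = true := by decide +kernel

theorem spec_chk9 : specOK 8640 960 = true := by decide +kernel

theorem spec_chk10 : specOK 9600 960 = true := by decide +kernel

theorem spec_chk11 : specOK 10560 960 = true := by decide +kernel

end Cfsg.Agent.Helper91.J2Spec
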