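import Cfsg.Agent.Helper91.J2SpecChkA
import Cfsg.Agent.Helper91.J2SpecChkB
import Cfsg.Agent.Helper91.J2SpecChkC
import Cfsg.Agent.Helper7.J2.Bridge

/-!
# The spectrum of the Hall–Janko group

The set of element orders of `J2` is `{1, 2, 3, 4, 5, 6, 7, 8, 10, 12, 15}`.  Every element of the
permutation group `G315` (helper7, helper98) is conjugate under the point stabiliser `L1` to one of
`6 * 1920` candidates; the kernel checks that a suitable power of each candidate is trivial.
-/

set_option autoImplicit false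

namespace Cfsg.Agent.Helper91.J2Spec

open Cfsg.Agent.Helper7.J2 Cfsg.Agent.Helper98.J2

theorem spec_all (e : ℕ) (he : e < 11520) : elOK e = true := by
  rcases Nat.lt_or_ge e 960 with h0 | h0
  · exact specOK_spec spec_chk0 e (by omega) (by omega)
  rcases Nat.lt_or_ge e 1920 with h1 | h1
  · exact specOK_spec spec_chk1 e (by omega) (by omega)
  rcases Nat.lt_or_ge e 2880 with h2 | h2
  · exact specOK_spec spec_chk2 e (by omega) (by omega)
  rcases Nat.lt_or_ge e 3840 with h3 | h3
  · exact specOK_spec spec_chk3 e (by omega) (by omega)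
  rcases Nat.lt_or_ge e 4800 with h4 | h4
  · exact specOK_spec spec_chk4 e (by omega) (by omega)
  rcases Nat.lt_or_ge e 5760 with h5 | h5
  · exact specOK_spec spec_chk5 e (by omega) (by omega)
  rcases Nat.lt_or_ge e 6720 with h6 | h6
  · exact specOK_spec spec_chk6 e (by omega) (by omega)
  rcases Nat.lt_or_ge e 7680 with h7 | h7
  · exact specOK_spec spec_chk7 e (by omega) (by omega)
  rcases Nat.lt_or_ge e 8640 with h8 | h8
  · exact specOK_spec spec_chk8 e (by omega) (by omega)
  rcases Nat.lt_or_ge e 9600 with h9 | h9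
  · exact specOK_spec spec_chk9 e (by omega) (by omega)
  rcases Nat.lt_or_ge e 10560 with h10 | h10
  · exact specOK_spec spec_chk10 e (by omega) (by omega)
  exact specOK_spec spec_chk11 e (by omega) (by omega)

theorem j2R_lt {ρ : ℕ} (h : ρ < 6) : j2R.getD ρ 0 < 315 := by
  interval_cases ρ <;> decide

/-- conjugating an element of the coset `i` into the coset of an orbit representative -/
theorem conj_aux {i j l ja ka r : ℕ} (hi : i < 315) (hj : j < 160) (hl : l < 12) (hJ : ja < 160)
    (hK : ka < 12) (hr : r < 315)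
    (hpt : look (fld trT1 pw ja) (look (fld trT2 pw ka) (trPts0.getD i 999)) =
      trPts0.getD r 999) :
    ∃ j' < 160, ∃ k' < 12,
      (U1 ja * U2 ka) * (U0 i * U1 j * U2 l) * (U1 ja * U2 ka)⁻¹ = U0 r * U1 j' * U2 k' := by
  have hlaL : U1 ja * U2 ka ∈ L1 := L1.mul_mem (U1_mem hJ) (L2_le (U2_mem hK))
  have hmove : (U1 ja * U2 ka) (U0 i b0) = U0 r b0 := by
    apply Fin.ext
    rw [Equiv.Perm.mul_apply, U1_code hJ _, U2_code hK _, U0_b0 hi, hpt, U0_b0 hr]
  have hz : (U0 r)⁻¹ * (U1 ja * U2 ka) * U0 i ∈ L1 := by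
    rw [mem_L1_iff]
    refine ⟨G315.mul_mem (G315.mul_mem (G315.inv_mem (U0_mem hr)) (L1_le hlaL)) (U0_mem hi), ?_⟩
    rw [Equiv.Perm.mul_apply, Equiv.Perm.mul_apply, hmove]
    exact Equiv.Perm.inv_eq_iff_eq.2 rfl
  have hl' : (U0 r)⁻¹ * (U1 ja * U2 ka) * U0 i * (U1 j * U2 l) * (U1 ja * U2 ka)⁻¹ ∈ L1 :=
    L1.mul_mem (L1.mul_mem hz (L1.mul_mem (U1_mem hj) (L2_le (U2_mem hl)))) (L1.inv_mem hlaL)
  obtain ⟨j', hj', k', hk', e⟩ := cover1 _ hl'
  refine ⟨j', hj', k', hk', ?_⟩
  rw [mul_assoc (U0 r), ← e]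
  group

theorem pow_eq_one_of_conj {g x y : P315} (e : g * x * g⁻¹ = y) {n : ℕ} (h : y ^ n = 1) :
    x ^ n = 1 := by
  rw [← e, conj_pow, conj_eq_one_iff] at h
  exact h

/-- a power of every element of `G315` is trivial, with one of five exponents -/
theorem pow_cases {x : P315} (hx : x ∈ G315) :
    x ^ 8 = 1 ∨ x ^ 12 = 1 ∨ x ^ 7 = 1 ∨ x ^ 10 = 1 ∨ x ^ 15 = 1 := by
  obtain ⟨i, hi, j, hj, l, hl, rfl⟩ := cover0 x hx
  obtain ⟨hJ, hK, hR, hpt⟩ := orbOK_spec orb_ok i hi
  generalize fld j2CertR 4 i = ρ at hR hpt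
  have hr := j2R_lt hR
  obtain ⟨j', hj', k', hk', e⟩ := conj_aux hi hj hl hJ hK hr hpt
  have hel := spec_all (1920 * ρ + 12 * j' + k') (by omega)
  have e1 : (1920 * ρ + 12 * j' + k') / 1920 = ρ := by omega
  have e2 : (1920 * ρ + 12 * j' + k') % 1920 / 12 = j' := by omega
  have e3 : (1920 * ρ + 12 * j' + k') % 12 = k' := by omega
  unfold elOK at hel
  rw [withNat_eq, withNat_eq, withNat_eq, e1, e2, e3, Bool.or_eq_true, Bool.or_eq_true,
    Bool.or_eq_true, Bool.or_eq_true, powFix_triple hr hj' hk', powFix_triple hr hj' hk',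
    powFix_triple hr hj' hk', powFix_triple hr hj' hk', powFix_triple hr hj' hk'] at hel
  rcases hel with h | h | h | h | h
  · exact Or.inl (pow_eq_one_of_conj e h)
  · exact Or.inr (Or.inl (pow_eq_one_of_conj e h))
  · exact Or.inr (Or.inr (Or.inl (pow_eq_one_of_conj e h)))
  · exact Or.inr (Or.inr (Or.inr (Or.inl (pow_eq_one_of_conj e h))))
  · exact Or.inr (Or.inr (Or.inr (Or.inr (pow_eq_one_of_conj e h))))

/-- the spectrum of the Hall–Janko group -/
def specJ2 : Set ℕ := {1, 2, 3, 4, 5, 6, 7, 8, 10, 12, 15}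

theorem mem_specJ2_of_dvd {m : ℕ} (h : m ∣ 8 ∨ m ∣ 12 ∨ m ∣ 7 ∨ m ∣ 10 ∨ m ∣ 15) :
    m ∈ specJ2 := by
  unfold specJ2
  rcases h with h | h | h | h | h
  all_goals
    have hle := Nat.le_of_dvd (by norm_num) h
    interval_cases m <;> first | (simp; done) | (exfalso; revert h; decide)

theorem orderOf_mem_specJ2 {x : P315} (hx : x ∈ G315) : orderOf x ∈ specJ2 := by
  apply mem_specJ2_of_dvd
  rcases pow_cases hx with h | h | h | h | h
  · exact Or.inl (orderOf_dvd_of_pow_eq_one h)
  · exact Or.inr (Or.inl (orderOf_dvd_of_pow_eq_one h))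
  · exact Or.inr (Or.inr (Or.inl (orderOf_dvd_of_pow_eq_one h)))
  · exact Or.inr (Or.inr (Or.inr (Or.inl (orderOf_dvd_of_pow_eq_one h))))
  · exact Or.inr (Or.inr (Or.inr (Or.inr (orderOf_dvd_of_pow_eq_one h))))

theorem wit_chk1 : witOK 0 0 0 1 = true := by decide +kernel

theorem wit_chk2 : witOK 0 0 7 2 = true := by decide +kernel

theorem wit_chk3 : witOK 0 0 1 3 = true := by decide +kernel

theorem wit_chk4 : witOK 0 1 0 4 = true := by decide +kernel

theorem wit_chk5 : witOK 0 2 1 5 = true := by decide +kernel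

theorem wit_chk6 : witOK 0 1 1 6 = true := by decide +kernel

theorem wit_chk7 : witOK 45 2 2 7 = true := by decide +kernel

theorem wit_chk8 : witOK 0 2 2 8 = true := by decide +kernel

theorem wit_chk10 : witOK 0 2 3 10 = true := by decide +kernel

theorem wit_chk12 : witOK 0 2 0 12 = true := by decide +kernel

theorem wit_chk15 : witOK 101 1 11 15 = true := by decide +kernel

theorem exists_orderOf {n : ℕ} (hn : n ∈ specJ2) : ∃ x ∈ G315, orderOf x = n := by
  unfold specJ2 at hn
  simp only [Set.mem_insert_iff, Set.mem_singleton_iff] at hn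
  rcases hn with rfl | rfl | rfl | rfl | rfl | rfl | rfl | rfl | rfl | rfl | rfl
  · exact ⟨_, triple_mem (by norm_num) (by norm_num) (by norm_num),
      orderOf_of_witOK (by norm_num) (by norm_num) (by norm_num) (by norm_num) wit_chk1⟩
  · exact ⟨_, triple_mem (by norm_num) (by norm_num) (by norm_num),
      orderOf_of_witOK (by norm_num) (by norm_num) (by norm_num) (by norm_num) wit_chk2⟩
  · exact ⟨_, triple_mem (by norm_num) (by norm_num) (by norm_num),
      orderOf_of_witOK (by norm_num) (by norm_num) (by norm_num) (by norm_num) wit_chk3⟩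
  · exact ⟨_, triple_mem (by norm_num) (by norm_num) (by norm_num),
      orderOf_of_witOK (by norm_num) (by norm_num) (by norm_num) (by norm_num) wit_chk4⟩
  · exact ⟨_, triple_mem (by norm_num) (by norm_num) (by norm_num),
      orderOf_of_witOK (by norm_num) (by norm_num) (by norm_num) (by norm_num) wit_chk5⟩
  · exact ⟨_, triple_mem (by norm_num) (by norm_num) (by norm_num),
      orderOf_of_witOK (by norm_num) (by norm_num) (by norm_num) (by norm_num) wit_chk6⟩
  · exact ⟨_, triple_mem (by norm_num) (by norm_num) (by norm_num),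
      orderOf_of_witOK (by norm_num) (by norm_num) (by norm_num) (by norm_num) wit_chk7⟩
  · exact ⟨_, triple_mem (by norm_num) (by norm_num) (by norm_num),
      orderOf_of_witOK (by norm_num) (by norm_num) (by norm_num) (by norm_num) wit_chk8⟩
  · exact ⟨_, triple_mem (by norm_num) (by norm_num) (by norm_num),
      orderOf_of_witOK (by norm_num) (by norm_num) (by norm_num) (by norm_num) wit_chk10⟩
  · exact ⟨_, triple_mem (by norm_num) (by norm_num) (by norm_num),
      orderOf_of_witOK (by norm_num) (by norm_num) (by norm_num) (by norm_num) wit_chk12⟩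
  · exact ⟨_, triple_mem (by norm_num) (by norm_num) (by norm_num),
      orderOf_of_witOK (by norm_num) (by norm_num) (by norm_num) (by norm_num) wit_chk15⟩

/-- the set of element orders of the permutation group `G315` -/
theorem range_orderOf_G315 :
    Set.range (orderOf : ↥G315 → ℕ) = {1, 2, 3, 4, 5, 6, 7, 8, 10, 12, 15} := by
  show _ = specJ2
  ext n
  constructor
  · rintro ⟨x, rfl⟩
    rw [← Subgroup.orderOf_coe]
    exact orderOf_mem_specJ2 x.2
  · intro hn
    obtain ⟨x, hx, e⟩ := exists_orderOf hn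
    exact ⟨⟨x, hx⟩, by rw [← Subgroup.orderOf_coe]; exact e⟩

/-- the set of element orders of the Hall–Janko group -/
theorem range_orderOf_J2 :
    Set.range (orderOf : Cfsg.Spor.J2 → ℕ) = {1, 2, 3, 4, 5, 6, 7, 8, 10, 12, 15} := by
  obtain ⟨e, -⟩ := bridge
  rw [← range_orderOf_G315]
  ext n
  constructor
  · rintro ⟨x, rfl⟩
    exact ⟨e x, e.orderOf_eq x⟩
  · rintro ⟨y, rfl⟩
    exact ⟨e.symm y, by rw [← e.orderOf_eq, e.apply_symm_apply]⟩

end Cfsg.Agent.Helper91.J2Spec
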