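import Mathlib
import Cfsg.Agent.S0581

/-!
# Primary parts of nilpotent subgroups (for the Kegel–Wielandt theorem)

For a nilpotent subgroup `X` of a finite group `G` and a prime `p`:
`pp X p` is the set of `p`-elements of `X` (its Sylow `p`-subgroup) and `pc X p` is the set of
`p'`-elements of `X` (its Hall `p'`-subgroup).
-/

set_option autoImplicit false
set_option linter.unusedSectionVars false
set_option linter.style.haveILetI false
open Pointwise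

namespace Cfsg.Agent.Helper91

section parts
variable {G : Type*} [Group G] [Finite G]

theorem exists_ppart (X : Subgroup G) (hX : Group.IsNilpotent X) (p : ℕ) [hp : Fact p.Prime] :
    ∃ P : Subgroup G, (∀ g, g ∈ P ↔ g ∈ X ∧ ∃ k : ℕ, g ^ (p ^ k) = 1) ∧ IsPGroup p P ∧
      ¬ p ∣ P.relIndex X := by
  haveI := hX
  let P₀ : Sylow p X := default
  have hn : (P₀ : Subgroup X).Normal := inferInstance
  haveI hu : Unique (Sylow p X) := Sylow.unique_of_normal P₀ hn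
  refine ⟨(P₀ : Subgroup X).map X.subtype, ?_, P₀.2.map _, ?_⟩
  · intro g
    constructor
    · rintro ⟨x, hx, rfl⟩
      refine ⟨x.2, ?_⟩
      obtain ⟨k, hk⟩ := P₀.2 ⟨x, hx⟩
      refine ⟨k, ?_⟩
      have := congrArg (fun y : (P₀ : Subgroup X) => ((y : X) : G)) hk
      simpa using this
    · rintro ⟨hgX, k, hk⟩
      refine ⟨⟨g, hgX⟩, ?_, rfl⟩
      have hz : IsPGroup p (Subgroup.zpowers (⟨g, hgX⟩ : X)) := by
        rintro ⟨y, hy⟩
        obtain ⟨n, rfl⟩ := Subgroup.mem_zpowers_iff.mp hy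
        refine ⟨k, ?_⟩
        apply Subtype.ext
        have h1 : (⟨g, hgX⟩ : X) ^ (p ^ k) = 1 := by
          apply Subtype.ext
          simpa using hk
        simp only [Subgroup.coe_pow, Subgroup.coe_one]
        rw [← zpow_natCast, ← zpow_mul, mul_comm, zpow_mul, zpow_natCast, h1, one_zpow]
      obtain ⟨Q, hQ⟩ := hz.exists_le_sylow
      have hQP : Q = P₀ := Subsingleton.elim _ _
      rw [SetLike.mem_coe, ← hQP]
      exact hQ (Subgroup.mem_zpowers _)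
  · rw [Cfsg.Agent.S0581.relIndex_map_subtype']
    exact P₀.not_dvd_index

/-- The set of `p`-elements of `X` (a subgroup when `X` is nilpotent). -/
def pp (X : Subgroup G) (p : ℕ) : Subgroup G :=
  Subgroup.closure {g | g ∈ X ∧ ∃ k : ℕ, g ^ (p ^ k) = 1}

/-- The set of `p'`-elements of `X` (a subgroup when `X` is nilpotent). -/
def pc (X : Subgroup G) (p : ℕ) : Subgroup G :=
  Subgroup.closure {g | g ∈ X ∧ ¬ p ∣ orderOf g}

theorem pp_spec (X : Subgroup G) (hX : Group.IsNilpotent X) {p : ℕ} (hp : p.Prime) :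
    (∀ g, g ∈ pp X p ↔ g ∈ X ∧ ∃ k : ℕ, g ^ (p ^ k) = 1) ∧ IsPGroup p (pp X p) ∧
      ¬ p ∣ (pp X p).relIndex X := by
  haveI : Fact p.Prime := ⟨hp⟩
  obtain ⟨P, h1, h2, h3⟩ := exists_ppart X hX p
  have : pp X p = P := by
    have hs : {g | g ∈ X ∧ ∃ k : ℕ, g ^ (p ^ k) = 1} = (P : Set G) := by
      ext g; exact (h1 g).symm
    rw [pp, hs, Subgroup.closure_eq]
  rw [this]
  exact ⟨h1, h2, h3⟩

theorem pc_spec (X : Subgroup G) (hX : Group.IsNilpotent X) {p : ℕ} (hp : p.Prime) :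
    (∀ g, g ∈ pc X p ↔ g ∈ X ∧ ¬ p ∣ orderOf g) ∧ ∃ k : ℕ, (pc X p).relIndex X = p ^ k := by
  haveI : Fact p.Prime := ⟨hp⟩
  obtain ⟨T, h1, h2⟩ := Cfsg.Agent.S0581.exists_pcompl X hX p
  have : pc X p = T := by
    have hs : {g | g ∈ X ∧ ¬ p ∣ orderOf g} = (T : Set G) := by
      ext g; exact (h1 g).symm
    rw [pc, hs, Subgroup.closure_eq]
  rw [this]
  exact ⟨h1, h2⟩

theorem mem_pp {X : Subgroup G} (hX : Group.IsNilpotent X) {p : ℕ} (hp : p.Prime) {g : G} :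
    g ∈ pp X p ↔ g ∈ X ∧ ∃ k : ℕ, g ^ (p ^ k) = 1 := (pp_spec X hX hp).1 g

theorem mem_pc {X : Subgroup G} (hX : Group.IsNilpotent X) {p : ℕ} (hp : p.Prime) {g : G} :
    g ∈ pc X p ↔ g ∈ X ∧ ¬ p ∣ orderOf g := (pc_spec X hX hp).1 g

theorem pp_le (X : Subgroup G) (p : ℕ) : pp X p ≤ X := by
  rw [pp, Subgroup.closure_le]
  intro g hg
  exact hg.1

theorem pc_le (X : Subgroup G) (p : ℕ) : pc X p ≤ X := by
  rw [pc, Subgroup.closure_le]
  intro g hg
  exact hg.1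

theorem isPGroup_pp {X : Subgroup G} (hX : Group.IsNilpotent X) {p : ℕ} (hp : p.Prime) :
    IsPGroup p (pp X p) := (pp_spec X hX hp).2.1

theorem orderOf_conj_eq (n g : G) : orderOf (n * g * n⁻¹) = orderOf g := by
  rw [← MulAut.conj_apply]
  exact MulEquiv.orderOf_eq _ _

theorem kw_conj_pow_eq (n g : G) (k : ℕ) : (n * g * n⁻¹) ^ k = n * g ^ k * n⁻¹ := by
  rw [← MulAut.conj_apply, ← map_pow, MulAut.conj_apply]

/-- Anything that maps `X` into `X` by conjugation maps `pp X p` into itself. -/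
theorem conj_mem_pp {X : Subgroup G} (hX : Group.IsNilpotent X) {p : ℕ} (hp : p.Prime) {n : G}
    (hn : ∀ g ∈ X, n * g * n⁻¹ ∈ X) {g : G} (hg : g ∈ pp X p) : n * g * n⁻¹ ∈ pp X p := by
  rw [mem_pp hX hp] at hg ⊢
  obtain ⟨h1, k, hk⟩ := hg
  refine ⟨hn g h1, k, ?_⟩
  rw [kw_conj_pow_eq, hk]
  group

theorem conj_mem_pc {X : Subgroup G} (hX : Group.IsNilpotent X) {p : ℕ} (hp : p.Prime) {n : G}
    (hn : ∀ g ∈ X, n * g * n⁻¹ ∈ X) {g : G} (hg : g ∈ pc X p) : n * g * n⁻¹ ∈ pc X p := by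
  rw [mem_pc hX hp] at hg ⊢
  exact ⟨hn g hg.1, by rw [orderOf_conj_eq]; exact hg.2⟩

theorem pp_inf_pc {X : Subgroup G} (hX : Group.IsNilpotent X) {p : ℕ} (hp : p.Prime) :
    pp X p ⊓ pc X p = ⊥ := by
  rw [eq_bot_iff]
  intro g hg
  rw [Subgroup.mem_inf, mem_pp hX hp, mem_pc hX hp] at hg
  obtain ⟨⟨_, k, hk⟩, _, h2⟩ := hg
  rw [Subgroup.mem_bot]
  have h3 : orderOf g ∣ p ^ k := orderOf_dvd_of_pow_eq_one hk
  obtain ⟨j, _, hj⟩ := (Nat.dvd_prime_pow hp).mp h3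
  rw [hj] at h2
  cases j with
  | zero => rw [pow_zero] at hj; exact orderOf_eq_one_iff.mp hj
  | succ j => exact absurd (dvd_pow_self p (Nat.succ_ne_zero j)) h2

theorem commute_pp_pc {X : Subgroup G} (hX : Group.IsNilpotent X) {p : ℕ} (hp : p.Prime) {u v : G}
    (hu : u ∈ pp X p) (hv : v ∈ pc X p) : u * v = v * u := by
  have hvX : v ∈ X := pc_le X p hv
  have huX : u ∈ X := pp_le X p hu
  have h1 : u * v * u⁻¹ * v⁻¹ ∈ pp X p ⊓ pc X p := by
    refine Subgroup.mem_inf.2 ⟨?_, ?_⟩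
    · have : v * u⁻¹ * v⁻¹ ∈ pp X p :=
        conj_mem_pp hX hp (fun g hg => X.mul_mem (X.mul_mem hvX hg) (X.inv_mem hvX))
          ((pp X p).inv_mem hu)
      have h2 := (pp X p).mul_mem hu this
      simpa [mul_assoc] using h2
    · have : u * v * u⁻¹ ∈ pc X p :=
        conj_mem_pc hX hp (fun g hg => X.mul_mem (X.mul_mem huX hg) (X.inv_mem huX)) hv
      exact (pc X p).mul_mem this ((pc X p).inv_mem hv)
  rw [pp_inf_pc hX hp, Subgroup.mem_bot] at h1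
  have : u * v = (u * v * u⁻¹ * v⁻¹) * (v * u) := by group
  rw [this, h1, one_mul]

/-- Every element of `X` is a product of its `p`-part and its `p'`-part (both powers of it). -/
theorem exists_pow_pp_mul_pc {X : Subgroup G} (hX : Group.IsNilpotent X) {p : ℕ} (hp : p.Prime) {x : G}
    (hx : x ∈ X) : ∃ c d : ℕ, x ^ c ∈ pp X p ∧ x ^ d ∈ pc X p ∧ x = x ^ c * x ^ d := by
  have hpos : 0 < orderOf x := orderOf_pos x
  obtain ⟨a, m, hm, hnm⟩ := Nat.exists_eq_pow_mul_and_not_dvd hpos.ne' p hp.ne_one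
  have hcop : Nat.Coprime (p ^ a) m := Nat.Coprime.pow_left _ ((Nat.Prime.coprime_iff_not_dvd hp).mpr hm)
  -- Bezout
  have hmpos : 0 < m := by
    rcases Nat.eq_zero_or_pos m with h | h
    · rw [h, mul_zero] at hnm; omega
    · exact h
  have hpapos : 0 < p ^ a := pow_pos hp.pos a
  obtain ⟨c, hc1, hc2⟩ : ∃ c : ℕ, c ≡ 1 [MOD p ^ a] ∧ c ≡ 0 [MOD m] := by
    let c := Nat.chineseRemainder hcop 1 0
    exact ⟨c.1, c.2.1, c.2.2⟩
  obtain ⟨d, hd1, hd2⟩ : ∃ d : ℕ, d ≡ 0 [MOD p ^ a] ∧ d ≡ 1 [MOD m] := by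
    let d := Nat.chineseRemainder hcop 0 1
    exact ⟨d.1, d.2.1, d.2.2⟩
  have hcd : c + d ≡ 1 [MOD orderOf x] := by
    rw [hnm]
    apply (Nat.modEq_and_modEq_iff_modEq_mul hcop).mp
    constructor
    · have := Nat.ModEq.add hc1 hd1
      simpa using this
    · have := Nat.ModEq.add hc2 hd2
      simpa using this
  refine ⟨c, d, ?_, ?_, ?_⟩
  · rw [mem_pp hX hp]
    refine ⟨X.pow_mem hx c, a, ?_⟩
    rw [← pow_mul]
    apply orderOf_dvd_iff_pow_eq_one.mp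
    rw [hnm]
    have hmc : m ∣ c := (Nat.modEq_zero_iff_dvd).mp hc2
    obtain ⟨t, ht⟩ := hmc
    rw [ht]
    exact ⟨t, by ring⟩
  · rw [mem_pc hX hp]
    refine ⟨X.pow_mem hx d, ?_⟩
    intro hdvd
    have h1 : (x ^ d) ^ m = 1 := by
      rw [← pow_mul]
      apply orderOf_dvd_iff_pow_eq_one.mp
      rw [hnm]
      have hpd : p ^ a ∣ d := (Nat.modEq_zero_iff_dvd).mp hd1
      obtain ⟨t, ht⟩ := hpd
      rw [ht]
      exact ⟨t, by ring⟩
    have h2 : orderOf (x ^ d) ∣ m := orderOf_dvd_of_pow_eq_one h1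
    exact hm (dvd_trans hdvd h2)
  · rw [← pow_add]
    have h1 : x ^ (c + d) = x ^ 1 := pow_eq_pow_iff_modEq.mpr hcd
    rw [h1, pow_one]

theorem exists_pp_mul_pc {X : Subgroup G} (hX : Group.IsNilpotent X) {p : ℕ} (hp : p.Prime) {x : G}
    (hx : x ∈ X) : ∃ u ∈ pp X p, ∃ v ∈ pc X p, x = u * v := by
  obtain ⟨c, d, h1, h2, h3⟩ := exists_pow_pp_mul_pc hX hp hx
  exact ⟨x ^ c, h1, x ^ d, h2, h3⟩

end parts

end Cfsg.Agent.Helper91
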