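import Mathlib
import Cfsg.Agent.Helper91.KWParts
import Cfsg.Agent.S0559
import Cfsg.Agent.S0562
import Cfsg.Agent.S0566
import Cfsg.Agent.Helper67.KWRel

/-!
# Kegel–Wielandt, coprime case: basic setup

`KWPair H K`: `G = HK` with `H`, `K` nilpotent of coprime orders, neither of prime power order.
`KWMin G`: `G` is a minimal counterexample (simple, non-solvable, every proper subgroup that is a
product of two nilpotent subgroups of coprime orders is solvable).
-/

set_option autoImplicit false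
set_option linter.unusedSectionVars false
set_option linter.style.haveILetI false
open Pointwise

namespace Cfsg.Agent.Helper91

universe u

section basic
variable {G : Type u} [Group G] [Finite G]

/-- further facts on parts -/
theorem pp_ne_bot {X : Subgroup G} (hX : Group.IsNilpotent X) {p : ℕ} (hp : p.Prime)
    (hdvd : p ∣ Nat.card X) : pp X p ≠ ⊥ := by
  haveI : Fact p.Prime := ⟨hp⟩
  obtain ⟨x, hx⟩ := exists_prime_orderOf_dvd_card' p hdvd
  intro hbot
  have hmem : (x : G) ∈ pp X p := by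
    rw [mem_pp hX hp]
    refine ⟨x.2, 1, ?_⟩
    rw [pow_one]
    have h1 : x ^ p = 1 := by rw [← hx]; exact pow_orderOf_eq_one x
    have := congrArg (fun z : X => (z : G)) h1
    simpa using this
  rw [hbot, Subgroup.mem_bot] at hmem
  have h2 : orderOf (x : G) = 1 := by rw [hmem, orderOf_one]
  rw [Subgroup.orderOf_coe, hx] at h2
  exact hp.one_lt.ne' h2

theorem exists_prime_ne_dvd {n p : ℕ} (hn : 0 < n) (hnp : ∀ k : ℕ, n ≠ p ^ k) :
    ∃ r : ℕ, r.Prime ∧ r ≠ p ∧ r ∣ n := by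
  by_contra hcon
  push Not at hcon
  apply hnp (n.factorization p)
  apply Nat.eq_pow_of_factorization_eq_single hn.ne'
  ext q
  by_cases hq : q = p
  · subst hq; simp
  · rw [Finsupp.single_apply, if_neg (Ne.symm hq)]
    by_cases hqp : q.Prime
    · apply Nat.factorization_eq_zero_of_not_dvd
      intro hd
      exact hq (hcon q hqp |>.mt (fun h => h hd) |> fun h => by
        by_contra hne
        exact (hcon q hqp hne) hd)
    · exact Nat.factorization_eq_zero_of_not_prime n hqp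

theorem pp_le_pc {X : Subgroup G} (hX : Group.IsNilpotent X) {p r : ℕ} (hp : p.Prime)
    (hr : r.Prime) (hne : r ≠ p) : pp X r ≤ pc X p := by
  intro g hg
  rw [mem_pp hX hr] at hg
  rw [mem_pc hX hp]
  refine ⟨hg.1, ?_⟩
  obtain ⟨k, hk⟩ := hg.2
  intro hd
  have h1 : p ∣ r ^ k := dvd_trans hd (orderOf_dvd_of_pow_eq_one hk)
  have h2 : p ∣ r := hp.dvd_of_dvd_pow h1
  exact hne ((Nat.prime_dvd_prime_iff_eq hp hr).mp h2).symm

theorem pc_ne_bot {X : Subgroup G} (hX : Group.IsNilpotent X) {p : ℕ} (hp : p.Prime)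
    (hnp : ∀ k : ℕ, Nat.card X ≠ p ^ k) : pc X p ≠ ⊥ := by
  obtain ⟨r, hr, hne, hd⟩ := exists_prime_ne_dvd Nat.card_pos hnp
  intro hbot
  have h1 : pp X r ≤ ⊥ := hbot ▸ pp_le_pc hX hp hr hne
  exact pp_ne_bot hX hr hd (le_bot_iff.mp h1)

theorem pc_le_centralizer_pp {X : Subgroup G} (hX : Group.IsNilpotent X) {p : ℕ} (hp : p.Prime) :
    pc X p ≤ Subgroup.centralizer (pp X p : Set G) := by
  intro v hv
  rw [Subgroup.mem_centralizer_iff]
  intro u hu
  exact commute_pp_pc hX hp hu hv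

theorem pp_le_centralizer_pc {X : Subgroup G} (hX : Group.IsNilpotent X) {p : ℕ} (hp : p.Prime) :
    pp X p ≤ Subgroup.centralizer (pc X p : Set G) := by
  intro u hu
  rw [Subgroup.mem_centralizer_iff]
  intro v hv
  exact (commute_pp_pc hX hp hu hv).symm

theorem not_dvd_card_pc {X : Subgroup G} (hX : Group.IsNilpotent X) {p : ℕ} (hp : p.Prime) :
    ¬ p ∣ Nat.card (pc X p) := by
  haveI : Fact p.Prime := ⟨hp⟩
  intro hd
  obtain ⟨x, hx⟩ := exists_prime_orderOf_dvd_card' p hd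
  have h1 : (x : G) ∈ pc X p := x.2
  rw [mem_pc hX hp] at h1
  apply h1.2
  rw [Subgroup.orderOf_coe, hx]

/-- Hall property of `pp`. -/
theorem pp_hall {X : Subgroup G} (hX : Group.IsNilpotent X) {p : ℕ} (hp : p.Prime)
    (hHall : (Nat.card X).Coprime X.index) : (Nat.card (pp X p)).Coprime (pp X p).index := by
  haveI : Fact p.Prime := ⟨hp⟩
  obtain ⟨k, hk⟩ := (isPGroup_pp hX hp).exists_card_eq
  rw [hk]
  cases k with
  | zero => simp
  | succ k =>
    apply Nat.Coprime.pow_left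
    rw [Nat.Prime.coprime_iff_not_dvd hp]
    have h1 : (pp X p).relIndex X * X.index = (pp X p).index :=
      Subgroup.relIndex_mul_index (pp_le X p)
    rw [← h1]
    intro hd
    rcases (Nat.Prime.dvd_mul hp).mp hd with h | h
    · exact (pp_spec X hX hp).2.2 h
    · have h2 : p ∣ Nat.card X := by
        have : Nat.card (pp X p) ∣ Nat.card X := Subgroup.card_dvd_of_le (pp_le X p)
        rw [hk] at this
        exact dvd_trans (dvd_pow_self p (Nat.succ_ne_zero k)) this
      exact (Nat.Prime.coprime_iff_not_dvd hp).mp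
        (Nat.Coprime.coprime_dvd_left h2 hHall) h

/-- Hall property of `pc`. -/
theorem pc_hall {X : Subgroup G} (hX : Group.IsNilpotent X) {p : ℕ} (hp : p.Prime)
    (hHall : (Nat.card X).Coprime X.index) : (Nat.card (pc X p)).Coprime (pc X p).index := by
  obtain ⟨k, hk⟩ := (pc_spec X hX hp).2
  have h1 : (pc X p).relIndex X * X.index = (pc X p).index :=
    Subgroup.relIndex_mul_index (pc_le X p)
  rw [← h1, hk]
  apply Nat.Coprime.mul_right
  · apply Nat.Coprime.pow_right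
    exact ((Nat.Prime.coprime_iff_not_dvd hp).mpr (not_dvd_card_pc hX hp)).symm
  · exact Nat.Coprime.coprime_dvd_left (Subgroup.card_dvd_of_le (pc_le X p)) hHall

end basic

section kw
variable {G : Type u} [Group G] [Finite G]

structure KWPair (H K : Subgroup G) : Prop where
  nilH : Group.IsNilpotent H
  nilK : Group.IsNilpotent K
  cop : (Nat.card H).Coprime (Nat.card K)
  fac : ∀ g : G, ∃ h ∈ H, ∃ k ∈ K, g = h * k
  npH : ∀ (p k : ℕ), p.Prime → Nat.card H ≠ p ^ k
  npK : ∀ (p k : ℕ), p.Prime → Nat.card K ≠ p ^ k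

structure KWMin (G : Type u) [Group G] [Finite G] : Prop where
  simple : ∀ N : Subgroup G, N.Normal → N = ⊥ ∨ N = ⊤
  nonsolv : ¬ Group.IsSolvable G
  ih : ∀ (L H₁ K₁ : Subgroup G), L ≠ ⊤ → H₁ ≤ L → K₁ ≤ L → Group.IsNilpotent H₁ →
    Group.IsNilpotent K₁ → (Nat.card H₁).Coprime (Nat.card K₁) →
    (∀ g ∈ L, ∃ h ∈ H₁, ∃ k ∈ K₁, g = h * k) → Group.IsSolvable L

theorem fac_symm {L H₁ K₁ : Subgroup G} (h : ∀ g ∈ L, ∃ h ∈ H₁, ∃ k ∈ K₁, g = h * k) :
    ∀ g ∈ L, ∃ k ∈ K₁, ∃ h ∈ H₁, g = k * h := by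
  intro g hg
  obtain ⟨a, ha, b, hb, hab⟩ := h g⁻¹ (L.inv_mem hg)
  refine ⟨b⁻¹, K₁.inv_mem hb, a⁻¹, H₁.inv_mem ha, ?_⟩
  rw [← mul_inv_rev, ← hab, inv_inv]

theorem inf_eq_bot_of_cop {H₁ K₁ : Subgroup G} (hc : (Nat.card H₁).Coprime (Nat.card K₁)) :
    H₁ ⊓ K₁ = ⊥ := Subgroup.inf_eq_bot_of_coprime hc

/-- Cardinality of a coprime product. -/
theorem card_of_fac {L H₁ K₁ : Subgroup G} (hH : H₁ ≤ L) (hK : K₁ ≤ L)
    (hc : (Nat.card H₁).Coprime (Nat.card K₁))
    (h : ∀ g ∈ L, ∃ h ∈ H₁, ∃ k ∈ K₁, g = h * k) :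
    Nat.card L = Nat.card H₁ * Nat.card K₁ := by
  rw [← Nat.card_prod]
  symm
  let f : H₁ × K₁ → L := fun x => ⟨x.1 * x.2, L.mul_mem (hH x.1.2) (hK x.2.2)⟩
  apply Nat.card_congr (Equiv.ofBijective f ⟨?_, ?_⟩)
  · rintro ⟨⟨a, ha⟩, ⟨b, hb⟩⟩ ⟨⟨a', ha'⟩, ⟨b', hb'⟩⟩ hf
    have hf' : a * b = a' * b' := congrArg (fun z : L => (z : G)) hf
    have h1 : a'⁻¹ * a = b' * b⁻¹ := by
      have : a'⁻¹ * (a * b) * b⁻¹ = a'⁻¹ * (a' * b') * b⁻¹ := by rw [hf']
      simpa [mul_assoc] using this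
    have h2 : a'⁻¹ * a ∈ H₁ ⊓ K₁ :=
      Subgroup.mem_inf.2 ⟨H₁.mul_mem (H₁.inv_mem ha') ha, h1 ▸ K₁.mul_mem hb' (K₁.inv_mem hb)⟩
    rw [inf_eq_bot_of_cop hc, Subgroup.mem_bot] at h2
    have h3 : a = a' := by
      have := congrArg (fun z => a' * z) h2
      simpa using this
    subst h3
    have h4 : b = b' := mul_left_cancel hf'
    subst h4
    rfl
  · rintro ⟨g, hg⟩
    obtain ⟨a, ha, b, hb, hab⟩ := h g hg
    exact ⟨(⟨a, ha⟩, ⟨b, hb⟩), Subtype.ext hab.symm⟩

namespace KWPair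
variable {H K : Subgroup G}

theorem symm (hp : KWPair H K) : KWPair K H where
  nilH := hp.nilK
  nilK := hp.nilH
  cop := hp.cop.symm
  fac := by
    have := fac_symm (L := ⊤) (H₁ := H) (K₁ := K) (fun g _ => hp.fac g)
    intro g
    exact this g (Subgroup.mem_top g)
  npH := hp.npK
  npK := hp.npH

theorem card_eq (hp : KWPair H K) : Nat.card G = Nat.card H * Nat.card K := by
  have := card_of_fac (L := ⊤) (H₁ := H) (K₁ := K) le_top le_top hp.cop (fun g _ => hp.fac g)
  rwa [Subgroup.card_top] at this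

theorem index_H (hp : KWPair H K) : H.index = Nat.card K := by
  have h1 := hp.card_eq
  have h2 : Nat.card H * H.index = Nat.card G := Subgroup.card_mul_index H
  rw [h1] at h2
  exact Nat.eq_of_mul_eq_mul_left Nat.card_pos h2

theorem hallH (hp : KWPair H K) : (Nat.card H).Coprime H.index := by
  rw [hp.index_H]; exact hp.cop

theorem hallK (hp : KWPair H K) : (Nat.card K).Coprime K.index := hp.symm.hallH

/-- conjugating the second factor -/
theorem conj_right (hp : KWPair H K) (y : G) : KWPair H (MulAut.conj y • K) where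
  nilH := hp.nilH
  nilK := Cfsg.Agent.S0581.nilpotent_smul y K hp.nilK
  cop := by
    have : Nat.card (MulAut.conj y • K : Subgroup G) = Nat.card K :=
      Nat.card_congr (Subgroup.equivSMul (MulAut.conj y) K).toEquiv.symm
    rw [this]; exact hp.cop
  fac := (Cfsg.Agent.S0559.result H K H (MulAut.conj y • K) hp.fac ⟨1, by simp⟩ ⟨y, rfl⟩).1
  npH := hp.npH
  npK := by
    have : Nat.card (MulAut.conj y • K : Subgroup G) = Nat.card K :=
      Nat.card_congr (Subgroup.equivSMul (MulAut.conj y) K).toEquiv.symm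
    rw [this]; exact hp.npK

theorem H_ne_bot (hp : KWPair H K) : H ≠ ⊥ := by
  intro h
  apply hp.npH 2 0 Nat.prime_two
  rw [h, Subgroup.card_bot, pow_zero]

theorem H_ne_top (hp : KWPair H K) : H ≠ ⊤ := by
  intro h
  have h1 := hp.card_eq
  rw [h, Subgroup.card_top] at h1
  have h2 : Nat.card K = 1 := by
    have hpos : 0 < Nat.card G := Nat.card_pos
    nlinarith [Nat.eq_of_mul_eq_mul_left hpos (by rw [mul_one]; exact h1 : Nat.card G * 1 = Nat.card G * Nat.card K)]
  apply hp.npK 2 0 Nat.prime_two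
  rw [h2, pow_zero]

end KWPair

namespace KWMin

theorem normal_eq_top (hm : KWMin G) {N : Subgroup G} (hN : N.Normal) (h1 : N ≠ ⊥) : N = ⊤ :=
  (hm.simple N hN).resolve_left h1

theorem center_eq_bot (hm : KWMin G) : Subgroup.center G = ⊥ := by
  by_contra h
  have h1 := hm.normal_eq_top (inferInstance : (Subgroup.center G).Normal) h
  apply hm.nonsolv
  exact Group.isSolvable_of_comm (fun a b => by
    have ha : a ∈ Subgroup.center G := h1 ▸ Subgroup.mem_top a
    exact (Subgroup.mem_center_iff.mp ha b).symm)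

/-- A nontrivial subgroup whose normalizer is everything is everything. -/
theorem eq_top_of_normalizer (hm : KWMin G) {Y : Subgroup G} (h1 : Y ≠ ⊥)
    (hn : ∀ g : G, ∀ y ∈ Y, g * y * g⁻¹ ∈ Y) : Y = ⊤ :=
  hm.normal_eq_top ⟨fun y hy g => hn g y hy⟩ h1

end KWMin

end kw

end Cfsg.Agent.Helper91
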