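import Mathlib
import Cfsg.Agent.Helper91.KWBasic

/-!
# Kegel–Wielandt, coprime case: generation lemmas in a minimal counterexample
-/

set_option autoImplicit false
set_option linter.unusedSectionVars false
set_option linter.style.haveILetI false
open Pointwise

namespace Cfsg.Agent.Helper91

universe u

section gen
variable {G : Type u} [Group G] [Finite G]

theorem smul_eq_of_forall_conj_mem {B : Subgroup G} {k : G} (h : ∀ b ∈ B, k * b * k⁻¹ ∈ B) :
    MulAut.conj k • B = B := by
  have hle : MulAut.conj k • B ≤ B := by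
    intro x hx
    obtain ⟨b, hb, rfl⟩ := Subgroup.mem_smul_pointwise_iff_exists _ _ _ |>.mp hx
    simpa [MulAut.smul_def] using h b hb
  apply Subgroup.eq_of_le_of_card_ge hle
  rw [Nat.card_congr (Subgroup.equivSMul (MulAut.conj k) B).toEquiv.symm]

theorem mem_conj_smul_iff {B : Subgroup G} {k g : G} :
    g ∈ MulAut.conj k • B ↔ k⁻¹ * g * k ∈ B := by
  rw [Subgroup.mem_pointwise_smul_iff_inv_smul_mem]
  simp [MulAut.smul_def]

theorem conj_inv_mem_of_forall {B : Subgroup G} {k : G} (h : ∀ b ∈ B, k * b * k⁻¹ ∈ B) {b : G}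
    (hb : b ∈ B) : k⁻¹ * b * k ∈ B := by
  have h1 := smul_eq_of_forall_conj_mem h
  have h2 : b ∈ MulAut.conj k • B := by rw [h1]; exact hb
  exact mem_conj_smul_iff.mp h2

/-- **T2**: a subgroup containing `K` and a nontrivial central element of `H` is everything. -/
theorem gen_central (hm : KWMin G) {H K : Subgroup G} (hp : KWPair H K) {z : G} (hzH : z ∈ H)
    (hz1 : z ≠ 1) (hzc : ∀ h ∈ H, h * z = z * h) {X : Subgroup G} (hK : K ≤ X) (hzX : z ∈ X) :
    X = ⊤ := by
  have h1 : Subgroup.normalClosure ({z} : Set G) ≤ X := by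
    rw [Subgroup.normalClosure, Subgroup.closure_le]
    intro x hx
    rw [Group.mem_conjugatesOfSet_iff] at hx
    obtain ⟨a, ha, hax⟩ := hx
    rw [Set.mem_singleton_iff] at ha
    subst ha
    obtain ⟨g, hg⟩ := isConj_iff.mp hax
    obtain ⟨k, hk, h, hh, hgkh⟩ := fac_symm (L := ⊤) (fun g _ => hp.fac g) g (Subgroup.mem_top g)
    have h2 : g * a * g⁻¹ = k * a * k⁻¹ := by
      rw [hgkh]
      have := hzc h hh
      calc k * h * a * (k * h)⁻¹ = k * (h * a) * h⁻¹ * k⁻¹ := by group
        _ = k * (a * h) * h⁻¹ * k⁻¹ := by rw [this]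
        _ = k * a * k⁻¹ := by group
    rw [← hg, h2]
    exact X.mul_mem (X.mul_mem (hK hk) hzX) (X.inv_mem (hK hk))
  have h3 : Subgroup.normalClosure ({z} : Set G) ≠ ⊥ := by
    intro hb
    have : z ∈ Subgroup.normalClosure ({z} : Set G) :=
      Subgroup.subset_normalClosure (Set.mem_singleton z)
    rw [hb, Subgroup.mem_bot] at this
    exact hz1 this
  have h4 := hm.normal_eq_top Subgroup.normalClosure_normal h3
  rw [h4] at h1
  exact top_le_iff.mp h1

/-- **T3**: nontrivial normal Hall pieces of the two factors generate `G`. -/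
theorem gen_hall (hm : KWMin G) {H K : Subgroup G} (hp : KWPair H K) (A B : Subgroup G)
    (hA : A ≤ H) (hAn : ∀ h ∈ H, ∀ a ∈ A, h * a * h⁻¹ ∈ A) (hA1 : A ≠ ⊥)
    (hAh : (Nat.card A).Coprime A.index)
    (hB : B ≤ K) (hBn : ∀ k ∈ K, ∀ b ∈ B, k * b * k⁻¹ ∈ B) (hB1 : B ≠ ⊥)
    (hBh : (Nat.card B).Coprime B.index) : A ⊔ B = ⊤ := by
  set L := Subgroup.normalizer ((A ⊔ B : Subgroup G) : Set G) with hL
  have hAn' : (A.subgroupOf H).Normal :=
    ⟨fun a ha h => by
      rw [Subgroup.mem_subgroupOf] at ha ⊢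
      simpa using hAn h h.2 a ha⟩
  have hBn' : (B.subgroupOf K).Normal :=
    ⟨fun a ha h => by
      rw [Subgroup.mem_subgroupOf] at ha ⊢
      simpa using hBn h h.2 a ha⟩
  have hfac := Cfsg.Agent.S0562.result H K A B hp.fac hA hAn' hB hBn'
  have hJ1 : A ⊔ B ≠ ⊥ := fun h => hA1 (le_bot_iff.mp (h ▸ le_sup_left))
  by_cases hLt : L = ⊤
  · have hn : (A ⊔ B).Normal := Subgroup.normalizer_eq_top_iff.mp hLt
    exact hm.normal_eq_top hn hJ1
  · have hJL : A ⊔ B ≤ L := Subgroup.le_normalizer
    have hsol : Group.IsSolvable L :=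
      hm.ih L (L ⊓ H) (L ⊓ K) hLt inf_le_left inf_le_left
        (Cfsg.Agent.S0581.nilpotent_of_le inf_le_right hp.nilH)
        (Cfsg.Agent.S0581.nilpotent_of_le inf_le_right hp.nilK)
        (Nat.Coprime.coprime_dvd_left (Subgroup.card_dvd_of_le inf_le_right)
          (Nat.Coprime.coprime_dvd_right (Subgroup.card_dvd_of_le inf_le_right) hp.cop))
        hfac
    obtain ⟨S, hS⟩ := Cfsg.Agent.Helper67.KWRel.s0561_rel L (L ⊓ H) (L ⊓ K) A B hsol inf_le_left
      inf_le_left hfac (le_inf (le_trans le_sup_left hJL) hA)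
      (fun h hh a ha => hAn h hh.2 a ha) (le_inf (le_trans le_sup_right hJL) hB)
      (fun k hk b hb => hBn k hk.2 b hb)
      (Nat.Coprime.coprime_dvd_right (Subgroup.relIndex_dvd_index_of_le (le_trans le_sup_left hJL)) hAh)
      (Nat.Coprime.coprime_dvd_right (Subgroup.relIndex_dvd_index_of_le (le_trans le_sup_right hJL)) hBh)
    have hSle : S ≤ A ⊔ B := by
      intro x hx
      have : x ∈ (S : Set G) := hx
      rw [hS] at this
      obtain ⟨a, ha, b, hb, rfl⟩ := this
      exact (A ⊔ B).mul_mem (le_sup_left (a := A) ha) (le_sup_right (b := B) hb)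
    by_cases hSt : S = ⊤
    · rw [hSt] at hSle
      exact top_le_iff.mp hSle
    · exfalso
      have key : ∀ x : G, ∃ S' : Subgroup G, S' ≠ ⊤ ∧
          (S' : Set G) = (A : Set G) * ((MulAut.conj x • B : Subgroup G) : Set G) := by
        intro x
        obtain ⟨h, hh, k, hk, hx⟩ := hp.fac x
        refine ⟨MulAut.conj h • S, ?_, ?_⟩
        · intro ht
          apply hSt
          have : MulAut.conj h⁻¹ • (MulAut.conj h • S) = MulAut.conj h⁻¹ • (⊤ : Subgroup G) := by
            rw [ht]
          rw [smul_smul, ← map_mul, inv_mul_cancel, map_one, one_smul] at this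
          rw [this, eq_top_iff]
          intro y _
          rw [mem_conj_smul_iff]
          exact Subgroup.mem_top _
        · ext g
          constructor
          · intro hg
            have hg' : h⁻¹ * g * h ∈ S := mem_conj_smul_iff.mp hg
            have : h⁻¹ * g * h ∈ (S : Set G) := hg'
            rw [hS] at this
            obtain ⟨a, ha, b, hb, hab⟩ := this
            refine ⟨h * a * h⁻¹, hAn h hh a ha, h * b * h⁻¹, ?_, ?_⟩
            · rw [SetLike.mem_coe, mem_conj_smul_iff, hx]
              have : (h * k)⁻¹ * (h * b * h⁻¹) * (h * k) = k⁻¹ * b * k := by group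
              rw [this]
              exact conj_inv_mem_of_forall (hBn k hk) hb
            · have hab' : a * b = h⁻¹ * g * h := hab
              calc h * a * h⁻¹ * (h * b * h⁻¹) = h * (a * b) * h⁻¹ := by group
                _ = g := by rw [hab']; group
          · rintro ⟨a, ha, c, hc, rfl⟩
            rw [SetLike.mem_coe, mem_conj_smul_iff, hx] at hc
            rw [SetLike.mem_coe, mem_conj_smul_iff]
            have h1 : h⁻¹ * a * h ∈ A := conj_inv_mem_of_forall (hAn h hh) ha
            have h2 : h⁻¹ * c * h ∈ B := by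
              have := hBn k hk _ hc
              have e : k * ((h * k)⁻¹ * c * (h * k)) * k⁻¹ = h⁻¹ * c * h := by group
              rwa [e] at this
            have : h⁻¹ * (a * c) * h ∈ (S : Set G) := by
              rw [hS]
              exact ⟨h⁻¹ * a * h, h1, h⁻¹ * c * h, h2, by group⟩
            exact this
      obtain ⟨N, hN, hNt, hNle⟩ := Cfsg.Agent.S0566.result A B hA1 hB1 key
      have hNb : N = ⊥ := (hm.simple N hN).resolve_right hNt
      rcases hNle with h | h
      · exact hA1 (le_bot_iff.mp (hNb ▸ h))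
      · exact hB1 (le_bot_iff.mp (hNb ▸ h))

end gen

end Cfsg.Agent.Helper91
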