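import Mathlib
import Cfsg.Agent.Helper91.KWGen
import Cfsg.Agent.Helper10.Basic

/-!
# Kegel–Wielandt, coprime case: normalizers of Sylow parts
-/

set_option autoImplicit false
set_option linter.unusedSectionVars false
set_option linter.style.haveILetI false
open Pointwise

namespace Cfsg.Agent.Helper91

universe u

section norm
variable {G : Type u} [Group G] [Finite G]

/-- `n` conjugates `X` into itself. -/
def Nz (n : G) (X : Subgroup G) : Prop := ∀ x ∈ X, n * x * n⁻¹ ∈ X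

theorem Nz.inv {n : G} {X : Subgroup G} (h : Nz n X) : Nz n⁻¹ X := by
  intro x hx
  have := conj_inv_mem_of_forall h hx
  simpa using this

theorem Nz.mul {n m : G} {X : Subgroup G} (hn : Nz n X) (hm : Nz m X) : Nz (n * m) X := by
  intro x hx
  have := hn _ (hm x hx)
  have e : n * m * x * (n * m)⁻¹ = n * (m * x * m⁻¹) * n⁻¹ := by group
  rw [e]; exact this

theorem Nz.of_mem {n : G} {X : Subgroup G} (h : n ∈ X) : Nz n X :=
  fun x hx => X.mul_mem (X.mul_mem h hx) (X.inv_mem h)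

theorem Nz.mem_normalizer {n : G} {X : Subgroup G} (h : Nz n X) :
    n ∈ Subgroup.normalizer (X : Set G) :=
  Cfsg.Agent.Helper10.mem_normalizer_of_finite X n h

theorem nz_of_mem_normalizer {n : G} {X : Subgroup G} (h : n ∈ Subgroup.normalizer (X : Set G)) :
    Nz n X := fun x hx => (Subgroup.mem_normalizer_iff.mp h x).mp hx

theorem Nz.pp {n : G} {X : Subgroup G} (hX : Group.IsNilpotent X) {p : ℕ} (hp : p.Prime)
    (h : Nz n X) : Nz n (pp X p) := fun _ hx => conj_mem_pp hX hp h hx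

theorem Nz.pc {n : G} {X : Subgroup G} (hX : Group.IsNilpotent X) {p : ℕ} (hp : p.Prime)
    (h : Nz n X) : Nz n (pc X p) := fun _ hx => conj_mem_pc hX hp h hx

variable {H K : Subgroup G}

theorem gen_pp_pc (hm : KWMin G) (hp : KWPair H K) {p q : ℕ} (hpP : p.Prime) (hqP : q.Prime)
    (hpd : p ∣ Nat.card H) : pp H p ⊔ pc K q = ⊤ :=
  gen_hall hm hp (pp H p) (pc K q) (pp_le H p)
    (fun _ hh _ ha => (Nz.of_mem hh).pp hp.nilH hpP _ ha) (pp_ne_bot hp.nilH hpP hpd)
    (pp_hall hp.nilH hpP hp.hallH) (pc_le K q)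
    (fun _ hk _ hb => (Nz.of_mem hk).pc hp.nilK hqP _ hb)
    (pc_ne_bot hp.nilK hqP (fun k => hp.npK q k hqP)) (pc_hall hp.nilK hqP hp.hallK)

theorem gen_pc_pc (hm : KWMin G) (hp : KWPair H K) {p q : ℕ} (hpP : p.Prime) (hqP : q.Prime) :
    pc H p ⊔ pc K q = ⊤ :=
  gen_hall hm hp (pc H p) (pc K q) (pc_le H p)
    (fun _ hh _ ha => (Nz.of_mem hh).pc hp.nilH hpP _ ha)
    (pc_ne_bot hp.nilH hpP (fun k => hp.npH p k hpP))
    (pc_hall hp.nilH hpP hp.hallH) (pc_le K q)
    (fun _ hk _ hb => (Nz.of_mem hk).pc hp.nilK hqP _ hb)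
    (pc_ne_bot hp.nilK hqP (fun k => hp.npK q k hqP)) (pc_hall hp.nilK hqP hp.hallK)

theorem gen_pc_pp (hm : KWMin G) (hp : KWPair H K) {p q : ℕ} (hpP : p.Prime) (hqP : q.Prime)
    (hqd : q ∣ Nat.card K) : pc H p ⊔ pp K q = ⊤ := by
  have := gen_pp_pc hm hp.symm hqP hpP hqd
  rwa [sup_comm] at this

/-- **F1**: no nontrivial element of `K` centralizes a nontrivial Sylow part of `H`. -/
theorem eq_one_of_commute_pp (hm : KWMin G) (hp : KWPair H K) {p : ℕ} (hpP : p.Prime)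
    (hpd : p ∣ Nat.card H) {k : G} (hk : k ∈ K) (hc : ∀ u ∈ pp H p, k * u = u * k) : k = 1 := by
  by_contra hk1
  have ho : orderOf k ≠ 1 := fun h => hk1 (orderOf_eq_one_iff.mp h)
  obtain ⟨q, hqP, hqd⟩ := Nat.exists_prime_and_dvd ho
  set y := k ^ (orderOf k / q) with hy
  have hyo : orderOf y = q := orderOf_pow_orderOf_div (orderOf_pos k).ne' hqd
  have hyK : y ∈ K := K.pow_mem hk _
  have hyq : y ∈ pp K q := by
    rw [mem_pp hp.nilK hqP]
    refine ⟨hyK, 1, ?_⟩
    rw [pow_one, ← hyo]; exact pow_orderOf_eq_one y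
  have h1 : pp H p ≤ Subgroup.centralizer ({y} : Set G) := by
    intro u hu
    rw [Subgroup.mem_centralizer_iff]
    intro z hz
    rw [Set.mem_singleton_iff] at hz
    subst hz
    have : Commute k u := hc u hu
    exact (this.pow_left _).eq
  have h2 : pc K q ≤ Subgroup.centralizer ({y} : Set G) := by
    intro v hv
    rw [Subgroup.mem_centralizer_iff]
    intro z hz
    rw [Set.mem_singleton_iff] at hz
    subst hz
    exact commute_pp_pc hp.nilK hqP hyq hv
  have h3 : Subgroup.centralizer ({y} : Set G) = ⊤ := by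
    rw [eq_top_iff, ← gen_pp_pc hm hp hpP hqP hpd]
    exact sup_le h1 h2
  have h4 : y ∈ Subgroup.center G := by
    rw [Subgroup.mem_center_iff]
    intro g
    have : g ∈ Subgroup.centralizer ({y} : Set G) := h3 ▸ Subgroup.mem_top g
    rw [Subgroup.mem_centralizer_iff] at this
    exact (this y (Set.mem_singleton y)).symm
  rw [hm.center_eq_bot, Subgroup.mem_bot] at h4
  rw [h4, orderOf_one] at hyo
  exact hqP.one_lt.ne hyo

/-- The centralizer of a nontrivial Sylow part of `H` lies in `H`. -/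
theorem mem_of_commute_pp (hm : KWMin G) (hp : KWPair H K) {p : ℕ} (hpP : p.Prime)
    (hpd : p ∣ Nat.card H) {c : G} (hc : ∀ u ∈ pp H p, c * u = u * c) : c ∈ H := by
  obtain ⟨h, hh, k, hk, hchk⟩ := hp.fac c
  have hNz : Nz h⁻¹ (pp H p) := (Nz.of_mem (H.inv_mem hh)).pp hp.nilH hpP
  have hrel : ∀ u ∈ pp H p, k * u * k⁻¹ = h⁻¹ * u * h := by
    intro u hu
    have := hc u hu
    rw [hchk] at this
    have e : k * u * k⁻¹ = h⁻¹ * (h * k * u) * k⁻¹ := by group
    rw [e, this]; group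
  have hpow : ∀ j : ℕ, ∀ u ∈ pp H p, k ^ j * u * (k ^ j)⁻¹ = (h⁻¹) ^ j * u * ((h⁻¹) ^ j)⁻¹ := by
    intro j
    induction j with
    | zero => intro u _; simp
    | succ j ih =>
      intro u hu
      have h1 : (h⁻¹) ^ j * u * ((h⁻¹) ^ j)⁻¹ ∈ pp H p := by
        have hN : Nz ((h⁻¹) ^ j) (pp H p) :=
          (Nz.of_mem (H.pow_mem (H.inv_mem hh) j)).pp hp.nilH hpP
        exact hN u hu
      have e1 : k ^ (j + 1) * u * (k ^ (j + 1))⁻¹ = k * (k ^ j * u * (k ^ j)⁻¹) * k⁻¹ := by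
        rw [pow_succ']; group
      rw [e1, ih u hu, hrel _ h1, pow_succ']
      group
  have hcop : (orderOf h).Coprime (orderOf k) := by
    have h1 : orderOf h ∣ Nat.card H := by
      have := orderOf_dvd_natCard (⟨h, hh⟩ : H)
      rwa [Subgroup.orderOf_mk] at this
    have h2 : orderOf k ∣ Nat.card K := by
      have := orderOf_dvd_natCard (⟨k, hk⟩ : K)
      rwa [Subgroup.orderOf_mk] at this
    exact Nat.Coprime.coprime_dvd_left h1 (Nat.Coprime.coprime_dvd_right h2 hp.cop)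
  obtain ⟨i, hi1, hi2⟩ : ∃ i : ℕ, i ≡ 0 [MOD orderOf h] ∧ i ≡ 1 [MOD orderOf k] := by
    let d := Nat.chineseRemainder hcop 0 1
    exact ⟨d.1, d.2.1, d.2.2⟩
  have hki : k ^ i = k := by
    have : k ^ i = k ^ 1 := pow_eq_pow_iff_modEq.mpr hi2
    rwa [pow_one] at this
  have hhi : (h⁻¹) ^ i = 1 := by
    rw [inv_pow]
    have : h ^ i = h ^ 0 := pow_eq_pow_iff_modEq.mpr hi1
    rw [this, pow_zero, inv_one]
  have hkc : ∀ u ∈ pp H p, k * u = u * k := by
    intro u hu
    have := hpow i u hu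
    rw [hki, hhi] at this
    have e : k * u = (k * u * k⁻¹) * k := by group
    rw [e, this]; group
  have hk1 := eq_one_of_commute_pp hm hp hpP hpd hk hkc
  rw [hchk, hk1, mul_one]
  exact hh

/-- **F2**: whatever normalizes a nontrivial Sylow part of `H` normalizes `H`. -/
theorem nz_of_nz_pp (hm : KWMin G) (hp : KWPair H K) {p : ℕ} (hpP : p.Prime)
    (hpd : p ∣ Nat.card H) {n : G} (hn : Nz n (pp H p)) : Nz n H := by
  have hv : ∀ v ∈ pc H p, n * v * n⁻¹ ∈ pc H p := by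
    intro v hv
    have hcomm : ∀ u ∈ pp H p, (n * v * n⁻¹) * u = u * (n * v * n⁻¹) := by
      intro u hu
      have hu' : n⁻¹ * u * n ∈ pp H p := by
        have := hn.inv u hu
        simpa using this
      have := commute_pp_pc hp.nilH hpP hu' hv
      have e1 : n * v * n⁻¹ * u = n * (v * (n⁻¹ * u * n)) * n⁻¹ := by group
      have e2 : u * (n * v * n⁻¹) = n * ((n⁻¹ * u * n) * v) * n⁻¹ := by group
      rw [e1, e2, this]
    have hH : n * v * n⁻¹ ∈ H := mem_of_commute_pp hm hp hpP hpd hcomm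
    rw [mem_pc hp.nilH hpP] at hv ⊢
    exact ⟨hH, by rw [orderOf_conj_eq]; exact hv.2⟩
  intro h hh
  obtain ⟨u, hu, v, hv', rfl⟩ := exists_pp_mul_pc hp.nilH hpP hh
  have e : n * (u * v) * n⁻¹ = (n * u * n⁻¹) * (n * v * n⁻¹) := by group
  rw [e]
  exact H.mul_mem (pp_le H p (hn u hu)) (pc_le H p (hv v hv'))

end norm

end Cfsg.Agent.Helper91
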