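import Mathlib
import Cfsg.Agent.Helper91.KWNorm
import Cfsg.Agent.Helper91.PSolvNorm
import Cfsg.Agent.Helper70.PSolvable
import Cfsg.Agent.Lib.Cores

/-!
# Kegel–Wielandt, coprime case: `{p,s}`-subgroups and centralizers of central elements
-/

set_option autoImplicit false
set_option linter.unusedSectionVars false
set_option linter.style.haveILetI false
open Pointwise

namespace Cfsg.Agent.Helper91

universe u

section cent
variable {G : Type u} [Group G] [Finite G]

theorem card_subgroupOf_eq {A S : Subgroup G} (h : A ≤ S) :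
    Nat.card (A.subgroupOf S) = Nat.card A :=
  Nat.card_congr (Subgroup.subgroupOfEquivOfLe h).toEquiv

theorem card_mul_relIndex_eq {A S : Subgroup G} (h : A ≤ S) :
    Nat.card A * A.relIndex S = Nat.card S := by
  rw [Subgroup.relIndex, ← card_subgroupOf_eq h]
  exact Subgroup.card_mul_index _

/-- A `p`-subgroup of `S` of index prime to `p` contains (the image of) `O_p(S)`. -/
theorem pCore_map_le {S Q : Subgroup G} {s : ℕ} (hs : s.Prime) (hQS : Q ≤ S) (hQ : IsPGroup s Q)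
    (hidx : ¬ s ∣ Q.relIndex S) : (Cfsg.pCore s ↥S).map S.subtype ≤ Q := by
  haveI : Fact s.Prime := ⟨hs⟩
  have hQ' : IsPGroup s (Q.subgroupOf S) :=
    hQ.of_equiv (Subgroup.subgroupOfEquivOfLe hQS).symm
  have hidx' : ¬ s ∣ (Q.subgroupOf S).index := hidx
  have h1 := Cfsg.Agent.Lib.pCore_le_sylow (hQ'.toSylow hidx')
  rintro _ ⟨x, hx, rfl⟩
  have h2 := h1 hx
  rw [IsPGroup.toSylow_coe, Subgroup.mem_subgroupOf] at h2
  exact h2

/-- Hall property of `pp`, relative version. -/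
theorem pp_hall_rel {X L : Subgroup G} (hX : Group.IsNilpotent X) {p : ℕ} (hp : p.Prime)
    (hXL : X ≤ L) (hHall : (Nat.card X).Coprime (X.relIndex L)) :
    (Nat.card (pp X p)).Coprime ((pp X p).relIndex L) := by
  haveI : Fact p.Prime := ⟨hp⟩
  obtain ⟨k, hk⟩ := (isPGroup_pp hX hp).exists_card_eq
  rw [hk]
  cases k with
  | zero => simp
  | succ k =>
    apply Nat.Coprime.pow_left
    rw [Nat.Prime.coprime_iff_not_dvd hp]
    have h1 : (pp X p).relIndex X * X.relIndex L = (pp X p).relIndex L :=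
      Subgroup.relIndex_mul_relIndex _ _ _ (pp_le X p) hXL
    rw [← h1]
    intro hd
    rcases (Nat.Prime.dvd_mul hp).mp hd with h | h
    · exact (pp_spec X hX hp).2.2 h
    · have h2 : p ∣ Nat.card X := by
        have : Nat.card (pp X p) ∣ Nat.card X := Subgroup.card_dvd_of_le (pp_le X p)
        rw [hk] at this
        exact dvd_trans (dvd_pow_self p (Nat.succ_ne_zero k)) this
      exact (Nat.Prime.coprime_iff_not_dvd hp).mp
        (Nat.Coprime.coprime_dvd_left h2 hHall) h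

variable {H K : Subgroup G}

theorem ne_of_dvd_dvd (hp : KWPair H K) {p s : ℕ} (hpP : p.Prime) (hpd : p ∣ Nat.card H)
    (hsd : s ∣ Nat.card K) : p ≠ s := by
  rintro rfl
  have := Nat.Coprime.eq_one_of_dvd (Nat.Coprime.coprime_dvd_right hsd hp.cop |>.symm) hpd
  · exact hpP.one_lt.ne' this

theorem K_ne_top (hp : KWPair H K) : K ≠ ⊤ := hp.symm.H_ne_top

/-- Data of a `{p,s}`-subgroup `S = P · K_s` with `P ≤ H_p`. -/
structure PSData (H K : Subgroup G) (p s : ℕ) (S P : Subgroup G) : Prop where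
  hpP : p.Prime
  hsP : s.Prime
  hpd : p ∣ Nat.card H
  hsd : s ∣ Nat.card K
  hP : P ≤ pp H p
  hS : (S : Set G) = (P : Set G) * (pp K s : Set G)

namespace PSData
variable {p s : ℕ} {S P : Subgroup G}

theorem P_le (d : PSData H K p s S P) : P ≤ S := by
  intro x hx
  have : x ∈ (S : Set G) := by rw [d.hS]; exact ⟨x, hx, 1, Subgroup.one_mem _, mul_one x⟩
  exact this

theorem Q_le (d : PSData H K p s S P) : pp K s ≤ S := by
  intro x hx
  have : x ∈ (S : Set G) := by rw [d.hS]; exact ⟨1, Subgroup.one_mem _, x, hx, one_mul x⟩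
  exact this

theorem isP (hp : KWPair H K) (d : PSData H K p s S P) : IsPGroup p P :=
  (isPGroup_pp hp.nilH d.hpP).to_le d.hP

theorem cop (hp : KWPair H K) (d : PSData H K p s S P) :
    (Nat.card P).Coprime (Nat.card (pp K s)) := by
  haveI : Fact p.Prime := ⟨d.hpP⟩
  haveI : Fact s.Prime := ⟨d.hsP⟩
  obtain ⟨a, ha⟩ := (d.isP hp).exists_card_eq
  obtain ⟨b, hb⟩ := (isPGroup_pp hp.nilK d.hsP).exists_card_eq
  rw [ha, hb]
  apply Nat.Coprime.pow
  exact (Nat.coprime_primes d.hpP d.hsP).mpr (ne_of_dvd_dvd hp d.hpP d.hpd d.hsd)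

theorem card_S (hp : KWPair H K) (d : PSData H K p s S P) :
    Nat.card S = Nat.card P * Nat.card (pp K s) :=
  card_of_fac d.P_le d.Q_le (d.cop hp) (fun g hg => by
    have : g ∈ (S : Set G) := hg
    rw [d.hS] at this
    obtain ⟨a, ha, b, hb, hab⟩ := this
    exact ⟨a, ha, b, hb, hab.symm⟩)

theorem relIndex_P (hp : KWPair H K) (d : PSData H K p s S P) :
    P.relIndex S = Nat.card (pp K s) := by
  have h1 := card_mul_relIndex_eq d.P_le
  rw [d.card_S hp] at h1
  exact Nat.eq_of_mul_eq_mul_left Nat.card_pos h1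

theorem relIndex_Q (hp : KWPair H K) (d : PSData H K p s S P) :
    (pp K s).relIndex S = Nat.card P := by
  have h1 := card_mul_relIndex_eq d.Q_le
  rw [d.card_S hp, mul_comm] at h1
  exact Nat.eq_of_mul_eq_mul_right Nat.card_pos h1

theorem not_dvd_relIndex_P (hp : KWPair H K) (d : PSData H K p s S P) : ¬ p ∣ P.relIndex S := by
  haveI : Fact s.Prime := ⟨d.hsP⟩
  rw [d.relIndex_P hp]
  obtain ⟨b, hb⟩ := (isPGroup_pp hp.nilK d.hsP).exists_card_eq
  rw [hb]
  intro h
  have := d.hpP.dvd_of_dvd_pow h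
  exact ne_of_dvd_dvd hp d.hpP d.hpd d.hsd ((Nat.prime_dvd_prime_iff_eq d.hpP d.hsP).mp this)

theorem not_dvd_relIndex_Q (hp : KWPair H K) (d : PSData H K p s S P) :
    ¬ s ∣ (pp K s).relIndex S := by
  haveI : Fact p.Prime := ⟨d.hpP⟩
  rw [d.relIndex_Q hp]
  obtain ⟨a, ha⟩ := (d.isP hp).exists_card_eq
  rw [ha]
  intro h
  have := d.hsP.dvd_of_dvd_pow h
  exact ne_of_dvd_dvd hp d.hpP d.hpd d.hsd ((Nat.prime_dvd_prime_iff_eq d.hsP d.hpP).mp this).symm

/-- `O_p(S) = 1`. -/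
theorem pCore_eq_bot (hm : KWMin G) (hp : KWPair H K) (d : PSData H K p s S P) :
    Cfsg.pCore p ↥S = ⊥ := by
  set Y := (Cfsg.pCore p ↥S).map S.subtype with hY
  have hYP : Y ≤ P := pCore_map_le d.hpP d.P_le (d.isP hp) (d.not_dvd_relIndex_P hp)
  have hYH : Y ≤ pp H p := le_trans hYP d.hP
  haveI hcn : (Cfsg.pCore p ↥S).Normal :=
    Subgroup.normal_of_characteristic _ (h := Cfsg.Agent.Lib.pCore_characteristic p)
  have hnS : ∀ g ∈ S, Nz g Y := by
    intro g hg y hy
    obtain ⟨x, hx, rfl⟩ := hy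
    refine ⟨(⟨g, hg⟩ : S) * x * (⟨g, hg⟩ : S)⁻¹, hcn.conj_mem x hx _, by simp⟩
  have h1 : pc H p ≤ Subgroup.normalizer (Y : Set G) := by
    intro v hv
    apply Nz.mem_normalizer
    intro y hy
    have := commute_pp_pc hp.nilH d.hpP (hYH hy) hv
    have e : v * y * v⁻¹ = y := by rw [← this]; group
    rw [e]; exact hy
  have h2 : pp K s ≤ Subgroup.normalizer (Y : Set G) :=
    fun g hg => (hnS g (d.Q_le hg)).mem_normalizer
  have h3 : Subgroup.normalizer (Y : Set G) = ⊤ := by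
    rw [eq_top_iff, ← gen_pc_pp hm hp d.hpP d.hsP d.hsd]
    exact sup_le h1 h2
  have hYn : Y.Normal := Subgroup.normalizer_eq_top_iff.mp h3
  have hYb : Y = ⊥ := by
    rcases hm.simple Y hYn with h | h
    · exact h
    · exfalso
      apply hp.H_ne_top
      rw [eq_top_iff, ← h]
      exact le_trans hYH (pp_le H p)
  rw [hY] at hYb
  exact (Subgroup.map_eq_bot_iff_of_injective _ S.subtype_injective).mp hYb

/-- If `S` contains a nontrivial central element of `H` then `O_s(S) = 1`. -/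
theorem sCore_eq_bot (hm : KWMin G) (hp : KWPair H K) (d : PSData H K p s S P) {z : G}
    (hzH : z ∈ H) (hz1 : z ≠ 1) (hzc : ∀ h ∈ H, h * z = z * h) (hzS : z ∈ S) :
    Cfsg.pCore s ↥S = ⊥ := by
  set Y := (Cfsg.pCore s ↥S).map S.subtype with hY
  have hYQ : Y ≤ pp K s :=
    pCore_map_le d.hsP d.Q_le (isPGroup_pp hp.nilK d.hsP) (d.not_dvd_relIndex_Q hp)
  haveI hcn : (Cfsg.pCore s ↥S).Normal :=
    Subgroup.normal_of_characteristic _ (h := Cfsg.Agent.Lib.pCore_characteristic s)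
  have hnS : ∀ g ∈ S, Nz g Y := by
    intro g hg y hy
    obtain ⟨x, hx, rfl⟩ := hy
    refine ⟨(⟨g, hg⟩ : S) * x * (⟨g, hg⟩ : S)⁻¹, hcn.conj_mem x hx _, by simp⟩
  have h1 : K ≤ Subgroup.normalizer (Y : Set G) := by
    intro k hk
    obtain ⟨u, hu, v, hv, rfl⟩ := exists_pp_mul_pc hp.nilK d.hsP hk
    apply Subgroup.mul_mem
    · exact (hnS u (d.Q_le hu)).mem_normalizer
    · apply Nz.mem_normalizer
      intro y hy
      have := commute_pp_pc hp.nilK d.hsP (hYQ hy) hv
      have e : v * y * v⁻¹ = y := by rw [← this]; group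
      rw [e]; exact hy
  have h3 : Subgroup.normalizer (Y : Set G) = ⊤ :=
    gen_central hm hp hzH hz1 hzc h1 (hnS z hzS).mem_normalizer
  have hYn : Y.Normal := Subgroup.normalizer_eq_top_iff.mp h3
  have hYb : Y = ⊥ := by
    rcases hm.simple Y hYn with h | h
    · exact h
    · exfalso
      apply K_ne_top hp
      rw [eq_top_iff, ← h]
      exact le_trans hYQ (pp_le K s)
  rw [hY] at hYb
  exact (Subgroup.map_eq_bot_iff_of_injective _ S.subtype_injective).mp hYb

/-- `O_{p'}(S)` is an `s`-group. -/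
theorem isPGroup_pPrimeCore (hp : KWPair H K) (d : PSData H K p s S P) :
    IsPGroup s (Cfsg.pPrimeCore p ↥S) := by
  haveI : Fact p.Prime := ⟨d.hpP⟩
  haveI : Fact s.Prime := ⟨d.hsP⟩
  obtain ⟨a, ha⟩ := (d.isP hp).exists_card_eq
  obtain ⟨b, hb⟩ := (isPGroup_pp hp.nilK d.hsP).exists_card_eq
  have h1 : Nat.card (Cfsg.pPrimeCore p ↥S) ∣ p ^ a * s ^ b := by
    have := Subgroup.card_subgroup_dvd_card (Cfsg.pPrimeCore p ↥S)
    rwa [d.card_S hp, ha, hb] at this
  have h2 : (Nat.card (Cfsg.pPrimeCore p ↥S)).Coprime (p ^ a) :=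
    Nat.Coprime.pow_right a (Cfsg.Agent.Lib.card_pPrimeCore_coprime p)
  have h3 : Nat.card (Cfsg.pPrimeCore p ↥S) ∣ s ^ b := Nat.Coprime.dvd_of_dvd_mul_left h2 h1
  obtain ⟨j, _, hj⟩ := (Nat.dvd_prime_pow d.hsP).mp h3
  exact IsPGroup.of_card hj

/-- There is no solvable `{p,s}`-subgroup `P · K_s` containing a nontrivial central element
of `H`. -/
theorem no_central (hm : KWMin G) (hp : KWPair H K) (d : PSData H K p s S P)
    (hsol : Group.IsSolvable S) {z : G}
    (hzH : z ∈ H) (hz1 : z ≠ 1) (hzc : ∀ h ∈ H, h * z = z * h) (hzS : z ∈ S) : False := by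
  haveI : Fact p.Prime := ⟨d.hpP⟩
  haveI := hsol
  haveI : Nontrivial S := ⟨⟨⟨z, hzS⟩, 1, fun h => hz1 (congrArg (fun x : S => (x : G)) h)⟩⟩
  have hps : Cfsg.IsPSolvable p S := Cfsg.Agent.Helper70.isPSolvable_of_isSolvable p
  rcases pCore_ne_bot_or_pPrimeCore_ne_bot hps with h | h
  · exact h (d.pCore_eq_bot hm hp)
  · apply h
    haveI : (Cfsg.pPrimeCore p ↥S).Normal :=
      Subgroup.normal_of_characteristic _ (h := Cfsg.Agent.Lib.pPrimeCore_characteristic p)
    have := Cfsg.Agent.Lib.le_pCore (inferInstance : (Cfsg.pPrimeCore p ↥S).Normal)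
      (d.isPGroup_pPrimeCore hp)
    rw [d.sCore_eq_bot hm hp hzH hz1 hzc hzS] at this
    exact le_bot_iff.mp this

end PSData

end cent

end Cfsg.Agent.Helper91
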