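import Mathlib
import Cfsg.Agent.Helper91.KWCent

/-!
# Kegel–Wielandt, coprime case: centralizers of central elements and fusion
-/

set_option autoImplicit false
set_option linter.unusedSectionVars false
set_option linter.style.haveILetI false
open Pointwise

namespace Cfsg.Agent.Helper91

universe u

section fus
variable {G : Type u} [Group G] [Finite G] {H K : Subgroup G}

theorem dvd_card_of_mem_pp (hp : KWPair H K) {p : ℕ} (hpP : p.Prime) {z : G} (hz : z ∈ pp H p)
    (hz1 : z ≠ 1) : p ∣ Nat.card H := by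
  rw [mem_pp hp.nilH hpP] at hz
  obtain ⟨hzH, k, hk⟩ := hz
  have h1 : orderOf z ∣ p ^ k := orderOf_dvd_of_pow_eq_one hk
  obtain ⟨j, _, hj⟩ := (Nat.dvd_prime_pow hpP).mp h1
  have h2 : orderOf z ∣ Nat.card H := by
    have := orderOf_dvd_natCard (⟨z, hzH⟩ : H)
    rwa [Subgroup.orderOf_mk] at this
  cases j with
  | zero => rw [pow_zero] at hj; exact absurd (orderOf_eq_one_iff.mp hj) hz1
  | succ j => rw [hj] at h2; exact dvd_trans (dvd_pow_self p (Nat.succ_ne_zero j)) h2

theorem relIndex_inf_left (hp : KWPair H K) {L : Subgroup G}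
    (hfac : ∀ g ∈ L, ∃ h ∈ L ⊓ H, ∃ k ∈ L ⊓ K, g = h * k) :
    (L ⊓ H).relIndex L = Nat.card (L ⊓ K : Subgroup G) := by
  have hc : (Nat.card (L ⊓ H : Subgroup G)).Coprime (Nat.card (L ⊓ K : Subgroup G)) :=
    Nat.Coprime.coprime_dvd_left (Subgroup.card_dvd_of_le inf_le_right)
      (Nat.Coprime.coprime_dvd_right (Subgroup.card_dvd_of_le inf_le_right) hp.cop)
  have h1 := card_of_fac (L := L) inf_le_left inf_le_left hc hfac
  have h2 := card_mul_relIndex_eq (A := L ⊓ H) (S := L) inf_le_left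
  rw [h1] at h2
  exact Nat.eq_of_mul_eq_mul_left Nat.card_pos h2

/-- **(3)**: a nontrivial central `p`-element of `H` and `K_{q'}` generate `G`. -/
theorem gen_central_pc (hm : KWMin G) (hp : KWPair H K) {p q : ℕ} (hpP : p.Prime) (hqP : q.Prime)
    {z : G} (hzH : z ∈ H) (hz1 : z ≠ 1) (hzc : ∀ h ∈ H, h * z = z * h) (hzp : z ∈ pp H p) :
    Subgroup.zpowers z ⊔ pc K q = ⊤ := by
  have hpd : p ∣ Nat.card H := dvd_card_of_mem_pp hp hpP hzp hz1
  set A := Subgroup.zpowers z with hA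
  set B := pc K q with hB
  have hAH : A ≤ H := by rw [hA, Subgroup.zpowers_le]; exact hzH
  have hAn : ∀ h ∈ H, ∀ a ∈ A, h * a * h⁻¹ ∈ A := by
    intro h hh a ha
    obtain ⟨n, rfl⟩ := Subgroup.mem_zpowers_iff.mp ha
    have hc : Commute h z := hzc h hh
    have e : h * z ^ n * h⁻¹ = z ^ n := by
      have := (hc.zpow_right n).eq
      rw [this]; group
    rw [e]; exact Subgroup.zpow_mem_zpowers z n
  have hA1 : A ≠ ⊥ := by
    intro h
    have : z ∈ A := Subgroup.mem_zpowers z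
    rw [h, Subgroup.mem_bot] at this
    exact hz1 this
  have hBn : ∀ k ∈ K, ∀ b ∈ B, k * b * k⁻¹ ∈ B :=
    fun _ hk _ hb => (Nz.of_mem hk).pc hp.nilK hqP _ hb
  have hAn' : (A.subgroupOf H).Normal :=
    ⟨fun a ha h => by
      rw [Subgroup.mem_subgroupOf] at ha ⊢
      simpa using hAn h h.2 a ha⟩
  have hBn' : (B.subgroupOf K).Normal :=
    ⟨fun a ha h => by
      rw [Subgroup.mem_subgroupOf] at ha ⊢
      simpa using hBn h h.2 a ha⟩
  have hfac := Cfsg.Agent.S0562.result H K A B hp.fac hAH hAn' (pc_le K q) hBn'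
  set L := Subgroup.normalizer ((A ⊔ B : Subgroup G) : Set G) with hL
  have hJ1 : A ⊔ B ≠ ⊥ := fun h => hA1 (le_bot_iff.mp (h ▸ le_sup_left))
  by_cases hLt : L = ⊤
  · have hn : (A ⊔ B).Normal := Subgroup.normalizer_eq_top_iff.mp hLt
    exact hm.normal_eq_top hn hJ1
  · exfalso
    have hJL : A ⊔ B ≤ L := Subgroup.le_normalizer
    have hnilH : Group.IsNilpotent (L ⊓ H : Subgroup G) :=
      Cfsg.Agent.S0581.nilpotent_of_le inf_le_right hp.nilH
    have hnilK : Group.IsNilpotent (L ⊓ K : Subgroup G) :=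
      Cfsg.Agent.S0581.nilpotent_of_le inf_le_right hp.nilK
    have hcop : (Nat.card (L ⊓ H : Subgroup G)).Coprime (Nat.card (L ⊓ K : Subgroup G)) :=
      Nat.Coprime.coprime_dvd_left (Subgroup.card_dvd_of_le inf_le_right)
        (Nat.Coprime.coprime_dvd_right (Subgroup.card_dvd_of_le inf_le_right) hp.cop)
    have hsol : Group.IsSolvable L :=
      hm.ih L (L ⊓ H) (L ⊓ K) hLt inf_le_left inf_le_left hnilH hnilK hcop hfac
    obtain ⟨s, hsP, hsq, hsd⟩ := exists_prime_ne_dvd (Nat.card_pos (α := K))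
      (fun k => hp.npK q k hqP)
    have hKsL : pp K s ≤ L := le_trans (pp_le_pc hp.nilK hqP hsP hsq) (le_trans le_sup_right hJL)
    have hzL : z ∈ L := hJL (le_sup_left (a := A) (Subgroup.mem_zpowers z))
    set P := pp (L ⊓ H) p with hP
    have hzP : z ∈ P := by
      rw [hP, mem_pp hnilH hpP]
      exact ⟨⟨hzL, hzH⟩, ((mem_pp hp.nilH hpP).mp hzp).2⟩
    have hPH : P ≤ pp H p := by
      intro g hg
      rw [hP, mem_pp hnilH hpP] at hg
      rw [mem_pp hp.nilH hpP]
      exact ⟨hg.1.2, hg.2⟩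
    have hHallLH : (Nat.card (L ⊓ H : Subgroup G)).Coprime ((L ⊓ H).relIndex L) := by
      rw [relIndex_inf_left hp hfac]; exact hcop
    obtain ⟨S, hS⟩ := Cfsg.Agent.Helper67.KWRel.s0561_rel L (L ⊓ H) (L ⊓ K) P (pp K s) hsol
      inf_le_left inf_le_left hfac (pp_le _ p)
      (fun h hh a ha => (Nz.of_mem hh).pp hnilH hpP a ha) (le_inf hKsL (pp_le K s))
      (fun k hk b hb => (Nz.of_mem hk.2).pp hp.nilK hsP b hb)
      (pp_hall_rel hnilH hpP inf_le_left hHallLH)
      (Nat.Coprime.coprime_dvd_right (Subgroup.relIndex_dvd_index_of_le hKsL)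
        (pp_hall hp.nilK hsP hp.hallK))
    have d : PSData H K p s S P := ⟨hpP, hsP, hpd, hsd, hPH, hS⟩
    have hSL : S ≤ L := by
      intro x hx
      have : x ∈ (S : Set G) := hx
      rw [hS] at this
      obtain ⟨a, ha, b, hb, rfl⟩ := this
      exact L.mul_mem ((pp_le _ p ha).1) (hKsL hb)
    haveI := hsol
    have hsolS : Group.IsSolvable S :=
      Group.isSolvable_of_isSolvable_injective (f := Subgroup.inclusion hSL)
        (Subgroup.inclusion_injective hSL)
    exact d.no_central hm hp hsolS hzH hz1 hzc (d.P_le hzP)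

/-- **F4**: the centralizer of a nontrivial central `p`-element of `H` lies in `H`. -/
theorem mem_of_commute_central (hm : KWMin G) (hp : KWPair H K) {p : ℕ} (hpP : p.Prime)
    {z : G} (hzH : z ∈ H) (hz1 : z ≠ 1) (hzc : ∀ h ∈ H, h * z = z * h) (hzp : z ∈ pp H p)
    {c : G} (hc : c * z = z * c) : c ∈ H := by
  obtain ⟨h, hh, k, hk, hchk⟩ := hp.fac c
  have hkz : k * z = z * k := by
    have e : k = h⁻¹ * c := by rw [hchk]; group
    have h1 : Commute h⁻¹ z := (show Commute h z from hzc h hh).inv_left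
    have h2 : Commute c z := hc
    rw [e]
    exact (h1.mul_left h2).eq
  suffices hk1 : k = 1 by rw [hchk, hk1, mul_one]; exact hh
  by_contra hk1
  have ho : orderOf k ≠ 1 := fun h => hk1 (orderOf_eq_one_iff.mp h)
  obtain ⟨q, hqP, hqd⟩ := Nat.exists_prime_and_dvd ho
  set y := k ^ (orderOf k / q) with hy
  have hyo : orderOf y = q := orderOf_pow_orderOf_div (orderOf_pos k).ne' hqd
  have hyK : y ∈ K := K.pow_mem hk _
  have hyq : y ∈ pp K q := by
    rw [mem_pp hp.nilK hqP]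
    refine ⟨hyK, 1, ?_⟩
    rw [pow_one, ← hyo]; exact pow_orderOf_eq_one y
  have h1 : Subgroup.zpowers z ≤ Subgroup.centralizer ({y} : Set G) := by
    rw [Subgroup.zpowers_le, Subgroup.mem_centralizer_iff]
    intro w hw
    rw [Set.mem_singleton_iff] at hw
    subst hw
    have : Commute k z := hkz
    exact (this.pow_left _).eq
  have h2 : pc K q ≤ Subgroup.centralizer ({y} : Set G) := by
    intro v hv
    rw [Subgroup.mem_centralizer_iff]
    intro w hw
    rw [Set.mem_singleton_iff] at hw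
    subst hw
    exact commute_pp_pc hp.nilK hqP hyq hv
  have h3 : Subgroup.centralizer ({y} : Set G) = ⊤ := by
    rw [eq_top_iff, ← gen_central_pc hm hp hpP hqP hzH hz1 hzc hzp]
    exact sup_le h1 h2
  have h4 : y ∈ Subgroup.center G := by
    rw [Subgroup.mem_center_iff]
    intro g
    have : g ∈ Subgroup.centralizer ({y} : Set G) := h3 ▸ Subgroup.mem_top g
    rw [Subgroup.mem_centralizer_iff] at this
    exact (this y (Set.mem_singleton y)).symm
  rw [hm.center_eq_bot, Subgroup.mem_bot] at h4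
  rw [h4, orderOf_one] at hyo
  exact hqP.one_lt.ne hyo

theorem KWPair.conj_left (hp : KWPair H K) (n : G) : KWPair (MulAut.conj n • H) K :=
  (hp.symm.conj_right n).symm

theorem pp_conj {X : Subgroup G} (hX : Group.IsNilpotent X) {r : ℕ} (hr : r.Prime) (n : G) :
    pp (MulAut.conj n • X) r = MulAut.conj n • pp X r := by
  have hX' : Group.IsNilpotent (MulAut.conj n • X : Subgroup G) :=
    Cfsg.Agent.S0581.nilpotent_smul n X hX
  ext g
  rw [mem_pp hX' hr, mem_conj_smul_iff, mem_conj_smul_iff, mem_pp hX hr]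
  constructor
  · rintro ⟨h1, k, hk⟩
    refine ⟨h1, k, ?_⟩
    have e : (n⁻¹ * g * n) ^ (r ^ k) = n⁻¹ * g ^ (r ^ k) * n := by
      have := kw_conj_pow_eq n⁻¹ g (r ^ k)
      simpa using this
    rw [e, hk]; group
  · rintro ⟨h1, k, hk⟩
    refine ⟨h1, k, ?_⟩
    have e : (n⁻¹ * g * n) ^ (r ^ k) = n⁻¹ * g ^ (r ^ k) * n := by
      have := kw_conj_pow_eq n⁻¹ g (r ^ k)
      simpa using this
    rw [e] at hk
    have : g ^ (r ^ k) = n * (n⁻¹ * g ^ (r ^ k) * n) * n⁻¹ := by group
    rw [this, hk]; group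

/-- **F3**: if a nontrivial central `p`-element of `H` is conjugated into `H` by `n`,
then `n` normalizes `H`. -/
theorem nz_of_conj_central_mem (hm : KWMin G) (hp : KWPair H K) {p : ℕ} (hpP : p.Prime)
    {z : G} (hzH : z ∈ H) (hz1 : z ≠ 1) (hzc : ∀ h ∈ H, h * z = z * h) (hzp : z ∈ pp H p)
    {n : G} (hn : n * z * n⁻¹ ∈ H) : Nz n H := by
  set H' := MulAut.conj n • H with hH'
  have hp' : KWPair H' K := hp.conj_left n
  set z' := n * z * n⁻¹ with hz'
  have hz'H' : z' ∈ H' := by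
    rw [hH', mem_conj_smul_iff, hz']
    have : n⁻¹ * (n * z * n⁻¹) * n = z := by group
    rw [this]; exact hzH
  have hz'1 : z' ≠ 1 := by
    intro h
    apply hz1
    have : z = n⁻¹ * z' * n := by rw [hz']; group
    rw [this, h]; group
  have hz'c : ∀ h ∈ H', h * z' = z' * h := by
    intro h hh
    rw [hH', mem_conj_smul_iff] at hh
    have := hzc _ hh
    have e1 : h * z' = n * ((n⁻¹ * h * n) * z) * n⁻¹ := by rw [hz']; group
    have e2 : z' * h = n * (z * (n⁻¹ * h * n)) * n⁻¹ := by rw [hz']; group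
    rw [e1, e2, this]
  have hz'pel : ∃ k : ℕ, z' ^ (p ^ k) = 1 := by
    obtain ⟨k, hk⟩ := ((mem_pp hp.nilH hpP).mp hzp).2
    refine ⟨k, ?_⟩
    rw [hz', kw_conj_pow_eq, hk]; group
  have hz'p' : z' ∈ pp H' p := (mem_pp hp'.nilH hpP).mpr ⟨hz'H', hz'pel⟩
  have hz'p : z' ∈ pp H p := (mem_pp hp.nilH hpP).mpr ⟨hn, hz'pel⟩
  -- `H_{p'}` centralizes `z'`, hence lies in `H'`
  have h1 : pc H p ≤ H' := by
    intro v hv
    have hc := commute_pp_pc hp.nilH hpP hz'p hv
    exact mem_of_commute_central hm hp' hpP hz'H' hz'1 hz'c hz'p' hc.symm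
  obtain ⟨r, hrP, hrp, hrd⟩ := exists_prime_ne_dvd (Nat.card_pos (α := H))
    (fun k => hp.npH p k hpP)
  have h2 : pp H r ≤ pp H' r := by
    intro u hu
    rw [mem_pp hp'.nilH hrP]
    exact ⟨h1 (pp_le_pc hp.nilH hpP hrP hrp hu), ((mem_pp hp.nilH hrP).mp hu).2⟩
  have h3 : pp H' r = MulAut.conj n • pp H r := pp_conj hp.nilH hrP n
  have h4 : pp H r = MulAut.conj n • pp H r := by
    rw [← h3]
    apply Subgroup.eq_of_le_of_card_ge h2
    rw [h3, Nat.card_congr (Subgroup.equivSMul (MulAut.conj n) (pp H r)).toEquiv.symm]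
  have h5 : Nz n (pp H r) := by
    intro u hu
    rw [h4]
    rw [mem_conj_smul_iff]
    have : n⁻¹ * (n * u * n⁻¹) * n = u := by group
    rw [this]; exact hu
  exact nz_of_nz_pp hm hp hrP hrd h5

/-- Existence of nontrivial central `p`-elements. -/
theorem exists_central_pp (hp : KWPair H K) {p : ℕ} (hpP : p.Prime) (hpd : p ∣ Nat.card H) :
    ∃ z ∈ pp H p, z ≠ 1 ∧ ∀ h ∈ H, h * z = z * h := by
  haveI : Fact p.Prime := ⟨hpP⟩
  have hne := pp_ne_bot hp.nilH hpP hpd
  haveI : Nontrivial (pp H p) := (Subgroup.nontrivial_iff_ne_bot _).mpr hne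
  haveI hcn : Nontrivial (Subgroup.center (pp H p)) :=
    IsPGroup.center_nontrivial (isPGroup_pp hp.nilH hpP)
  obtain ⟨z₀, hz₀⟩ := exists_ne (1 : Subgroup.center (pp H p))
  refine ⟨((z₀ : pp H p) : G), (z₀ : pp H p).2, ?_, ?_⟩
  · intro h
    apply hz₀
    apply Subtype.ext
    apply Subtype.ext
    simpa using h
  · intro h hh
    obtain ⟨u, hu, v, hv, rfl⟩ := exists_pp_mul_pc hp.nilH hpP hh
    have h1 : u * ((z₀ : pp H p) : G) = ((z₀ : pp H p) : G) * u := by
      have := Subgroup.mem_center_iff.mp z₀.2 ⟨u, hu⟩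
      have := congrArg (fun x : pp H p => (x : G)) this
      simpa using this
    have h2 : ((z₀ : pp H p) : G) * v = v * ((z₀ : pp H p) : G) :=
      commute_pp_pc hp.nilH hpP (z₀ : pp H p).2 hv
    calc u * v * ((z₀ : pp H p) : G) = u * (v * ((z₀ : pp H p) : G)) := by group
      _ = u * (((z₀ : pp H p) : G) * v) := by rw [h2]
      _ = (u * ((z₀ : pp H p) : G)) * v := by group
      _ = ((z₀ : pp H p) : G) * u * v := by rw [h1]
      _ = ((z₀ : pp H p) : G) * (u * v) := by group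

end fus

end Cfsg.Agent.Helper91
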