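import Mathlib
import Cfsg.Agent.S0558
import Cfsg.Agent.Helper55.KWRel3

/-!
# Relative Wielandt complement: the self-normalizing nilpotent subgroup is a Hall subgroup
-/

set_option autoImplicit false
set_option linter.unusedSectionVars false

namespace Cfsg.Agent.Helper91

/-- Under the hypotheses of `s0558_rel`, `T` is a Hall subgroup of `C`. -/
theorem s0558_rel_cop {G : Type*} [Group G] [Finite G] (C T : Subgroup G) (hT : T ≤ C)
    (hnil : Group.IsNilpotent T)
    (hnorm : ∀ p, p.Prime → p ∣ Nat.card T → ∀ n ∈ C,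
      (∀ g ∈ T, (∃ k, g ^ (p ^ k) = 1) → n * g * n⁻¹ ∈ T) → n ∈ T) :
    ∀ r : ℕ, r.Prime → r ∣ Nat.card T → ¬ r ∣ T.relIndex C := by
  classical
  set H : Subgroup C := T.subgroupOf C with hH
  have e : H ≃* T := Subgroup.subgroupOfEquivOfLe hT
  have hcardH : Nat.card H = Nat.card T := Nat.card_congr e.toEquiv
  have hnilH : Group.IsNilpotent H := (Group.isNilpotent_congr e).mpr hnil
  have hnorm' : ∀ p : ℕ, p.Prime → p ∣ Nat.card H → ∀ P : Sylow p H,
      Subgroup.normalizer (((P : Subgroup H).map H.subtype : Subgroup C) : Set C) = H := by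
    intro p hp hpd P
    have : Fact p.Prime := ⟨hp⟩
    have hPn : (P : Subgroup H).Normal :=
      (Group.isNilpotent_of_finite_tfae.out 0 3 rfl rfl).mp hnilH p ‹_› P
    apply le_antisymm
    · intro n hn
      rw [hH, Subgroup.mem_subgroupOf]
      apply hnorm p hp (hcardH ▸ hpd) (n : G) n.2
      intro g hg hgk
      have hgC : g ∈ C := hT hg
      set g' : H := ⟨⟨g, hgC⟩, by rw [hH, Subgroup.mem_subgroupOf]; exact hg⟩ with hg'
      have hg'P : g' ∈ (P : Subgroup H) := by
        apply Cfsg.Agent.Helper55.KWRel3.mem_sylow_of_isNilpotent hnilH P g'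
        obtain ⟨k, hk⟩ := hgk
        refine ⟨k, ?_⟩
        apply Subtype.ext
        apply Subtype.ext
        simp only [Subgroup.coe_pow, Subgroup.coe_one]
        exact hk
      have hmem : (⟨g, hgC⟩ : C) ∈ (P : Subgroup H).map H.subtype :=
        ⟨g', hg'P, rfl⟩
      have hconj := (Subgroup.mem_normalizer_iff.mp hn ⟨g, hgC⟩).mp hmem
      obtain ⟨y, _, hy⟩ := hconj
      have hyT : ((y : C) : G) ∈ T := Subgroup.mem_subgroupOf.mp y.2
      have : ((y : C) : G) = (n : G) * g * (n : G)⁻¹ := by
        have := congrArg (Subtype.val : C → G) hy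
        simpa using this
      rw [← this]
      exact hyT
    · have h1 : (Subgroup.normalizer ((P : Subgroup H) : Set H)).map H.subtype ≤
          Subgroup.normalizer (((P : Subgroup H).map H.subtype : Subgroup C) : Set C) :=
        Subgroup.le_normalizer_map _
      rw [Subgroup.normalizer_eq_top] at h1
      refine le_trans ?_ h1
      intro x hx
      exact ⟨⟨x, hx⟩, Subgroup.mem_top _, rfl⟩
  intro r hr hrd hrI
  haveI : Fact r.Prime := ⟨hr⟩
  have hrdH : r ∣ Nat.card H := hcardH ▸ hrd
  let P : Sylow r H := default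
  obtain ⟨S, hS⟩ := Cfsg.Agent.S0558.sylow_of_normalizer_eq H P (hnorm' r hr hrdH P)
  have h1 : ¬ r ∣ (S : Subgroup C).index := S.not_dvd_index
  have hle : (S : Subgroup C) ≤ H := by rw [hS]; exact Subgroup.map_subtype_le _
  have h2 := Subgroup.relIndex_mul_index hle
  apply h1
  rw [← h2]
  exact Dvd.dvd.mul_left hrI _

end Cfsg.Agent.Helper91
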