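import Mathlib
import Cfsg.Agent.Helper91.KWFus
import Cfsg.Agent.Helper55.KWRel3
import Cfsg.Agent.Helper91.KWRelCop
import Cfsg.Agent.Helper62.PSolvDual

/-!
# Kegel–Wielandt, coprime case: centralizers of elements of `H` lie in `N_G(H)`
-/

set_option autoImplicit false
set_option linter.unusedSectionVars false
set_option linter.style.haveILetI false
open Pointwise

namespace Cfsg.Agent.Helper91

universe u

section engine
variable {G : Type u} [Group G] [Finite G] {H K : Subgroup G}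

theorem Nz.one (X : Subgroup G) : Nz (1 : G) X := fun x hx => by simpa using hx

theorem Nz.pow {n : G} {X : Subgroup G} (h : Nz n X) (j : ℕ) : Nz (n ^ j) X := by
  induction j with
  | zero => rw [pow_zero]; exact Nz.one X
  | succ j ih => rw [pow_succ]; exact ih.mul h

/-- A `π'`-subgroup normalized by `H_{p'}` is trivial. -/
theorem eq_bot_of_nz_pc (hm : KWMin G) (hp : KWPair H K) {p : ℕ} (hpP : p.Prime) (W : Subgroup G)
    (hW : (Nat.card W).Coprime (Nat.card H)) (hn : ∀ v ∈ pc H p, Nz v W) : W = ⊥ := by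
  have hdiv : ∀ q : ℕ, q.Prime → q ∣ Nat.card W → q ∣ Nat.card K := by
    intro q _ hqd
    have h1 : Nat.card W ∣ Nat.card G := Subgroup.card_subgroup_dvd_card W
    rw [hp.card_eq] at h1
    exact dvd_trans hqd (Nat.Coprime.dvd_of_dvd_mul_left hW h1)
  obtain ⟨y, hy⟩ := Cfsg.Agent.S0581.result K W hp.nilK hp.hallK hdiv
  set K' := MulAut.conj y • K with hK'
  have hp' : KWPair H K' := hp.conj_right y
  by_contra hne
  have hc1 : Nat.card W ≠ 1 := fun h => hne (Subgroup.card_eq_one.mp h)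
  obtain ⟨q, hqP, hqd⟩ := Nat.exists_prime_and_dvd hc1
  have hWnil : Group.IsNilpotent W := Cfsg.Agent.S0581.nilpotent_of_le hy hp'.nilK
  have hWq1 : pp W q ≠ ⊥ := pp_ne_bot hWnil hqP hqd
  have hWqK : pp W q ≤ pp K' q := by
    intro g hg
    rw [mem_pp hWnil hqP] at hg
    rw [mem_pp hp'.nilK hqP]
    exact ⟨hy hg.1, hg.2⟩
  have h1 : pc H p ≤ Subgroup.normalizer (pp W q : Set G) :=
    fun v hv => ((hn v hv).pp hWnil hqP).mem_normalizer
  have h2 : pc K' q ≤ Subgroup.normalizer (pp W q : Set G) := by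
    intro v hv
    apply Nz.mem_normalizer
    intro g hg
    have := commute_pp_pc hp'.nilK hqP (hWqK hg) hv
    have e : v * g * v⁻¹ = g := by rw [← this]; group
    rw [e]; exact hg
  have h3 : Subgroup.normalizer (pp W q : Set G) = ⊤ := by
    rw [eq_top_iff, ← gen_pc_pc hm hp' hpP hqP]
    exact sup_le h1 h2
  have hn' : (pp W q).Normal := Subgroup.normalizer_eq_top_iff.mp h3
  have h4 := hm.normal_eq_top hn' hWq1
  apply K_ne_top hp'
  rw [eq_top_iff, ← h4]
  exact le_trans hWqK (pp_le K' q)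

theorem dvd_card_of_pp_le {X T : Subgroup G} (hX : Group.IsNilpotent X) {r : ℕ} (hr : r.Prime)
    (hd : r ∣ Nat.card X) (hle : pp X r ≤ T) : r ∣ Nat.card T := by
  haveI : Fact r.Prime := ⟨hr⟩
  obtain ⟨k, hk⟩ := (isPGroup_pp hX hr).exists_card_eq
  have h1 : Nat.card (pp X r) ∣ Nat.card T := Subgroup.card_dvd_of_le hle
  rw [hk] at h1
  cases k with
  | zero =>
    exfalso
    rw [pow_zero] at hk
    exact pp_ne_bot hX hr hd (Subgroup.card_eq_one.mp hk)
  | succ k => exact dvd_trans (dvd_pow_self r (Nat.succ_ne_zero k)) h1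

theorem dvd_card_of_mem_of_pow {T : Subgroup G} {p : ℕ} (hpP : p.Prime) {z : G} (hzT : z ∈ T)
    (hz1 : z ≠ 1) (hk : ∃ k : ℕ, z ^ (p ^ k) = 1) : p ∣ Nat.card T := by
  obtain ⟨k, hk⟩ := hk
  have h1 : orderOf z ∣ p ^ k := orderOf_dvd_of_pow_eq_one hk
  obtain ⟨j, _, hj⟩ := (Nat.dvd_prime_pow hpP).mp h1
  have h2 : orderOf z ∣ Nat.card T := by
    have := orderOf_dvd_natCard (⟨z, hzT⟩ : T)
    rwa [Subgroup.orderOf_mk] at this
  cases j with
  | zero => rw [pow_zero] at hj; exact absurd (orderOf_eq_one_iff.mp hj) hz1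
  | succ j => rw [hj] at h2; exact dvd_trans (dvd_pow_self p (Nat.succ_ne_zero j)) h2

theorem mem_centralizer_singleton_iff {x g : G} :
    g ∈ Subgroup.centralizer ({x} : Set G) ↔ g * x = x * g := by
  rw [Subgroup.mem_centralizer_iff]
  constructor
  · intro h; exact (h x (Set.mem_singleton x)).symm
  · intro h y hy
    rw [Set.mem_singleton_iff] at hy
    subst hy; exact h.symm

/-- **Engine**: if `x ∈ H_p` is nontrivial and `C_G(x) ∩ N_G(H) ≤ H`, then `C_G(x) ≤ H`. -/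
theorem mem_of_commute_of_free (hm : KWMin G) (hp : KWPair H K) {p : ℕ} (hpP : p.Prime) {x : G}
    (hx : x ∈ pp H p) (hx1 : x ≠ 1) (hfree : ∀ c : G, c * x = x * c → Nz c H → c ∈ H) {c : G}
    (hc : c * x = x * c) : c ∈ H := by
  have hpd := dvd_card_of_mem_pp hp hpP hx hx1
  obtain ⟨z, hzp, hz1, hzc⟩ := exists_central_pp hp hpP hpd
  have hzH := pp_le H p hzp
  have hxH := pp_le H p hx
  set C := Subgroup.centralizer ({x} : Set G) with hC
  set T := C ⊓ H with hT
  have memC : ∀ g : G, g ∈ C ↔ g * x = x * g := fun g => mem_centralizer_singleton_iff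
  have hzC : z ∈ C := (memC z).mpr (hzc x hxH).symm
  have hzT : z ∈ T := Subgroup.mem_inf.2 ⟨hzC, hzH⟩
  have hnilT : Group.IsNilpotent T := Cfsg.Agent.S0581.nilpotent_of_le inf_le_right hp.nilH
  have hppT : ∀ r : ℕ, r.Prime → r ≠ p → pp H r ≤ T := by
    intro r hr hrp u hu
    refine Subgroup.mem_inf.2 ⟨?_, pp_le H r hu⟩
    rw [memC]
    exact (commute_pp_pc hp.nilH hpP hx (pp_le_pc hp.nilH hpP hr hrp hu)).symm
  have hpcT : pc H p ≤ T := by
    intro u hu
    refine Subgroup.mem_inf.2 ⟨?_, pc_le H p hu⟩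
    rw [memC]
    exact (commute_pp_pc hp.nilH hpP hx hu).symm
  have hzpel : ∃ k : ℕ, z ^ (p ^ k) = 1 := ((mem_pp hp.nilH hpP).mp hzp).2
  have hpT : p ∣ Nat.card T := dvd_card_of_mem_of_pow hpP hzT hz1 hzpel
  have hdvdT : ∀ r : ℕ, r.Prime → r ∣ Nat.card H → r ∣ Nat.card T := by
    intro r hr hrd
    by_cases hrp : r = p
    · subst hrp; exact hpT
    · exact dvd_card_of_pp_le hp.nilH hr hrd (hppT r hr hrp)
  have hTH : Nat.card T ∣ Nat.card H := Subgroup.card_dvd_of_le inf_le_right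
  -- the normalizer hypothesis
  have hnorm : ∀ r, r.Prime → r ∣ Nat.card T → ∀ n ∈ C,
      (∀ g ∈ T, (∃ k, g ^ (r ^ k) = 1) → n * g * n⁻¹ ∈ T) → n ∈ T := by
    intro r hr hrd n hnC hn
    have hnx : n * x = x * n := (memC n).mp hnC
    refine Subgroup.mem_inf.2 ⟨hnC, ?_⟩
    apply hfree n hnx
    by_cases hrp : r = p
    · subst hrp
      have h1 : n * z * n⁻¹ ∈ T := hn z hzT hzpel
      exact nz_of_conj_central_mem hm hp hr hzH hz1 hzc hzp (Subgroup.mem_inf.1 h1).2
    · have hrH : r ∣ Nat.card H := dvd_trans hrd hTH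
      apply nz_of_nz_pp hm hp hr hrH
      intro g hg
      have hgr := ((mem_pp hp.nilH hr).mp hg).2
      have h1 : n * g * n⁻¹ ∈ T := hn g (hppT r hr hrp hg) hgr
      rw [mem_pp hp.nilH hr]
      refine ⟨(Subgroup.mem_inf.1 h1).2, ?_⟩
      obtain ⟨k, hk⟩ := hgr
      exact ⟨k, by rw [kw_conj_pow_eq, hk]; group⟩
  have h2 : ∃ p' q', p'.Prime ∧ q'.Prime ∧ p' ≠ q' ∧ p' ∣ Nat.card T ∧ q' ∣ Nat.card T := by
    obtain ⟨r, hr, hrp, hrd⟩ := exists_prime_ne_dvd (n := Nat.card H) (p := p) Nat.card_pos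
      (fun k => hp.npH p k hpP)
    exact ⟨p, r, hpP, hr, fun h => hrp h.symm, hpT, hdvdT r hr hrd⟩
  obtain ⟨W, hWC, hWn, hWT, hWcard⟩ :=
    Cfsg.Agent.Helper55.KWRel3.s0558_rel C T inf_le_left hnilT h2 hnorm
  have hcop := s0558_rel_cop C T inf_le_left hnilT hnorm
  have hWrel : Nat.card W = T.relIndex C := by
    have h3 := card_mul_relIndex_eq (A := T) (S := C) inf_le_left
    rw [← hWcard, mul_comm] at h3
    exact (Nat.eq_of_mul_eq_mul_right Nat.card_pos h3).symm
  have hWcop : (Nat.card W).Coprime (Nat.card H) := by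
    apply Nat.Coprime.symm
    apply Nat.coprime_of_dvd
    intro r hr hrH hrW
    rw [hWrel] at hrW
    exact hcop r hr (hdvdT r hr hrH) hrW
  have hWbot : W = ⊥ := by
    apply eq_bot_of_nz_pc hm hp hpP W hWcop
    intro v hv w hw
    exact hWn v (Subgroup.mem_inf.1 (hpcT hv)).1 w hw
  have hTC : T = C := by
    apply Subgroup.eq_of_le_of_card_ge inf_le_left
    rw [← hWcard, hWbot, Subgroup.card_bot, one_mul]
  have hcC : c ∈ C := (memC c).mpr hc
  rw [← hTC] at hcC
  exact (Subgroup.mem_inf.1 hcC).2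

end engine

end Cfsg.Agent.Helper91
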