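import Mathlib
import Cfsg.Agent.Helper91.KWEngine

/-!
# Kegel–Wielandt, coprime case: centralizers of `p`-elements of `H` normalize `H`
-/

set_option autoImplicit false
set_option linter.unusedSectionVars false
set_option linter.style.haveILetI false
open Pointwise

namespace Cfsg.Agent.Helper91

universe u

section kwcase
variable {G : Type u} [Group G] [Finite G] {H K : Subgroup G}

theorem centralizer_fac {A B : Subgroup G} (hAB : A ⊓ B = ⊥) {d : G} (hdB : d ∈ B) (hdA : Nz d A)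
    {a b : G} (ha : a ∈ A) (hb : b ∈ B) (hc : (a * b) * d = d * (a * b)) :
    a * d = d * a ∧ b * d = d * b := by
  have h1 : d * a * d⁻¹ ∈ A := hdA a ha
  have h2 : d * b * d⁻¹ ∈ B := B.mul_mem (B.mul_mem hdB hb) (B.inv_mem hdB)
  have h3 : (d * a * d⁻¹) * (d * b * d⁻¹) = a * b := by
    have e : d * a * d⁻¹ * (d * b * d⁻¹) = d * (a * b) * d⁻¹ := by group
    rw [e, ← hc]; group
  have h4 : a⁻¹ * (d * a * d⁻¹) = b * (d * b * d⁻¹)⁻¹ := by
    have e : a⁻¹ * (d * a * d⁻¹) =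
        a⁻¹ * ((d * a * d⁻¹) * (d * b * d⁻¹)) * (d * b * d⁻¹)⁻¹ := by group
    rw [e, h3]; group
  have h5 : a⁻¹ * (d * a * d⁻¹) ∈ A ⊓ B :=
    Subgroup.mem_inf.2 ⟨A.mul_mem (A.inv_mem ha) h1, by
      rw [h4]; exact B.mul_mem hb (B.inv_mem h2)⟩
  rw [hAB, Subgroup.mem_bot] at h5
  have h6 : d * a * d⁻¹ = a := by
    have e : d * a * d⁻¹ = a * (a⁻¹ * (d * a * d⁻¹)) := by group
    rw [e, h5, mul_one]
  have h7 : a * d = d * a := by
    have e : d * a = (d * a * d⁻¹) * d := by group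
    rw [e, h6]
  refine ⟨h7, ?_⟩
  have e1 : b * d = a⁻¹ * ((a * b) * d) := by group
  rw [e1, hc]
  have e2 : a⁻¹ * (d * (a * b)) = a⁻¹ * (d * a) * b := by group
  rw [e2, ← h7]; group

theorem mem_of_nz_of_coprime {X : Subgroup G} {n : G} (hn : Nz n X)
    (hc : (orderOf n).Coprime X.index) : n ∈ X := by
  set N := Subgroup.normalizer (X : Set G) with hN
  have hXN : X ≤ N := Subgroup.le_normalizer
  have hnN : n ∈ N := hn.mem_normalizer
  haveI : (X.subgroupOf N).Normal := Subgroup.normal_in_normalizer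
  set m := (QuotientGroup.mk' (X.subgroupOf N)) ⟨n, hnN⟩ with hm
  have h1 : orderOf m ∣ orderOf n := by
    have := orderOf_map_dvd (QuotientGroup.mk' (X.subgroupOf N)) (⟨n, hnN⟩ : N)
    rwa [Subgroup.orderOf_mk] at this
  have h2 : orderOf m ∣ X.index := by
    have h3 := orderOf_dvd_natCard m
    rw [← Subgroup.index_eq_card] at h3
    exact dvd_trans h3 (Subgroup.relIndex_dvd_index_of_le hXN)
  have h3 : orderOf m = 1 := Nat.eq_one_of_dvd_coprimes hc h1 h2
  rw [orderOf_eq_one_iff] at h3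
  have h4 : (⟨n, hnN⟩ : N) ∈ X.subgroupOf N := (QuotientGroup.eq_one_iff _).mp h3
  exact Subgroup.mem_subgroupOf.mp h4

/-- **B1'**: if `d ∈ K_q` is nontrivial, normalizes `H`, and commutes with `1 ≠ x ∈ H_p`, then `x`
normalizes `K`. -/
theorem nz_of_commute_nz (hm : KWMin G) (hp : KWPair H K) {p q : ℕ} (hpP : p.Prime)
    (hqP : q.Prime) {x d : G} (hx : x ∈ pp H p) (hx1 : x ≠ 1) (hd : d ∈ pp K q) (hd1 : d ≠ 1)
    (hdH : Nz d H) (hxd : x * d = d * x) : Nz x K := by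
  have hpd : p ∣ Nat.card H := dvd_card_of_mem_pp hp hpP hx hx1
  have hdK : d ∈ K := pp_le K q hd
  set L := Subgroup.centralizer ({d} : Set G) with hL
  have memL : ∀ g : G, g ∈ L ↔ g * d = d * g := fun g => mem_centralizer_singleton_iff
  have hLt : L ≠ ⊤ := by
    intro h
    apply hd1
    have : d ∈ Subgroup.center G := by
      rw [Subgroup.mem_center_iff]
      intro g
      have : g ∈ L := by rw [h]; exact Subgroup.mem_top g
      exact (memL g).mp this
    rw [hm.center_eq_bot, Subgroup.mem_bot] at this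
    exact this
  have hfac : ∀ g ∈ L, ∃ h ∈ L ⊓ H, ∃ k ∈ L ⊓ K, g = h * k := by
    intro g hg
    obtain ⟨h, hh, k, hk, rfl⟩ := hp.fac g
    obtain ⟨e1, e2⟩ := centralizer_fac (inf_eq_bot_of_cop hp.cop) hdK hdH hh hk ((memL _).mp hg)
    exact ⟨h, Subgroup.mem_inf.2 ⟨(memL h).mpr e1, hh⟩, k,
      Subgroup.mem_inf.2 ⟨(memL k).mpr e2, hk⟩, rfl⟩
  have hnilH : Group.IsNilpotent (L ⊓ H : Subgroup G) :=
    Cfsg.Agent.S0581.nilpotent_of_le inf_le_right hp.nilH
  have hnilK : Group.IsNilpotent (L ⊓ K : Subgroup G) :=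
    Cfsg.Agent.S0581.nilpotent_of_le inf_le_right hp.nilK
  have hcop : (Nat.card (L ⊓ H : Subgroup G)).Coprime (Nat.card (L ⊓ K : Subgroup G)) :=
    Nat.Coprime.coprime_dvd_left (Subgroup.card_dvd_of_le inf_le_right)
      (Nat.Coprime.coprime_dvd_right (Subgroup.card_dvd_of_le inf_le_right) hp.cop)
  have hsol : Group.IsSolvable L :=
    hm.ih L (L ⊓ H) (L ⊓ K) hLt inf_le_left inf_le_left hnilH hnilK hcop hfac
  obtain ⟨s, hsP, hsq, hsd⟩ := exists_prime_ne_dvd (Nat.card_pos (α := K))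
    (fun k => hp.npK q k hqP)
  have hKsL : pp K s ≤ L := by
    intro v hv
    rw [memL]
    exact (commute_pp_pc hp.nilK hqP hd (pp_le_pc hp.nilK hqP hsP hsq hv)).symm
  have hxL : x ∈ L := (memL x).mpr hxd
  set P := pp (L ⊓ H) p with hP
  have hxP : x ∈ P := by
    rw [hP, mem_pp hnilH hpP]
    exact ⟨⟨hxL, pp_le H p hx⟩, ((mem_pp hp.nilH hpP).mp hx).2⟩
  have hPH : P ≤ pp H p := by
    intro g hg
    rw [hP, mem_pp hnilH hpP] at hg
    rw [mem_pp hp.nilH hpP]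
    exact ⟨hg.1.2, hg.2⟩
  have hHallLH : (Nat.card (L ⊓ H : Subgroup G)).Coprime ((L ⊓ H).relIndex L) := by
    rw [relIndex_inf_left hp hfac]; exact hcop
  obtain ⟨S, hS⟩ := Cfsg.Agent.Helper67.KWRel.s0561_rel L (L ⊓ H) (L ⊓ K) P (pp K s) hsol
    inf_le_left inf_le_left hfac (pp_le _ p)
    (fun h hh a ha => (Nz.of_mem hh).pp hnilH hpP a ha) (le_inf hKsL (pp_le K s))
    (fun k hk b hb => (Nz.of_mem hk.2).pp hp.nilK hsP b hb)
    (pp_hall_rel hnilH hpP inf_le_left hHallLH)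
    (Nat.Coprime.coprime_dvd_right (Subgroup.relIndex_dvd_index_of_le hKsL)
      (pp_hall hp.nilK hsP hp.hallK))
  have dd : PSData H K p s S P := ⟨hpP, hsP, hpd, hsd, hPH, hS⟩
  have hSL : S ≤ L := by
    intro y hy
    have : y ∈ (S : Set G) := hy
    rw [hS] at this
    obtain ⟨a, ha, b, hb, rfl⟩ := this
    exact L.mul_mem ((pp_le _ p ha).1) (hKsL hb)
  haveI := hsol
  have hsolS : Group.IsSolvable S :=
    Group.isSolvable_of_isSolvable_injective (f := Subgroup.inclusion hSL)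
      (Subgroup.inclusion_injective hSL)
  haveI : Fact p.Prime := ⟨hpP⟩
  haveI := hsolS
  have hps : Cfsg.IsPSolvable p S := Cfsg.Agent.Helper70.isPSolvable_of_isSolvable p
  have hHH := Cfsg.Agent.Helper62.centralizer_pPrimeCore_le_of_isPSolvable hps
    (dd.pCore_eq_bot hm hp)
  obtain ⟨w, hws, hw1, hwc⟩ := exists_central_pp hp.symm hsP hsd
  haveI hOn : (Cfsg.pPrimeCore p ↥S).Normal :=
    Subgroup.normal_of_characteristic _ (h := Cfsg.Agent.Lib.pPrimeCore_characteristic p)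
  have hOle : (Cfsg.pPrimeCore p ↥S).map S.subtype ≤ pp K s := by
    have h1 := Cfsg.Agent.Lib.le_pCore hOn (dd.isPGroup_pPrimeCore hp)
    exact le_trans (Subgroup.map_mono h1)
      (pCore_map_le hsP dd.Q_le (isPGroup_pp hp.nilK hsP) (dd.not_dvd_relIndex_Q hp))
  have hwS : w ∈ S := dd.Q_le hws
  have hwO : (⟨w, hwS⟩ : S) ∈ Cfsg.pPrimeCore p ↥S := by
    apply hHH
    rw [Subgroup.mem_centralizer_iff]
    intro y hy
    have hyK : (y : G) ∈ K := pp_le K s (hOle ⟨y, hy, rfl⟩)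
    apply Subtype.ext
    simp only [Subgroup.coe_mul]
    exact hwc (y : G) hyK
  have hxS : x ∈ S := dd.P_le hxP
  have hconj : (⟨x, hxS⟩ : S) * ⟨w, hwS⟩ * (⟨x, hxS⟩ : S)⁻¹ ∈ Cfsg.pPrimeCore p ↥S :=
    hOn.conj_mem _ hwO _
  have hxw : x * w * x⁻¹ ∈ K := by
    have := hOle ⟨_, hconj, rfl⟩
    exact pp_le K s (by simpa using this)
  exact nz_of_conj_central_mem hm hp.symm hsP (pp_le K s hws) hw1 hwc hws hxw

theorem nz_of_forall_primary {X Y : Subgroup G} (hX : Group.IsNilpotent X) :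
    ∀ (n : ℕ) (k : G), orderOf k = n → k ∈ X →
      (∀ s : ℕ, s.Prime → ∀ j : ℕ, k ^ j ∈ pp X s → Nz (k ^ j) Y) → Nz k Y := by
  intro n
  induction n using Nat.strong_induction_on with
  | _ n ih =>
    intro k hkn hkX hall
    by_cases hk1 : k = 1
    · rw [hk1]; exact Nz.one Y
    · have ho : orderOf k ≠ 1 := fun h => hk1 (orderOf_eq_one_iff.mp h)
      obtain ⟨s, hsP, hsd⟩ := Nat.exists_prime_and_dvd ho
      obtain ⟨c, e, hc, he, hk⟩ := exists_pow_pp_mul_pc hX hsP hkX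
      have h1 : Nz (k ^ c) Y := hall s hsP c hc
      have hne : ¬ s ∣ orderOf (k ^ e) := ((mem_pc hX hsP).mp he).2
      have hdv : orderOf (k ^ e) ∣ orderOf k := orderOf_pow_dvd e
      have hlt : orderOf (k ^ e) < n := by
        rw [← hkn]
        apply lt_of_le_of_ne (Nat.le_of_dvd (orderOf_pos k) hdv)
        intro h
        rw [h] at hne
        exact hne hsd
      have h2 : Nz (k ^ e) Y := by
        apply ih _ hlt (k ^ e) rfl (X.pow_mem hkX e)
        intro s' hs' j hj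
        rw [← pow_mul] at hj ⊢
        exact hall s' hs' _ hj
      have := h1.mul h2
      rwa [← hk] at this

/-- **B2**: if `1 ≠ x ∈ H_p` normalizes `K`, then `C_G(x) ≤ N_G(H)`. -/
theorem nz_of_commute_of_nz (hm : KWMin G) (hp : KWPair H K) {p : ℕ} (hpP : p.Prime) {x : G}
    (hx : x ∈ pp H p) (hx1 : x ≠ 1) (hxK : Nz x K) {c : G} (hc : c * x = x * c) : Nz c H := by
  obtain ⟨k, hk, h, hh, rfl⟩ := hp.symm.fac c
  have hKH : K ⊓ H = ⊥ := inf_eq_bot_of_cop hp.cop.symm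
  obtain ⟨e1, e2⟩ := centralizer_fac hKH (pp_le H p hx) hxK hk hh hc
  apply Nz.mul _ (Nz.of_mem hh)
  apply nz_of_forall_primary hp.nilK _ k rfl hk
  intro s hsP j hj
  by_cases hj1 : k ^ j = 1
  · rw [hj1]; exact Nz.one H
  · have hcomm : k ^ j * x = x * k ^ j := ((show Commute k x from e1).pow_left j).eq
    exact nz_of_commute_nz hm hp.symm hsP hpP hj hj1 hx hx1 hxK hcomm

/-- For `1 ≠ x ∈ H_p`, `C_G(x) ≤ N_G(H)`. -/
theorem nz_of_commute_pp (hm : KWMin G) (hp : KWPair H K) {p : ℕ} (hpP : p.Prime) {x : G}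
    (hx : x ∈ pp H p) (hx1 : x ≠ 1) {c : G} (hc : c * x = x * c) : Nz c H := by
  by_cases hfree : ∀ c : G, c * x = x * c → Nz c H → c ∈ H
  · exact Nz.of_mem (mem_of_commute_of_free hm hp hpP hx hx1 hfree hc)
  · push Not at hfree
    obtain ⟨c₀, hc₀, hn₀, hnot⟩ := hfree
    have hncop : ¬ (orderOf c₀).Coprime H.index := fun h => hnot (mem_of_nz_of_coprime hn₀ h)
    obtain ⟨q, hqP, hq1, hq2⟩ := Nat.Prime.not_coprime_iff_dvd.mp hncop
    rw [hp.index_H] at hq2
    set d := c₀ ^ (orderOf c₀ / q) with hd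
    have hdo : orderOf d = q := orderOf_pow_orderOf_div (orderOf_pos c₀).ne' hq1
    have hd1 : d ≠ 1 := by
      intro h
      rw [h, orderOf_one] at hdo
      exact hqP.one_lt.ne hdo
    have hdiv : ∀ r : ℕ, r.Prime → r ∣ Nat.card (Subgroup.zpowers d) → r ∣ Nat.card K := by
      intro r hr hrd
      rw [Nat.card_zpowers, hdo] at hrd
      rw [(Nat.prime_dvd_prime_iff_eq hr hqP).mp hrd]
      exact hq2
    obtain ⟨y, hy⟩ := Cfsg.Agent.S0581.result K (Subgroup.zpowers d) hp.nilK hp.hallK hdiv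
    have hp' : KWPair H (MulAut.conj y • K) := hp.conj_right y
    have hdK : d ∈ pp (MulAut.conj y • K) q := by
      rw [mem_pp hp'.nilK hqP]
      refine ⟨hy (Subgroup.mem_zpowers d), 1, ?_⟩
      rw [pow_one, ← hdo]; exact pow_orderOf_eq_one d
    have hdH : Nz d H := hn₀.pow _
    have hxd : x * d = d * x := ((show Commute c₀ x from hc₀).pow_left _).eq.symm
    have hxK : Nz x (MulAut.conj y • K) := nz_of_commute_nz hm hp' hpP hqP hx hx1 hdK hd1 hdH hxd
    exact nz_of_commute_of_nz hm hp' hpP hx hx1 hxK hc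

/-- **TI**: if `H ∩ gHg⁻¹ ≠ 1` then `g` normalizes `H`. -/
theorem nz_of_conj_mem (hm : KWMin G) (hp : KWPair H K) {y g : G} (hy : y ∈ H) (hy1 : y ≠ 1)
    (hg : g⁻¹ * y * g ∈ H) : Nz g H := by
  have ho : orderOf y ≠ 1 := fun h => hy1 (orderOf_eq_one_iff.mp h)
  obtain ⟨p, hpP, hpd⟩ := Nat.exists_prime_and_dvd ho
  set x := y ^ (orderOf y / p) with hx
  have hxo : orderOf x = p := orderOf_pow_orderOf_div (orderOf_pos y).ne' hpd
  have hx1 : x ≠ 1 := by
    intro h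
    rw [h, orderOf_one] at hxo
    exact hpP.one_lt.ne hxo
  have hxp : x ^ p = 1 := by rw [← hxo]; exact pow_orderOf_eq_one x
  have hxH : x ∈ pp H p := by
    rw [mem_pp hp.nilH hpP]
    exact ⟨H.pow_mem hy _, 1, by rw [pow_one]; exact hxp⟩
  set x' := g⁻¹ * x * g with hx'
  have conj_pow' : ∀ (a : G) (k : ℕ), g⁻¹ * a ^ k * g = (g⁻¹ * a * g) ^ k := by
    intro a k
    have := kw_conj_pow_eq g⁻¹ a k
    rw [inv_inv] at this
    exact this.symm
  have hx'H : x' ∈ pp H p := by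
    rw [mem_pp hp.nilH hpP]
    refine ⟨?_, 1, ?_⟩
    · rw [hx', hx, conj_pow']; exact H.pow_mem hg _
    · rw [pow_one, hx', ← conj_pow', hxp]; group
  have hpH : p ∣ Nat.card H := dvd_card_of_mem_pp hp hpP hxH hx1
  obtain ⟨r, hrP, hrp, hrd⟩ := exists_prime_ne_dvd (Nat.card_pos (α := H))
    (fun k => hp.npH p k hpP)
  apply nz_of_nz_pp hm hp hrP hrd
  intro u hu
  have hupc : u ∈ pc H p := pp_le_pc hp.nilH hpP hrP hrp hu
  have hcomm : x' * u = u * x' := commute_pp_pc hp.nilH hpP hx'H hupc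
  have hcx : (g * u * g⁻¹) * x = x * (g * u * g⁻¹) := by
    have e1 : (g * u * g⁻¹) * x = g * (u * x') * g⁻¹ := by rw [hx']; group
    have e2 : x * (g * u * g⁻¹) = g * (x' * u) * g⁻¹ := by rw [hx']; group
    rw [e1, e2, hcomm]
  have hnz : Nz (g * u * g⁻¹) H := nz_of_commute_pp hm hp hpP hxH hx1 hcx
  have huH : u ∈ H := pp_le H r hu
  have hcop : (orderOf (g * u * g⁻¹)).Coprime H.index := by
    rw [orderOf_conj_eq]
    have h1 : orderOf u ∣ Nat.card H := by
      have := orderOf_dvd_natCard (⟨u, huH⟩ : H)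
      rwa [Subgroup.orderOf_mk] at this
    exact Nat.Coprime.coprime_dvd_left h1 hp.hallH
  have hmem : g * u * g⁻¹ ∈ H := mem_of_nz_of_coprime hnz hcop
  rw [mem_pp hp.nilH hrP]
  refine ⟨hmem, ?_⟩
  obtain ⟨k, hk⟩ := ((mem_pp hp.nilH hrP).mp hu).2
  exact ⟨k, by rw [kw_conj_pow_eq, hk]; group⟩

end kwcase

end Cfsg.Agent.Helper91
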