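import Mathlib
import Cfsg.Agent.Helper91.KWCase

/-!
# Kegel–Wielandt, coprime case: the counting contradiction
-/

set_option autoImplicit false
set_option linter.unusedSectionVars false
set_option linter.style.haveILetI false
open Pointwise

namespace Cfsg.Agent.Helper91

universe u

section kwcount
variable {G : Type u} [Group G] [Finite G] {H K : Subgroup G}

theorem card_add_one_le (hm : KWMin G) (hp : KWPair H K) : Nat.card H + 1 ≤ Nat.card K := by
  classical
  set M := Subgroup.normalizer (H : Set G) with hM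
  have hHM : H ≤ M := Subgroup.le_normalizer
  have hMt : M ≠ ⊤ := by
    intro h
    have hn : H.Normal := Subgroup.normalizer_eq_top_iff.mp h
    exact hp.H_ne_top (hm.normal_eq_top hn hp.H_ne_bot)
  obtain ⟨g, hg⟩ : ∃ g : G, g ∉ M := by
    by_contra hcon
    push Not at hcon
    exact hMt (eq_top_iff.mpr fun x _ => hcon x)
  have hout : ∀ (h : H) (m : M), (h : G) * g * (m : G) ∉ M := by
    intro h m hmem
    apply hg
    have e : g = (h : G)⁻¹ * ((h : G) * g * (m : G)) * (m : G)⁻¹ := by group
    rw [e]
    exact M.mul_mem (M.mul_mem (M.inv_mem (hHM h.2)) hmem) (M.inv_mem m.2)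
  let f : H × M → {a : G // a ∉ M} := fun hm' => ⟨(hm'.1 : G) * g * (hm'.2 : G), hout _ _⟩
  have hinj : Function.Injective f := by
    rintro ⟨h, m⟩ ⟨h', m'⟩ heq
    have heq' : (h : G) * g * (m : G) = (h' : G) * g * (m' : G) := congrArg Subtype.val heq
    set y : G := (h' : G)⁻¹ * (h : G) with hy
    have hyH : y ∈ H := H.mul_mem (H.inv_mem h'.2) h.2
    have hconj : g⁻¹ * y * g = (m' : G) * (m : G)⁻¹ := by
      have e : g⁻¹ * y * g = g⁻¹ * (h' : G)⁻¹ * ((h : G) * g * (m : G)) * (m : G)⁻¹ := by
        rw [hy]; group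
      rw [e, heq']; group
    have hcM : g⁻¹ * y * g ∈ M := by rw [hconj]; exact M.mul_mem m'.2 (M.inv_mem m.2)
    have hy1 : y = 1 := by
      by_contra hy1
      have hcH : g⁻¹ * y * g ∈ H := by
        apply mem_of_nz_of_coprime (nz_of_mem_normalizer hcM)
        have e : g⁻¹ * y * g = g⁻¹ * y * g⁻¹⁻¹ := by rw [inv_inv]
        rw [e, orderOf_conj_eq]
        have h1 : orderOf y ∣ Nat.card H := by
          have := orderOf_dvd_natCard (⟨y, hyH⟩ : H)
          rwa [Subgroup.orderOf_mk] at this
        exact Nat.Coprime.coprime_dvd_left h1 hp.hallH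
      exact hg (nz_of_conj_mem hm hp hyH hy1 hcH).mem_normalizer
    have hh : (h : G) = (h' : G) := by
      have e : (h : G) = (h' : G) * y := by rw [hy]; group
      rw [e, hy1, mul_one]
    have hmm : (m : G) = (m' : G) := by
      rw [hh] at heq'
      exact mul_left_cancel heq'
    exact Prod.ext (Subtype.ext hh) (Subtype.ext hmm)
  have h1 : Nat.card (H × M) ≤ Nat.card {a : G // a ∉ M} := Nat.card_le_card_of_injective f hinj
  rw [Nat.card_prod] at h1
  have h2 : Nat.card M + Nat.card {a : G // a ∉ M} = Nat.card G := by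
    rw [← Nat.card_sum]
    exact Nat.card_congr (Equiv.sumCompl (fun a : G => a ∈ M))
  have h3 : Nat.card M * M.index = Nat.card G := Subgroup.card_mul_index M
  have h4 : (Nat.card H + 1) * Nat.card M ≤ M.index * Nat.card M := by
    calc (Nat.card H + 1) * Nat.card M = Nat.card H * Nat.card M + Nat.card M := by ring
      _ ≤ Nat.card {a : G // a ∉ M} + Nat.card M := Nat.add_le_add_right h1 _
      _ = Nat.card G := by rw [← h2]; ring
      _ = M.index * Nat.card M := by rw [← h3]; ring
  have h5 : Nat.card H + 1 ≤ M.index := Nat.le_of_mul_le_mul_right h4 Nat.card_pos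
  have h6 : M.index ∣ Nat.card K := by
    rw [← hp.index_H]; exact Subgroup.index_dvd_of_le hHM
  exact le_trans h5 (Nat.le_of_dvd Nat.card_pos h6)

theorem kwmin_false (hm : KWMin G) (hp : KWPair H K) : False := by
  have h1 := card_add_one_le hm hp
  have h2 := card_add_one_le hm hp.symm
  omega

end kwcount

end Cfsg.Agent.Helper91
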