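import Mathlib
import Cfsg.Agent.Helper91.KWCount
import Cfsg.Agent.S0143

/-!
# Kegel–Wielandt, coprime case: a product of two nilpotent groups of coprime orders is solvable
-/

set_option autoImplicit false
set_option linter.unusedSectionVars false
set_option linter.style.haveILetI false
open Pointwise

namespace Cfsg.Agent.Helper91

universe u

/-- The statement of the coprime Kegel–Wielandt theorem for groups of order `n` (in universe `u`). -/
def KWStatement (n : ℕ) : Prop :=
  ∀ (G : Type u) [Group G] [Finite G], Nat.card G = n → ∀ H K : Subgroup G,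
    Group.IsNilpotent H → Group.IsNilpotent K → (Nat.card H).Coprime (Nat.card K) →
    (∀ g : G, ∃ h ∈ H, ∃ k ∈ K, g = h * k) → Group.IsSolvable G

section kwfinal
variable {G : Type u} [Group G] [Finite G]

theorem card_lt_of_ne_top {L : Subgroup G} (hL : L ≠ ⊤) : Nat.card L < Nat.card G := by
  apply lt_of_le_of_ne (Subgroup.card_le_card_group L)
  intro h
  exact hL ((Subgroup.card_eq_iff_eq_top L).mp h)

/-- The induction hypothesis, transported to proper subgroups. -/
theorem kw_ih_sub {n : ℕ} (IH : ∀ m < n, KWStatement.{u} m) (hn : Nat.card G = n)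
    (L H₁ K₁ : Subgroup G) (hL : L ≠ ⊤) (hH : H₁ ≤ L) (hK : K₁ ≤ L)
    (nilH : Group.IsNilpotent H₁) (nilK : Group.IsNilpotent K₁)
    (cop : (Nat.card H₁).Coprime (Nat.card K₁))
    (fac : ∀ g ∈ L, ∃ h ∈ H₁, ∃ k ∈ K₁, g = h * k) : Group.IsSolvable L := by
  have hlt : Nat.card L < n := hn ▸ card_lt_of_ne_top hL
  apply IH (Nat.card L) hlt L rfl (H₁.subgroupOf L) (K₁.subgroupOf L)
  · exact Group.nilpotent_of_mulEquiv (Subgroup.subgroupOfEquivOfLe hH).symm
  · exact Group.nilpotent_of_mulEquiv (Subgroup.subgroupOfEquivOfLe hK).symm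
  · rw [card_subgroupOf_eq hH, card_subgroupOf_eq hK]; exact cop
  · intro g
    obtain ⟨h, hh, k, hk, hgk⟩ := fac g.1 g.2
    exact ⟨⟨h, hH hh⟩, by rw [Subgroup.mem_subgroupOf]; exact hh, ⟨k, hK hk⟩,
      by rw [Subgroup.mem_subgroupOf]; exact hk, Subtype.ext hgk⟩

/-- The induction hypothesis, transported to proper quotients. -/
theorem kw_ih_quot {n : ℕ} (IH : ∀ m < n, KWStatement.{u} m) (hn : Nat.card G = n)
    (N : Subgroup G) [N.Normal] (hN : N ≠ ⊥) {H K : Subgroup G}
    (nilH : Group.IsNilpotent H) (nilK : Group.IsNilpotent K)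
    (cop : (Nat.card H).Coprime (Nat.card K))
    (fac : ∀ g : G, ∃ h ∈ H, ∃ k ∈ K, g = h * k) : Group.IsSolvable (G ⧸ N) := by
  have hlt : Nat.card (G ⧸ N) < n := by
    rw [← hn, Subgroup.card_eq_card_quotient_mul_card_subgroup N]
    have h1 : 1 < Nat.card N := by
      rw [Finite.one_lt_card_iff_nontrivial]
      exact (Subgroup.nontrivial_iff_ne_bot N).mpr hN
    have h2 : 0 < Nat.card (G ⧸ N) := Nat.card_pos
    nlinarith
  set f := QuotientGroup.mk' N with hf
  apply IH _ hlt (G ⧸ N) rfl (H.map f) (K.map f)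
  · haveI := nilH
    exact Group.nilpotent_of_surjective (f.subgroupMap H) (f.subgroupMap_surjective H)
  · haveI := nilK
    exact Group.nilpotent_of_surjective (f.subgroupMap K) (f.subgroupMap_surjective K)
  · exact Nat.Coprime.coprime_dvd_left
      (Subgroup.card_dvd_of_surjective _ (f.subgroupMap_surjective H))
      (Nat.Coprime.coprime_dvd_right
        (Subgroup.card_dvd_of_surjective _ (f.subgroupMap_surjective K)) cop)
  · intro x
    obtain ⟨g, rfl⟩ := QuotientGroup.mk'_surjective N x
    obtain ⟨h, hh, k, hk, rfl⟩ := fac g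
    exact ⟨f h, Subgroup.mem_map_of_mem f hh, f k, Subgroup.mem_map_of_mem f hk, map_mul f h k⟩

/-- A minimal counterexample is simple. -/
theorem kw_simple {n : ℕ} (IH : ∀ m < n, KWStatement.{u} m) (hn : Nat.card G = n)
    (hns : ¬ Group.IsSolvable G) {H K : Subgroup G}
    (nilH : Group.IsNilpotent H) (nilK : Group.IsNilpotent K)
    (cop : (Nat.card H).Coprime (Nat.card K))
    (fac : ∀ g : G, ∃ h ∈ H, ∃ k ∈ K, g = h * k) (N : Subgroup G) (hNn : N.Normal) :
    N = ⊥ ∨ N = ⊤ := by
  by_contra hcon
  push Not at hcon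
  obtain ⟨hNb, hNt⟩ := hcon
  apply hns
  haveI := hNn
  haveI hq : Group.IsSolvable (G ⧸ N) := kw_ih_quot IH hn N hNb nilH nilK cop fac
  suffices hsN : Group.IsSolvable N by
    haveI := hsN
    exact Group.isSolvable_of_ker_le_range N.subtype (QuotientGroup.mk' N) (by simp)
  by_cases h1 : H ⊔ N = ⊤
  · by_cases h2 : K ⊔ N = ⊤
    · exfalso
      apply hNt
      have e1 : N.index ∣ Nat.card H := by
        have := Subgroup.relIndex_sup_right H N
        rw [h1, Subgroup.relIndex_top_right] at this
        rw [this]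
        exact Subgroup.index_dvd_card _
      have e2 : N.index ∣ Nat.card K := by
        have := Subgroup.relIndex_sup_right K N
        rw [h2, Subgroup.relIndex_top_right] at this
        rw [this]
        exact Subgroup.index_dvd_card _
      exact Subgroup.index_eq_one.mp (Nat.eq_one_of_dvd_coprimes cop e1 e2)
    · set L := K ⊔ N with hL
      have hKL : K ≤ L := le_sup_left
      have hsL : Group.IsSolvable L := by
        apply kw_ih_sub IH hn L (L ⊓ H) K h2 inf_le_left hKL
          (Cfsg.Agent.S0581.nilpotent_of_le inf_le_right nilH) nilK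
          (Nat.Coprime.coprime_dvd_left (Subgroup.card_dvd_of_le inf_le_right) cop)
        intro g hg
        obtain ⟨h, hh, k, hk, rfl⟩ := fac g
        refine ⟨h, Subgroup.mem_inf.2 ⟨?_, hh⟩, k, hk, rfl⟩
        have e : h = (h * k) * k⁻¹ := by group
        rw [e]
        exact L.mul_mem hg (L.inv_mem (hKL hk))
      haveI := hsL
      have hNL : N ≤ L := le_sup_right
      exact Group.isSolvable_of_isSolvable_injective (f := Subgroup.inclusion hNL)
        (Subgroup.inclusion_injective hNL)
  · set L := H ⊔ N with hL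
    have hHL : H ≤ L := le_sup_left
    have hsL : Group.IsSolvable L := by
      apply kw_ih_sub IH hn L H (L ⊓ K) h1 hHL inf_le_left nilH
        (Cfsg.Agent.S0581.nilpotent_of_le inf_le_right nilK)
        (Nat.Coprime.coprime_dvd_right (Subgroup.card_dvd_of_le inf_le_right) cop)
      intro g hg
      obtain ⟨h, hh, k, hk, rfl⟩ := fac g
      refine ⟨h, hh, k, Subgroup.mem_inf.2 ⟨?_, hk⟩, rfl⟩
      have e : k = h⁻¹ * (h * k) := by group
      rw [e]
      exact L.mul_mem (L.inv_mem (hHL hh)) hg
    haveI := hsL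
    have hNL : N ≤ L := le_sup_right
    exact Group.isSolvable_of_isSolvable_injective (f := Subgroup.inclusion hNL)
      (Subgroup.inclusion_injective hNL)

/-- In a non-solvable simple group `G = HK`, `H` is not of prime power order (Burnside). -/
theorem kw_not_prime_pow (hsimple : ∀ N : Subgroup G, N.Normal → N = ⊥ ∨ N = ⊤)
    (hns : ¬ Group.IsSolvable G) {H K : Subgroup G}
    (nilH : Group.IsNilpotent H) (nilK : Group.IsNilpotent K)
    (cop : (Nat.card H).Coprime (Nat.card K))
    (fac : ∀ g : G, ∃ h ∈ H, ∃ k ∈ K, g = h * k) :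
    ∀ (p k : ℕ), p.Prime → Nat.card H ≠ p ^ k := by
  intro p k hpP hcard
  apply hns
  by_cases hKb : K = ⊥
  · have hHt : H = ⊤ := by
      rw [eq_top_iff]
      intro g _
      obtain ⟨h, hh, k', hk', rfl⟩ := fac g
      rw [hKb, Subgroup.mem_bot] at hk'
      rw [hk', mul_one]; exact hh
    have h1 : Group.IsNilpotent (⊤ : Subgroup G) := hHt ▸ nilH
    haveI := h1
    haveI : Group.IsNilpotent G := Group.nilpotent_of_mulEquiv (Subgroup.topEquiv (G := G))
    infer_instance
  · haveI : Nontrivial K := (Subgroup.nontrivial_iff_ne_bot K).mpr hKb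
    haveI := nilK
    have hcb : Subgroup.center K ≠ ⊥ := Group.IsNilpotent.center_ne_bot K
    obtain ⟨w₀, hw₀1⟩ := (Subgroup.ne_bot_iff_exists_ne_one).mp hcb
    have hw1 : ((w₀ : K) : G) ≠ 1 := by
      intro h
      apply hw₀1
      apply Subtype.ext
      apply Subtype.ext
      simpa using h
    set w : G := ((w₀ : K) : G) with hw
    have hKc : K ≤ Subgroup.centralizer ({w} : Set G) := by
      intro k' hk'
      rw [mem_centralizer_singleton_iff]
      have := Subgroup.mem_center_iff.mp w₀.2 ⟨k', hk'⟩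
      have := congrArg (fun x : K => (x : G)) this
      simpa using this
    have hcardG : Nat.card G = Nat.card H * Nat.card K := by
      have := card_of_fac (L := ⊤) le_top le_top cop (fun g _ => fac g)
      rwa [Subgroup.card_top] at this
    have hKi : K.index = Nat.card H := by
      have := Subgroup.card_mul_index K
      rw [hcardG, mul_comm (Nat.card H)] at this
      exact Nat.eq_of_mul_eq_mul_left Nat.card_pos this
    have hdvd : (Subgroup.centralizer ({w} : Set G)).index ∣ p ^ k := by
      rw [← hcard, ← hKi]; exact Subgroup.index_dvd_of_le hKc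
    obtain ⟨j, _, hj⟩ := (Nat.dvd_prime_pow hpP).mp hdvd
    haveI : Nontrivial G := ⟨⟨w, 1, hw1⟩⟩
    haveI : IsSimpleGroup G := ⟨hsimple⟩
    have hprime := Cfsg.Agent.S0143.result p j hpP w hw1 hj
    haveI : Fact (Nat.card G).Prime := ⟨hprime⟩
    haveI : IsCyclic G := isCyclic_of_prime_card rfl
    exact Group.isSolvable_of_comm (isMulCommutative_iff.mp IsCyclic.isMulCommutative)

/-- **Kegel–Wielandt, coprime case** (Wielandt 1951). -/
theorem kw_statement : ∀ n : ℕ, KWStatement.{u} n := by
  intro n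
  induction n using Nat.strong_induction_on with
  | _ n IH =>
    intro G _ _ hn H K nilH nilK cop fac
    by_contra hns
    have hsimple : ∀ N : Subgroup G, N.Normal → N = ⊥ ∨ N = ⊤ :=
      fun N hN => kw_simple IH hn hns nilH nilK cop fac N hN
    have hm : KWMin G :=
      ⟨hsimple, hns, fun L H₁ K₁ hL hH hK nH nK c f => kw_ih_sub IH hn L H₁ K₁ hL hH hK nH nK c f⟩
    have fac' : ∀ g : G, ∃ k ∈ K, ∃ h ∈ H, g = k * h := by
      intro g
      obtain ⟨h, hh, k, hk, hg⟩ := fac g⁻¹
      refine ⟨k⁻¹, K.inv_mem hk, h⁻¹, H.inv_mem hh, ?_⟩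
      rw [← mul_inv_rev, ← hg, inv_inv]
    have hp : KWPair H K :=
      ⟨nilH, nilK, cop, fac, kw_not_prime_pow hsimple hns nilH nilK cop fac,
        kw_not_prime_pow hsimple hns nilK nilH cop.symm fac'⟩
    exact kwmin_false hm hp

theorem kw_solvable {G : Type u} [Group G] [Finite G] (H K : Subgroup G)
    (nilH : Group.IsNilpotent H) (nilK : Group.IsNilpotent K)
    (cop : (Nat.card H).Coprime (Nat.card K))
    (fac : ∀ g : G, ∃ h ∈ H, ∃ k ∈ K, g = h * k) : Group.IsSolvable G :=
  kw_statement _ G rfl H K nilH nilK cop fac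

end kwfinal

end Cfsg.Agent.Helper91
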