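import Mathlib

set_option autoImplicit false
open scoped Pointwise

namespace Cfsg.Agent.Helper91

universe u
variable {G : Type u} [Group G]

/-- The weak closure of `Z` in `N`: the subgroup generated by the conjugates of `Z` lying in `N`. -/
def wcl (Z N : Subgroup G) : Subgroup G :=
  ⨆ g ∈ {g : G | MulAut.conj g • Z ≤ N}, MulAut.conj g • Z

theorem wcl_le (Z N : Subgroup G) : wcl Z N ≤ N :=
  iSup₂_le fun _ hg => hg

theorem le_wcl {Z N : Subgroup G} {g : G} (hg : MulAut.conj g • Z ≤ N) :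
    MulAut.conj g • Z ≤ wcl Z N :=
  le_iSup₂ (f := fun (g : G) (_ : g ∈ {g : G | MulAut.conj g • Z ≤ N}) => MulAut.conj g • Z) g hg

theorem wcl_mono (Z : Subgroup G) {N N' : Subgroup G} (h : N ≤ N') : wcl Z N ≤ wcl Z N' :=
  iSup₂_le fun _ hg => le_wcl (le_trans hg h)

theorem mconj_smul_smul (a b : G) (X : Subgroup G) :
    MulAut.conj a • MulAut.conj b • X = MulAut.conj (a * b) • X := by
  rw [map_mul, mul_smul]

theorem mconj_smul_le_of_mem_normalizer {x : G} {N B : Subgroup G}
    (hx : x ∈ Subgroup.normalizer (N : Set G)) (hB : B ≤ N) : MulAut.conj x • B ≤ N := by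
  rintro _ ⟨b, hb, rfl⟩
  exact (Subgroup.mem_normalizer_iff.1 hx b).1 (hB hb)

theorem smul_wcl_le {x : G} {Z N : Subgroup G} (hx : x ∈ Subgroup.normalizer (N : Set G)) :
    MulAut.conj x • wcl Z N ≤ wcl Z N := by
  rw [Subgroup.pointwise_smul_subset_iff]
  refine iSup₂_le fun g hg => ?_
  rw [← Subgroup.pointwise_smul_subset_iff, mconj_smul_smul]
  refine le_wcl ?_
  rw [← mconj_smul_smul]
  exact mconj_smul_le_of_mem_normalizer hx hg

theorem normalizer_le_normalizer_wcl (Z N : Subgroup G) :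
    Subgroup.normalizer (N : Set G) ≤ Subgroup.normalizer ((wcl Z N : Subgroup G) : Set G) := by
  rw [Subgroup.le_normalizer_iff]
  intro x hx k hk
  exact smul_wcl_le hx (Subgroup.smul_mem_pointwise_smul _ _ _ hk)

/-- In a finite `p`-group, a proper subgroup is properly contained in its normaliser. -/
theorem lt_inf_normalizer_of_lt {p : ℕ} [Fact p.Prime] [Finite G] {H P : Subgroup G}
    (hP : IsPGroup p P) (hlt : H < P) : H < P ⊓ Subgroup.normalizer (H : Set G) := by
  have hnil : Group.IsNilpotent ↥P := hP.isNilpotent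
  have h1 : H.subgroupOf P < ⊤ := by
    rw [lt_top_iff_ne_top]
    intro h
    rw [Subgroup.subgroupOf_eq_top] at h
    exact hlt.not_ge h
  have h2 := Group.normalizerCondition_of_isNilpotent (G := ↥P) _ h1
  rw [← Subgroup.subgroupOf_normalizer_eq hlt.le] at h2
  refine lt_of_le_of_ne (le_inf hlt.le Subgroup.le_normalizer) ?_
  intro heq
  apply h2.ne
  ext ⟨x, hx⟩
  simp only [Subgroup.mem_subgroupOf]
  constructor
  · intro h; exact Subgroup.le_normalizer h
  · intro h
    have : x ∈ P ⊓ Subgroup.normalizer (H : Set G) := ⟨hx, h⟩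
    rwa [← heq] at this

/-- **Matsuyama's lemma.** -/
theorem matsuyama [Finite G] (p : ℕ) [Fact p.Prime] (Z Y : Subgroup G)
    (h : ∀ g : G, IsPGroup p ↥(⨆ y ∈ Y, MulAut.conj (y * g) • Z)) :
    ∃ P : Sylow p G, Y ≤ Subgroup.normalizer ((wcl Z (P : Subgroup G) : Subgroup G) : Set G) := by
  classical
  -- the Y-closure of a conjugate
  let X : G → Subgroup G := fun g => ⨆ y ∈ Y, MulAut.conj (y * g) • Z
  have hXY : ∀ g, ∀ y ∈ Y, MulAut.conj y • X g ≤ X g := by
    intro g y hy
    rw [Subgroup.pointwise_smul_subset_iff]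
    refine iSup₂_le fun y' hy' => ?_
    rw [← Subgroup.pointwise_smul_subset_iff, mconj_smul_smul, ← mul_assoc]
    exact le_iSup₂ (f := fun (y : G) (_ : y ∈ Y) => MulAut.conj (y * g) • Z) (y * y')
      (Y.mul_mem hy hy')
  have hXnorm : ∀ g, Y ≤ Subgroup.normalizer ((X g : Subgroup G) : Set G) := by
    intro g
    rw [Subgroup.le_normalizer_iff]
    intro y hy k hk
    exact hXY g y hy (Subgroup.smul_mem_pointwise_smul _ _ _ hk)
  have hXle : ∀ g, ∀ y ∈ Y, MulAut.conj (y * g) • Z ≤ X g := fun g y hy =>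
    le_iSup₂ (f := fun (y : G) (_ : y ∈ Y) => MulAut.conj (y * g) • Z) y hy
  have hXwcl : ∀ g (N : Subgroup G), X g ≤ N → X g ≤ wcl Z N := by
    intro g N hN
    exact iSup₂_le fun y hy => le_wcl (le_trans (hXle g y hy) hN)
  let 𝒲 : Set (Subgroup G) := {W | IsPGroup p W ∧ Y ≤ Subgroup.normalizer (W : Set G) ∧
    W ≤ wcl Z W}
  have h𝒲ne : X 1 ∈ 𝒲 := ⟨h 1, hXnorm 1, hXwcl 1 _ le_rfl⟩
  obtain ⟨W, -, hWmax⟩ := (Set.toFinite 𝒲).exists_le_maximal h𝒲ne
  obtain ⟨hWp, hWY, hWwcl⟩ := hWmax.prop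
  obtain ⟨P, hWP⟩ := hWp.exists_le_sylow
  refine ⟨P, ?_⟩
  suffices hVW : wcl Z (P : Subgroup G) = W by rw [hVW]; exact hWY
  by_contra hne
  have hWV : W ≤ wcl Z (P : Subgroup G) := hWwcl.trans (wcl_mono Z hWP)
  -- there is a conjugate of `Z` normalising `W` and not contained in `W`
  have hex : ∃ g : G, MulAut.conj g • Z ≤ Subgroup.normalizer (W : Set G) ∧
      ¬ MulAut.conj g • Z ≤ W := by
    by_contra hno
    push Not at hno
    set N := (P : Subgroup G) ⊓ Subgroup.normalizer (W : Set G) with hN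
    have hWN : W ≤ N := le_inf hWP Subgroup.le_normalizer
    have h1 : wcl Z N = W := by
      refine le_antisymm ?_ (hWwcl.trans (wcl_mono Z hWN))
      refine iSup₂_le fun g hg => ?_
      exact hno g (le_trans hg inf_le_right)
    have h2 : Subgroup.normalizer (N : Set G) ≤ Subgroup.normalizer (W : Set G) := by
      have := normalizer_le_normalizer_wcl Z N
      rwa [h1] at this
    have h3 : N = (P : Subgroup G) := by
      by_contra hNP
      have hlt : N < (P : Subgroup G) := lt_of_le_of_ne inf_le_left hNP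
      have h4 := lt_inf_normalizer_of_lt P.2 hlt
      have h5 : (P : Subgroup G) ⊓ Subgroup.normalizer (N : Set G) ≤ N :=
        le_inf inf_le_left (inf_le_right.trans h2)
      exact h4.not_ge h5
    apply hne
    rw [← h3]
    exact h1
  obtain ⟨g, hgN, hgW⟩ := hex
  -- enlarge `W`
  have hXN : X g ≤ Subgroup.normalizer (W : Set G) := by
    refine iSup₂_le fun y hy => ?_
    rw [← mconj_smul_smul]
    rintro _ ⟨b, hb, rfl⟩
    have hb' := hgN hb
    have hy' := hWY hy
    have : (MulAut.conj y) b = y * b * y⁻¹ := by simp [MulAut.conj_apply]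
    change (MulAut.conj y) b ∈ _
    rw [this]
    exact Subgroup.mul_mem _ (Subgroup.mul_mem _ hy' hb') (Subgroup.inv_mem _ hy')
  have hW' : W ⊔ X g ∈ 𝒲 := by
    refine ⟨IsPGroup.to_sup_of_normal_left' hWp (h g) hXN, ?_, ?_⟩
    · exact le_trans (le_inf hWY (hXnorm g))
        (Subgroup.normalizer_inf_normalizer_le_normalizer_sup W (X g))
    · exact sup_le (hWwcl.trans (wcl_mono Z le_sup_left)) (hXwcl g _ le_sup_right)
  have hle := hWmax.le_of_ge hW' le_sup_left
  apply hgW
  have := hXle g 1 Y.one_mem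
  rw [one_mul] at this
  exact this.trans (le_sup_right.trans hle)

end Cfsg.Agent.Helper91
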