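import Cfsg.Agent.Helper91.WielandtCriterion

set_option autoImplicit false
open scoped Pointwise

namespace Cfsg.Agent.Helper91

universe u
variable {G : Type u} [Group G]

theorem conj_smul_eq_of_mem_normalizer {x : G} {M : Subgroup G}
    (hx : x ∈ Subgroup.normalizer (M : Set G)) : MulAut.conj x • M = M := by
  ext y
  rw [Subgroup.mem_pointwise_smul_iff_inv_smul_mem, ← map_inv, MulAut.smul_def, MulAut.conj_apply,
    inv_inv]
  have := (Subgroup.mem_normalizer_iff.1 (Subgroup.inv_mem _ hx) y)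
  rw [inv_inv] at this
  exact this.symm

theorem mem_normalizer_of_conj_smul_eq {x : G} {M : Subgroup G}
    (hx : MulAut.conj x • M = M) : x ∈ Subgroup.normalizer (M : Set G) := by
  rw [Subgroup.mem_normalizer_iff]
  intro y
  constructor
  · intro hy
    have : x * y * x⁻¹ ∈ MulAut.conj x • M := by
      have := Subgroup.smul_mem_pointwise_smul y (MulAut.conj x) M hy
      rwa [MulAut.smul_def, MulAut.conj_apply] at this
    rwa [hx] at this
  · intro hy
    rw [← hx, Subgroup.mem_pointwise_smul_iff_inv_smul_mem, ← map_inv, MulAut.smul_def,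
      MulAut.conj_apply, inv_inv] at hy
    have e : x⁻¹ * (x * y * x⁻¹) * x = y := by group
    rwa [e] at hy

theorem conj_smul_le_of_mem {N B : Subgroup G} {g : G} (hg : g ∈ N) (hB : B ≤ N) :
    MulAut.conj g • B ≤ N := by
  have := Subgroup.pointwise_smul_le_pointwise_smul_iff (a := MulAut.conj g) |>.2 hB
  rwa [Subgroup.conj_smul_eq_self_of_mem hg] at this

/-- Sharpened Wielandt subnormality criterion, relative form: only conjugates of `A` by
`N`-conjugates of elements of `A` are needed. -/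
theorem wielandt_sharp_aux [Finite G] : ∀ (n : ℕ) (N A : Subgroup G), Nat.card ↥N = n → A ≤ N →
    (∀ a ∈ A, ∀ g ∈ N, RelSN A (A ⊔ MulAut.conj (g⁻¹ * a * g) • A)) → RelSN A N := by
  intro n
  induction n using Nat.strong_induction_on with
  | _ n ih =>
    intro N A hcard hAN hyp
    by_contra hnot
    have hAneN : A ≠ N := by
      rintro rfl; exact hnot (RelSN.refl _)
    have IH : ∀ V B : Subgroup G, V < N → B ≤ V →
        (∀ b ∈ B, ∀ g ∈ V, RelSN B (B ⊔ MulAut.conj (g⁻¹ * b * g) • B)) → RelSN B V := by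
      intro V B hVN hBV h
      exact ih (Nat.card ↥V) (hcard ▸ card_lt_of_lt hVN) V B rfl hBV h
    have hypconj : ∀ m ∈ N, ∀ b ∈ MulAut.conj m • A, ∀ g ∈ N, RelSN (MulAut.conj m • A)
        (MulAut.conj m • A ⊔ MulAut.conj (g⁻¹ * b * g) • MulAut.conj m • A) := by
      intro m hm b hb g hg
      obtain ⟨a, ha, rfl⟩ := hb
      have hg' : m⁻¹ * g * m ∈ N := N.mul_mem (N.mul_mem (N.inv_mem hm) hg) hm
      have h1 := (hyp a ha (m⁻¹ * g * m) hg').smul m
      rw [Subgroup.smul_sup, conj_smul_smul] at h1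
      have e : m * ((m⁻¹ * g * m)⁻¹ * a * (m⁻¹ * g * m)) = (g⁻¹ * (m * a * m⁻¹) * g) * m := by
        group
      rw [e, ← conj_smul_smul] at h1
      exact h1
    let 𝒞 : Set (Subgroup G) := {B | ∃ m ∈ N, B = MulAut.conj m • A}
    let U : Set (Subgroup G) := {V | A ≤ V ∧ V < N}
    let S : Subgroup G → Set (Subgroup G) := fun V => {B | B ∈ 𝒞 ∧ RelSN B V}
    have hA𝒞 : A ∈ 𝒞 := ⟨1, N.one_mem, by rw [map_one, one_smul]⟩
    have hAU : A ∈ U := ⟨le_rfl, lt_of_le_of_ne hAN hAneN⟩
    have hmem : ∀ V ∈ U, ∀ B ∈ 𝒞, B ≤ V → B ∈ S V := by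
      rintro V ⟨_, hVN⟩ B ⟨m, hm, rfl⟩ hBV
      exact ⟨⟨m, hm, rfl⟩, IH V _ hVN hBV fun b hb g hg => hypconj m hm b hb g (hVN.le hg)⟩
    have h𝒞conj : ∀ m ∈ N, ∀ B ∈ 𝒞, MulAut.conj m • B ∈ 𝒞 := by
      rintro m hm B ⟨m', hm', rfl⟩
      exact ⟨m * m', N.mul_mem hm hm', conj_smul_smul m m' A⟩
    have hzip : ∃ M ∈ U, ∀ V ∈ U, V ≤ M := by
      refine zipper N 𝒞 U ⟨A, hAU⟩ (fun V hV => hV.2.le) ?_ S (fun V B => Iff.rfl) ?_ ?_
      · intro V hV B hB v hv
        exact h𝒞conj v (hV.2.le hv) B hB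
      · intro V hV W _ B hB hBV
        exact hmem V hV B hB.1 hBV
      · intro V hV W hW
        set D := sSup (S V ∩ S W) with hD
        have hAS : A ∈ S V ∩ S W := ⟨hmem V hV A hA𝒞 hV.1, hmem W hW A hA𝒞 hW.1⟩
        have hAD : A ≤ D := le_sSup hAS
        have hDV : D ≤ V := sSup_le fun B hB => hB.1.2.le
        refine ⟨N ⊓ Subgroup.normalizer (D : Set G), ⟨?_, ?_⟩, le_rfl⟩
        · exact le_inf hAN (hAD.trans Subgroup.le_normalizer)
        · refine lt_of_le_of_ne inf_le_left ?_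
          intro heq
          have hNn : N ≤ Subgroup.normalizer (D : Set G) := inf_eq_left.1 heq
          have h1 : RelSN A D := (hAS.1.2).mono hAD hDV
          have h2 : RelSN D N := RelSN.of_normal (hDV.trans hV.2.le) hNn
          exact hnot (h1.trans h2)
    obtain ⟨M, hMU, hMmax⟩ := hzip
    -- the special conjugating elements normalise `M`
    have hXN : ∀ a ∈ A, ∀ g ∈ N, g⁻¹ * a * g ∈ N := fun a ha g hg =>
      N.mul_mem (N.mul_mem (N.inv_mem hg) (hAN ha)) hg
    have hconjM : ∀ a ∈ A, ∀ g ∈ N, MulAut.conj (g⁻¹ * a * g) • A ≤ M := by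
      intro a ha g hg
      have hle : A ⊔ MulAut.conj (g⁻¹ * a * g) • A ≤ N :=
        sup_le hAN (conj_smul_le_of_mem (hXN a ha g hg) hAN)
      have hne : A ⊔ MulAut.conj (g⁻¹ * a * g) • A ≠ N := by
        intro heq
        exact hnot (heq ▸ hyp a ha g hg)
      exact le_trans le_sup_right (hMmax _ ⟨le_sup_left, lt_of_le_of_ne hle hne⟩)
    have hXnorm : ∀ a ∈ A, ∀ g ∈ N, g⁻¹ * a * g ∈ Subgroup.normalizer (M : Set G) := by
      intro a ha g hg
      set x := g⁻¹ * a * g with hx
      have hxN : x ∈ N := hXN a ha g hg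
      -- `A ≤ x⁻¹ • M`, which is again a member of `U`
      have h1 : A ≤ MulAut.conj x⁻¹ • M := by
        have := Subgroup.pointwise_smul_le_pointwise_smul_iff (a := MulAut.conj x⁻¹) |>.2
          (hconjM a ha g hg)
        rwa [conj_smul_smul, inv_mul_cancel, map_one, one_smul] at this
      have h2 : MulAut.conj x⁻¹ • M ≤ N := conj_smul_le_of_mem (N.inv_mem hxN) hMU.2.le
      have h3 : MulAut.conj x⁻¹ • M ≠ N := by
        intro heq
        have h4 : Nat.card ↥(MulAut.conj x⁻¹ • M) = Nat.card ↥M :=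
          Nat.card_congr (Subgroup.equivSMul (MulAut.conj x⁻¹) M).symm.toEquiv
        rw [heq] at h4
        exact (card_lt_of_lt hMU.2).ne h4.symm
      have h5 : MulAut.conj x⁻¹ • M ≤ M := hMmax _ ⟨h1, lt_of_le_of_ne h2 h3⟩
      have h6 : MulAut.conj x⁻¹ • M = M := by
        refine Subgroup.eq_of_le_of_card_ge h5 ?_
        exact (Nat.card_congr (Subgroup.equivSMul (MulAut.conj x⁻¹) M).toEquiv).le
      have := mem_normalizer_of_conj_smul_eq h6
      simpa using Subgroup.inv_mem _ this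
    set C := sSup 𝒞 with hC
    have hAC : A ≤ C := le_sSup hA𝒞
    have hCleN : C ≤ N := sSup_le (by rintro B ⟨m, hm, rfl⟩; exact conj_smul_le_of_mem hm hAN)
    have hNC : N ≤ Subgroup.normalizer (C : Set G) := by
      rw [Subgroup.le_normalizer_iff]
      intro x hx k hk
      have hxC : MulAut.conj x • C ≤ C := by
        rw [Subgroup.pointwise_smul_subset_iff, hC, sSup_le_iff]
        intro B hB
        rw [← Subgroup.pointwise_smul_subset_iff]
        exact le_sSup (h𝒞conj x hx B hB)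
      exact hxC (Subgroup.smul_mem_pointwise_smul _ _ _ hk)
    have hCeq : C = N := by
      by_contra hne
      have hCN : C < N := lt_of_le_of_ne hCleN hne
      have h1 : RelSN A C := IH C A hCN hAC fun a ha g hg => hyp a ha g (hCN.le hg)
      have h2 : RelSN C N := RelSN.of_normal hCN.le hNC
      exact hnot (h1.trans h2)
    have hCnorm : C ≤ Subgroup.normalizer (M : Set G) := by
      refine sSup_le ?_
      rintro B ⟨m, hm, rfl⟩ y ⟨a, ha, rfl⟩
      have := hXnorm a ha m⁻¹ (N.inv_mem hm)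
      simpa [MulAut.smul_def, MulAut.conj_apply] using this
    have hCM : C ≤ M := by
      refine sSup_le ?_
      rintro B ⟨m, hm, rfl⟩
      have h1 := Subgroup.pointwise_smul_le_pointwise_smul_iff (a := MulAut.conj m) |>.2 hMU.1
      rwa [conj_smul_eq_of_mem_normalizer (hCnorm (hCeq ▸ hm))] at h1
    exact (lt_of_le_of_lt hCM hMU.2).ne hCeq

/-- Sharpened Wielandt subnormality criterion. -/
theorem wielandt_sharp [Finite G] (A : Subgroup G)
    (h : ∀ a ∈ A, ∀ g : G, RelSN A (A ⊔ MulAut.conj (g⁻¹ * a * g) • A)) : A.IsSubnormal :=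
  relSN_top_iff.1 (wielandt_sharp_aux _ ⊤ A rfl le_top fun a ha g _ => h a ha g)

end Cfsg.Agent.Helper91
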