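import Cfsg.Agent.Helper91.SubnormalNilpotent
import Cfsg.Agent.Helper91.WielandtSharp
import Cfsg.Agent.Helper91.Matsuyama

set_option autoImplicit false
open scoped Pointwise

namespace Cfsg.Agent.Helper91

universe u
variable {G : Type u} [Group G]

/-- The `p`-core of a subgroup `L`, viewed as a subgroup of the ambient group. -/
def relPCore (p : ℕ) (L : Subgroup G) : Subgroup G := (Cfsg.pCore p ↥L).map L.subtype

theorem relPCore_le (p : ℕ) (L : Subgroup G) : relPCore p L ≤ L :=
  Subgroup.map_subtype_le _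

theorem isPGroup_relPCore (p : ℕ) (L : Subgroup G) : IsPGroup p ↥(relPCore p L) :=
  (Cfsg.Agent.Lib.isPGroup_pCore p).map _

theorem le_normalizer_relPCore (p : ℕ) (L : Subgroup G) :
    L ≤ Subgroup.normalizer ((relPCore p L : Subgroup G) : Set G) := by
  have hc : (Cfsg.pCore p ↥L).Characteristic := Cfsg.Agent.Lib.pCore_characteristic p
  have hn : (Cfsg.pCore p ↥L).Normal := inferInstance
  rw [Subgroup.le_normalizer_iff]
  rintro x hx _ ⟨k, hk, rfl⟩
  refine ⟨⟨x, hx⟩ * k * ⟨x, hx⟩⁻¹, hn.conj_mem k hk ⟨x, hx⟩, ?_⟩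
  simp

theorem le_relPCore {p : ℕ} {X L : Subgroup G} (hXL : X ≤ L)
    (hn : L ≤ Subgroup.normalizer (X : Set G)) (hp : IsPGroup p ↥X) : X ≤ relPCore p L := by
  have h1 : (X.subgroupOf L).Normal := (Subgroup.normal_subgroupOf_iff_le_normalizer hXL).2 hn
  have h2 : IsPGroup p ↥(X.subgroupOf L) := hp.comap_subtype
  have h3 : X.subgroupOf L ≤ Cfsg.pCore p ↥L := Cfsg.Agent.Lib.le_pCore h1 h2
  rw [← Subgroup.map_subgroupOf_eq_of_le hXL]
  exact Subgroup.map_mono h3

theorem normalizer_conj_smul (x : G) (R : Subgroup G) :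
    Subgroup.normalizer ((MulAut.conj x • R : Subgroup G) : Set G) =
      MulAut.conj x • Subgroup.normalizer (R : Set G) := by
  ext y
  rw [Subgroup.mem_pointwise_smul_iff_inv_smul_mem, Subgroup.mem_normalizer_iff,
    Subgroup.mem_normalizer_iff]
  constructor
  · intro h z
    have := h (MulAut.conj x • z)
    rw [Subgroup.smul_mem_pointwise_smul_iff, Subgroup.mem_pointwise_smul_iff_inv_smul_mem] at this
    rw [this]
    simp only [MulAut.smul_def, MulAut.conj_apply, MulAut.conj_inv_apply]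
    constructor <;> intro h' <;> convert h' using 1 <;> group
  · intro h z
    rw [Subgroup.mem_pointwise_smul_iff_inv_smul_mem, Subgroup.mem_pointwise_smul_iff_inv_smul_mem,
      h ((MulAut.conj x)⁻¹ • z)]
    simp only [MulAut.smul_def, MulAut.conj_inv_apply]
    constructor <;> intro h' <;> convert h' using 1 <;> group

theorem normalizer_le_normalizer_relPCore (p : ℕ) (K : Subgroup G) :
    Subgroup.normalizer (K : Set G) ≤
      Subgroup.normalizer ((relPCore p K : Subgroup G) : Set G) := by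
  rw [Subgroup.le_normalizer_iff]
  intro x hx k hk
  have hK : MulAut.conj x • K = K := conj_smul_eq_of_mem_normalizer hx
  have h1 : MulAut.conj x • relPCore p K ≤ relPCore p K := by
    refine le_relPCore ?_ ?_ ?_
    · have := Subgroup.pointwise_smul_le_pointwise_smul_iff (a := MulAut.conj x) |>.2
        (relPCore_le p K)
      rwa [hK] at this
    · rw [normalizer_conj_smul]
      have := Subgroup.pointwise_smul_le_pointwise_smul_iff (a := MulAut.conj x) |>.2
        (le_normalizer_relPCore p K)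
      rwa [hK] at this
    · exact (isPGroup_relPCore p K).of_equiv (Subgroup.equivSMul (MulAut.conj x) _)
  exact h1 (Subgroup.smul_mem_pointwise_smul _ _ _ hk)

theorem relPCore_le_relPCore_of_normal {p : ℕ} {K N : Subgroup G} (hKN : K ≤ N)
    (hn : N ≤ Subgroup.normalizer (K : Set G)) : relPCore p K ≤ relPCore p N :=
  le_relPCore ((relPCore_le p K).trans hKN) (hn.trans (normalizer_le_normalizer_relPCore p K))
    (isPGroup_relPCore p K)

/-- A subnormal `p`-subgroup of `N` lies in `O_p(N)`. -/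
theorem le_relPCore_of_relSN [Finite G] {p : ℕ} : ∀ (n : ℕ) (H N : Subgroup G), Nat.card ↥N = n →
    RelSN H N → IsPGroup p ↥H → H ≤ relPCore p N := by
  intro n
  induction n using Nat.strong_induction_on with
  | _ n ih =>
    intro H N hcard hsn hp
    by_cases hHN : H = N
    · subst hHN
      exact le_relPCore le_rfl Subgroup.le_normalizer hp
    · obtain ⟨K, hHK, hKN, hNK, hHKsn⟩ := hsn.exists_normal hHN
      have h1 := ih _ (hcard ▸ card_lt_of_lt hKN) H K rfl hHKsn hp
      exact h1.trans (relPCore_le_relPCore_of_normal hKN.le hNK)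

theorem relSN_of_le_relPCore [Finite G] {p : ℕ} [Fact p.Prime] {H N : Subgroup G}
    (h : H ≤ relPCore p N) : RelSN H N := by
  have hnil : Group.IsNilpotent ↥(relPCore p N) := (isPGroup_relPCore p N).isNilpotent
  exact (relSN_of_isNilpotent h hnil).trans
    (RelSN.of_normal (relPCore_le p N) (le_normalizer_relPCore p N))

theorem relSN_iff_le_relPCore [Finite G] {p : ℕ} [Fact p.Prime] {H N : Subgroup G}
    (hp : IsPGroup p ↥H) : RelSN H N ↔ H ≤ relPCore p N :=
  ⟨fun h => le_relPCore_of_relSN _ H N rfl h hp, relSN_of_le_relPCore⟩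

/-- Every `p`-subgroup `R₀` lies in a `p`-radical subgroup `R` with `N(R₀) ≤ N(R)`. -/
theorem exists_radical_ge [Finite G] {p : ℕ} (R₀ : Subgroup G) (hp : IsPGroup p ↥R₀) :
    ∃ R : Subgroup G, R₀ ≤ R ∧ relPCore p (Subgroup.normalizer (R : Set G)) = R ∧
      Subgroup.normalizer (R₀ : Set G) ≤ Subgroup.normalizer (R : Set G) := by
  induction R₀ using WellFoundedGT.induction with
  | ind R₀ ih =>
    have h1 : R₀ ≤ relPCore p (Subgroup.normalizer (R₀ : Set G)) :=
      le_relPCore Subgroup.le_normalizer le_rfl hp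
    by_cases heq : relPCore p (Subgroup.normalizer (R₀ : Set G)) = R₀
    · exact ⟨R₀, le_rfl, heq, le_rfl⟩
    · have hlt : R₀ < relPCore p (Subgroup.normalizer (R₀ : Set G)) :=
        lt_of_le_of_ne h1 (Ne.symm heq)
      obtain ⟨R, hR1, hR2, hR3⟩ := ih _ hlt (isPGroup_relPCore p _)
      exact ⟨R, h1.trans hR1, hR2, (le_normalizer_relPCore p _).trans hR3⟩

/-- The intersection of the Sylow `p`-subgroups containing `H`. -/
def sylowInf (p : ℕ) (H : Subgroup G) : Subgroup G :=
  sInf {K : Subgroup G | ∃ Q : Sylow p G, H ≤ (Q : Subgroup G) ∧ K = (Q : Subgroup G)}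

theorem le_sylowInf (p : ℕ) (H : Subgroup G) : H ≤ sylowInf p H :=
  le_sInf (by rintro K ⟨Q, hQ, rfl⟩; exact hQ)

theorem sylowInf_mono (p : ℕ) {H K : Subgroup G} (h : H ≤ K) : sylowInf p H ≤ sylowInf p K :=
  sInf_le_sInf (by rintro X ⟨Q, hQ, rfl⟩; exact ⟨Q, h.trans hQ, rfl⟩)

theorem isPGroup_sylowInf [Finite G] {p : ℕ} [Fact p.Prime] {H : Subgroup G} (hp : IsPGroup p ↥H) :
    IsPGroup p ↥(sylowInf p H) := by
  obtain ⟨Q, hQ⟩ := hp.exists_le_sylow
  exact Q.2.to_le (sInf_le ⟨Q, hQ, rfl⟩)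

theorem smul_sylowInf_le {p : ℕ} {R : Subgroup G} {x : G}
    (hx : x ∈ Subgroup.normalizer (R : Set G)) : MulAut.conj x • sylowInf p R ≤ sylowInf p R := by
  refine le_sInf ?_
  rintro K ⟨Q, hQ, rfl⟩
  rw [Subgroup.pointwise_smul_subset_iff]
  refine sInf_le ⟨x⁻¹ • Q, ?_, ?_⟩
  · rw [Sylow.coe_subgroup_smul]
    have h1 := Subgroup.pointwise_smul_le_pointwise_smul_iff (a := MulAut.conj x⁻¹) |>.2 hQ
    rwa [conj_smul_eq_of_mem_normalizer (Subgroup.inv_mem _ hx)] at h1
  · rw [Sylow.coe_subgroup_smul, map_inv]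

/-- A `p`-radical subgroup is the intersection of the Sylow `p`-subgroups containing it. -/
theorem sylowInf_eq_of_radical [Finite G] {p : ℕ} [Fact p.Prime] {R : Subgroup G}
    (hR : relPCore p (Subgroup.normalizer (R : Set G)) = R) : sylowInf p R = R := by
  have hRp : IsPGroup p ↥R := hR ▸ isPGroup_relPCore p _
  have hSp := isPGroup_sylowInf hRp
  by_contra hne
  have hlt : R < sylowInf p R := lt_of_le_of_ne (le_sylowInf p R) (Ne.symm hne)
  have h1 := lt_inf_normalizer_of_lt hSp hlt
  have h2 : sylowInf p R ⊓ Subgroup.normalizer (R : Set G) ≤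
      relPCore p (Subgroup.normalizer (R : Set G)) := by
    refine le_relPCore inf_le_right ?_ (hSp.to_le inf_le_left)
    rw [Subgroup.le_normalizer_iff]
    intro x hx k hk
    refine ⟨?_, ?_⟩
    · exact smul_sylowInf_le hx (Subgroup.smul_mem_pointwise_smul _ _ _ hk.1)
    · exact Subgroup.mul_mem _ (Subgroup.mul_mem _ hx hk.2) (Subgroup.inv_mem _ hx)
  rw [hR] at h2
  exact h1.not_ge h2

end Cfsg.Agent.Helper91
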