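import Mathlib
import Cfsg.Agent.S0566
import Cfsg.Agent.Helper91.KWFinal
import Cfsg.Agent.Helper91.RelPCore

/-!
# Kegel's commutator lemma

If `X`, `Y` are subgroups of a finite group `G` such that `X · (gYg⁻¹)` is a `p`-subgroup for every
`g`, then `[X, Y] ≤ O_p(G)`.
-/

set_option autoImplicit false
set_option linter.unusedSectionVars false
set_option linter.style.haveILetI false
open Pointwise

namespace Cfsg.Agent.Helper91

universe u

section kp
variable {G : Type u} [Group G] [Finite G]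

/-- `X · (gYg⁻¹)` is a `p`-subgroup for every `g` (membership form). -/
def KP (p : ℕ) (X Y : Subgroup G) : Prop :=
  ∀ g : G, ∃ S : Subgroup G, IsPGroup p S ∧
    ∀ s : G, s ∈ S ↔ ∃ x ∈ X, ∃ y ∈ Y, s = x * (g * y * g⁻¹)

namespace KP
variable {p : ℕ} {X Y : Subgroup G}

theorem isPGroup_left (h : KP p X Y) : IsPGroup p X := by
  obtain ⟨S, hS, hm⟩ := h 1
  apply hS.to_le
  intro x hx
  rw [hm]
  exact ⟨x, hx, 1, Y.one_mem, by group⟩

theorem isPGroup_right (h : KP p X Y) : IsPGroup p Y := by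
  obtain ⟨S, hS, hm⟩ := h 1
  apply hS.to_le
  intro y hy
  rw [hm]
  exact ⟨1, X.one_mem, y, hy, by group⟩

theorem conj_left (h : KP p X Y) (a : G) : KP p (MulAut.conj a • X) Y := by
  intro g
  obtain ⟨S, hS, hm⟩ := h (a⁻¹ * g)
  refine ⟨S.map (MulAut.conj a).toMonoidHom, hS.map _, fun s => ?_⟩
  rw [Subgroup.mem_map]
  constructor
  · rintro ⟨t, ht, rfl⟩
    obtain ⟨x, hx, y, hy, rfl⟩ := (hm t).mp ht
    refine ⟨a * x * a⁻¹, ?_, y, hy, ?_⟩
    · rw [mem_conj_smul_iff]
      have e : a⁻¹ * (a * x * a⁻¹) * a = x := by group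
      rw [e]; exact hx
    · simp only [MulEquiv.coe_toMonoidHom, MulAut.conj_apply]
      group
  · rintro ⟨x', hx', y, hy, rfl⟩
    rw [mem_conj_smul_iff] at hx'
    refine ⟨(a⁻¹ * x' * a) * ((a⁻¹ * g) * y * (a⁻¹ * g)⁻¹), (hm _).mpr ⟨_, hx', y, hy, rfl⟩, ?_⟩
    simp only [MulEquiv.coe_toMonoidHom, MulAut.conj_apply]
    group

theorem symm (h : KP p X Y) : KP p Y X := by
  intro g
  obtain ⟨S, hS, hm⟩ := h g⁻¹
  refine ⟨S.map (MulAut.conj g).toMonoidHom, hS.map _, fun s => ?_⟩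
  rw [Subgroup.mem_map]
  constructor
  · rintro ⟨t, ht, rfl⟩
    obtain ⟨x, hx, y, hy, ht'⟩ := (hm t⁻¹).mp (S.inv_mem ht)
    refine ⟨y⁻¹, Y.inv_mem hy, x⁻¹, X.inv_mem hx, ?_⟩
    simp only [MulEquiv.coe_toMonoidHom, MulAut.conj_apply]
    have e : t = (x * (g⁻¹ * y * g⁻¹⁻¹))⁻¹ := by rw [← ht', inv_inv]
    rw [e]; group
  · rintro ⟨y, hy, x, hx, rfl⟩
    have hmem : (x⁻¹ * (g⁻¹ * y⁻¹ * g⁻¹⁻¹)) ∈ S :=
      (hm _).mpr ⟨x⁻¹, X.inv_mem hx, y⁻¹, Y.inv_mem hy, rfl⟩
    refine ⟨(x⁻¹ * (g⁻¹ * y⁻¹ * g⁻¹⁻¹))⁻¹, S.inv_mem hmem, ?_⟩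
    simp only [MulEquiv.coe_toMonoidHom, MulAut.conj_apply]
    group

theorem inf_right (h : KP p X Y) {M : Subgroup G} (hM : M.Normal) (hX : X ≤ M) :
    KP p X (Y ⊓ M) := by
  intro g
  obtain ⟨S, hS, hm⟩ := h g
  refine ⟨S ⊓ M, hS.to_le inf_le_left, fun s => ?_⟩
  rw [Subgroup.mem_inf, hm]
  constructor
  · rintro ⟨⟨x, hx, y, hy, rfl⟩, hsM⟩
    refine ⟨x, hx, y, Subgroup.mem_inf.2 ⟨hy, ?_⟩, rfl⟩
    have h1 : g * y * g⁻¹ ∈ M := by
      have e : g * y * g⁻¹ = x⁻¹ * (x * (g * y * g⁻¹)) := by group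
      rw [e]; exact M.mul_mem (M.inv_mem (hX hx)) hsM
    have h2 := hM.conj_mem _ h1 g⁻¹
    have e : g⁻¹ * (g * y * g⁻¹) * g⁻¹⁻¹ = y := by group
    rwa [e] at h2
  · rintro ⟨x, hx, y, hy, rfl⟩
    exact ⟨⟨x, hx, y, (Subgroup.mem_inf.1 hy).1, rfl⟩,
      M.mul_mem (hX hx) (hM.conj_mem _ (Subgroup.mem_inf.1 hy).2 g)⟩

theorem subgroupOf (h : KP p X Y) {L : Subgroup G} (hX : X ≤ L) (hY : Y ≤ L) :
    KP p (X.subgroupOf L) (Y.subgroupOf L) := by
  intro l
  obtain ⟨S, hS, hm⟩ := h (l : G)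
  refine ⟨S.subgroupOf L, hS.comap_subtype, fun s => ?_⟩
  rw [Subgroup.mem_subgroupOf, hm]
  constructor
  · rintro ⟨x, hx, y, hy, hs⟩
    refine ⟨⟨x, hX hx⟩, by rw [Subgroup.mem_subgroupOf]; exact hx, ⟨y, hY hy⟩,
      by rw [Subgroup.mem_subgroupOf]; exact hy, ?_⟩
    apply Subtype.ext
    simpa using hs
  · rintro ⟨x, hx, y, hy, rfl⟩
    rw [Subgroup.mem_subgroupOf] at hx hy
    exact ⟨(x : G), hx, (y : G), hy, by simp⟩

theorem map (h : KP p X Y) {G' : Type u} [Group G'] [Finite G'] (f : G →* G') (hf : Function.Surjective f) :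
    KP p (X.map f) (Y.map f) := by
  intro g'
  obtain ⟨g, rfl⟩ := hf g'
  obtain ⟨S, hS, hm⟩ := h g
  refine ⟨S.map f, hS.map f, fun s => ?_⟩
  rw [Subgroup.mem_map]
  constructor
  · rintro ⟨t, ht, rfl⟩
    obtain ⟨x, hx, y, hy, rfl⟩ := (hm t).mp ht
    exact ⟨f x, Subgroup.mem_map_of_mem f hx, f y, Subgroup.mem_map_of_mem f hy, by simp⟩
  · rintro ⟨x', ⟨x, hx, rfl⟩, y', ⟨y, hy, rfl⟩, rfl⟩
    exact ⟨x * (g * y * g⁻¹), (hm _).mpr ⟨x, hx, y, hy, rfl⟩, by simp⟩

end KP

/-- Statement of Kegel's commutator lemma for groups of order `n`. -/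
def KCStatement (p n : ℕ) : Prop :=
  ∀ (G : Type u) [Group G] [Finite G], Nat.card G = n → ∀ X Y : Subgroup G, KP p X Y →
    ∀ x ∈ X, ∀ y ∈ Y, x * y * x⁻¹ * y⁻¹ ∈ Cfsg.pCore p G

theorem relPCore_eq_bot_of_normal {p : ℕ} (hR : Cfsg.pCore p G = ⊥) {L : Subgroup G}
    (hL : L.Normal) : relPCore p L = ⊥ := by
  have h1 := normalizer_le_normalizer_relPCore p L
  rw [Subgroup.normalizer_eq_top_iff.mpr hL, top_le_iff] at h1
  have hn : (relPCore p L).Normal := Subgroup.normalizer_eq_top_iff.mp h1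
  have := Cfsg.Agent.Lib.le_pCore hn (isPGroup_relPCore p L)
  rw [hR] at this
  exact le_bot_iff.mp this

theorem commute_of_comm_eq_one {x y : G} (h : x * y * x⁻¹ * y⁻¹ = 1) : x * y = y * x := by
  have e : x * y = (x * y * x⁻¹ * y⁻¹) * (y * x) := by group
  rw [e, h, one_mul]

theorem nz_inf {n : G} {A B : Subgroup G} (hA : Nz n A) (hB : Nz n B) : Nz n (A ⊓ B) :=
  fun t ht => Subgroup.mem_inf.2 ⟨hA t (Subgroup.mem_inf.1 ht).1, hB t (Subgroup.mem_inf.1 ht).2⟩

/-- A `p`-element of an abelian normal subgroup lies in `O_p(G)`. -/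
theorem mem_pCore_of_abelian_normal {p : ℕ} (hpP : p.Prime) {Z : Subgroup G} (hZn : Z.Normal)
    (hZc : ∀ a ∈ Z, ∀ b ∈ Z, a * b = b * a) {y : G} (hy : y ∈ Z) (hyp : ∃ k : ℕ, y ^ (p ^ k) = 1) :
    y ∈ Cfsg.pCore p G := by
  have hnil : Group.IsNilpotent Z := by
    letI : CommGroup Z :=
      { (inferInstance : Group Z) with
        mul_comm := fun a b => Subtype.ext (hZc a a.2 b b.2) }
    infer_instance
  have hW : (pp Z p).Normal := by
    apply Subgroup.normalizer_eq_top_iff.mp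
    rw [eq_top_iff]
    intro g _
    have hg : Nz g Z := fun z hz => hZn.conj_mem z hz g
    exact (hg.pp hnil hpP).mem_normalizer
  apply Cfsg.Agent.Lib.le_pCore hW (isPGroup_pp hnil hpP)
  rw [mem_pp hnil hpP]
  exact ⟨hy, hyp⟩

/-- The inductive step of Kegel's commutator lemma when `X` lies in a proper normal subgroup. -/
theorem kc_step {p : ℕ} [hpF : Fact p.Prime] {n : ℕ} (IH : ∀ m < n, KCStatement.{u} p m)
    (hn : Nat.card G = n) (hR : Cfsg.pCore p G = ⊥) {X Y : Subgroup G} (hKP : KP p X Y)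
    {N₀ : Subgroup G} (hN₀n : N₀.Normal) (hN₀t : N₀ ≠ ⊤) (hXN : X ≤ N₀) :
    ∀ x ∈ X, ∀ y ∈ Y, x * y = y * x := by
  have hpP : p.Prime := hpF.out
  set M := Subgroup.normalClosure (X : Set G) with hM
  have hMn : M.Normal := Subgroup.normalClosure_normal
  have hXM : X ≤ M := Subgroup.le_normalClosure
  have hMN : M ≤ N₀ := Subgroup.normalClosure_le_normal hXN
  have hMt : M ≠ ⊤ := fun h => hN₀t (top_le_iff.mp (h ▸ hMN))
  have hconjM : ∀ a : G, MulAut.conj a • X ≤ M := by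
    intro a x' hx'
    rw [mem_conj_smul_iff] at hx'
    have := hMn.conj_mem _ (hXM hx') a
    have e : a * (a⁻¹ * x' * a) * a⁻¹ = x' := by group
    rwa [e] at this
  have hMbot : relPCore p M = ⊥ := relPCore_eq_bot_of_normal hR hMn
  by_cases hL : M ⊔ Y = ⊤
  · -- Case 2
    have h2a : ∀ a : G, ∀ x' ∈ MulAut.conj a • X, ∀ y' ∈ Y ⊓ M, x' * y' = y' * x' := by
      intro a x' hx' y' hy'
      have hk : KP p ((MulAut.conj a • X).subgroupOf M) ((Y ⊓ M).subgroupOf M) :=
        ((hKP.conj_left a).inf_right hMn (hconjM a)).subgroupOf (hconjM a) inf_le_right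
      have hlt : Nat.card M < n := hn ▸ card_lt_of_ne_top hMt
      have := IH _ hlt M rfl _ _ hk ⟨x', hconjM a hx'⟩
        (by rw [Subgroup.mem_subgroupOf]; exact hx') ⟨y', (Subgroup.mem_inf.1 hy').2⟩
        (by rw [Subgroup.mem_subgroupOf]; exact hy')
      have h1 : x' * y' * x'⁻¹ * y'⁻¹ ∈ relPCore p M := ⟨_, this, by simp⟩
      rw [hMbot, Subgroup.mem_bot] at h1
      exact commute_of_comm_eq_one h1
    have h2b : ∀ y' ∈ Y ⊓ M, ∀ m ∈ M, m * y' = y' * m := by
      intro y' hy'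
      have : M ≤ Subgroup.centralizer ({y'} : Set G) := by
        rw [hM, Subgroup.normalClosure, Subgroup.closure_le]
        intro c hc
        rw [Group.mem_conjugatesOfSet_iff] at hc
        obtain ⟨b, hb, hbc⟩ := hc
        rw [isConj_iff] at hbc
        obtain ⟨a, rfl⟩ := hbc
        rw [SetLike.mem_coe, mem_centralizer_singleton_iff]
        apply h2a a _ _ y' hy'
        rw [mem_conj_smul_iff]
        have e : a⁻¹ * (a * b * a⁻¹) * a = b := by group
        rw [e]; exact hb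
      intro m hm
      exact mem_centralizer_singleton_iff.mp (this hm)
    have h2c : Y ⊓ M = ⊥ := by
      rw [eq_bot_iff]
      intro y' hy'
      rw [Subgroup.mem_bot]
      set Z := M ⊓ Subgroup.centralizer (M : Set G) with hZ
      haveI := hMn
      have hZn : Z.Normal := Subgroup.normal_inf_normal _ _
      have hZc : ∀ a ∈ Z, ∀ b ∈ Z, a * b = b * a := by
        intro a ha b hb
        have := Subgroup.mem_centralizer_iff.mp (Subgroup.mem_inf.1 hb).2 a (Subgroup.mem_inf.1 ha).1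
        exact this
      have hyZ : y' ∈ Z := by
        refine Subgroup.mem_inf.2 ⟨(Subgroup.mem_inf.1 hy').2, ?_⟩
        rw [Subgroup.mem_centralizer_iff]
        intro m hm
        exact h2b y' hy' m hm
      have hyp : ∃ k : ℕ, y' ^ (p ^ k) = 1 := by
        obtain ⟨k, hk⟩ := hKP.isPGroup_right ⟨y', (Subgroup.mem_inf.1 hy').1⟩
        exact ⟨k, by simpa using congrArg Subtype.val hk⟩
      have := mem_pCore_of_abelian_normal hpP hZn hZc hyZ hyp
      rwa [hR, Subgroup.mem_bot] at this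
    have h2d : ∀ a : G, ∀ y ∈ Y, Nz y (MulAut.conj a • X) := by
      intro a y hy x' hx'
      obtain ⟨S, _, hm⟩ := (hKP.conj_left a) 1
      have hyS : y ∈ S := (hm y).mpr ⟨1, Subgroup.one_mem _, y, hy, by group⟩
      have hxS : x' ∈ S := (hm x').mpr ⟨x', hx', 1, Y.one_mem, by group⟩
      have hc : y * x' * y⁻¹ ∈ S := S.mul_mem (S.mul_mem hyS hxS) (S.inv_mem hyS)
      obtain ⟨x'', hx'', y'', hy'', he⟩ := (hm _).mp hc
      have hcM : y * x' * y⁻¹ ∈ M := hMn.conj_mem _ (hconjM a hx') y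
      have hy''M : y'' ∈ Y ⊓ M := by
        refine Subgroup.mem_inf.2 ⟨hy'', ?_⟩
        have e : y'' = x''⁻¹ * (y * x' * y⁻¹) := by rw [he]; group
        rw [e]; exact M.mul_mem (M.inv_mem (hconjM a hx'')) hcM
      rw [h2c, Subgroup.mem_bot] at hy''M
      rw [he, hy''M]
      have e : x'' * (1 * 1 * 1⁻¹) = x'' := by group
      rw [e]; exact hx''
    set M' := Subgroup.normalClosure (Y : Set G) with hM'
    have hM'n : M'.Normal := Subgroup.normalClosure_normal
    have h2e : ∀ m' ∈ M', Nz m' X := by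
      have : M' ≤ Subgroup.normalizer (X : Set G) := by
        rw [hM', Subgroup.normalClosure, Subgroup.closure_le]
        intro c hc
        rw [Group.mem_conjugatesOfSet_iff] at hc
        obtain ⟨y, hy, hyc⟩ := hc
        rw [isConj_iff] at hyc
        obtain ⟨b, rfl⟩ := hyc
        rw [SetLike.mem_coe]
        apply Nz.mem_normalizer
        intro x hx
        have h1 : b⁻¹ * x * b ∈ MulAut.conj b⁻¹ • X := by
          rw [mem_conj_smul_iff]
          have e : b⁻¹⁻¹ * (b⁻¹ * x * b) * b⁻¹ = x := by group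
          rw [e]; exact hx
        have h2 := h2d b⁻¹ y hy _ h1
        rw [mem_conj_smul_iff] at h2
        have e : b⁻¹⁻¹ * (y * (b⁻¹ * x * b) * y⁻¹) * b⁻¹ = b * y * b⁻¹ * x * (b * y * b⁻¹)⁻¹ := by
          group
        rwa [e] at h2
      intro m' hm'
      exact nz_of_mem_normalizer (this hm')
    have hM'bot : relPCore p M' = ⊥ := relPCore_eq_bot_of_normal hR hM'n
    have hXM' : X ⊓ M' = ⊥ := by
      have h1 : X ⊓ M' ≤ relPCore p M' := by
        apply le_relPCore inf_le_right _ (hKP.isPGroup_left.to_le inf_le_left)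
        intro m' hm'
        exact (nz_inf (h2e m' hm') (Nz.of_mem hm')).mem_normalizer
      rw [hM'bot] at h1
      exact le_bot_iff.mp h1
    intro x hx y hy
    apply commute_of_comm_eq_one
    have hyM' : y ∈ M' := Subgroup.le_normalClosure hy
    have h1 : x * y * x⁻¹ * y⁻¹ ∈ X ⊓ M' := by
      refine Subgroup.mem_inf.2 ⟨?_, ?_⟩
      · have := h2e y hyM' x⁻¹ (X.inv_mem hx)
        have e : x * y * x⁻¹ * y⁻¹ = x * (y * x⁻¹ * y⁻¹) := by group
        rw [e]; exact X.mul_mem hx this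
      · exact M'.mul_mem (hM'n.conj_mem y hyM' x) (M'.inv_mem hyM')
    rwa [hXM', Subgroup.mem_bot] at h1
  · -- Case 1
    set L := M ⊔ Y with hLdef
    have hML : M ≤ L := le_sup_left
    have hYL : Y ≤ L := le_sup_right
    have hXL : X ≤ L := hXM.trans hML
    have hk : KP p (X.subgroupOf L) (Y.subgroupOf L) := hKP.subgroupOf hXL hYL
    have hlt : Nat.card L < n := hn ▸ card_lt_of_ne_top hL
    intro x hx y hy
    apply commute_of_comm_eq_one
    have := IH _ hlt L rfl _ _ hk ⟨x, hXL hx⟩ (by rw [Subgroup.mem_subgroupOf]; exact hx)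
      ⟨y, hYL hy⟩ (by rw [Subgroup.mem_subgroupOf]; exact hy)
    have h1 : x * y * x⁻¹ * y⁻¹ ∈ relPCore p L := ⟨_, this, by simp⟩
    have h2 : x * y * x⁻¹ * y⁻¹ ∈ M := by
      have e : x * y * x⁻¹ * y⁻¹ = x * (y * x⁻¹ * y⁻¹) := by group
      rw [e]; exact M.mul_mem (hXM hx) (hMn.conj_mem _ (M.inv_mem (hXM hx)) y)
    have h3 : relPCore p L ⊓ M ≤ relPCore p M := by
      apply le_relPCore inf_le_right _ ((isPGroup_relPCore p L).to_le inf_le_left)
      intro m hm
      have hmL : Nz m (relPCore p L) := nz_of_mem_normalizer (le_normalizer_relPCore p L (hML hm))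
      exact (nz_inf hmL (Nz.of_mem hm)).mem_normalizer
    have h4 := h3 (Subgroup.mem_inf.2 ⟨h1, h2⟩)
    rwa [hMbot, Subgroup.mem_bot] at h4

/-- **Kegel's commutator lemma**. -/
theorem kc_statement (p : ℕ) [hpF : Fact p.Prime] : ∀ n : ℕ, KCStatement.{u} p n := by
  intro n
  induction n using Nat.strong_induction_on with
  | _ n IH =>
    intro G _ _ hn X Y hKP x hx y hy
    by_cases hR : Cfsg.pCore p G = ⊥
    · rw [hR, Subgroup.mem_bot]
      suffices hcomm : x * y = y * x by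
        have e : x * y * x⁻¹ * y⁻¹ = (x * y) * (y * x)⁻¹ := by group
        rw [e, hcomm, mul_inv_cancel]
      by_cases hX : X = ⊥
      · rw [hX, Subgroup.mem_bot] at hx
        rw [hx, one_mul, mul_one]
      by_cases hY : Y = ⊥
      · rw [hY, Subgroup.mem_bot] at hy
        rw [hy, one_mul, mul_one]
      have hkeg : ∀ g : G, ∃ S : Subgroup G, S ≠ ⊤ ∧
          (S : Set G) = (X : Set G) * ((MulAut.conj g • Y : Subgroup G) : Set G) := by
        intro g
        obtain ⟨S, hS, hm⟩ := hKP g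
        refine ⟨S, ?_, ?_⟩
        · intro hSt
          apply hX
          have hG : IsPGroup p G := by
            intro a
            obtain ⟨k, hk⟩ := hS ⟨a, hSt ▸ Subgroup.mem_top a⟩
            exact ⟨k, by simpa using congrArg Subtype.val hk⟩
          have := Cfsg.Agent.Lib.pCore_eq_top_of_isPGroup hG
          rw [hR] at this
          rw [eq_bot_iff, this]
          exact le_top
        · ext s
          rw [SetLike.mem_coe, hm, Set.mem_mul]
          constructor
          · rintro ⟨x', hx', y', hy', rfl⟩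
            refine ⟨x', hx', g * y' * g⁻¹, ?_, rfl⟩
            rw [SetLike.mem_coe, mem_conj_smul_iff]
            have e : g⁻¹ * (g * y' * g⁻¹) * g = y' := by group
            rw [e]; exact hy'
          · rintro ⟨x', hx', y', hy', rfl⟩
            rw [SetLike.mem_coe, mem_conj_smul_iff] at hy'
            exact ⟨x', hx', _, hy', by group⟩
      obtain ⟨N₀, hN₀n, hN₀t, hor⟩ := Cfsg.Agent.S0566.result X Y hX hY hkeg
      rcases hor with h | h
      · exact kc_step IH hn hR hKP hN₀n hN₀t h x hx y hy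
      · exact (kc_step IH hn hR hKP.symm hN₀n hN₀t h y hy x hx).symm
    · -- pass to the quotient by `O_p(G)`
      set R₀ := Cfsg.pCore p G with hR₀
      haveI hR₀n : R₀.Normal :=
        Subgroup.normal_of_characteristic _ (h := Cfsg.Agent.Lib.pCore_characteristic p)
      have hlt : Nat.card (G ⧸ R₀) < n := by
        rw [← hn, Subgroup.card_eq_card_quotient_mul_card_subgroup R₀]
        have h1 : 1 < Nat.card R₀ := by
          rw [Finite.one_lt_card_iff_nontrivial]
          exact (Subgroup.nontrivial_iff_ne_bot R₀).mpr hR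
        have h2 : 0 < Nat.card (G ⧸ R₀) := Nat.card_pos
        nlinarith
      set f := QuotientGroup.mk' R₀ with hf
      have hk := hKP.map f (QuotientGroup.mk'_surjective R₀)
      have h1 := IH _ hlt (G ⧸ R₀) rfl _ _ hk (f x) (Subgroup.mem_map_of_mem f hx) (f y)
        (Subgroup.mem_map_of_mem f hy)
      set R₁ := (Cfsg.pCore p (G ⧸ R₀)).comap f with hR₁
      haveI : (Cfsg.pCore p (G ⧸ R₀)).Normal :=
        Subgroup.normal_of_characteristic _ (h := Cfsg.Agent.Lib.pCore_characteristic p)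
      have hR₁n : R₁.Normal := Subgroup.Normal.comap inferInstance f
      have hR₁p : IsPGroup p R₁ := by
        apply IsPGroup.comap_of_ker_isPGroup (Cfsg.Agent.Lib.isPGroup_pCore p) f
        rw [hf, QuotientGroup.ker_mk']
        exact Cfsg.Agent.Lib.isPGroup_pCore p
      apply Cfsg.Agent.Lib.le_pCore hR₁n hR₁p
      rw [hR₁, Subgroup.mem_comap]
      simpa using h1

/-- Kegel's commutator lemma, usable form. -/
theorem kegel_comm {p : ℕ} [Fact p.Prime] {X Y : Subgroup G} (hKP : KP p X Y)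
    (hR : Cfsg.pCore p G = ⊥) : ∀ x ∈ X, ∀ y ∈ Y, x * y = y * x := by
  intro x hx y hy
  have := kc_statement p _ G rfl X Y hKP x hx y hy
  rw [hR, Subgroup.mem_bot] at this
  exact commute_of_comm_eq_one this

end kp

end Cfsg.Agent.Helper91
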