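import Mathlib
import Cfsg.Agent.Helper91.KegelComm
import Cfsg.Agent.S0560

/-!
# The Kegel–Wielandt theorem: a product of two nilpotent groups is solvable
-/

set_option autoImplicit false
set_option linter.unusedSectionVars false
set_option linter.style.haveILetI false
open Pointwise

namespace Cfsg.Agent.Helper91

universe u

/-- The statement of the Kegel–Wielandt theorem for groups of order `n` (in universe `u`). -/
def KWGStatement (n : ℕ) : Prop :=
  ∀ (G : Type u) [Group G] [Finite G], Nat.card G = n → ∀ A B : Subgroup G,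
    Group.IsNilpotent A → Group.IsNilpotent B →
    (∀ g : G, ∃ a ∈ A, ∃ b ∈ B, g = a * b) → Group.IsSolvable G

section kwg
variable {G : Type u} [Group G] [Finite G]

/-- The induction hypothesis, transported to proper quotients. -/
theorem kwg_ih_quot {n : ℕ} (IH : ∀ m < n, KWGStatement.{u} m) (hn : Nat.card G = n)
    (N : Subgroup G) [N.Normal] (hN : N ≠ ⊥) {A B : Subgroup G}
    (nilA : Group.IsNilpotent A) (nilB : Group.IsNilpotent B)
    (fac : ∀ g : G, ∃ a ∈ A, ∃ b ∈ B, g = a * b) : Group.IsSolvable (G ⧸ N) := by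
  have hlt : Nat.card (G ⧸ N) < n := by
    rw [← hn, Subgroup.card_eq_card_quotient_mul_card_subgroup N]
    have h1 : 1 < Nat.card N := by
      rw [Finite.one_lt_card_iff_nontrivial]
      exact (Subgroup.nontrivial_iff_ne_bot N).mpr hN
    have h2 : 0 < Nat.card (G ⧸ N) := Nat.card_pos
    nlinarith
  set f := QuotientGroup.mk' N with hf
  apply IH _ hlt (G ⧸ N) rfl (A.map f) (B.map f)
  · haveI := nilA
    exact Group.nilpotent_of_surjective (f.subgroupMap A) (f.subgroupMap_surjective A)
  · haveI := nilB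
    exact Group.nilpotent_of_surjective (f.subgroupMap B) (f.subgroupMap_surjective B)
  · intro x
    obtain ⟨g, rfl⟩ := QuotientGroup.mk'_surjective N x
    obtain ⟨a, ha, b, hb, rfl⟩ := fac g
    exact ⟨f a, Subgroup.mem_map_of_mem f ha, f b, Subgroup.mem_map_of_mem f hb, map_mul f a b⟩

theorem sylow_map_eq_pp {A : Subgroup G} (hA : Group.IsNilpotent A) {p : ℕ} [hp : Fact p.Prime]
    (P : Sylow p A) : (P : Subgroup A).map A.subtype = pp A p := by
  ext g
  rw [mem_pp hA hp.out, Subgroup.mem_map]
  constructor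
  · rintro ⟨a, ha, rfl⟩
    refine ⟨a.2, ?_⟩
    obtain ⟨k, hk⟩ := P.2 ⟨a, ha⟩
    refine ⟨k, ?_⟩
    have := congrArg (fun x : (P : Subgroup A) => ((x : A) : G)) hk
    simpa using this
  · rintro ⟨hgA, k, hk⟩
    refine ⟨⟨g, hgA⟩, ?_, rfl⟩
    apply Cfsg.Agent.Helper55.KWRel3.mem_sylow_of_isNilpotent hA P ⟨g, hgA⟩
    exact ⟨k, Subtype.ext (by simpa using hk)⟩

/-- For nilpotent `A`, `B` with `G = AB`, the `p`-parts satisfy Kegel's permutability condition. -/
theorem kp_of_fac {A B : Subgroup G} (nilA : Group.IsNilpotent A) (nilB : Group.IsNilpotent B)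
    (fac : ∀ g : G, ∃ a ∈ A, ∃ b ∈ B, g = a * b) {p : ℕ} [hp : Fact p.Prime] :
    KP p (pp A p) (pp B p) := by
  intro g
  have nilB' : Group.IsNilpotent (MulAut.conj g • B : Subgroup G) :=
    Cfsg.Agent.S0581.nilpotent_smul g B nilB
  have fac' := (Cfsg.Agent.S0559.result A B A (MulAut.conj g • B) fac ⟨1, by simp⟩ ⟨g, rfl⟩).1
  obtain ⟨P, Q, R, hR⟩ := Cfsg.Agent.S0560.result A (MulAut.conj g • B) fac' p
  rw [sylow_map_eq_pp nilA P, sylow_map_eq_pp nilB' Q, pp_conj nilB hp.out g] at hR
  refine ⟨R, R.2, fun s => ?_⟩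
  rw [← SetLike.mem_coe, hR, Set.mem_mul]
  constructor
  · rintro ⟨x, hx, y', hy', rfl⟩
    rw [SetLike.mem_coe, mem_conj_smul_iff] at hy'
    exact ⟨x, hx, _, hy', by group⟩
  · rintro ⟨x, hx, y, hy, rfl⟩
    refine ⟨x, hx, g * y * g⁻¹, ?_, rfl⟩
    rw [SetLike.mem_coe, mem_conj_smul_iff]
    have e : g⁻¹ * (g * y * g⁻¹) * g = y := by group
    rw [e]; exact hy

/-- **Kegel–Wielandt theorem** (induction form). -/
theorem kwg_statement : ∀ n : ℕ, KWGStatement.{u} n := by
  intro n
  induction n using Nat.strong_induction_on with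
  | _ n IH =>
    intro G _ _ hn A B nilA nilB fac
    by_contra hns
    have hquot : ∀ (N : Subgroup G) [N.Normal], N ≠ ⊥ → Group.IsSolvable (G ⧸ N) :=
      fun N _ hN1 => kwg_ih_quot IH hn N hN1 nilA nilB fac
    have hext : ∀ N : Subgroup G, N.Normal → N ≠ ⊥ → Group.IsSolvable N → False := by
      intro N hN hN1 hNs
      haveI := hN
      haveI := hNs
      haveI := hquot N hN1
      exact hns (Group.isSolvable_of_ker_le_range N.subtype (QuotientGroup.mk' N) (by simp))
    by_cases hcop : (Nat.card A).Coprime (Nat.card B)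
    · exact hns (kw_solvable A B nilA nilB hcop fac)
    obtain ⟨p, hpP, hpA, hpB⟩ := Nat.Prime.not_coprime_iff_dvd.mp hcop
    haveI : Fact p.Prime := ⟨hpP⟩
    have hcore : Cfsg.pCore p G = ⊥ := by
      by_contra hR
      haveI hRn : (Cfsg.pCore p G).Normal :=
        Subgroup.normal_of_characteristic _ (h := Cfsg.Agent.Lib.pCore_characteristic p)
      apply hext _ hRn hR
      haveI : Group.IsNilpotent (Cfsg.pCore p G) := (Cfsg.Agent.Lib.isPGroup_pCore p).isNilpotent
      infer_instance
    set X := pp A p with hX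
    set Y := pp B p with hY
    have hX1 : X ≠ ⊥ := pp_ne_bot nilA hpP hpA
    have hY1 : Y ≠ ⊥ := pp_ne_bot nilB hpP hpB
    have hKP : KP p X Y := kp_of_fac nilA nilB fac
    have hcomm : ∀ b : G, ∀ x ∈ X, ∀ y' ∈ MulAut.conj b • Y, x * y' = y' * x := by
      intro b
      exact kegel_comm (hKP.symm.conj_left b).symm hcore
    set MX := Subgroup.normalClosure (X : Set G) with hMX
    set MY := Subgroup.normalClosure (Y : Set G) with hMY
    have hMXn : MX.Normal := Subgroup.normalClosure_normal
    have hMYn : MY.Normal := Subgroup.normalClosure_normal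
    have hXMX : X ≤ MX := Subgroup.le_normalClosure
    have hYMY : Y ≤ MY := Subgroup.le_normalClosure
    have hMX1 : MX ≠ ⊥ := fun h => hX1 (le_bot_iff.mp (h ▸ hXMX))
    have hMY1 : MY ≠ ⊥ := fun h => hY1 (le_bot_iff.mp (h ▸ hYMY))
    have h1 : MY ≤ Subgroup.centralizer (X : Set G) := by
      rw [hMY, Subgroup.normalClosure, Subgroup.closure_le]
      intro c hc
      rw [Group.mem_conjugatesOfSet_iff] at hc
      obtain ⟨y, hy, hyc⟩ := hc
      rw [isConj_iff] at hyc
      obtain ⟨b, rfl⟩ := hyc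
      rw [SetLike.mem_coe, Subgroup.mem_centralizer_iff]
      intro x hx
      apply hcomm b x hx
      rw [mem_conj_smul_iff]
      have e : b⁻¹ * (b * y * b⁻¹) * b = y := by group
      rw [e]; exact hy
    have h2 : MX ≤ Subgroup.centralizer (MY : Set G) := by
      haveI := hMYn
      apply Subgroup.normalClosure_le_normal
      intro x hx
      rw [SetLike.mem_coe, Subgroup.mem_centralizer_iff]
      intro v hv
      exact (Subgroup.mem_centralizer_iff.mp (h1 hv) x hx).symm
    have h3 : ∀ u ∈ MX, ∀ v ∈ MY, u * v = v * u := by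
      intro u hu v hv
      exact (Subgroup.mem_centralizer_iff.mp (h2 hu) v hv).symm
    set D := MX ⊓ MY with hD
    haveI := hMXn
    haveI := hMYn
    have hDn : D.Normal := Subgroup.normal_inf_normal _ _
    by_cases hD1 : D = ⊥
    · haveI := hquot MX hMX1
      haveI := hquot MY hMY1
      apply hns
      apply Group.isSolvable_of_isSolvable_injective
        (f := (QuotientGroup.mk' MX).prod (QuotientGroup.mk' MY))
      rw [injective_iff_map_eq_one]
      intro a ha
      rw [MonoidHom.prod_apply, Prod.mk_eq_one] at ha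
      have haX : a ∈ MX := (QuotientGroup.eq_one_iff a).mp ha.1
      have haY : a ∈ MY := (QuotientGroup.eq_one_iff a).mp ha.2
      have : a ∈ D := Subgroup.mem_inf.2 ⟨haX, haY⟩
      rwa [hD1, Subgroup.mem_bot] at this
    · apply hext D hDn hD1
      apply Group.isSolvable_of_comm
      intro u v
      apply Subtype.ext
      simp only [Subgroup.coe_mul]
      exact h3 _ (Subgroup.mem_inf.1 u.2).1 _ (Subgroup.mem_inf.1 v.2).2

/-- **Kegel–Wielandt theorem**: a finite group which is the product of two nilpotent subgroups is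
solvable. -/
theorem kwg_solvable {G : Type u} [Group G] [Finite G] (A B : Subgroup G)
    (nilA : Group.IsNilpotent A) (nilB : Group.IsNilpotent B)
    (fac : ∀ g : G, ∃ a ∈ A, ∃ b ∈ B, g = a * b) : Group.IsSolvable G :=
  kwg_statement _ G rfl A B nilA nilB fac

end kwg

end Cfsg.Agent.Helper91
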