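import Mathlib
import Cfsg.Agent.Helper91.KWGeneral
import Cfsg.Agent.Helper60.Hall
import Cfsg.Agent.Helper53.Index

/-!
# Kegel: in a product of two nilpotent groups one factor lies in a proper normal subgroup
-/

set_option autoImplicit false
set_option linter.unusedSectionVars false
set_option linter.style.haveILetI false
open Pointwise

namespace Cfsg.Agent.Helper91

universe u

/-- Statement for groups of order `n`. -/
def KNStatement (n : ℕ) : Prop :=
  ∀ (G : Type u) [Group G] [Finite G], Nat.card G = n → ∀ A B : Subgroup G,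
    Group.IsNilpotent A → Group.IsNilpotent B →
    (∀ g : G, ∃ a ∈ A, ∃ b ∈ B, g = a * b) → (A ≠ ⊤ ∨ B ≠ ⊤) →
    ∃ N : Subgroup G, N.Normal ∧ N ≠ ⊤ ∧ (A ≤ N ∨ B ≤ N)

section kn
variable {G : Type u} [Group G] [Finite G]

theorem exists_normal_of_nilpotent (hG : Group.IsNilpotent G) {A : Subgroup G} (hA : A ≠ ⊤) :
    ∃ N : Subgroup G, N.Normal ∧ N ≠ ⊤ ∧ A ≤ N := by
  rcases eq_top_or_exists_le_coatom A with h | ⟨M, hM, hAM⟩
  · exact absurd h hA
  · exact ⟨M, (Group.isNilpotent_of_finite_tfae.out 0 2 rfl rfl).mp hG M hM, hM.1, hAM⟩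

theorem normal_of_forall_nz {X : Subgroup G} (h : ∀ g : G, Nz g X) : X.Normal :=
  ⟨fun x hx g => h g x hx⟩

theorem eq_of_mul_pow_eq {u w l a b : ℕ} (hl : l.Prime) (hu : ¬ l ∣ u) (hw : ¬ l ∣ w)
    (h : u * l ^ a = w * l ^ b) : u = w := by
  have cu : u.Coprime l := ((Nat.Prime.coprime_iff_not_dvd hl).mpr hu).symm
  have cw : w.Coprime l := ((Nat.Prime.coprime_iff_not_dvd hl).mpr hw).symm
  apply Nat.dvd_antisymm
  · have : u ∣ w * l ^ b := ⟨l ^ a, h.symm⟩
    exact (Nat.Coprime.pow_right b cu).dvd_of_dvd_mul_right this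
  · have : w ∣ u * l ^ a := ⟨l ^ b, h⟩
    exact (Nat.Coprime.pow_right a cw).dvd_of_dvd_mul_right this

/-- The induction hypothesis transported to a proper quotient. -/
theorem kn_quot {n : ℕ} (IH : ∀ m < n, KNStatement.{u} m) (hn : Nat.card G = n)
    (N : Subgroup G) [hNn : N.Normal] (hN : N ≠ ⊥) {A B : Subgroup G}
    (nilA : Group.IsNilpotent A) (nilB : Group.IsNilpotent B)
    (fac : ∀ g : G, ∃ a ∈ A, ∃ b ∈ B, g = a * b) (h : A ⊔ N ≠ ⊤ ∨ B ⊔ N ≠ ⊤) :
    ∃ N' : Subgroup G, N'.Normal ∧ N' ≠ ⊤ ∧ (A ≤ N' ∨ B ≤ N') := by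
  have hlt : Nat.card (G ⧸ N) < n := by
    rw [← hn, Subgroup.card_eq_card_quotient_mul_card_subgroup N]
    have h1 : 1 < Nat.card N := by
      rw [Finite.one_lt_card_iff_nontrivial]
      exact (Subgroup.nontrivial_iff_ne_bot N).mpr hN
    have h2 : 0 < Nat.card (G ⧸ N) := Nat.card_pos
    nlinarith
  set f := QuotientGroup.mk' N with hf
  have hfs : Function.Surjective f := QuotientGroup.mk'_surjective N
  have hmap : ∀ C : Subgroup G, C.map f = ⊤ → C ⊔ N = ⊤ := by
    intro C hC
    rw [eq_top_iff]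
    intro g _
    have : f g ∈ C.map f := by rw [hC]; exact Subgroup.mem_top _
    obtain ⟨c, hc, hcg⟩ := this
    have hmem : c⁻¹ * g ∈ N := by
      rw [← QuotientGroup.eq_one_iff, QuotientGroup.mk_mul, QuotientGroup.mk_inv]
      have : (f c) = (f g) := hcg
      simp only [hf, QuotientGroup.mk'_apply] at this
      rw [this, inv_mul_cancel]
    have e : g = c * (c⁻¹ * g) := by group
    rw [e]
    exact Subgroup.mul_mem _ (Subgroup.mem_sup_left hc) (Subgroup.mem_sup_right hmem)
  have hproper : A.map f ≠ ⊤ ∨ B.map f ≠ ⊤ := by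
    rcases h with h | h
    · exact Or.inl fun hC => h (hmap A hC)
    · exact Or.inr fun hC => h (hmap B hC)
  obtain ⟨N₁, hN₁n, hN₁t, hor⟩ := IH _ hlt (G ⧸ N) rfl (A.map f) (B.map f)
    (by haveI := nilA
        exact Group.nilpotent_of_surjective (f.subgroupMap A) (f.subgroupMap_surjective A))
    (by haveI := nilB
        exact Group.nilpotent_of_surjective (f.subgroupMap B) (f.subgroupMap_surjective B))
    (by intro x
        obtain ⟨g, rfl⟩ := hfs x
        obtain ⟨a, ha, b, hb, rfl⟩ := fac g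
        exact ⟨f a, Subgroup.mem_map_of_mem f ha, f b, Subgroup.mem_map_of_mem f hb,
          map_mul f a b⟩)
    hproper
  refine ⟨N₁.comap f, hN₁n.comap f, ?_, ?_⟩
  · intro htop
    apply hN₁t
    rw [← Subgroup.map_comap_eq_self_of_surjective hfs N₁, htop, ← MonoidHom.range_eq_map,
      MonoidHom.range_eq_top.mpr hfs]
  · rcases hor with h1 | h1
    · exact Or.inl (Subgroup.map_le_iff_le_comap.mp h1)
    · exact Or.inr (Subgroup.map_le_iff_le_comap.mp h1)

/-- A subgroup of `l`-power index in a nilpotent group contains all `l'`-elements. -/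
theorem pc_le_of_relIndex_pow {A B : Subgroup G} (nilA : Group.IsNilpotent A) {l : ℕ}
    (hl : l.Prime) {k : ℕ} (h : B.relIndex A = l ^ k) : pc A l ≤ B := by
  set D := B ⊓ A with hD
  have nilD : Group.IsNilpotent D := Cfsg.Agent.S0581.nilpotent_of_le inf_le_right nilA
  obtain ⟨a, ha⟩ := (pc_spec A nilA hl).2
  obtain ⟨d, hd⟩ := (pc_spec D nilD hl).2
  have e1 : Nat.card (pc A l) * l ^ a = Nat.card A := by
    rw [← ha]; exact card_mul_relIndex_eq (pc_le A l)
  have e2 : Nat.card (pc D l) * l ^ d = Nat.card D := by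
    rw [← hd]; exact card_mul_relIndex_eq (pc_le D l)
  have e3 : Nat.card A = Nat.card D * l ^ k := by
    rw [← h]; exact Cfsg.Agent.Helper53.card_eq_card_inf_mul_relIndex B A
  have e4 : Nat.card (pc A l) * l ^ a = Nat.card (pc D l) * l ^ (d + k) := by
    rw [e1, e3, ← e2, pow_add, mul_assoc]
  have e5 : Nat.card (pc A l) = Nat.card (pc D l) :=
    eq_of_mul_pow_eq hl (not_dvd_card_pc nilA hl) (not_dvd_card_pc nilD hl) e4
  have hle : pc D l ≤ pc A l := by
    intro g hg
    rw [mem_pc nilD hl] at hg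
    rw [mem_pc nilA hl]
    exact ⟨(Subgroup.mem_inf.1 hg.1).2, hg.2⟩
  have heq : pc D l = pc A l := Subgroup.eq_of_le_of_card_ge hle e5.le
  rw [← heq]
  exact le_trans (pc_le D l) inf_le_left

/-- **Kegel**: in a product of two nilpotent groups, one factor lies in a proper normal subgroup
(induction form). -/
theorem kn_statement : ∀ n : ℕ, KNStatement.{u} n := by
  intro n
  induction n using Nat.strong_induction_on with
  | _ n IH =>
    intro G _ _ hn A B nilA nilB fac hproper
    by_cases hGnil : Group.IsNilpotent G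
    · rcases hproper with h | h
      · obtain ⟨N, hNn, hNt, hAN⟩ := exists_normal_of_nilpotent hGnil h
        exact ⟨N, hNn, hNt, Or.inl hAN⟩
      · obtain ⟨N, hNn, hNt, hBN⟩ := exists_normal_of_nilpotent hGnil h
        exact ⟨N, hNn, hNt, Or.inr hBN⟩
    have nil_of_top : ∀ C : Subgroup G, Group.IsNilpotent C → C ≠ ⊤ := by
      intro C hC hCt
      apply hGnil
      have h1 : Group.IsNilpotent (⊤ : Subgroup G) := hCt ▸ hC
      haveI := h1
      exact Group.nilpotent_of_mulEquiv (Subgroup.topEquiv (G := G))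
    have hAt : A ≠ ⊤ := nil_of_top A nilA
    have hBt : B ≠ ⊤ := nil_of_top B nilB
    haveI hsol : Group.IsSolvable G := kwg_solvable A B nilA nilB fac
    haveI : Nontrivial G := by
      by_contra h
      rw [not_nontrivial_iff_subsingleton] at h
      exact hAt (Subsingleton.elim _ _)
    obtain ⟨R, l, hRn, hR1, hl, hRc, hRl⟩ := Cfsg.Agent.Helper60.exists_normal_elementary_abelian (G := G)
    haveI := hRn
    by_cases h1 : A ⊔ R ≠ ⊤ ∨ B ⊔ R ≠ ⊤
    · exact kn_quot IH hn R hR1 nilA nilB fac h1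
    push Not at h1
    obtain ⟨hAR, hBR⟩ := h1
    -- `C ⊓ R` is normal whenever `C ⊔ R = ⊤`
    have inf_normal : ∀ C : Subgroup G, C ⊔ R = ⊤ → (C ⊓ R).Normal := by
      intro C hC
      apply normal_of_forall_nz
      intro g
      have hg : g ∈ ((C ⊔ R : Subgroup G) : Set G) := by rw [hC]; exact Subgroup.mem_top g
      rw [Subgroup.mul_normal] at hg
      obtain ⟨c, hc, r, hr, rfl⟩ := hg
      apply Nz.mul
      · exact nz_inf (Nz.of_mem hc) (fun t ht => hRn.conj_mem t ht c)
      · intro t ht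
        have hcomm : r * t = t * r := hRc r hr t (Subgroup.mem_inf.1 ht).2
        have e : r * t * r⁻¹ = t := by rw [hcomm]; group
        rw [e]; exact ht
    by_cases hA1 : A ⊓ R ≠ ⊥
    · haveI := inf_normal A hAR
      exact kn_quot IH hn (A ⊓ R) hA1 nilA nilB fac (Or.inl (by rw [sup_inf_self]; exact hAt))
    by_cases hB1 : B ⊓ R ≠ ⊥
    · haveI := inf_normal B hBR
      exact kn_quot IH hn (B ⊓ R) hB1 nilA nilB fac (Or.inr (by rw [sup_inf_self]; exact hBt))
    push Not at hA1 hB1
    -- cardinalities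
    have hRp : IsPGroup l R := by
      intro r
      refine ⟨1, ?_⟩
      apply Subtype.ext
      simpa using hRl r r.2
    haveI : Fact l.Prime := ⟨hl⟩
    obtain ⟨k, hk⟩ := hRp.exists_card_eq
    have compl : ∀ C : Subgroup G, C ⊔ R = ⊤ → C ⊓ R = ⊥ → Nat.card C * l ^ k = Nat.card G := by
      intro C hC hC1
      have hc : Subgroup.IsComplement' C R := by
        apply Subgroup.isComplement'_of_disjoint_and_mul_eq_univ (disjoint_iff.mpr hC1)
        rw [← Subgroup.mul_normal, hC]; rfl
      rw [← hk]; exact hc.card_mul_card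
    have hAc := compl A hAR hA1
    have hBc := compl B hBR hB1
    have hBi : B.index = l ^ k := by
      have := Subgroup.card_mul_index B
      rw [← hBc] at this
      exact Nat.eq_of_mul_eq_mul_left Nat.card_pos this
    have hAi : A.index = l ^ k := by
      have := Subgroup.card_mul_index A
      rw [← hAc] at this
      exact Nat.eq_of_mul_eq_mul_left Nat.card_pos this
    have fac' : ∀ g : G, ∃ b ∈ B, ∃ a ∈ A, g = b * a := by
      intro g
      obtain ⟨a, ha, b, hb, hg⟩ := fac g⁻¹
      refine ⟨b⁻¹, B.inv_mem hb, a⁻¹, A.inv_mem ha, ?_⟩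
      rw [← mul_inv_rev, ← hg, inv_inv]
    have hBA : B.relIndex A = l ^ k := by
      rw [Cfsg.Agent.Helper53.relIndex_eq_index_of_prod B A fac, hBi]
    have hAB : A.relIndex B = l ^ k := by
      rw [Cfsg.Agent.Helper53.relIndex_eq_index_of_prod A B fac', hAi]
    have hQA : pc A l ≤ B := pc_le_of_relIndex_pow nilA hl hBA
    have hQB : pc B l ≤ A := pc_le_of_relIndex_pow nilB hl hAB
    have hQeq : pc A l = pc B l := by
      apply le_antisymm
      · intro g hg
        rw [mem_pc nilB hl]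
        exact ⟨hQA hg, ((mem_pc nilA hl).mp hg).2⟩
      · intro g hg
        rw [mem_pc nilA hl]
        exact ⟨hQB hg, ((mem_pc nilB hl).mp hg).2⟩
    have hQn : (pc A l).Normal := by
      apply normal_of_forall_nz
      intro g
      obtain ⟨a, ha, b, hb, rfl⟩ := fac g
      apply Nz.mul
      · exact (Nz.of_mem ha).pc nilA hl
      · rw [hQeq]; exact (Nz.of_mem hb).pc nilB hl
    by_cases hQ1 : pc A l ≠ ⊥
    · haveI := hQn
      exact kn_quot IH hn (pc A l) hQ1 nilA nilB fac
        (Or.inl (by rw [sup_eq_left.mpr (pc_le A l)]; exact hAt))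
    push Not at hQ1
    exfalso
    apply hGnil
    obtain ⟨a, ha⟩ := (pc_spec A nilA hl).2
    have e1 : Nat.card (pc A l) * l ^ a = Nat.card A := by
      rw [← ha]; exact card_mul_relIndex_eq (pc_le A l)
    rw [hQ1, Subgroup.card_bot, one_mul] at e1
    have hG : IsPGroup l G := by
      apply IsPGroup.of_card (n := a + k)
      rw [← hAc, ← e1, pow_add]
    exact hG.isNilpotent

/-- **Kegel**: if a finite group is the product of two nilpotent subgroups, not both the whole group,
then some proper normal subgroup contains one of the factors. -/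
theorem kn_normal {G : Type u} [Group G] [Finite G] (A B : Subgroup G)
    (nilA : Group.IsNilpotent A) (nilB : Group.IsNilpotent B)
    (fac : ∀ g : G, ∃ a ∈ A, ∃ b ∈ B, g = a * b) (hproper : A ≠ ⊤ ∨ B ≠ ⊤) :
    ∃ N : Subgroup G, N.Normal ∧ N ≠ ⊤ ∧ (A ≤ N ∨ B ≤ N) :=
  kn_statement _ G rfl A B nilA nilB fac hproper

end kn

end Cfsg.Agent.Helper91
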