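import Cfsg.Agent.Helper91.MixC2
import Cfsg.Agent.Helper72.MixC1

/-!
# S4017 (helper15's WANTED #5926), pieces (C2) + (C2b), unprimed: exact Skel signatures.  helper91.
-/

set_option autoImplicit false

namespace Cfsg.Agent.Helper91.Mix

open Subgroup Cfsg.Agent.Helper15.Mix

variable {G : Type*} [Group G] [Finite G] {p a : ℕ} {Q : Subgroup G} {x : G}

/-- (C2) -/
theorem Cfg.isPGroup_W (h : Cfg G p a Q x) {t : G} (ht : t ∈ Q) (ht1 : t ≠ 1) :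
    IsPGroup p (W p t) :=
  isPGroup_W' h
    (fun _ _ hg ht ht1 hgt => Cfsg.Agent.Helper72.Mix.Cfg.mem_centralizer_of_commute h hg ht ht1 hgt)
    ht ht1

/-- (C2b) `C(t) = W_t Q`. -/
theorem Cfg.cz_eq_W_mul_Q (h : Cfg G p a Q x) {t : G} (ht : t ∈ Q) (ht1 : t ≠ 1) :
    ∀ c ∈ centralizer ({t} : Set G), ∃ w ∈ W p t, ∃ u ∈ Q, c = w * u :=
  cz_eq_W_mul_Q' h
    (fun _ _ hg ht ht1 hgt => Cfsg.Agent.Helper72.Mix.Cfg.mem_centralizer_of_commute h hg ht ht1 hgt)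
    ht ht1

end Cfsg.Agent.Helper91.Mix
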