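import Mathlib

/-!
# S4017 (helper15's WANTED #5926), piece (V4): a four-group acting on an abelian group with no
fixed points for any of its three involutions acts on the trivial group.  helper91.
-/

set_option autoImplicit false

namespace Cfsg.Agent.Helper91.Mix

/-- An involution normalizing an abelian subgroup `A` with `C_A(r) = 1` inverts `A`. -/
theorem inverts_of_fixedPointFree {G : Type*} [Group G] (A : Subgroup G)
    (hcomm : ∀ v ∈ A, ∀ w ∈ A, v * w = w * v) (r : G) (hr2 : r * r = 1)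
    (hrA : ∀ w ∈ A, r * w * r⁻¹ ∈ A) (hr1 : ∀ w ∈ A, r * w = w * r → w = 1) :
    ∀ w ∈ A, r * w * r⁻¹ = w⁻¹ := by
  intro w hw
  have hrinv : r⁻¹ = r := inv_eq_of_mul_eq_one_left hr2
  have hc : w * (r * w * r⁻¹) ∈ A := A.mul_mem hw (hrA w hw)
  have hw'' : r * (r * w * r⁻¹) * r⁻¹ = w := by
    rw [hrinv]
    calc r * (r * w * r) * r = (r * r) * w * (r * r) := by group
      _ = w := by rw [hr2, one_mul, mul_one]
  have hconj : r * (w * (r * w * r⁻¹)) * r⁻¹ = w * (r * w * r⁻¹) := by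
    calc r * (w * (r * w * r⁻¹)) * r⁻¹ = (r * w * r⁻¹) * (r * (r * w * r⁻¹) * r⁻¹) := by group
      _ = (r * w * r⁻¹) * w := by rw [hw'']
      _ = w * (r * w * r⁻¹) := hcomm _ (hrA w hw) _ hw
  have hc1 := hr1 _ hc (mul_inv_eq_iff_eq_mul.mp hconj)
  exact eq_inv_of_mul_eq_one_right hc1

/-- (V4) -/
theorem v4_trivial {G : Type*} [Group G] (A : Subgroup G) [Finite A] (hodd : Odd (Nat.card A))
    (hcomm : ∀ v ∈ A, ∀ w ∈ A, v * w = w * v) (s u : G) (hs2 : s * s = 1) (hu2 : u * u = 1)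
    (hsA : ∀ w ∈ A, s * w * s⁻¹ ∈ A) (huA : ∀ w ∈ A, u * w * u⁻¹ ∈ A)
    (h1 : ∀ w ∈ A, s * w = w * s → w = 1) (h2 : ∀ w ∈ A, u * w = w * u → w = 1)
    (h3 : ∀ w ∈ A, (s * u) * w = w * (s * u) → w = 1) : A = ⊥ := by
  have hs := inverts_of_fixedPointFree A hcomm s hs2 hsA h1
  have hu := inverts_of_fixedPointFree A hcomm u hu2 huA h2
  rw [Subgroup.eq_bot_iff_forall]
  intro w hw
  apply h3 w hw
  have : s * u * w * (s * u)⁻¹ = w := by
    calc s * u * w * (s * u)⁻¹ = s * (u * w * u⁻¹) * s⁻¹ := by group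
      _ = s * w⁻¹ * s⁻¹ := by rw [hu w hw]
      _ = (s * w * s⁻¹)⁻¹ := by group
      _ = w := by rw [hs w hw, inv_inv]
  exact mul_inv_eq_iff_eq_mul.mp this

end Cfsg.Agent.Helper91.Mix
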