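import Cfsg.Agent.Helper91.NilpMax

set_option autoImplicit false
open scoped Pointwise commutatorElement

namespace Cfsg.Agent.Helper91

universe u

section

variable {G : Type u} [Group G]

theorem mem_normalizer_of_conj_smul_le [Finite G] {x : G} {W : Subgroup G}
    (h : MulAut.conj x • W ≤ W) : x ∈ Subgroup.normalizer (W : Set G) := by
  have hcard : Nat.card (MulAut.conj x • W : Subgroup G) = Nat.card W :=
    (Nat.card_congr (Subgroup.equivSMul (MulAut.conj x) W).toEquiv).symm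
  exact Cfsg.Agent.Helper1.mem_normalizer_of_conj_smul_eq
    (Subgroup.eq_of_le_of_card_ge h (le_of_eq hcard.symm))

theorem commutator_le_center_of_class_two {A : Subgroup G}
    (h : ∀ a ∈ A, ∀ b ∈ A, ∀ c ∈ A, ⁅⁅a, b⁆, c⁆ = 1) :
    ⁅A, A⁆ ≤ A ⊓ Subgroup.centralizer (A : Set G) := by
  rw [Subgroup.commutator_le]
  intro a ha b hb
  refine Subgroup.mem_inf.2 ⟨?_, ?_⟩
  · rw [commutatorElement_def]
    exact A.mul_mem (A.mul_mem (A.mul_mem ha hb) (A.inv_mem ha)) (A.inv_mem hb)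
  · rw [Subgroup.mem_centralizer_iff]
    intro c hc
    have := h a ha b hb c hc
    rw [commutatorElement_def ⁅a, b⁆ c] at this
    have e : ⁅a, b⁆ * c = c * ⁅a, b⁆ := by
      calc ⁅a, b⁆ * c = (⁅a, b⁆ * c * ⁅a, b⁆⁻¹ * c⁻¹) * (c * ⁅a, b⁆) := by group
        _ = c * ⁅a, b⁆ := by rw [this, one_mul]
    exact e.symm

/-- A subgroup `A` of class at most two normalises `Z(A) U` for every `U ≤ A`. -/
theorem class_two_le_normalizer [Finite G] {A U : Subgroup G}
    (h : ∀ a ∈ A, ∀ b ∈ A, ∀ c ∈ A, ⁅⁅a, b⁆, c⁆ = 1) (hU : U ≤ A) :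
    A ≤ Subgroup.normalizer (((A ⊓ Subgroup.centralizer (A : Set G)) ⊔ U : Subgroup G) : Set G) := by
  intro x hx
  apply mem_normalizer_of_conj_smul_le
  rw [Subgroup.smul_sup]
  refine sup_le ?_ ?_
  · intro y hy
    have hy' := Cfsg.Agent.Helper1.mem_conj_smul.1 hy
    have hz := (Subgroup.mem_centralizer_iff.1 (Subgroup.mem_inf.1 hy').2) x hx
    -- x * (x⁻¹ y x) = (x⁻¹ y x) * x
    have : y = x⁻¹ * y * x := by
      calc y = (x * (x⁻¹ * y * x)) * x⁻¹ := by group
        _ = ((x⁻¹ * y * x) * x) * x⁻¹ := by rw [hz]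
        _ = x⁻¹ * y * x := by group
    rw [this]
    exact (le_sup_left : _ ≤ (A ⊓ Subgroup.centralizer (A : Set G)) ⊔ U) hy'
  · intro y hy
    have hy' := Cfsg.Agent.Helper1.mem_conj_smul.1 hy
    have hc : ⁅x, x⁻¹ * y * x⁆ ∈ A ⊓ Subgroup.centralizer (A : Set G) :=
      commutator_le_center_of_class_two h (Subgroup.commutator_mem_commutator hx (hU hy'))
    have : y = ⁅x, x⁻¹ * y * x⁆ * (x⁻¹ * y * x) := by
      rw [commutatorElement_def]; group
    rw [this]
    exact Subgroup.mul_mem _ ((le_sup_left : _ ≤ (A ⊓ Subgroup.centralizer (A : Set G)) ⊔ U) hc)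
      ((le_sup_right : U ≤ (A ⊓ Subgroup.centralizer (A : Set G)) ⊔ U) hy')

theorem le_normalizer_of_le_centralizer {T A W : Subgroup G}
    (hT : T ≤ Subgroup.centralizer (A : Set G)) (hW : W ≤ A) :
    T ≤ Subgroup.normalizer (W : Set G) :=
  (hT.trans (Subgroup.centralizer_le hW)).trans (Subgroup.centralizer_le_normalizer _)

/-- Centre of a nontrivial finite `p`-subgroup is nontrivial (inside the ambient group). -/
theorem inf_centralizer_ne_bot [Finite G] {p : ℕ} [Fact p.Prime] {P : Subgroup G}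
    (hPp : IsPGroup p ↥P) (hP1 : P ≠ ⊥) : P ⊓ Subgroup.centralizer (P : Set G) ≠ ⊥ := by
  have hnt : Nontrivial ↥P := (Subgroup.nontrivial_iff_ne_bot P).2 hP1
  have hZ := hPp.center_nontrivial
  obtain ⟨z, hz⟩ := exists_ne (1 : ↥(Subgroup.center ↥P))
  intro h
  have hmem : ((z : ↥P) : G) ∈ P ⊓ Subgroup.centralizer (P : Set G) := by
    refine Subgroup.mem_inf.2 ⟨(z : ↥P).2, ?_⟩
    rw [Subgroup.mem_centralizer_iff]
    intro y hy
    have := (Subgroup.mem_center_iff.1 z.2) ⟨y, hy⟩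
    exact congrArg Subtype.val this
  rw [h, Subgroup.mem_bot] at hmem
  exact hz (Subtype.ext (Subtype.ext hmem))

/-- **`p`-normality** of a group with a core-free nilpotent maximal subgroup `M = P × T` whose
Sylow `p`-subgroup `P` has class at most two. -/
theorem pnormal_of_nilpotent_coatom [Finite G] {M : Subgroup G} (hmax : IsCoatom M)
    (hcore : M.normalCore = ⊥) {p : ℕ} [Fact p.Prime] (P T : Subgroup G)
    (hPT : P ⊔ T = M) (hcomm : T ≤ Subgroup.centralizer (P : Set G))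
    (hPp : IsPGroup p ↥P) (hPall : ∀ x ∈ M, (∃ k : ℕ, x ^ p ^ k = 1) → x ∈ P)
    (hMP : M ≤ Subgroup.normalizer (P : Set G)) (hP1 : P ≠ ⊥)
    (hcl : ∀ a ∈ P, ∀ b ∈ P, ∀ c ∈ P, ⁅⁅a, b⁆, c⁆ = 1)
    (g : G) (hZ : P ⊓ Subgroup.centralizer (P : Set G) ≤ MulAut.conj g • P) :
    (MulAut.conj g • P) ⊓ Subgroup.centralizer ((MulAut.conj g • P : Subgroup G) : Set G) =
      P ⊓ Subgroup.centralizer (P : Set G) := by
  have hPM : P ≤ M := hPT ▸ le_sup_left
  have hTM : T ≤ M := hPT ▸ le_sup_right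
  set Z := P ⊓ Subgroup.centralizer (P : Set G) with hZdef
  set Pg : Subgroup G := MulAut.conj g • P with hPg
  set Zg := Pg ⊓ Subgroup.centralizer (Pg : Set G) with hZgdef
  have hZ1 : Z ≠ ⊥ := inf_centralizer_ne_bot hPp hP1
  have hZP : Z ≤ P := inf_le_left
  -- `C_G(Z) = M`
  have hMCZ : M ≤ Subgroup.centralizer (Z : Set G) := by
    rw [← hPT]
    refine sup_le ?_ ?_
    · intro x hx
      rw [Subgroup.mem_centralizer_iff]
      intro z hz
      exact (Subgroup.mem_centralizer_iff.1 (Subgroup.mem_inf.1 hz).2) x hx |>.symm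
    · exact hcomm.trans (Subgroup.centralizer_le hZP)
  have hNZ : Subgroup.normalizer (Z : Set G) = M :=
    normalizer_eq_of_coatom_corefree hmax hcore (hZP.trans hPM) hZ1
      (hMCZ.trans (Subgroup.centralizer_le_normalizer _))
  have hCZ : Subgroup.centralizer (Z : Set G) ≤ M :=
    hNZ ▸ Subgroup.centralizer_le_normalizer _
  -- Step 1: `Zg ≤ P`
  have hZgP : Zg ≤ P := by
    intro w hw
    obtain ⟨hw1, hw2⟩ := Subgroup.mem_inf.1 hw
    have hwM : w ∈ M := by
      apply hCZ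
      rw [Subgroup.mem_centralizer_iff]
      intro z hz
      exact (Subgroup.mem_centralizer_iff.1 hw2) z (hZ hz)
    apply hPall w hwM
    have hw1' := Cfsg.Agent.Helper1.mem_conj_smul.1 hw1
    obtain ⟨k, hk⟩ := hPp ⟨_, hw1'⟩
    refine ⟨k, ?_⟩
    have hk' : (g⁻¹ * w * g) ^ p ^ k = 1 := by simpa using congrArg Subtype.val hk
    have e : g⁻¹ * w * g = g⁻¹ * w * g⁻¹⁻¹ := by rw [inv_inv]
    rw [e, conj_pow] at hk'
    have : w ^ p ^ k = g * (g⁻¹ * w ^ p ^ k * g⁻¹⁻¹) * g⁻¹ := by group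
    rw [this, hk']; group
  -- the subgroup `W`
  set W := Z ⊔ Zg with hW
  have hWP : W ≤ P := sup_le hZP hZgP
  have hW1 : W ≠ ⊥ := fun h => hZ1 (le_bot_iff.1 (h ▸ (le_sup_left : Z ≤ W)))
  have hPW : P ≤ Subgroup.normalizer (W : Set G) := class_two_le_normalizer hcl hZgP
  have hTW : T ≤ Subgroup.normalizer (W : Set G) := le_normalizer_of_le_centralizer hcomm hWP
  have hMW : M ≤ Subgroup.normalizer (W : Set G) := hPT ▸ sup_le hPW hTW
  have hNW : Subgroup.normalizer (W : Set G) = M :=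
    normalizer_eq_of_coatom_corefree hmax hcore (hWP.trans hPM) hW1 hMW
  -- the conjugate side
  have hclg : ∀ a ∈ Pg, ∀ b ∈ Pg, ∀ c ∈ Pg, ⁅⁅a, b⁆, c⁆ = 1 := by
    intro a ha b hb c hc
    have ha' := Cfsg.Agent.Helper1.mem_conj_smul.1 ha
    have hb' := Cfsg.Agent.Helper1.mem_conj_smul.1 hb
    have hc' := Cfsg.Agent.Helper1.mem_conj_smul.1 hc
    have h1 := hcl _ ha' _ hb' _ hc'
    have e : ⁅⁅a, b⁆, c⁆ = g * ⁅⁅g⁻¹ * a * g, g⁻¹ * b * g⁆, g⁻¹ * c * g⁆ * g⁻¹ := by
      simp only [commutatorElement_def]; group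
    rw [e, h1]; group
  have hPgW : Pg ≤ Subgroup.normalizer (W : Set G) := by
    have := class_two_le_normalizer hclg hZ
    rwa [← hZgdef, sup_comm, ← hW] at this
  set Tg : Subgroup G := MulAut.conj g • T with hTg
  have hcommg : Tg ≤ Subgroup.centralizer (Pg : Set G) := by
    intro t ht
    have ht' := Cfsg.Agent.Helper1.mem_conj_smul.1 ht
    rw [Subgroup.mem_centralizer_iff]
    intro y hy
    have hy' := Cfsg.Agent.Helper1.mem_conj_smul.1 hy
    have := (Subgroup.mem_centralizer_iff.1 (hcomm ht')) _ hy'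
    calc y * t = g * ((g⁻¹ * y * g) * (g⁻¹ * t * g)) * g⁻¹ := by group
      _ = g * ((g⁻¹ * t * g) * (g⁻¹ * y * g)) * g⁻¹ := by rw [this]
      _ = t * y := by group
  have hWPg : W ≤ Pg := sup_le hZ inf_le_left
  have hTgW : Tg ≤ Subgroup.normalizer (W : Set G) := le_normalizer_of_le_centralizer hcommg hWPg
  have hMg : MulAut.conj g • M ≤ M := by
    have h1 : MulAut.conj g • M = Pg ⊔ Tg := by
      rw [← hPT, Subgroup.smul_sup]
    rw [h1]
    exact (sup_le hPgW hTgW).trans_eq hNW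
  have hM1 : M ≠ ⊥ := fun h => hP1 (le_bot_iff.1 (h ▸ hPM))
  have hNM : Subgroup.normalizer (M : Set G) = M :=
    normalizer_eq_of_coatom_corefree hmax hcore le_rfl hM1 Subgroup.le_normalizer
  have hgM : g ∈ M := hNM ▸ mem_normalizer_of_conj_smul_le hMg
  have hPgP : Pg = P := Cfsg.Agent.Helper1.conj_smul_eq_of_mem_normalizer (hMP hgM)
  rw [hZgdef, hPgP]

/-- `N_G(Z(P)) = M` in the situation of `pnormal_of_nilpotent_coatom`. -/
theorem normalizer_inf_centralizer_eq [Finite G] {M : Subgroup G} (hmax : IsCoatom M)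
    (hcore : M.normalCore = ⊥) {p : ℕ} [Fact p.Prime] (P T : Subgroup G)
    (hPT : P ⊔ T = M) (hcomm : T ≤ Subgroup.centralizer (P : Set G))
    (hPp : IsPGroup p ↥P) (hP1 : P ≠ ⊥) :
    Subgroup.normalizer ((P ⊓ Subgroup.centralizer (P : Set G) : Subgroup G) : Set G) = M := by
  have hPM : P ≤ M := hPT ▸ le_sup_left
  have hZ1 := inf_centralizer_ne_bot hPp hP1
  have hZP : P ⊓ Subgroup.centralizer (P : Set G) ≤ P := inf_le_left
  have hMCZ : M ≤ Subgroup.centralizer
      ((P ⊓ Subgroup.centralizer (P : Set G) : Subgroup G) : Set G) := by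
    rw [← hPT]
    refine sup_le ?_ ?_
    · intro x hx
      rw [Subgroup.mem_centralizer_iff]
      intro z hz
      exact (Subgroup.mem_centralizer_iff.1 (Subgroup.mem_inf.1 hz).2) x hx |>.symm
    · exact hcomm.trans (Subgroup.centralizer_le hZP)
  exact normalizer_eq_of_coatom_corefree hmax hcore (hZP.trans hPM) hZ1
    (hMCZ.trans (Subgroup.centralizer_le_normalizer _))

end

end Cfsg.Agent.Helper91
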