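import Cfsg.Agent.Helper91.NilpMax2
import Cfsg.Agent.S0078
import Cfsg.Agent.Lib.Cores

set_option autoImplicit false
open scoped Pointwise commutatorElement

namespace Cfsg.Agent.Helper91

universe u

/-- A finite nilpotent group has a normal `p`-complement (after helper95's `S0581`). -/
theorem exists_normal_pcompl_nilp {M : Type*} [Group M] [Finite M] (hM : Group.IsNilpotent M)
    (p : ℕ) [hp : Fact p.Prime] :
    ∃ T : Subgroup M, T.Normal ∧ ¬ p ∣ Nat.card T ∧ ∃ k, T.index = p ^ k := by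
  by_cases hpd : p ∣ Nat.card M
  · obtain ⟨e⟩ := ((Group.isNilpotent_of_finite_tfae (G := M)).out 0 4 rfl rfl).mp hM
    have hpm : p ∈ (Nat.card M).primeFactors :=
      Nat.mem_primeFactors.mpr ⟨hp.out, hpd, Nat.card_pos.ne'⟩
    let φ : M →* (∀ P : Sylow p M, (P : Subgroup M)) :=
      (Pi.evalMonoidHom (fun q : (Nat.card M).primeFactors => ∀ P : Sylow q M, (P : Subgroup M))
        ⟨p, hpm⟩).comp e.symm.toMonoidHom
    have hφ : Function.Surjective φ := by
      intro f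
      classical
      refine ⟨e (Function.update 1 ⟨p, hpm⟩ f), ?_⟩
      simp [φ]
    let P₁ : Sylow p M := default
    have hP₁n : (P₁ : Subgroup M).Normal := inferInstance
    have hu : Unique (Sylow p M) := Sylow.unique_of_normal P₁ hP₁n
    let P₀ : Sylow p M := hu.default
    have hcard : Nat.card (∀ P : Sylow p M, (P : Subgroup M)) = Nat.card P₀ :=
      Nat.card_congr (Equiv.piUnique (fun P : Sylow p M => (P : Subgroup M)))
    refine ⟨φ.ker, inferInstance, ?_, ?_⟩
    · have hidx : φ.ker.index = Nat.card P₀ := by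
        rw [Subgroup.index_ker, MonoidHom.range_eq_top.mpr hφ, Subgroup.card_top, hcard]
      have h1 : Nat.card φ.ker * φ.ker.index = Nat.card M := Subgroup.card_mul_index _
      have h2 : Nat.card P₀ * (P₀ : Subgroup M).index = Nat.card M := Subgroup.card_mul_index _
      have h3 : Nat.card φ.ker = (P₀ : Subgroup M).index := by
        rw [hidx] at h1
        have hpos : 0 < Nat.card P₀ := Nat.card_pos
        apply Nat.eq_of_mul_eq_mul_right hpos
        rw [h1, ← h2, mul_comm]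
      rw [h3]
      exact P₀.not_dvd_index
    · obtain ⟨k, hk⟩ := P₀.2.exists_card_eq
      refine ⟨k, ?_⟩
      rw [Subgroup.index_ker, MonoidHom.range_eq_top.mpr hφ, Subgroup.card_top, hcard, hk]
  · refine ⟨⊤, inferInstance, ?_, 0, ?_⟩
    · rwa [Subgroup.card_top]
    · rw [Subgroup.index_top, pow_zero]

section

variable {G : Type u} [Group G]

/-- In a finite group with a core-free nilpotent maximal subgroup `M` of class at most two,
there is a normal `p`-complement for every prime `p` dividing `#M`. -/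
theorem exists_pcomplement_of_class_two [Finite G] {M : Subgroup G} (hmax : IsCoatom M)
    (hnil : Group.IsNilpotent ↥M) (hcore : M.normalCore = ⊥)
    (hcl : ∀ a ∈ M, ∀ b ∈ M, ∀ c ∈ M, ⁅⁅a, b⁆, c⁆ = 1) (p : ℕ) (hp : p.Prime)
    (hpM : p ∣ Nat.card M) :
    ∃ K : Subgroup G, K.Normal ∧ (Nat.card K).Coprime p ∧ ∃ k, K.index = p ^ k := by
  have : Fact p.Prime := ⟨hp⟩
  let P₀ : Sylow p ↥M := default
  have hall : ∀ (q : ℕ), Fact (Nat.Prime q) → ∀ (Q : Sylow q ↥M), (Q : Subgroup ↥M).Normal :=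
    ((Group.isNilpotent_of_finite_tfae (G := ↥M)).out 0 3 rfl rfl).1 hnil
  have hP₀n : (P₀ : Subgroup ↥M).Normal := hall p inferInstance P₀
  have hP₀1 : (P₀ : Subgroup ↥M) ≠ ⊥ := by
    intro h
    have h2 := P₀.card_eq_multiplicity
    rw [h, Subgroup.card_bot] at h2
    have h5 : 0 < (Nat.card ↥M).factorization p :=
      hp.factorization_pos_of_dvd Nat.card_pos.ne' hpM
    have : 1 < p ^ (Nat.card ↥M).factorization p := Nat.one_lt_pow h5.ne' hp.one_lt
    omega
  obtain ⟨S, hS⟩ := sylow_of_nilpotent_coatom hmax hnil hcore P₀ hP₀1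
  obtain ⟨T', hT'n, hT'c, k, hT'k⟩ := exists_normal_pcompl_nilp hnil p
  set P : Subgroup G := (P₀ : Subgroup ↥M).map M.subtype with hP
  set T : Subgroup G := T'.map M.subtype with hT
  have hPM : P ≤ M := Subgroup.map_subtype_le _
  have hinfbot : (P₀ : Subgroup ↥M) ⊓ T' = ⊥ := by
    apply Subgroup.inf_eq_bot_of_coprime
    obtain ⟨j, hj⟩ := P₀.2.exists_card_eq
    rw [hj]
    exact Nat.Coprime.pow_left j ((Nat.Prime.coprime_iff_not_dvd hp).2 hT'c)
  have hsuptop : (P₀ : Subgroup ↥M) ⊔ T' = ⊤ := by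
    rw [← Subgroup.index_eq_one]
    have h1 : ((P₀ : Subgroup ↥M) ⊔ T').index ∣ (P₀ : Subgroup ↥M).index :=
      Subgroup.index_dvd_of_le le_sup_left
    have h2 : ((P₀ : Subgroup ↥M) ⊔ T').index ∣ p ^ k := hT'k ▸ Subgroup.index_dvd_of_le le_sup_right
    have h3 : ((P₀ : Subgroup ↥M).index).Coprime (p ^ k) :=
      Nat.Coprime.pow_right k ((Nat.Prime.coprime_iff_not_dvd hp).2 P₀.not_dvd_index).symm
    exact Nat.eq_one_of_dvd_coprimes h3 h1 h2
  have hPT : P ⊔ T = M := by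
    rw [hP, hT, ← Subgroup.map_sup, hsuptop, ← MonoidHom.range_eq_map, Subgroup.range_subtype]
  have hcomm : T ≤ Subgroup.centralizer (P : Set G) := by
    rintro _ ⟨t, ht, rfl⟩
    rw [Subgroup.mem_centralizer_iff]
    rintro _ ⟨x, hx, rfl⟩
    have h1 : ⁅x, t⁆ ∈ (P₀ : Subgroup ↥M) ⊓ T' := by
      refine Subgroup.mem_inf.2 ⟨?_, ?_⟩
      · rw [commutatorElement_def]
        have : x * t * x⁻¹ * t⁻¹ = x * (t * x⁻¹ * t⁻¹) := by group
        rw [this]
        exact Subgroup.mul_mem _ hx (hP₀n.conj_mem _ (Subgroup.inv_mem _ hx) t)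
      · rw [commutatorElement_def]
        exact Subgroup.mul_mem _ (hT'n.conj_mem _ ht x) (Subgroup.inv_mem _ ht)
    rw [hinfbot, Subgroup.mem_bot, commutatorElement_eq_one_iff_mul_comm] at h1
    have := congrArg Subtype.val h1
    simpa using this
  have hPp : IsPGroup p ↥P := P₀.2.map _
  have hPall : ∀ x ∈ M, (∃ j : ℕ, x ^ p ^ j = 1) → x ∈ P := by
    intro x hx ⟨j, hj⟩
    have hj' : (⟨x, hx⟩ : ↥M) ^ p ^ j = 1 := by
      apply Subtype.ext; simpa using hj
    exact ⟨⟨x, hx⟩, mem_of_normal_sylow P₀ hP₀n hj', rfl⟩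
  have hMP : M ≤ Subgroup.normalizer (P : Set G) := le_normalizer_map_subtype_of_normal hP₀n
  have hP1 : P ≠ ⊥ := by
    intro h
    apply hP₀1
    rw [eq_bot_iff]
    intro x hx
    have : (x : G) ∈ P := ⟨x, hx, rfl⟩
    rw [h] at this
    exact Subtype.ext (Subgroup.mem_bot.1 this)
  have hclP : ∀ a ∈ P, ∀ b ∈ P, ∀ c ∈ P, ⁅⁅a, b⁆, c⁆ = 1 :=
    fun a ha b hb c hc => hcl a (hPM ha) b (hPM hb) c (hPM hc)
  have hpn := pnormal_of_nilpotent_coatom hmax hcore P T hPT hcomm hPp hPall hMP hP1 hclP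
  have hNZ := normalizer_inf_centralizer_eq hmax hcore P T hPT hcomm hPp hP1
  -- Grün's second theorem
  have hSset : (S : Set G) = (P : Set G) := by rw [← hS]; rfl
  have hG := Cfsg.Agent.S0078.result S
    (by
      intro Q hQ
      obtain ⟨g, hg⟩ := MulAction.exists_smul_eq G S Q
      have hQg : (Q : Subgroup G) = MulAut.conj g • P := by
        rw [← hg, Sylow.coe_subgroup_smul, hS]
      have hQset : (Q : Set G) = ((MulAut.conj g • P : Subgroup G) : Set G) := by
        rw [← hQg]; rfl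
      rw [hQg, hS, hSset, hQset]
      rw [hS, hQg, hSset] at hQ
      exact hpn g hQ)
    M (by rw [hS, hSset]; exact le_of_eq hNZ)
  -- the right-hand side is trivial
  have hres : Cfsg.pResidual p ↥M ≤ T' := by
    have : T'.Normal := hT'n
    apply Cfsg.Agent.Lib.pResidual_le_of_isPGroup_quotient T'
    apply IsPGroup.of_card (n := k)
    rw [← hT'k]; rfl
  have hbot : (S : Subgroup G) ⊓ Cfsg.pResidual p G = ⊥ := by
    rw [hG, hS, eq_bot_iff]
    rintro x ⟨⟨y, hy, rfl⟩, ⟨z, hz, hzy⟩⟩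
    have hyz : z = y := Subtype.ext hzy
    have : y ∈ (P₀ : Subgroup ↥M) ⊓ T' := Subgroup.mem_inf.2 ⟨hy, hres (hyz ▸ hz)⟩
    rw [hinfbot, Subgroup.mem_bot] at this
    rw [this]; exact Subgroup.one_mem _
  refine ⟨Cfsg.pResidual p G, inferInstance, ?_, Cfsg.Agent.Lib.index_pResidual p⟩
  rw [Nat.coprime_comm, Nat.Prime.coprime_iff_not_dvd hp]
  intro hdvd
  obtain ⟨x, hx⟩ := exists_prime_orderOf_dvd_card' p hdvd
  have hx1 : ((x : ↥(Cfsg.pResidual p G)) : G) ^ p ^ 1 = 1 := by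
    have h0 := pow_orderOf_eq_one x
    rw [hx] at h0
    rw [pow_one, ← Subgroup.coe_pow, h0]; rfl
  obtain ⟨Q, hQ⟩ := (isPGroup_zpowers_of_pow_eq_one hx1).exists_le_sylow
  obtain ⟨g, hg⟩ := MulAction.exists_smul_eq G S Q
  have hxQ : (x : G) ∈ (Q : Subgroup G) := hQ (Subgroup.mem_zpowers _)
  rw [← hg, Sylow.coe_subgroup_smul, Cfsg.Agent.Helper1.mem_conj_smul] at hxQ
  have hxK : g⁻¹ * (x : G) * g ∈ Cfsg.pResidual p G := by
    have := (inferInstance : (Cfsg.pResidual p G).Normal).conj_mem _ x.2 g⁻¹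
    simpa using this
  have h1 : g⁻¹ * (x : G) * g ∈ (S : Subgroup G) ⊓ Cfsg.pResidual p G :=
    Subgroup.mem_inf.2 ⟨hxQ, hxK⟩
  rw [hbot, Subgroup.mem_bot] at h1
  have hx1' : (x : G) = 1 := by
    have : (x : G) = g * (g⁻¹ * (x : G) * g) * g⁻¹ := by group
    rw [this, h1]; group
  have : orderOf x = 1 := by
    rw [orderOf_eq_one_iff]; exact Subtype.ext hx1'
  rw [hx] at this
  exact hp.one_lt.ne' this

end

end Cfsg.Agent.Helper91
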