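import Mathlib
import Cfsg.Agent.Helper17.SylowKit
import Cfsg.Agent.Helper20.Fpf
import Cfsg.Agent.Helper31.Fpf7920
import Cfsg.Agent.Helper9.FratIdx

/-!
# Piece (S-3) of S2490: in a group of order 7920 with no elements of order 6, 15, 33 every proper
nontrivial normal subgroup has order 3960.
-/

set_option autoImplicit false

open Subgroup

namespace Cfsg.Agent.Helper91.Ord7920

open Cfsg.Agent.Helper20.Fpf Cfsg.Agent.Helper31.Fpf7920 Cfsg.Agent.Helper9.FratIdx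

theorem exps_of_dvd {n : ℕ} (h : n ∣ 7920) :
    ∃ a b c d, a ≤ 4 ∧ b ≤ 2 ∧ c ≤ 1 ∧ d ≤ 1 ∧ n = 2 ^ a * 3 ^ b * 5 ^ c * 11 ^ d := by
  have h7920 : (7920 : ℕ) = 2 ^ 4 * (3 ^ 2 * (5 ^ 1 * 11 ^ 1)) := by norm_num
  rw [h7920] at h
  obtain ⟨x2, y, hx2, hy, rfl⟩ := (Nat.dvd_mul).mp h
  obtain ⟨x3, z, hx3, hz, rfl⟩ := (Nat.dvd_mul).mp hy
  obtain ⟨x5, x11, hx5, hx11, rfl⟩ := (Nat.dvd_mul).mp hz
  obtain ⟨a, ha, rfl⟩ := (Nat.dvd_prime_pow Nat.prime_two).mp hx2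
  obtain ⟨b, hb, rfl⟩ := (Nat.dvd_prime_pow Nat.prime_three).mp hx3
  obtain ⟨c, hc, rfl⟩ := (Nat.dvd_prime_pow Nat.prime_five).mp hx5
  obtain ⟨d, hd, rfl⟩ := (Nat.dvd_prime_pow (by norm_num : Nat.Prime 11)).mp hx11
  exact ⟨a, b, c, d, ha, hb, hc, hd, by ring⟩

theorem cofactor (a b c d : ℕ) (ha : a ≤ 4) (hb : b ≤ 2) (hc : c ≤ 1) (hd : d ≤ 1) :
    2 ^ a * 3 ^ b * 5 ^ c * 11 ^ d * (2 ^ (4 - a) * 3 ^ (2 - b) * 5 ^ (1 - c) * 11 ^ (1 - d))
      = 7920 := by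
  have h2 : 2 ^ a * 2 ^ (4 - a) = 2 ^ 4 := by rw [← pow_add]; congr 1; omega
  have h3 : 3 ^ b * 3 ^ (2 - b) = 3 ^ 2 := by rw [← pow_add]; congr 1; omega
  have h5 : 5 ^ c * 5 ^ (1 - c) = 5 ^ 1 := by rw [← pow_add]; congr 1; omega
  have h11 : 11 ^ d * 11 ^ (1 - d) = 11 ^ 1 := by rw [← pow_add]; congr 1; omega
  calc 2 ^ a * 3 ^ b * 5 ^ c * 11 ^ d * (2 ^ (4 - a) * 3 ^ (2 - b) * 5 ^ (1 - c) * 11 ^ (1 - d))
      = (2 ^ a * 2 ^ (4 - a)) * (3 ^ b * 3 ^ (2 - b)) * (5 ^ c * 5 ^ (1 - c))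
          * (11 ^ d * 11 ^ (1 - d)) := by ring
    _ = 7920 := by rw [h2, h3, h5, h11]; norm_num

theorem not_dvd_pows {p x y z : ℕ} (hp : p.Prime) (hx : ¬ p ∣ x) (hy : ¬ p ∣ y) (hz : ¬ p ∣ z)
    (b c d : ℕ) : ¬ p ∣ x ^ b * y ^ c * z ^ d := by
  intro h
  rcases (hp.dvd_mul).mp h with h | h
  · rcases (hp.dvd_mul).mp h with h | h
    · exact hx (hp.dvd_of_dvd_pow h)
    · exact hy (hp.dvd_of_dvd_pow h)
  · exact hz (hp.dvd_of_dvd_pow h)


instance fact11 : Fact (Nat.Prime 11) := ⟨by norm_num⟩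
instance fact5 : Fact (Nat.Prime 5) := ⟨by norm_num⟩

/-- Arithmetic phase of (S-3): `|N| = 2^a * 495` with `1 ≤ a ≤ 3`, `N.index = 2^(4-a)`. -/
theorem card_normal_of_3_isolated {G : Type*} [Group G] [Finite G] (hG : Nat.card G = 7920)
    (h6 : ∀ g : G, orderOf g ≠ 6) (h15 : ∀ g : G, orderOf g ≠ 15) (h33 : ∀ g : G, orderOf g ≠ 33)
    (N : Subgroup G) (hN : N.Normal) (hbot : N ≠ ⊥) (htop : N ≠ ⊤) :
    ∃ a : ℕ, 1 ≤ a ∧ a ≤ 3 ∧ Nat.card N = 2 ^ a * 495 ∧ N.index = 2 ^ (4 - a) := by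
  classical
  have hni : Nat.card N * N.index = 7920 := by rw [← hG]; exact N.card_mul_index
  obtain ⟨a, b, c, d, ha, hb, hc, hd, hn⟩ := exps_of_dvd (Dvd.intro _ hni)
  have hnpos : 0 < Nat.card N := Nat.card_pos
  have hi : N.index = 2 ^ (4 - a) * 3 ^ (2 - b) * 5 ^ (1 - c) * 11 ^ (1 - d) := by
    apply Nat.eq_of_mul_eq_mul_left hnpos
    rw [hni, hn]
    exact (cofactor a b c d ha hb hc hd).symm
  -- the four FRAT instances
  have frat2 : ∀ (q : ℕ) [Fact q.Prime], q ≠ 2 → (∀ g : G, orderOf g ≠ q * 2) → ∀ j : ℕ,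
      q ^ j ∣ N.index → q ^ j ∣ 2 ^ a - 1 := by
    intro q _ hq hno j hj
    exact frat_pow_dvd N hq hno j hj a (3 ^ b * 5 ^ c * 11 ^ d) (by rw [hn]; ring)
      (not_dvd_pows Nat.prime_two (by norm_num) (by norm_num) (by norm_num) b c d)
  have frat3 : ∀ (q : ℕ) [Fact q.Prime], q ≠ 3 → (∀ g : G, orderOf g ≠ q * 3) → ∀ j : ℕ,
      q ^ j ∣ N.index → q ^ j ∣ 3 ^ b - 1 := by
    intro q _ hq hno j hj
    exact frat_pow_dvd N hq hno j hj b (2 ^ a * 5 ^ c * 11 ^ d) (by rw [hn]; ring)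
      (not_dvd_pows Nat.prime_three (by norm_num) (by norm_num) (by norm_num) a c d)
  have frat5 : ∀ (q : ℕ) [Fact q.Prime], q ≠ 5 → (∀ g : G, orderOf g ≠ q * 5) → ∀ j : ℕ,
      q ^ j ∣ N.index → q ^ j ∣ 5 ^ c - 1 := by
    intro q _ hq hno j hj
    exact frat_pow_dvd N hq hno j hj c (2 ^ a * 3 ^ b * 11 ^ d) (by rw [hn]; ring)
      (not_dvd_pows Nat.prime_five (by norm_num) (by norm_num) (by norm_num) a b d)
  have frat11 : ∀ (q : ℕ) [Fact q.Prime], q ≠ 11 → (∀ g : G, orderOf g ≠ q * 11) → ∀ j : ℕ,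
      q ^ j ∣ N.index → q ^ j ∣ 11 ^ d - 1 := by
    intro q _ hq hno j hj
    exact frat_pow_dvd N hq hno j hj d (2 ^ a * 3 ^ b * 5 ^ c) (by rw [hn]; ring)
      (not_dvd_pows (by norm_num : Nat.Prime 11) (by norm_num) (by norm_num) (by norm_num) a b c)
  -- divisors of the index
  have hi2 : 2 ^ (4 - a) ∣ N.index := by rw [hi]; exact ⟨3 ^ (2 - b) * 5 ^ (1 - c) * 11 ^ (1 - d), by ring⟩
  have hi3 : 3 ^ (2 - b) ∣ N.index := by rw [hi]; exact ⟨2 ^ (4 - a) * 5 ^ (1 - c) * 11 ^ (1 - d), by ring⟩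
  have hi5 : 5 ^ (1 - c) ∣ N.index := by rw [hi]; exact ⟨2 ^ (4 - a) * 3 ^ (2 - b) * 11 ^ (1 - d), by ring⟩
  have hi11 : 11 ^ (1 - d) ∣ N.index := by rw [hi]; exact ⟨2 ^ (4 - a) * 3 ^ (2 - b) * 5 ^ (1 - c), by ring⟩
  -- `N ≠ ⊥`
  have hn1 : Nat.card N ≠ 1 := by
    intro h
    exact hbot ((Subgroup.card_eq_one).mp h)
  -- Step 1: `b ≠ 0`
  have hb0 : b ≠ 0 := by
    rintro rfl
    have h9 : 3 ^ 2 ∣ N.index := by simpa using hi3
    have hacd : a ≠ 0 ∨ c ≠ 0 ∨ d ≠ 0 := by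
      by_contra hcon
      push Not at hcon
      obtain ⟨rfl, rfl, rfl⟩ := hcon
      apply hn1
      rw [hn]; norm_num
    rcases hacd with h | h | h
    · have := frat2 3 (by norm_num) h6 2 h9
      interval_cases a <;> simp_all <;> omega
    · have hc1 : c = 1 := by omega
      subst hc1
      have := frat5 3 (by norm_num) h15 2 h9
      norm_num at this
    · have hd1 : d = 1 := by omega
      subst hd1
      have := frat11 3 (by norm_num) h33 2 h9
      norm_num at this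
  -- Step 2: `b ≠ 1`
  have hb1 : b ≠ 1 := by
    rintro rfl
    have h3i : 3 ^ 1 ∣ N.index := by simpa using hi3
    have hc1 : c = 1 := by
      by_contra hc0
      have hc0' : c = 0 := by omega
      subst hc0'
      have := frat3 5 (by norm_num) h15 1 (by simpa using hi5)
      norm_num at this
    subst hc1
    have := frat5 3 (by norm_num) h15 1 h3i
    norm_num at this
  have hb2 : b = 2 := by omega
  subst hb2
  -- Step 3
  have ha1 : 1 ≤ a := by
    by_contra h0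
    have h0' : a = 0 := by omega
    subst h0'
    have := frat3 2 (by norm_num) h6 4 (by simpa using hi2)
    norm_num at this
  have hc1 : c = 1 := by
    by_contra hc0
    have hc0' : c = 0 := by omega
    subst hc0'
    have := frat3 5 (by norm_num) h15 1 (by simpa using hi5)
    norm_num at this
  have hd1 : d = 1 := by
    by_contra hd0
    have hd0' : d = 0 := by omega
    subst hd0'
    have := frat3 11 (by norm_num) h33 1 (by simpa using hi11)
    norm_num at this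
  subst hc1 hd1
  have ha3 : a ≤ 3 := by
    by_contra h4
    have h4' : a = 4 := by omega
    subst h4'
    apply htop
    rw [← Subgroup.card_eq_iff_eq_top, hn, hG]
    norm_num
  refine ⟨a, ha1, ha3, ?_, ?_⟩
  · rw [hn]; ring
  · rw [hi]; simp


theorem arith_cases (a a' xi y : ℕ) (ha1 : 1 ≤ a) (ha3 : a ≤ 3) (ha'3 : a' ≤ 3)
    (hXi : 2 ^ a' * 3 ^ 2 * 5 ^ 0 * 11 ^ 0 * xi = 7920) (hmod : xi % 3 = 1 % 3)
    (hfr : 2 ^ a' * 3 ^ 2 * 5 ^ 0 * 11 ^ 0 = 2 ^ (4 - a) * y) :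
    a' = 2 ∧ ((a = 2 ∧ y = 9) ∨ a = 3) := by
  interval_cases a' <;> interval_cases a <;> norm_num at hXi hfr ⊢ <;> omega

/-- **(S-3)** -/
theorem index_two_of_3_isolated {G : Type*} [Group G] [Finite G] (hG : Nat.card G = 7920)
    (h6 : ∀ g : G, orderOf g ≠ 6) (h15 : ∀ g : G, orderOf g ≠ 15) (h33 : ∀ g : G, orderOf g ≠ 33)
    (N : Subgroup G) (hN : N.Normal) (hbot : N ≠ ⊥) (htop : N ≠ ⊤) : Nat.card N = 3960 := by
  classical
  haveI := hN
  obtain ⟨a, ha1, ha3, hn, hi⟩ := card_normal_of_3_isolated hG h6 h15 h33 N hN hbot htop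
  obtain ⟨T⟩ : Nonempty (Sylow 3 G) := inferInstance
  have hT9 : Nat.card (T : Subgroup G) = 3 ^ 2 :=
    Helper17.card_sylow_subgroup_of_card_eq (k := 2) (m := 880) (by rw [hG]; norm_num) (by norm_num) T
  have hTab : ∀ x ∈ (T : Subgroup G), ∀ y ∈ (T : Subgroup G), x * y = y * x := by
    intro x hx y hy
    have h := (IsPGroup.isMulCommutative_of_card_eq_prime_sq (p := 3) hT9).is_comm.comm
      ⟨x, hx⟩ ⟨y, hy⟩
    exact congrArg Subtype.val h
  have hTN : (T : Subgroup G) ≤ N := by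
    apply sylow_le_normal N T
    rw [hT9, hn]
    exact Dvd.dvd.mul_left (by norm_num) _
  obtain ⟨X, hX⟩ : ∃ X : Subgroup G, X = normalizer ((T : Subgroup G) : Set G) := ⟨_, rfl⟩
  have hTX : (T : Subgroup G) ≤ X := hX ▸ le_normalizer
  have hXdvd : Nat.card X ∣ 7920 := hG ▸ Subgroup.card_subgroup_dvd_card X
  have h9X : 9 ∣ Nat.card X := by
    have := Subgroup.card_dvd_of_le hTX
    rw [hT9] at this
    simpa using this
  have key : ∀ (q : ℕ) [Fact q.Prime], q ≠ 3 → (∀ g : G, orderOf g ≠ q * 3) → ∀ j : ℕ,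
      q ^ j ∣ Nat.card X → q ^ j ∣ 8 := by
    intro q _ hq hno j hj
    obtain ⟨Q, hQ⟩ := Sylow.exists_subgroup_card_pow_prime q hj
    have h := fpf_card_dvd hq hno (Q.map X.subtype) (T : Subgroup G)
      ((IsPGroup.of_card hQ).map _) T.isPGroup' (by
        rintro x ⟨y, _, rfl⟩
        rw [← hX]; exact y.2)
    rw [hT9, Subgroup.card_subtype, hQ] at h
    simpa using h
  obtain ⟨a', b', c', d', ha', hb', hc', hd', hXc⟩ := exps_of_dvd hXdvd
  have hc0 : c' = 0 := by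
    by_contra h
    have h1 : c' = 1 := by omega
    subst h1
    have := key 5 (by norm_num) h15 1 (by rw [hXc]; exact ⟨2 ^ a' * 3 ^ b' * 11 ^ d', by ring⟩)
    norm_num at this
  have hd0 : d' = 0 := by
    by_contra h
    have h1 : d' = 1 := by omega
    subst h1
    have := key 11 (by norm_num) h33 1 (by rw [hXc]; exact ⟨2 ^ a' * 3 ^ b' * 5 ^ c', by ring⟩)
    norm_num at this
  subst hc0 hd0
  have ha'3 : a' ≤ 3 := by
    by_contra h
    have h1 : a' = 4 := by omega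
    subst h1
    have := key 2 (by norm_num) h6 4 (by rw [hXc]; exact ⟨3 ^ b', by ring⟩)
    norm_num at this
  have hb'2 : b' = 2 := by
    rw [hXc] at h9X
    interval_cases a' <;> interval_cases b' <;> simp_all <;> omega
  subst hb'2
  -- number of Sylow 3-subgroups
  have hmod : Nat.card (Sylow 3 G) ≡ 1 [MOD 3] := card_sylow_modEq_one 3 G
  have hidx : Nat.card (Sylow 3 G) = X.index := by
    rw [hX]; exact T.card_eq_index_normalizer
  have hXi : Nat.card X * X.index = 7920 := hG ▸ X.card_mul_index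
  rw [hidx] at hmod
  have hfr := frattini_index N T hTN
  rw [← hX, hXc, hi] at hfr
  -- case analysis
  have hcases : a' = 2 ∧ ((a = 2 ∧ Nat.card (X ⊓ N : Subgroup G) = 9) ∨ a = 3) := by
    rw [hXc] at hXi
    exact arith_cases a a' X.index _ ha1 ha3 ha'3 hXi hmod hfr
  obtain ⟨rfl, ha23⟩ := hcases
  rcases ha23 with ⟨rfl, hy⟩ | rfl
  · -- `|N| = 1980`: contradiction by Burnside
    exfalso
    have hP : ((T.subtype hTN : Sylow 3 N) : Subgroup N) = (T : Subgroup G).subgroupOf N :=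
      Sylow.coe_subtype T hTN
    have hcardsub : ∀ H : Subgroup G, Nat.card (H.subgroupOf N) = Nat.card (H ⊓ N : Subgroup G) := by
      intro H
      rw [← Subgroup.card_subtype N (H.subgroupOf N), Subgroup.subgroupOf_map_subtype]
    have h := burnside_fpf (N := ↥N) (p := 3) (r := 5) (by norm_num)
      (fun g => by rw [← Subgroup.orderOf_coe]; exact h15 g) (T.subtype hTN)
      (by
        intro x hx y hy
        rw [hP, mem_subgroupOf] at hx hy
        exact Subtype.ext (hTab _ hx _ hy))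
      (by
        rw [hP, ← subgroupOf_normalizer_eq hTN, hcardsub, hcardsub, ← hX, hy,
          inf_of_le_left hTN, hT9]; norm_num)
      1 396 (by rw [hn]; norm_num) (by norm_num)
    rw [hP, hcardsub, inf_of_le_left hTN, hT9] at h
    norm_num at h
  · rw [hn]; norm_num

end Cfsg.Agent.Helper91.Ord7920
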