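import Mathlib

/-!
# Subgroups of generalized quaternion groups normalised by odd-order elements (helper91)
-/

set_option autoImplicit false

namespace Cfsg.Agent.Helper91

open Subgroup

variable {G : Type*} [Group G]

/-- An element of odd order normalising a finite cyclic `2`-subgroup centralises it. -/
theorem odd_normalizer_cyclic_two_centralizes (D : Subgroup G) [Finite D] [IsCyclic D]
    (hD : IsPGroup 2 D) {g : G} (hg : g ∈ normalizer (D : Set G)) (hodd : Odd (orderOf g)) :
    g ∈ centralizer (D : Set G) := by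
  have : Fact (Nat.Prime 2) := ⟨Nat.prime_two⟩
  set γ : normalizer (D : Set G) := ⟨g, hg⟩ with hγ
  have h1 : orderOf (D.normalizerMonoidHom γ) ∣ orderOf g := by
    have := orderOf_map_dvd D.normalizerMonoidHom γ
    rwa [hγ, Subgroup.orderOf_mk] at this
  have h2 : orderOf (D.normalizerMonoidHom γ) ∣ Nat.card (MulAut D) := orderOf_dvd_natCard _
  obtain ⟨k, hk⟩ := hD.exists_card_eq
  have h3 : ∃ j, Nat.card (MulAut D) = 2 ^ j := by
    rw [IsCyclic.card_mulAut, hk]
    rcases Nat.eq_zero_or_pos k with h0 | h0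
    · exact ⟨0, by rw [h0, pow_zero, Nat.totient_one]⟩
    · exact ⟨k - 1, by rw [Nat.totient_prime_pow Nat.prime_two h0]; norm_num⟩
  obtain ⟨j, hj⟩ := h3
  rw [hj] at h2
  have h4 : orderOf (D.normalizerMonoidHom γ) = 1 := by
    have hco : (orderOf (D.normalizerMonoidHom γ)).Coprime (2 ^ j) := by
      apply Nat.Coprime.pow_right
      exact Nat.Coprime.coprime_dvd_left h1 (Nat.coprime_two_right.2 hodd)
    exact Nat.Coprime.eq_one_of_dvd hco h2
  have h5 : γ ∈ D.normalizerMonoidHom.ker := by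
    rw [MonoidHom.mem_ker]
    exact orderOf_eq_one_iff.1 h4
  rw [normalizerMonoidHom_ker, mem_subgroupOf] at h5
  exact h5

theorem conj_pow_mul_right {x u c : G} (hu : x * u * x⁻¹ = u * c) (hc : x * c = c * x) (j : ℕ) :
    x ^ j * u * (x ^ j)⁻¹ = u * c ^ j := by
  induction j with
  | zero => simp
  | succ j ih =>
    have h1 : x ^ (j + 1) * u * (x ^ (j + 1))⁻¹ = x * (x ^ j * u * (x ^ j)⁻¹) * x⁻¹ := by
      rw [pow_succ']; group
    have h2 : x * c ^ j * x⁻¹ = c ^ j := by
      have : x * c ^ j = c ^ j * x := (Commute.pow_right hc j).eq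
      rw [this]; group
    rw [h1, ih]
    calc x * (u * c ^ j) * x⁻¹ = (x * u * x⁻¹) * (x * c ^ j * x⁻¹) := by group
      _ = u * c * c ^ j := by rw [hu, h2]
      _ = u * c ^ (j + 1) := by rw [pow_succ']; group

/-- Two-step stability: an odd-order element normalising a `2`-group `Q`, centralising `D` and
acting trivially on `Q` modulo `D` centralises `Q`. -/
theorem odd_centralizes_of_two_step (Q D : Subgroup G) (hQ : IsPGroup 2 Q) {g : G}
    (hg : g ∈ normalizer (Q : Set G)) (hodd : Odd (orderOf g))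
    (hgD : g ∈ centralizer (D : Set G)) (hstep : ∀ x ∈ Q, x⁻¹ * (g * x * g⁻¹) ∈ D) :
    g ∈ centralizer (Q : Set G) := by
  rw [mem_centralizer_iff]
  intro x hx
  set d := x⁻¹ * (g * x * g⁻¹) with hd
  have hdD : d ∈ D := hstep x hx
  have hdQ : d ∈ Q := Q.mul_mem (Q.inv_mem hx) ((mem_normalizer_iff.1 hg x).1 hx)
  have hu : g * x * g⁻¹ = x * d := by rw [hd]; group
  have hc : g * d = d * g := ((mem_centralizer_iff.1 hgD) d hdD).symm
  have h1 := conj_pow_mul_right hu hc (orderOf g)
  rw [pow_orderOf_eq_one, one_mul, inv_one, mul_one] at h1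
  have h2 : d ^ orderOf g = 1 := by
    have : x * d ^ orderOf g = x * 1 := by rw [mul_one]; exact h1.symm
    exact mul_left_cancel this
  obtain ⟨k, hk⟩ := hQ ⟨d, hdQ⟩
  have hk' : d ^ 2 ^ k = 1 := by
    have := congrArg Subtype.val hk
    simpa using this
  have h3 := pow_gcd_eq_one.2 ⟨hk', h2⟩
  have h4 : Nat.gcd (2 ^ k) (orderOf g) = 1 :=
    Nat.Coprime.pow_left k (Nat.coprime_two_left.2 hodd)
  rw [h4, pow_one] at h3
  rw [h3, mul_one] at hu
  calc x * g = (g * x * g⁻¹) * g := by rw [hu]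
    _ = g * x := by group

/-- The abstract structure of a generalized quaternion group `T` that we use: a cyclic subgroup
`C` outside which every element squares to the central involution `z`. -/
structure QuatStruct (T C : Subgroup G) (z : G) : Prop where
  le : C ≤ T
  cyc : IsCyclic C
  z_mem : z ∈ C
  z_sq : z * z = 1
  sq_out : ∀ x ∈ T, x ∉ C → x * x = z
  inv_mul : ∀ x ∈ T, ∀ y ∈ T, x ∉ C → y ∉ C → x⁻¹ * y ∈ C
  invol : ∀ x ∈ T, x * x = 1 → x = 1 ∨ x = z

theorem conj_pow' (g x : G) (k : ℤ) : g * x ^ k * g⁻¹ = (g * x * g⁻¹) ^ k := by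
  have := map_zpow (MulAut.conj g) x k
  simpa [MulAut.conj_apply] using this

/-- In a generalized quaternion `2`-group `T`, a subgroup `Q` normalised but not centralised by an
element of odd order has order `8`, exponent dividing `4`, and contains the involution `z`. -/
theorem quat_sub_of_odd_action [Finite G] {T C : Subgroup G} {z : G} (hT : QuatStruct T C z)
    (hT2 : IsPGroup 2 T) (Q : Subgroup G) (hQT : Q ≤ T) {g : G}
    (hg : g ∈ normalizer (Q : Set G)) (hodd : Odd (orderOf g))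
    (hnc : g ∉ centralizer (Q : Set G)) :
    Nat.card Q = 8 ∧ z ∈ Q ∧ ∀ x ∈ Q, x ^ 4 = 1 := by
  have hQ2 : IsPGroup 2 Q := hT2.to_le hQT
  have hginv : g⁻¹ ∈ normalizer (Q : Set G) := Subgroup.inv_mem _ hg
  set D := Q ⊓ C with hD
  have hDQ : D ≤ Q := inf_le_left
  have hDC : D ≤ C := inf_le_right
  haveI : IsCyclic C := hT.cyc
  haveI : IsCyclic D := Subgroup.isCyclic_of_le hDC
  have hD2 : IsPGroup 2 D := hQ2.to_le hDQ
  -- Claim A
  have hA : g ∉ normalizer (D : Set G) := by
    intro hgD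
    apply hnc
    have hcD := odd_normalizer_cyclic_two_centralizes D hD2 hgD hodd
    refine odd_centralizes_of_two_step Q D hQ2 hg hodd hcD fun x hx => ?_
    have hy : g * x * g⁻¹ ∈ Q := (mem_normalizer_iff.1 hg x).1 hx
    by_cases hxC : x ∈ C
    · have hxD : x ∈ D := ⟨hx, hxC⟩
      have := (mem_centralizer_iff.1 hcD) x hxD
      have h1 : g * x * g⁻¹ = x := by rw [← this]; group
      rw [h1, inv_mul_cancel]
      exact D.one_mem
    · have hyC : g * x * g⁻¹ ∉ C := by
        intro hyC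
        have hyD : g * x * g⁻¹ ∈ D := ⟨hy, hyC⟩
        exact hxC (hDC ((mem_normalizer_iff.1 hgD x).2 hyD))
      exact ⟨Q.mul_mem (Q.inv_mem hx) hy, hT.inv_mul x (hQT hx) _ (hQT hy) hxC hyC⟩
  -- an element outside C
  have hy : ∃ y ∈ Q, y ∉ C := by
    by_contra hcon
    push Not at hcon
    have : D = Q := le_antisymm hDQ (le_inf le_rfl hcon)
    rw [this] at hA
    exact hA hg
  obtain ⟨y, hyQ, hyC⟩ := hy
  have hzQ : z ∈ Q := by
    rw [← hT.sq_out y (hQT hyQ) hyC]
    exact Q.mul_mem hyQ hyQ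
  have hzD : z ∈ D := ⟨hzQ, hT.z_mem⟩
  have hout4 : ∀ x ∈ T, x ∉ C → x ^ 4 = 1 := by
    intro x hx hxC
    have : x ^ 4 = (x * x) * (x * x) := by
      rw [show (4 : ℕ) = 2 + 2 from rfl, pow_add, pow_two]
    rw [this, hT.sq_out x hx hxC, hT.z_sq]
  -- generator of D
  obtain ⟨d₀, hd₀⟩ := (isCyclic_iff_exists_zpowers_eq_top (α := D)).1 inferInstance
  have hgen : ∀ x ∈ D, ∃ k : ℤ, (d₀ : G) ^ k = x := by
    intro x hx
    have : (⟨x, hx⟩ : D) ∈ zpowers d₀ := by rw [hd₀]; exact mem_top _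
    obtain ⟨k, hk⟩ := mem_zpowers_iff.1 this
    exact ⟨k, by simpa using congrArg Subtype.val hk⟩
  -- Claim B
  have hB : (d₀ : G) ^ 4 = 1 := by
    by_contra hne
    apply hA
    have key : ∀ h ∈ normalizer (Q : Set G), h * (d₀ : G) * h⁻¹ ∈ D := by
      intro h hh
      have h1 : h * (d₀ : G) * h⁻¹ ∈ Q := (mem_normalizer_iff.1 hh _).1 (hDQ d₀.2)
      refine ⟨h1, ?_⟩
      by_contra hC
      have h2 := hout4 _ (hQT h1) hC
      rw [conj_pow] at h2
      apply hne
      have : (d₀ : G) ^ 4 = h⁻¹ * (h * (d₀ : G) ^ 4 * h⁻¹) * h := by group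
      rw [this, h2]; group
    rw [mem_normalizer_iff]
    intro x
    constructor
    · intro hx
      obtain ⟨k, rfl⟩ := hgen x hx
      rw [conj_pow']
      exact D.zpow_mem (key g hg) k
    · intro hx
      obtain ⟨k, hk⟩ := hgen _ hx
      have : x = (g⁻¹ * (d₀ : G) * g⁻¹⁻¹) ^ k := by
        rw [← conj_pow', hk]; group
      rw [this]
      exact D.zpow_mem (key g⁻¹ hginv) k
  have hD4 : ∀ x ∈ D, x ^ 4 = 1 := by
    intro x hx
    obtain ⟨k, rfl⟩ := hgen x hx
    rw [← zpow_natCast, ← zpow_mul, mul_comm, zpow_mul, zpow_natCast, hB, one_zpow]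
  have hQ4 : ∀ x ∈ Q, x ^ 4 = 1 := by
    intro x hx
    by_cases hxC : x ∈ C
    · exact hD4 x ⟨hx, hxC⟩
    · exact hout4 x (hQT hx) hxC
  -- Claim C
  have hC2 : (d₀ : G) ^ 2 ≠ 1 := by
    intro h2
    apply hA
    have hD2' : ∀ x ∈ D, x * x = 1 := by
      intro x hx
      obtain ⟨k, rfl⟩ := hgen x hx
      rw [← pow_two, ← zpow_natCast, ← zpow_mul, mul_comm, zpow_mul, zpow_natCast, h2, one_zpow]
    have hsub : ∀ x ∈ T, x * x = 1 → x ∈ D := by
      intro x hx hxx
      rcases hT.invol x hx hxx with h | h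
      · rw [h]; exact D.one_mem
      · rw [h]; exact hzD
    rw [mem_normalizer_iff]
    intro x
    constructor
    · intro hx
      have h1 : g * x * g⁻¹ ∈ Q := (mem_normalizer_iff.1 hg x).1 (hDQ hx)
      apply hsub _ (hQT h1)
      have : g * x * g⁻¹ * (g * x * g⁻¹) = g * (x * x) * g⁻¹ := by group
      rw [this, hD2' x hx]; group
    · intro hx
      have h1 : x ∈ Q := (mem_normalizer_iff.1 hg x).2 (hDQ hx)
      apply hsub _ (hQT h1)
      have h3 := hD2' _ hx
      have : x * x = g⁻¹ * (g * x * g⁻¹ * (g * x * g⁻¹)) * g := by group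
      rw [this, h3]; group
  -- card D = 4
  have hord : orderOf d₀ = 4 := by
    have h1 : ¬ d₀ ^ 2 ^ 1 = 1 := by
      intro h
      apply hC2
      have := congrArg Subtype.val h
      simpa using this
    have h2 : d₀ ^ 2 ^ (1 + 1) = 1 := by
      apply Subtype.ext
      simpa using hB
    have := orderOf_eq_prime_pow h1 h2
    simpa using this
  have hcardD : Nat.card D = 4 := by
    rw [← hord]
    exact (orderOf_eq_card_of_forall_mem_zpowers fun x => by rw [hd₀]; exact mem_top _).symm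
  -- index 2
  have hidx : (D.subgroupOf Q).index = 2 := by
    rw [Subgroup.index_eq_two_iff]
    refine ⟨⟨y, hyQ⟩, fun b => ?_⟩
    rw [mem_subgroupOf, mem_subgroupOf]
    by_cases hbC : (b : G) ∈ C
    · have hbD : (b : G) ∈ D := ⟨b.2, hbC⟩
      refine Or.inr ⟨hbD, ?_⟩
      intro hby
      apply hyC
      have : y = (b : G)⁻¹ * ((b : G) * y) := by group
      rw [this]
      exact C.mul_mem (C.inv_mem hbC) (hDC hby)
    · refine Or.inl ⟨?_, fun hbD => hbC (hDC hbD)⟩
      have hbinv : (b : G)⁻¹ ∉ C := fun h => hbC (by simpa using C.inv_mem h)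
      have := hT.inv_mul (b : G)⁻¹ (T.inv_mem (hQT b.2)) y (hQT hyQ) hbinv hyC
      rw [inv_inv] at this
      exact ⟨Q.mul_mem b.2 hyQ, this⟩
  have hcardQ : Nat.card Q = 8 := by
    have h1 := Subgroup.card_mul_index (D.subgroupOf Q)
    rw [hidx, Nat.card_congr (Subgroup.subgroupOfEquivOfLe hDQ).toEquiv, hcardD] at h1
    omega
  exact ⟨hcardQ, hzQ, hQ4⟩

open QuaternionGroup in
theorem quat_a_one_zpow (m : ℕ) (k : ℤ) :
    (a 1 : QuaternionGroup m) ^ k = a (k : ZMod (2 * m)) := by
  induction k using Int.induction_on with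
  | zero => rw [zpow_zero, Int.cast_zero, a_zero]
  | succ i ih =>
    rw [zpow_add_one, ih, a_mul_a]
    push_cast
    rfl
  | pred i ih =>
    have hinv : (a 1 : QuaternionGroup m)⁻¹ = a (-1) := by
      apply inv_eq_of_mul_eq_one_right
      rw [a_mul_a, add_neg_cancel, a_zero]
    rw [zpow_sub_one, ih, hinv, a_mul_a]
    push_cast
    congr 1
    ring

theorem zmod_add_self_eq_zero {m : ℕ} (hm : 1 ≤ m) (i : ZMod (2 * m)) (h : i + i = 0) :
    i = 0 ∨ i = (m : ZMod (2 * m)) := by
  haveI : NeZero (2 * m) := ⟨by omega⟩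
  have h1 := congrArg ZMod.val h
  rw [ZMod.val_add, ZMod.val_zero] at h1
  have h2 : i.val < 2 * m := ZMod.val_lt i
  have h3 : i.val = 0 ∨ i.val = m := by
    have h4 : 2 * m ∣ i.val + i.val := Nat.dvd_of_mod_eq_zero h1
    obtain ⟨c, hc⟩ := h4
    have hc2 : c < 2 := by
      by_contra hge
      push Not at hge
      have : 2 * m * 2 ≤ 2 * m * c := Nat.mul_le_mul_left _ hge
      omega
    interval_cases c
    · left; omega
    · right; omega
  rcases h3 with h3 | h3
  · left
    rw [← ZMod.natCast_zmod_val i, h3, Nat.cast_zero]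
  · right
    rw [← ZMod.natCast_zmod_val i, h3]

open QuaternionGroup in
/-- A group isomorphic to a generalized quaternion group has the abstract quaternion structure. -/
theorem quatStruct_of_equiv {T : Subgroup G} {m : ℕ} (hm : 1 ≤ m)
    (e : T ≃* QuaternionGroup m) :
    QuatStruct T (zpowers ((e.symm (a 1) : T) : G))
      ((e.symm (a (m : ZMod (2 * m))) : T) : G) := by
  haveI : NeZero (2 * m) := ⟨by omega⟩
  set c₀ : T := e.symm (a 1) with hc₀
  have hec₀ : e c₀ = a 1 := e.apply_symm_apply _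
  have hmne : (m : ZMod (2 * m)) ≠ 0 := by
    intro h
    rw [ZMod.natCast_eq_zero_iff] at h
    have := Nat.le_of_dvd (by omega) h
    omega
  have hto : ∀ x : T, (x : G) ∈ zpowers (c₀ : G) → ∃ i, e x = a i := by
    intro x hx
    obtain ⟨k, hk⟩ := mem_zpowers_iff.1 hx
    have hx' : x = c₀ ^ k := Subtype.ext (by rw [← hk]; simp)
    exact ⟨k, by rw [hx', map_zpow, hec₀, quat_a_one_zpow]⟩
  have hfrom : ∀ x : T, ∀ i, e x = a i → (x : G) ∈ zpowers (c₀ : G) := by
    intro x i hi
    have hx' : x = c₀ ^ i.val := by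
      apply e.injective
      rw [map_pow, hec₀, a_one_pow, ZMod.natCast_zmod_val, hi]
    rw [hx']
    simp only [Subgroup.coe_pow]
    exact Subgroup.pow_mem _ (mem_zpowers _) _
  have hout : ∀ x : T, (x : G) ∉ zpowers (c₀ : G) → ∃ i, e x = xa i := by
    intro x hx
    rcases h : e x with i | i
    · exact absurd (hfrom x i h) hx
    · exact ⟨i, rfl⟩
  refine ⟨zpowers_le.2 c₀.2, inferInstance, hfrom _ _ (e.apply_symm_apply _), ?_, ?_, ?_, ?_⟩
  · have h1 : e.symm (a (m : ZMod (2 * m))) * e.symm (a (m : ZMod (2 * m))) = 1 := by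
      apply e.injective
      rw [map_mul, e.apply_symm_apply, a_mul_a, map_one, one_def]
      congr 1
      have : ((2 * m : ℕ) : ZMod (2 * m)) = 0 := ZMod.natCast_self _
      push_cast at this
      linear_combination this
    exact congrArg Subtype.val h1
  · intro x hx hxC
    obtain ⟨i, hi⟩ := hout ⟨x, hx⟩ hxC
    have h1 : (⟨x, hx⟩ : T) * ⟨x, hx⟩ = e.symm (a (m : ZMod (2 * m))) := by
      apply e.injective
      rw [map_mul, hi, xa_mul_xa, e.apply_symm_apply]
      congr 1
      ring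
    exact congrArg Subtype.val h1
  · intro x hx y hy hxC hyC
    obtain ⟨i, hi⟩ := hout ⟨x, hx⟩ hxC
    obtain ⟨j, hj⟩ := hout ⟨y, hy⟩ hyC
    rcases h : e ((⟨x, hx⟩ : T)⁻¹ * ⟨y, hy⟩) with l | l
    · exact hfrom _ l h
    · exfalso
      have h2 : e ⟨y, hy⟩ = e ⟨x, hx⟩ * e ((⟨x, hx⟩ : T)⁻¹ * ⟨y, hy⟩) := by
        rw [← map_mul, mul_inv_cancel_left]
      rw [h, hi, hj, xa_mul_xa] at h2
      cases h2
  · intro x hx hxx
    have hxx' : e ⟨x, hx⟩ * e ⟨x, hx⟩ = 1 := by
      rw [← map_mul]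
      have : (⟨x, hx⟩ : T) * ⟨x, hx⟩ = 1 := Subtype.ext hxx
      rw [this, map_one]
    rcases h : e ⟨x, hx⟩ with i | i
    · rw [h, a_mul_a, one_def] at hxx'
      have h2 : i + i = 0 := by injection hxx'
      rcases zmod_add_self_eq_zero hm i h2 with h3 | h3
      · left
        have : (⟨x, hx⟩ : T) = 1 := by
          apply e.injective
          rw [h, h3, map_one, one_def]
        exact congrArg Subtype.val this
      · right
        have : (⟨x, hx⟩ : T) = e.symm (a (m : ZMod (2 * m))) := by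
          apply e.injective
          rw [h, h3, e.apply_symm_apply]
        exact congrArg Subtype.val this
    · exfalso
      rw [h, xa_mul_xa, one_def] at hxx'
      have h2 : (m : ZMod (2 * m)) + i - i = 0 := by injection hxx'
      apply hmne
      linear_combination h2

end Cfsg.Agent.Helper91
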