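import Cfsg.Agent.Helper91.RelPCore

set_option autoImplicit false
open scoped Pointwise

namespace Cfsg.Agent.Helper91

universe u
variable {G : Type u} [Group G]

/-- `O^p(L)` for a subgroup `L`, as a subgroup of the ambient group: generated by the elements
of `L` of order prime to `p`. -/
def relPRes (p : ℕ) (L : Subgroup G) : Subgroup G :=
  Subgroup.closure {g : G | g ∈ L ∧ (orderOf g).Coprime p}

theorem relPRes_eq_map (p : ℕ) (L : Subgroup G) :
    (Cfsg.pResidual p ↥L).map L.subtype = relPRes p L := by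
  unfold Cfsg.pResidual relPRes
  rw [MonoidHom.map_closure]
  congr 1
  ext g
  constructor
  · rintro ⟨g', hg', rfl⟩
    refine ⟨g'.2, ?_⟩
    have : (orderOf g').Coprime p := hg'
    rwa [← Subgroup.orderOf_coe] at this
  · rintro ⟨hgL, hg⟩
    refine ⟨⟨g, hgL⟩, ?_, rfl⟩
    show (orderOf (⟨g, hgL⟩ : ↥L)).Coprime p
    rwa [← Subgroup.orderOf_coe]

theorem relPRes_le (p : ℕ) (L : Subgroup G) : relPRes p L ≤ L :=
  (Subgroup.closure_le _).2 fun _ hg => hg.1

theorem relPRes_mono (p : ℕ) {L L' : Subgroup G} (h : L ≤ L') : relPRes p L ≤ relPRes p L' :=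
  Subgroup.closure_mono fun _ hg => ⟨h hg.1, hg.2⟩

theorem normalizer_le_normalizer_relPRes (p : ℕ) (L : Subgroup G) :
    Subgroup.normalizer (L : Set G) ≤ Subgroup.normalizer ((relPRes p L : Subgroup G) : Set G) := by
  unfold relPRes
  rw [Subgroup.le_normalizer_closure_iff]
  intro x hx g hg
  refine Subgroup.subset_closure ⟨(Subgroup.mem_normalizer_iff.1 hx g).1 hg.1, ?_⟩
  have : orderOf (x * g * x⁻¹) = orderOf g := by
    have := (MulAut.conj x).orderOf_eq g
    simpa [MulAut.conj_apply] using this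
  rw [this]; exact hg.2

theorem mul_pow_mem_of_normalizes {B : Subgroup G} {b n : G} (hb : b ∈ B)
    (hn : n ∈ Subgroup.normalizer (B : Set G)) (j : ℕ) : ∃ b' ∈ B, (b * n) ^ j = b' * n ^ j := by
  induction j with
  | zero => exact ⟨1, B.one_mem, by simp⟩
  | succ j ih =>
    obtain ⟨b', hb', h⟩ := ih
    have hnj : n ^ j ∈ Subgroup.normalizer (B : Set G) := Subgroup.pow_mem _ hn j
    refine ⟨b' * (n ^ j * b * (n ^ j)⁻¹), B.mul_mem hb' ((Subgroup.mem_normalizer_iff.1 hnj b).1 hb),
      ?_⟩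
    rw [pow_succ, h, pow_succ]
    group

/-- If every element of `M` is a product `b * n` with `b ∈ B` and `n` a `p`-element normalising
`B`, then `O^p(M) ≤ B`. -/
theorem relPRes_le_of_decomp {p : ℕ} [Fact p.Prime] {B M : Subgroup G}
    (h : ∀ g ∈ M, ∃ b ∈ B, ∃ n : G, n ∈ Subgroup.normalizer (B : Set G) ∧ (∃ e : ℕ, n ^ p ^ e = 1) ∧
      g = b * n) : relPRes p M ≤ B := by
  unfold relPRes
  rw [Subgroup.closure_le]
  rintro g ⟨hgM, hg⟩
  obtain ⟨b, hb, n, hn, ⟨e, he⟩, rfl⟩ := h g hgM
  obtain ⟨b', hb', h1⟩ := mul_pow_mem_of_normalizes hb hn (p ^ e)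
  rw [he, mul_one] at h1
  have hcop : (p ^ e).Coprime (orderOf (b * n)) := (Nat.Coprime.pow_right e hg).symm
  obtain ⟨m, hm⟩ := exists_pow_eq_self_of_coprime hcop
  rw [SetLike.mem_coe, ← hm, h1]
  exact B.pow_mem hb' m

/-- Kurzweil–Stellmacher 6.3.1 (relative form): if `B` is subnormal in `T` and `B = O^p(B)`, then
`O_p(T)` normalises `B`. -/
theorem relPCore_le_normalizer_of_relSN [Finite G] {p : ℕ} [Fact p.Prime] :
    ∀ (k : ℕ) (T B : Subgroup G), Nat.card ↥T = k → RelSN B T → relPRes p B = B →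
      relPCore p T ≤ Subgroup.normalizer (B : Set G) := by
  intro k
  induction k using Nat.strong_induction_on with
  | _ k ih =>
    intro T B hcard hsn hB
    set N := relPCore p T with hN
    have hNT : N ≤ T := relPCore_le p T
    have hTN : T ≤ Subgroup.normalizer (N : Set G) := le_normalizer_relPCore p T
    have hNp : IsPGroup p ↥N := isPGroup_relPCore p T
    by_cases hBT : B = T
    · rw [hBT]; exact hNT.trans Subgroup.le_normalizer
    have hBle : B ≤ T := hsn.le
    by_cases hT₁ : B ⊔ N = T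
    · obtain ⟨M, hBM, hMT, hTM, hBMsn⟩ := hsn.exists_normal hBT
      have h1 : relPCore p M ≤ Subgroup.normalizer (B : Set G) :=
        ih _ (hcard ▸ card_lt_of_lt hMT) M B rfl hBMsn hB
      have h2 : M ⊓ N ≤ relPCore p M := by
        refine le_relPCore inf_le_left ?_ (hNp.to_le inf_le_right)
        rw [Subgroup.le_normalizer_iff]
        intro x hx y hy
        exact ⟨M.mul_mem (M.mul_mem hx hy.1) (M.inv_mem hx),
          (Subgroup.mem_normalizer_iff.1 (hTN (hMT.le hx)) y).1 hy.2⟩
      have hdecomp : ∀ g ∈ M, ∃ b ∈ B, ∃ n : G, n ∈ M ⊓ N ∧ g = b * n := by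
        intro g hg
        have hg' : g ∈ ((B ⊔ N : Subgroup G) : Set G) := by rw [hT₁]; exact hMT.le hg
        rw [Subgroup.coe_mul_of_left_le_normalizer_right B N (hBle.trans hTN)] at hg'
        obtain ⟨b, hb, n, hn, rfl⟩ := hg'
        refine ⟨b, hb, n, ⟨?_, hn⟩, rfl⟩
        have : n = b⁻¹ * (b * n) := by group
        rw [this]
        exact M.mul_mem (M.inv_mem (hBM hb)) hg
      have hMB : M ≤ Subgroup.normalizer (B : Set G) := by
        intro g hg
        obtain ⟨b, hb, n, hn, rfl⟩ := hdecomp g hg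
        exact Subgroup.mul_mem _ (Subgroup.le_normalizer hb) (h1 (h2 hn))
      have hres : relPRes p M = B := by
        refine le_antisymm ?_ (hB ▸ relPRes_mono p hBM)
        refine relPRes_le_of_decomp ?_
        intro g hg
        obtain ⟨b, hb, n, hn, rfl⟩ := hdecomp g hg
        refine ⟨b, hb, n, h1 (h2 hn), ?_, rfl⟩
        obtain ⟨e, he⟩ := hNp ⟨n, hn.2⟩
        exact ⟨e, by simpa using congrArg Subtype.val he⟩
      have := normalizer_le_normalizer_relPRes p M
      rw [hres] at this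
      exact hNT.trans (hTM.trans this)
    · have hT₁le : B ⊔ N ≤ T := sup_le hBle hNT
      have hlt : B ⊔ N < T := lt_of_le_of_ne hT₁le hT₁
      have h1 : relPCore p (B ⊔ N) ≤ Subgroup.normalizer (B : Set G) :=
        ih _ (hcard ▸ card_lt_of_lt hlt) (B ⊔ N) B rfl (hsn.mono le_sup_left hT₁le) hB
      have h2 : N ≤ relPCore p (B ⊔ N) := le_relPCore le_sup_right (hT₁le.trans hTN) hNp
      exact h2.trans h1

end Cfsg.Agent.Helper91
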