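/-
helper91: towards S2010.  `ClassTwo S` (commutators of `S` are central in `S`) and the case where
`W = ⟨Ω₁Z(S)^G⟩` is central: then all involutions of `S` lie in `O₂(G)` and `J_e(S) ⊴ G`.
-/
import Mathlib
import Cfsg.Prelude.Def_PLocal
import Cfsg.Agent.Lib.Cores
import Cfsg.Agent.Helper49.MaxEA
import Cfsg.Agent.Helper55.SolvCore
import Cfsg.Agent.Helper97.ThompsonFactSolv
import Cfsg.Agent.Helper91.S4Back

set_option autoImplicit false

namespace Cfsg.Agent.Helper91

open Cfsg.Agent.Helper49.JComp Cfsg.Agent.Helper97.ThompsonFactSolv Cfsg.Agent.Lib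
open scoped commutatorElement

variable {G : Type*} [Group G]

/-- commutators of elements of `S` are central in `S` (class at most two). -/
def ClassTwo (S : Subgroup G) : Prop :=
  ∀ a ∈ S, ∀ b ∈ S, ∀ c ∈ S, (a * b * a⁻¹ * b⁻¹) * c = c * (a * b * a⁻¹ * b⁻¹)

theorem classTwo_of_lcs (S : Subgroup G) (h : S.lowerCentralSeries 2 = ⊥) : ClassTwo S := by
  intro a ha b hb c hc
  have h1 : ⁅⁅a, b⁆, c⁆ ∈ S.lowerCentralSeries 2 :=
    Subgroup.commutator_mem_commutator (Subgroup.commutator_mem_commutator ha hb) hc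
  rw [h, Subgroup.mem_bot, commutatorElement_eq_one_iff_mul_comm, commutatorElement_def] at h1
  exact h1

theorem ClassTwo.mono {S T : Subgroup G} (h : ClassTwo S) (hTS : T ≤ S) : ClassTwo T :=
  fun a ha b hb c hc => h a (hTS ha) b (hTS hb) c (hTS hc)

theorem ClassTwo.map {H : Type*} [Group H] {S : Subgroup G} (h : ClassTwo S) (π : G →* H) :
    ClassTwo (S.map π) := by
  rintro _ ⟨a, ha, rfl⟩ _ ⟨b, hb, rfl⟩ _ ⟨c, hc, rfl⟩
  have := congrArg π (h a ha b hb c hc)
  simpa only [map_mul, map_inv] using this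

theorem ClassTwo.of_map {H : Type*} [Group H] {P : Subgroup H} (f : H →* G)
    (hf : Function.Injective f) (h : ClassTwo (P.map f)) : ClassTwo P := by
  intro a ha b hb c hc
  apply hf
  have := h (f a) ⟨a, ha, rfl⟩ (f b) ⟨b, hb, rfl⟩ (f c) ⟨c, hc, rfl⟩
  simpa only [map_mul, map_inv] using this

section central

variable [Finite G] [Group.IsSolvable G]

/-- If `W = ⟨Ω₁Z(S)^G⟩` is central, every element of order at most two of `S` lies in `O₂(G)`. -/
theorem involution_mem_pCore_of_central (hO : Cfsg.pPrimeCore 2 G = ⊥) (S : Sylow 2 G)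
    (hcl : ClassTwo (S : Subgroup G))
    (hcen : ∀ w ∈ WW 2 G, ∀ g : G, g * w = w * g) {a : G} (haS : a ∈ (S : Subgroup G))
    (ha2 : a ^ 2 = 1) : a ∈ Cfsg.pCore 2 G := by
  haveI : Fact (Nat.Prime 2) := ⟨Nat.prime_two⟩
  set Q := Cfsg.pCore 2 G with hQ
  have hQn : Q.Normal := Cfsg.pCore_normal 2 G
  have hCQ : Subgroup.centralizer (Q : Set G) ≤ Q := Cfsg.Agent.Helper55.centralizer_pCore_le 2 hO
  have hQS : Q ≤ (S : Subgroup G) := pCore_le_sylow S
  have hQp : IsPGroup 2 ↥Q := isPGroup_pCore 2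
  obtain ⟨hWab, hWexp, hWQ⟩ := WW_facts (G := G) (p := 2) hO
  set W := WW 2 G with hW
  haveI hWn : W.Normal := inferInstance
  -- the subgroup of elements acting trivially on `Q` modulo `W`
  let B : Subgroup G :=
    (Subgroup.centralizer ((Q.map (QuotientGroup.mk' W) : Subgroup (G ⧸ W)) : Set (G ⧸ W))).comap
      (QuotientGroup.mk' W)
  have hQmapn : (Q.map (QuotientGroup.mk' W)).Normal :=
    hQn.map _ (QuotientGroup.mk'_surjective W)
  have hBn : B.Normal := by
    haveI := hQmapn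
    haveI : (Subgroup.centralizer ((Q.map (QuotientGroup.mk' W) : Subgroup (G ⧸ W)) :
      Set (G ⧸ W))).Normal := Subgroup.normal_centralizer
    exact Subgroup.Normal.comap inferInstance _
  have hBmem : ∀ g : G, g ∈ B ↔ ∀ q ∈ Q, g⁻¹ * q⁻¹ * g * q ∈ W := by
    intro g
    show (QuotientGroup.mk' W g) ∈ Subgroup.centralizer _ ↔ _
    rw [Subgroup.mem_centralizer_iff]
    constructor
    · intro h q hq
      have h1 := h (QuotientGroup.mk' W q) ⟨q, hq, rfl⟩
      rw [← map_mul, ← map_mul] at h1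
      have h2 := QuotientGroup.eq.1 h1
      have h3 : (q * g)⁻¹ * (g * q) = g⁻¹ * q⁻¹ * g * q := by group
      rwa [h3] at h2
    · rintro h _ ⟨q, hq, rfl⟩
      rw [← map_mul, ← map_mul]
      apply QuotientGroup.eq.2
      have h3 : (q * g)⁻¹ * (g * q) = g⁻¹ * q⁻¹ * g * q := by group
      rw [h3]
      exact h q hq
  -- `B` is a `2`-group
  have hBp : IsPGroup 2 ↥B := by
    apply Cfsg.Agent.Helper55.isPGroup_of_forall_coprime_eq_one
    intro g hg
    rw [← Subgroup.orderOf_coe] at hg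
    have hgB : (g : G) ∈ B := g.2
    have hodd : Odd (orderOf (g : G)) := Nat.Coprime.odd_of_right hg
    obtain ⟨k, hk⟩ := hodd
    have hgC : (g : G) ∈ Subgroup.centralizer (Q : Set G) := by
      rw [Subgroup.mem_centralizer_iff]
      intro q hq
      have hz := (hBmem g).1 hgB q hq
      set z := (g : G)⁻¹ * q⁻¹ * (g : G) * q with hzdef
      have hzc : ∀ x : G, x * z = z * x := hcen z hz
      have hz2 : z ^ 2 = 1 := hWexp z hz
      have hconj : q⁻¹ * (g : G) * q = (g : G) * z := by rw [hzdef]; group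
      have hpow : (q⁻¹ * (g : G) * q) ^ orderOf (g : G) = 1 := by
        have := conj_pow (a := q⁻¹) (b := (g : G)) (i := orderOf (g : G))
        rw [inv_inv] at this
        rw [this, pow_orderOf_eq_one]; group
      rw [hconj, (show Commute (g : G) z from hzc (g : G)).mul_pow, pow_orderOf_eq_one, one_mul,
        hk, pow_succ, pow_mul, hz2, one_pow, one_mul] at hpow
      rw [hpow, mul_one] at hconj
      calc q * (g : G) = q * (q⁻¹ * (g : G) * q) := by rw [hconj]
        _ = (g : G) * q := by group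
    have hgQ : (g : G) ∈ Q := hCQ hgC
    obtain ⟨j, hj⟩ := hQp ⟨(g : G), hgQ⟩
    have hj' : (g : G) ^ 2 ^ j = 1 := by
      have := congrArg Subtype.val hj
      simpa using this
    have hd : orderOf (g : G) ∣ 2 ^ j := orderOf_dvd_of_pow_eq_one hj'
    have hco : (orderOf (g : G)).Coprime (2 ^ j) := Nat.Coprime.pow_right j hg
    have h1 : orderOf (g : G) = 1 := Nat.Coprime.eq_one_of_dvd hco hd
    exact Subtype.ext (orderOf_eq_one_iff.1 h1)
  have hBQ : B ≤ Q := le_pCore hBn hBp
  apply hBQ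
  rw [hBmem]
  intro q hq
  have hqS : q ∈ (S : Subgroup G) := hQS hq
  set c := a⁻¹ * q⁻¹ * a * q with hc
  have hcS : c ∈ (S : Subgroup G) :=
    mul_mem (mul_mem (mul_mem (inv_mem haS) (inv_mem hqS)) haS) hqS
  have hccen : ∀ s ∈ (S : Subgroup G), c * s = s * c := by
    intro s hs
    have := hcl a⁻¹ (inv_mem haS) q⁻¹ (inv_mem hqS) s hs
    rw [inv_inv, inv_inv] at this
    exact this
  have hainv : a⁻¹ = a := by
    rw [inv_eq_iff_mul_eq_one, ← pow_two]; exact ha2
  have hc2 : c ^ 2 = 1 := by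
    have hconj : q⁻¹ * a * q = a * c := by rw [hc]; group
    have hpow : (q⁻¹ * a * q) ^ 2 = 1 := by
      have := conj_pow (a := q⁻¹) (b := a) (i := 2)
      rw [inv_inv] at this
      rw [this, ha2]; group
    rw [hconj, (show Commute a c from (hccen a haS).symm).mul_pow, ha2, one_mul] at hpow
    exact hpow
  have : c ∈ Cfsg.Agent.Helper11.omegaZ 2 (S : Subgroup G) := by
    apply Subgroup.subset_closure
    refine ⟨Subgroup.mem_inf.2 ⟨hcS, ?_⟩, hc2⟩
    rw [Subgroup.mem_centralizer_iff]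
    intro s hs
    exact (hccen s hs).symm
  exact omegaZ_le_WW 2 S this

/-- If `W = ⟨Ω₁Z(S)^G⟩` is central then `J_e(S)` is normal in `G`. -/
theorem thompson_normal_of_central (hO : Cfsg.pPrimeCore 2 G = ⊥) (S : Sylow 2 G)
    (hcl : ClassTwo (S : Subgroup G))
    (hcen : ∀ w ∈ WW 2 G, ∀ g : G, g * w = w * g) :
    Subgroup.normalizer (Cfsg.thompsonSubgroupOf 2 (S : Subgroup G) : Set G) = ⊤ := by
  rw [eq_top_iff]
  intro g _
  apply mem_normalizer_of_forall_conj_mem
  have hQn : (Cfsg.pCore 2 G).Normal := Cfsg.pCore_normal 2 G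
  have hQS : Cfsg.pCore 2 G ≤ (S : Subgroup G) := pCore_le_sylow S
  have hle : Cfsg.thompsonSubgroupOf 2 (S : Subgroup G) ≤
      (Cfsg.thompsonSubgroupOf 2 (S : Subgroup G)).comap (MulAut.conj g).toMonoidHom := by
    conv_lhs => rw [thompsonSubgroupOf_eq_sSup_maxEA]
    apply sSup_le
    intro A hA
    rw [← Subgroup.map_le_iff_le_comap]
    have hAQ : A ≤ Cfsg.pCore 2 G := fun a ha =>
      involution_mem_pCore_of_central hO S hcl hcen (hA.1 ha) (hA.2.1.2 a ha)
    have hmax : MaxEA 2 (S : Subgroup G) (A.map (MulAut.conj g).toMonoidHom) := by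
      apply hA.of_card_le
      · rintro _ ⟨a, ha, rfl⟩
        apply hQS
        exact hQn.conj_mem a (hAQ ha) g
      · exact Cfsg.Agent.Helper10.isElementaryAbelian_map hA.2.1 _
      · rw [Cfsg.Agent.Helper10.card_map_of_injective A _ (MulAut.conj g).injective]
    exact hmax.le_thompson
  intro x hx
  exact hle hx

end central

end Cfsg.Agent.Helper91
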