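/-
helper91: S2010 main induction.  In a finite solvable `S₄`-free group `G` with `O_{2'}(G) = 1`
whose Sylow `2`-subgroups have class at most two, `J_e(S) ⊴ G`; in general
`G = N_G(J_e(S)) O_{2'}(G)`.
-/
import Mathlib
import Cfsg.Prelude.Def_PLocal
import Cfsg.Prelude.Def_CaseTheorems
import Cfsg.Agent.Helper11.ThompsonIso
import Cfsg.Agent.Helper37.InvolvesQuotient
import Cfsg.Agent.Helper54.PConstrained
import Cfsg.Agent.Helper91.S2010Central
import Cfsg.Agent.Helper91.S2010Step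

set_option autoImplicit false

namespace Cfsg.Agent.Helper91

open Equiv
open Cfsg.Agent.Helper49.JComp Cfsg.Agent.Helper97.ThompsonFactSolv Cfsg.Agent.Lib

universe u

/-- If all largest elementary abelian subgroups of `S` lie in `C` then `J(S) = J(S ∩ C)`. -/
theorem thompsonSubgroupOf_eq_of_maxEA_le {G : Type*} [Group G] [Finite G] {p : ℕ}
    (S C : Subgroup G) (h : ∀ A, MaxEA p S A → A ≤ C) :
    Cfsg.thompsonSubgroupOf p S = Cfsg.thompsonSubgroupOf p (S ⊓ C) := by
  rw [thompsonSubgroupOf_eq_sSup_maxEA, thompsonSubgroupOf_eq_sSup_maxEA]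
  congr 1
  ext A
  constructor
  · intro hA
    exact ⟨le_inf hA.1 (h A hA), hA.2.1, fun B hB hBe => hA.2.2 B (hB.trans inf_le_left) hBe⟩
  · intro hA
    obtain ⟨A₁, hA₁⟩ := exists_maxEA (G := G) p S
    have h1 : A₁ ≤ S ⊓ C := le_inf hA₁.1 (h A₁ hA₁)
    exact hA₁.of_card_le (hA.1.trans inf_le_left) hA.2.1 (hA.2.2 A₁ h1 hA₁.2.1)

/-- **Main induction**: `O_{2'}(G) = 1` case. -/
theorem thompson_normal_aux : ∀ (n : ℕ) (G : Type u) [Group G] [Finite G] [Group.IsSolvable G],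
    Nat.card G = n → ¬ Cfsg.Involves (Perm (Fin 4)) G → Cfsg.pPrimeCore 2 G = ⊥ →
    ∀ S : Sylow 2 G, ClassTwo (S : Subgroup G) →
    Subgroup.normalizer (Cfsg.thompsonSubgroupOf 2 (S : Subgroup G) : Set G) = ⊤ := by
  intro n
  induction n using Nat.strong_induction_on with
  | _ n ih =>
  intro G _ _ _ hn hS4 hO S hcl
  haveI : Fact (Nat.Prime 2) := ⟨Nat.prime_two⟩
  by_cases hCtop : Subgroup.centralizer (WW 2 G : Set G) = ⊤
  · apply thompson_normal_of_central hO S hcl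
    intro w hw g
    have hg : g ∈ Subgroup.centralizer (WW 2 G : Set G) := by rw [hCtop]; trivial
    exact (Subgroup.mem_centralizer_iff.1 hg w hw).symm
  · obtain ⟨C, hC⟩ : ∃ C : Subgroup G, C = Subgroup.centralizer (WW 2 G : Set G) := ⟨_, rfl⟩
    haveI hCn : C.Normal := by rw [hC]; infer_instance
    rw [← hC] at hCtop
    obtain ⟨P, hP⟩ := exists_sylow_map_eq_inf C S
    have hlt : Nat.card ↥C < n := by
      rw [← hn]
      exact lt_of_le_of_ne (Subgroup.card_le_card_group C)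
        (fun h => hCtop (Subgroup.eq_top_of_card_eq C h))
    have hS4' : ¬ Cfsg.Involves (Perm (Fin 4)) ↥C := fun h => hS4 (involves_of_subgroup C h)
    have hO' : Cfsg.pPrimeCore 2 ↥C = ⊥ := pPrimeCore_subgroup_eq_bot C hO
    have hcl' : ClassTwo (P : Subgroup ↥C) := by
      apply ClassTwo.of_map C.subtype C.subtype_injective
      rw [hP]
      exact hcl.mono inf_le_left
    have hIH := ih _ hlt ↥C rfl hS4' hO' P hcl'
    have hJmap : Cfsg.thompsonSubgroupOf 2 ((S : Subgroup G) ⊓ C) =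
        (Cfsg.thompsonSubgroupOf 2 (P : Subgroup ↥C)).map C.subtype := by
      rw [← hP]
      exact Cfsg.Agent.Helper11.thompsonSubgroupOf_map 2 C.subtype (P : Subgroup ↥C)
        (fun x _ hx => Subtype.ext hx)
    have hJeq : Cfsg.thompsonSubgroupOf 2 (S : Subgroup G) =
        Cfsg.thompsonSubgroupOf 2 ((S : Subgroup G) ⊓ C) :=
      thompsonSubgroupOf_eq_of_maxEA_le _ _
        (fun A hA => by rw [hC]; exact maxEA_le_centralizer_WW hS4 hO S hA)
    rw [hJeq]
    have h1 : C ≤ Subgroup.normalizer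
        (Cfsg.thompsonSubgroupOf 2 ((S : Subgroup G) ⊓ C) : Set G) := by
      intro c hc
      apply mem_normalizer_of_forall_conj_mem
      intro x hx
      rw [hJmap] at hx ⊢
      obtain ⟨x', hx', rfl⟩ := hx
      have hmem : (⟨c, hc⟩ : ↥C) ∈ Subgroup.normalizer
          (Cfsg.thompsonSubgroupOf 2 (P : Subgroup ↥C) : Set ↥C) := by rw [hIH]; trivial
      have := (Subgroup.mem_normalizer_iff.1 hmem x').1 hx'
      exact ⟨_, this, rfl⟩
    have h2 : Subgroup.normalizer (((P : Subgroup ↥C).map C.subtype : Subgroup G) : Set G) ≤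
        Subgroup.normalizer (Cfsg.thompsonSubgroupOf 2 ((S : Subgroup G) ⊓ C) : Set G) := by
      rw [hP]
      exact normalizer_le_normalizer_thompson 2 _
    have h3 := Sylow.normalizer_sup_eq_top P
    rw [eq_top_iff, ← h3]
    exact sup_le h2 h1

/-- **S2010** in terms of `ClassTwo`. -/
theorem thompson_factorization {G : Type u} [Group G] [Finite G] [Group.IsSolvable G]
    (hS4 : ¬ Cfsg.Involves (Perm (Fin 4)) G) (S : Sylow 2 G)
    (hcl : ClassTwo (S : Subgroup G)) :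
    Subgroup.normalizer (Cfsg.thompsonSubgroupOf 2 (S : Subgroup G) : Set G) ⊔
      Cfsg.pPrimeCore 2 G = ⊤ := by
  haveI : Fact (Nat.Prime 2) := ⟨Nat.prime_two⟩
  obtain ⟨N, hN⟩ : ∃ N : Subgroup G, N = Cfsg.pPrimeCore 2 G := ⟨_, rfl⟩
  haveI hNn : N.Normal := by rw [hN]; infer_instance
  have hcop : (Nat.card N).Coprime 2 := by rw [hN]; exact card_pPrimeCore_coprime 2
  have hsurj : Function.Surjective (QuotientGroup.mk' N) := QuotientGroup.mk'_surjective N
  have hker : (QuotientGroup.mk' N).ker = N := QuotientGroup.ker_mk' N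
  have hinj : ∀ x ∈ (S : Subgroup G), (QuotientGroup.mk' N) x = 1 → x = 1 := by
    intro x hx h1
    have hxN : x ∈ N := by rw [← hker]; exact h1
    exact eq_one_of_mem_pGroup_of_mem_coprime S.isPGroup' hcop hx hxN
  have hS4' : ¬ Cfsg.Involves (Perm (Fin 4)) (G ⧸ N) :=
    fun h => hS4 (Cfsg.Agent.Helper37.involves_of_involves_quotient N h)
  have hO' : Cfsg.pPrimeCore 2 (G ⧸ N) = ⊥ := by
    subst hN
    exact Cfsg.Agent.Helper54.pPrimeCore_quotient_eq_bot
  have hcl' : ClassTwo ((S.mapSurjective hsurj : Sylow 2 (G ⧸ N)) : Subgroup (G ⧸ N)) := by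
    rw [Sylow.coe_mapSurjective]
    exact hcl.map _
  have hA := thompson_normal_aux _ (G ⧸ N) rfl hS4' hO' (S.mapSurjective hsurj) hcl'
  rw [Sylow.coe_mapSurjective,
    Cfsg.Agent.Helper11.thompsonSubgroupOf_map 2 (QuotientGroup.mk' N) (S : Subgroup G) hinj] at hA
  obtain ⟨J, hJ⟩ : ∃ J : Subgroup G, J = Cfsg.thompsonSubgroupOf 2 (S : Subgroup G) := ⟨_, rfl⟩
  rw [← hJ] at hA ⊢
  have hJS : J ≤ (S : Subgroup G) := by rw [hJ]; exact thompsonSubgroupOf_le 2 _
  have hJp : IsPGroup 2 ↥J := S.isPGroup'.to_le hJS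
  -- `L = J N` is normal
  have hJbar : (J.map (QuotientGroup.mk' N)).Normal := Subgroup.normalizer_eq_top_iff.1 hA
  have hLn : (J ⊔ N).Normal := by
    have h1 : (J.map (QuotientGroup.mk' N)).comap (QuotientGroup.mk' N) = J ⊔ N := by
      rw [Subgroup.comap_map_eq, hker]
    rw [← h1]
    exact hJbar.comap _
  obtain ⟨L, hL⟩ : ∃ L : Subgroup G, L = J ⊔ N := ⟨_, rfl⟩
  haveI hLn' : L.Normal := by rw [hL]; exact hLn
  have hJL : J ≤ L := by rw [hL]; exact le_sup_left
  have hp0 : IsPGroup 2 ↥(J.subgroupOf L) := hJp.comap_subtype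
  obtain ⟨P, hP⟩ := hp0.exists_le_sylow
  have hPJ : (P : Subgroup ↥L).map L.subtype = J := by
    apply le_antisymm
    · rintro _ ⟨⟨x, hxL⟩, hxP, rfl⟩
      have hxL' : x ∈ J ⊔ N := by rw [← hL]; exact hxL
      rw [Subgroup.mem_sup_of_normal_right] at hxL'
      obtain ⟨j, hj, m, hm, hjm⟩ := hxL'
      have hjP : (⟨j, hJL hj⟩ : ↥L) ∈ (P : Subgroup ↥L) := hP (Subgroup.mem_subgroupOf.2 hj)
      have hmL : m ∈ L := by rw [hL]; exact Subgroup.mem_sup_right hm
      have hmP : (⟨m, hmL⟩ : ↥L) ∈ (P : Subgroup ↥L) := by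
        have h1 : (⟨m, hmL⟩ : ↥L) = (⟨j, hJL hj⟩ : ↥L)⁻¹ * ⟨x, hxL⟩ := by
          apply Subtype.ext
          show m = j⁻¹ * x
          rw [← hjm]; group
        rw [h1]
        exact mul_mem (inv_mem hjP) hxP
      have hm1 : m = 1 := by
        have hPp : IsPGroup 2 ↥((P : Subgroup ↥L).map L.subtype) := P.isPGroup'.map _
        exact eq_one_of_mem_pGroup_of_mem_coprime hPp hcop ⟨⟨m, hmL⟩, hmP, rfl⟩ hm
      show x ∈ J
      rw [← hjm, hm1, mul_one]
      exact hj
    · intro x hx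
      exact ⟨⟨x, hJL hx⟩, hP (Subgroup.mem_subgroupOf.2 hx), rfl⟩
  have h3 := Sylow.normalizer_sup_eq_top P
  rw [hPJ, hL] at h3
  rw [eq_top_iff, ← h3]
  refine sup_le le_sup_left (sup_le ?_ ?_)
  · exact le_sup_of_le_left Subgroup.le_normalizer
  · rw [hN]; exact le_sup_right

end Cfsg.Agent.Helper91
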