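/-
helper91: the quadratic bound `|A : C_A(W)|² ≤ |W : C_W(A)|` for a normal elementary abelian
`2`-subgroup `W` of a finite solvable `S₄`-free group `G` with `O₂(G / C_G(W)) = 1`
(non-faithful form of helper62's `sq_card_le_relIndex`, via the holomorph of `W`).
-/
import Mathlib
import Cfsg.Prelude.Def_LocalEven
import Cfsg.Agent.Helper91.S4Lift
import Cfsg.Agent.Helper91.S4Back
import Cfsg.Agent.Helper62.S3Free
import Cfsg.Agent.Helper62.PSolvDual
import Cfsg.Agent.Helper70.PSolvable
import Cfsg.Agent.Helper54.PConstrained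
import Cfsg.Agent.Helper10.Thompson

set_option autoImplicit false

namespace Cfsg.Agent.Helper91

open Equiv

universe u

/-- If `G` is `S₄`-free, `T` is a normal `2`-subgroup and `π` is a homomorphism whose kernel contains
`C_G(T)`, then the image of `π` is `S₃`-free. -/
theorem not_involves_s3_range {G : Type u} [Group G] [Finite G] {X : Type*} [Group X]
    (hS4 : ¬ Cfsg.Involves (Perm (Fin 4)) G) (T : Subgroup G) [hTn : T.Normal]
    (hT : IsPGroup 2 ↥T) (π : G →* X) (hker : Subgroup.centralizer (T : Set G) ≤ π.ker) :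
    ¬ Cfsg.Involves (Perm (Fin 3)) ↥π.range := by
  rintro ⟨Kb, Rb, hn, ⟨e⟩⟩
  apply hS4
  let f : G →* ↥π.range := π.rangeRestrict
  have hf : Function.Surjective f := π.rangeRestrict_surjective
  let Γ : Subgroup G := Kb.comap f
  let ψ : ↥Γ →* Perm (Fin 3) :=
    e.toMonoidHom.comp ((QuotientGroup.mk' (Rb.subgroupOf Kb)).comp (f.subgroupComap Kb))
  have hψ : Function.Surjective ψ :=
    e.surjective.comp ((QuotientGroup.mk'_surjective _).comp
      (f.subgroupComap_surjective_of_surjective Kb hf))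
  obtain ⟨x, y, ⟨a, hxa⟩, ⟨b, hyb⟩, hxy, hψy⟩ := exists_exact_inversion ψ hψ
  have hN : Subgroup.normalizer (T : Set G) = ⊤ := Subgroup.normalizer_eq_top T
  apply involves_s4_of_inverting T (x : G) (y : G) hT (by rw [hN]; trivial) (by rw [hN]; trivial)
    ⟨a, ?_⟩ ⟨b, ?_⟩ ?_ ?_
  · have := congrArg (fun z : ↥Γ => (z : G)) hxa
    simpa using this
  · have := congrArg (fun z : ↥Γ => (z : G)) hyb
    simpa using this
  · have := congrArg (fun z : ↥Γ => (z : G)) hxy
    simpa using this
  · intro hcen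
    apply hψy
    have h1 : π (y : G) = 1 := hker hcen
    have h2 : f (y : G) = 1 := Subtype.ext h1
    have h3 : (f.subgroupComap Kb) y = 1 := Subtype.ext h2
    show e ((QuotientGroup.mk' (Rb.subgroupOf Kb)) ((f.subgroupComap Kb) y)) = 1
    rw [h3, map_one, map_one]

/-- transport of `O_p = 1` across an isomorphism -/
theorem pCore_eq_bot_of_mulEquiv {H : Type*} [Group H] {H' : Type*} [Group H'] {p : ℕ}
    (e : H ≃* H') (h : Cfsg.pCore p H = ⊥) : Cfsg.pCore p H' = ⊥ := by
  rw [eq_bot_iff]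
  intro y hy
  have h1 : e (e.symm y) ∈ Cfsg.pCore p H' := by rw [MulEquiv.apply_symm_apply]; exact hy
  have h2 := (Cfsg.Agent.Helper54.mem_pCore_equiv (p := p) e).1 h1
  rw [h, Subgroup.mem_bot] at h2
  rw [Subgroup.mem_bot]
  have := congrArg e h2
  rwa [MulEquiv.apply_symm_apply, map_one] at this

/-- **Quadratic bound, non-faithful form.** -/
theorem quad_bound_nonfaithful {G : Type u} [Group G] [Finite G] [Group.IsSolvable G]
    (hS4 : ¬ Cfsg.Involves (Perm (Fin 4)) G) (W : Subgroup G) [hWn : W.Normal]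
    (hW : Cfsg.IsElementaryAbelian 2 W)
    (hcore : Cfsg.pCore 2 (G ⧸ Subgroup.centralizer (W : Set G)) = ⊥)
    (A : Subgroup G) (hA : Cfsg.IsElementaryAbelian 2 A) :
    ((Subgroup.centralizer (W : Set G)).relIndex A) ^ 2 ≤
      (W ⊓ Subgroup.centralizer (A : Set G)).relIndex W := by
  classical
  haveI : Fact (Nat.Prime 2) := ⟨Nat.prime_two⟩
  let X := ↥W ⋊[MonoidHom.id (MulAut ↥W)] MulAut ↥W
  haveI : Finite X := Finite.of_equiv _ SemidirectProduct.equivProd.symm
  let π : G →* X := SemidirectProduct.inr.comp (MulAut.conjNormal (H := W))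
  let ι : ↥W →* X := SemidirectProduct.inl
  have hιinj : Function.Injective ι := SemidirectProduct.inl_injective
  have hconj : ∀ (g : G) (w : ↥W), π g * ι w * (π g)⁻¹ = ι (MulAut.conjNormal g w) := by
    intro g w
    show SemidirectProduct.inr (MulAut.conjNormal g) * SemidirectProduct.inl w *
      (SemidirectProduct.inr (MulAut.conjNormal g))⁻¹ = SemidirectProduct.inl (MulAut.conjNormal g w)
    rw [← map_inv]
    exact (SemidirectProduct.inl_aut (φ := MonoidHom.id (MulAut ↥W)) (MulAut.conjNormal g) w).symm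
  have hcomm_iff : ∀ (g : G) (w : ↥W), π g * ι w = ι w * π g ↔ g * (w : G) = (w : G) * g := by
    intro g w
    constructor
    · intro h
      have h1 : π g * ι w * (π g)⁻¹ = ι w := by rw [h, mul_inv_cancel_right]
      rw [hconj] at h1
      have h2 := congrArg Subtype.val (hιinj h1)
      rw [MulAut.conjNormal_apply] at h2
      calc g * (w : G) = g * (w : G) * g⁻¹ * g := by group
        _ = (w : G) * g := by rw [h2]
    · intro h
      have h1 : MulAut.conjNormal g w = w := by
        apply Subtype.ext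
        rw [MulAut.conjNormal_apply, h]; group
      have h2 := hconj g w
      rw [h1] at h2
      calc π g * ι w = π g * ι w * (π g)⁻¹ * π g := by rw [inv_mul_cancel_right]
        _ = ι w * π g := by rw [h2]
  have hker : π.ker = Subgroup.centralizer (W : Set G) := by
    ext g
    rw [MonoidHom.mem_ker, Subgroup.mem_centralizer_iff]
    constructor
    · intro hg w hw
      have h1 : π g * ι ⟨w, hw⟩ = ι ⟨w, hw⟩ * π g := by rw [hg, one_mul, mul_one]
      exact ((hcomm_iff g ⟨w, hw⟩).1 h1).symm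
    · intro hg
      have h1 : MulAut.conjNormal g = (1 : MulAut ↥W) := by
        ext w
        rw [MulAut.conjNormal_apply, MulAut.one_apply, ← hg w w.2]; group
      show SemidirectProduct.inr (MulAut.conjNormal g) = 1
      rw [h1, map_one]
  set M : Subgroup X := π.range with hM
  set V : Subgroup X := ι.range with hVdef
  have hV : Cfsg.IsElementaryAbelian 2 V := by
    refine ⟨⟨⟨?_⟩⟩, ?_⟩
    · rintro ⟨_, ⟨w₁, rfl⟩⟩ ⟨_, ⟨w₂, rfl⟩⟩
      apply Subtype.ext
      show ι w₁ * ι w₂ = ι w₂ * ι w₁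
      rw [← map_mul, ← map_mul]
      congr 1
      exact hW.1.is_comm.comm w₁ w₂
    · rintro _ ⟨w, rfl⟩
      rw [← map_pow]
      have : w ^ 2 = 1 := Subtype.ext (by simpa using hW.2 (w : G) w.2)
      rw [this, map_one]
  have hMV : M ≤ Subgroup.normalizer (V : Set X) := by
    rintro _ ⟨g, rfl⟩
    apply mem_normalizer_of_forall_conj_mem
    rintro _ ⟨w, rfl⟩
    exact ⟨_, (hconj g w).symm⟩
  have hfaith : M ⊓ Subgroup.centralizer (V : Set X) = ⊥ := by
    rw [eq_bot_iff]
    rintro _ ⟨⟨g, rfl⟩, hc⟩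
    rw [Subgroup.mem_bot, ← MonoidHom.mem_ker, hker, Subgroup.mem_centralizer_iff]
    intro w hw
    have h1 := Subgroup.mem_centralizer_iff.1 hc (ι ⟨w, hw⟩) ⟨_, rfl⟩
    exact ((hcomm_iff g ⟨w, hw⟩).1 h1.symm).symm
  have hsolM : Group.IsSolvable ↥M := Group.isSolvable_of_surjective π.rangeRestrict_surjective
  have hpsol : Cfsg.IsPSolvable 2 ↥M := Cfsg.Agent.Helper70.isPSolvable_of_isSolvable 2
  have hO : Cfsg.pCore 2 ↥M = ⊥ := by
    have e1 : G ⧸ Subgroup.centralizer (W : Set G) ≃* G ⧸ π.ker :=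
      QuotientGroup.quotientMulEquivOfEq hker.symm
    have e2 : G ⧸ π.ker ≃* ↥π.range := QuotientGroup.quotientKerEquivRange π
    exact pCore_eq_bot_of_mulEquiv (e1.trans e2) hcore
  have hcon := Cfsg.Agent.Helper62.centralizer_pPrimeCore_le_of_isPSolvable hpsol hO
  have hWp : IsPGroup 2 ↥W := Cfsg.Agent.Lib.isElementaryAbelian_isPGroup hW
  have hfree : ¬ Cfsg.Involves (Perm (Fin 3)) ↥M :=
    not_involves_s3_range hS4 W hWp π (le_of_eq hker.symm)
  have hAM : A.map π ≤ M := by
    rintro _ ⟨a, -, rfl⟩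
    exact ⟨a, rfl⟩
  have hA' : Cfsg.IsElementaryAbelian 2 (A.map π) :=
    Cfsg.Agent.Helper10.isElementaryAbelian_map hA π
  have key := Cfsg.Agent.Helper62.sq_card_le_relIndex M V hV hMV hfaith hcon hfree
    (Nat.card (A.map π)) (A.map π) rfl hAM hA'
  have hc1 : Nat.card (A.map π) = (Subgroup.centralizer (W : Set G)).relIndex A := by
    rw [← hker, Subgroup.relIndex_ker]
  have hc2 : (V ⊓ Subgroup.centralizer ((A.map π : Subgroup X) : Set X)).relIndex V =
      (W ⊓ Subgroup.centralizer (A : Set G)).relIndex W := by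
    have h1 : V = (⊤ : Subgroup ↥W).map ι := MonoidHom.range_eq_map ι
    have h2 : V ⊓ Subgroup.centralizer ((A.map π : Subgroup X) : Set X) =
        ((W ⊓ Subgroup.centralizer (A : Set G)).subgroupOf W).map ι := by
      ext x
      constructor
      · rintro ⟨⟨w, rfl⟩, hx⟩
        refine ⟨w, ?_, rfl⟩
        rw [SetLike.mem_coe, Subgroup.mem_subgroupOf]
        refine Subgroup.mem_inf.2 ⟨w.2, ?_⟩
        rw [Subgroup.mem_centralizer_iff]
        intro a ha
        have h3 := Subgroup.mem_centralizer_iff.1 hx (π a) ⟨a, ha, rfl⟩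
        exact (hcomm_iff a w).1 h3
      · rintro ⟨w, hw, rfl⟩
        rw [SetLike.mem_coe, Subgroup.mem_subgroupOf] at hw
        refine Subgroup.mem_inf.2 ⟨⟨w, rfl⟩, ?_⟩
        rw [Subgroup.mem_centralizer_iff]
        rintro _ ⟨a, ha, rfl⟩
        have h3 := Subgroup.mem_centralizer_iff.1 (Subgroup.mem_inf.1 hw).2 a ha
        exact (hcomm_iff a w).2 h3
    rw [h2]
    conv_lhs => rw [h1]
    rw [Subgroup.relIndex_map_map_of_injective _ _ hιinj, Subgroup.relIndex_top_right]
    rfl
  rw [hc1, hc2] at key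
  exact key

end Cfsg.Agent.Helper91
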