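/-
helper91: towards S2010.  In a finite solvable `S₄`-free group with `O_{2'}(G) = 1`, the elementary
abelian subgroups of largest order of a Sylow `2`-subgroup centralize `W = ⟨Ω₁Z(S)^G⟩`
(Thompson's offender inequality against the quadratic bound), plus Sylow/core utilities.
-/
import Mathlib
import Cfsg.Prelude.Def_PLocal
import Cfsg.Agent.Lib.Cores
import Cfsg.Agent.Helper49.MaxEA
import Cfsg.Agent.Helper50.CD
import Cfsg.Agent.Helper11.ThompsonFact
import Cfsg.Agent.Helper97.ThompsonFactSolv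
import Cfsg.Agent.Helper91.S2010Quad

set_option autoImplicit false

namespace Cfsg.Agent.Helper91

open Equiv
open Cfsg.Agent.Helper49.JComp Cfsg.Agent.Helper97.ThompsonFactSolv Cfsg.Agent.Lib

universe u

/-- largest elementary abelian subgroups of `S` centralize `W`. -/
theorem maxEA_le_centralizer_WW {G : Type u} [Group G] [Finite G] [Group.IsSolvable G]
    (hS4 : ¬ Cfsg.Involves (Perm (Fin 4)) G) (hO : Cfsg.pPrimeCore 2 G = ⊥) (S : Sylow 2 G)
    {A : Subgroup G} (hA : MaxEA 2 (S : Subgroup G) A) :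
    A ≤ Subgroup.centralizer (WW 2 G : Set G) := by
  haveI : Fact (Nat.Prime 2) := ⟨Nat.prime_two⟩
  obtain ⟨hWab, hWexp, hWQ⟩ := WW_facts (G := G) (p := 2) hO
  set W := WW 2 G with hWdef
  haveI hWn : W.Normal := inferInstance
  have hW : Cfsg.IsElementaryAbelian 2 W :=
    ⟨⟨⟨fun x y => Subtype.ext (hWab x x.2 y y.2)⟩⟩, hWexp⟩
  set C := Subgroup.centralizer (W : Set G) with hC
  have hcore : Cfsg.pCore 2 (G ⧸ C) = ⊥ := pCore_quot_centralizer_WW (G := G) (p := 2)
  have key := quad_bound_nonfaithful hS4 W hW hcore A hA.2.1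
  have hWS : W ≤ (S : Subgroup G) := hWQ.trans (pCore_le_sylow S)
  set A₀ := A ⊓ C with hA₀
  have hA₀e : Cfsg.IsElementaryAbelian 2 A₀ := isElementaryAbelian_mono hA.2.1 inf_le_left
  have hcomm : ∀ a ∈ A₀, ∀ b ∈ W, a * b = b * a := by
    intro a ha b hb
    exact (Subgroup.mem_centralizer_iff.1 (Subgroup.mem_inf.1 ha).2 b hb).symm
  have hBe : Cfsg.IsElementaryAbelian 2 (A₀ ⊔ W) :=
    Cfsg.Agent.Helper10.isElementaryAbelian_sup hA₀e hW hcomm
  have hBS : A₀ ⊔ W ≤ (S : Subgroup G) := sup_le (inf_le_left.trans hA.1) hWS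
  have hmax : Nat.card ↥(A₀ ⊔ W) ≤ Nat.card A := hA.2.2 _ hBS hBe
  have hprod := Cfsg.Agent.Helper50.card_mul_card_le A₀ W
  set D := W ⊓ Subgroup.centralizer (A : Set G) with hD
  have hinfD : A₀ ⊓ W ≤ D := by
    intro x hx
    obtain ⟨hxA₀, hxW⟩ := Subgroup.mem_inf.1 hx
    have hxA : x ∈ A := (Subgroup.mem_inf.1 hxA₀).1
    refine Subgroup.mem_inf.2 ⟨hxW, ?_⟩
    rw [Subgroup.mem_centralizer_iff]
    intro a ha
    exact congrArg Subtype.val (hA.2.1.1.is_comm.comm ⟨a, ha⟩ ⟨x, hxA⟩)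
  have hcardinf : Nat.card ↥(A₀ ⊓ W) ≤ Nat.card D := Subgroup.card_le_of_le hinfD
  have h1 : Nat.card A₀ * C.relIndex A = Nat.card A := by
    rw [← Subgroup.inf_relIndex_left]
    exact Cfsg.Agent.Helper50.card_mul_relIndex_eq' inf_le_left
  have h2 : Nat.card D * D.relIndex W = Nat.card W :=
    Cfsg.Agent.Helper50.card_mul_relIndex_eq' inf_le_left
  have hposA₀ : 0 < Nat.card A₀ := Nat.card_pos
  have hposD : 0 < Nat.card D := Nat.card_pos
  have hji : D.relIndex W ≤ C.relIndex A := by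
    have h3 : (Nat.card A₀ * Nat.card D) * D.relIndex W ≤
        (Nat.card A₀ * Nat.card D) * C.relIndex A := by
      calc (Nat.card A₀ * Nat.card D) * D.relIndex W
          = Nat.card A₀ * (Nat.card D * D.relIndex W) := by ring
        _ = Nat.card A₀ * Nat.card W := by rw [h2]
        _ ≤ Nat.card ↥(A₀ ⊔ W) * Nat.card ↥(A₀ ⊓ W) := hprod
        _ ≤ Nat.card A * Nat.card D := Nat.mul_le_mul hmax hcardinf
        _ = (Nat.card A₀ * C.relIndex A) * Nat.card D := by rw [h1]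
        _ = (Nat.card A₀ * Nat.card D) * C.relIndex A := by ring
    exact Nat.le_of_mul_le_mul_left h3 (Nat.mul_pos hposA₀ hposD)
  have hipos : 0 < C.relIndex A := by
    rcases Nat.eq_zero_or_pos (C.relIndex A) with h | h
    · rw [h, mul_zero] at h1
      exact absurd h1.symm (Nat.card_pos (α := A)).ne'
    · exact h
  have hi1 : C.relIndex A = 1 := by
    have h4 : C.relIndex A ^ 2 ≤ C.relIndex A := key.trans hji
    nlinarith
  exact Subgroup.relIndex_eq_one.1 hi1

/-- A `p`-element in a normal `p'`-subgroup is trivial. -/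
theorem eq_one_of_mem_pGroup_of_mem_coprime {G : Type*} [Group G] [Finite G] {p : ℕ}
    [hp : Fact p.Prime] {T N : Subgroup G} (hT : IsPGroup p ↥T) (hN : (Nat.card N).Coprime p)
    {x : G} (hxT : x ∈ T) (hxN : x ∈ N) : x = 1 := by
  have hcop : (Nat.card T).Coprime (Nat.card N) := by
    obtain ⟨k, hk⟩ := IsPGroup.iff_card.mp hT
    rw [hk]; exact Nat.Coprime.pow_left k hN.symm
  have h := Subgroup.inf_eq_bot_of_coprime hcop
  have hx : x ∈ T ⊓ N := Subgroup.mem_inf.2 ⟨hxT, hxN⟩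
  rw [h, Subgroup.mem_bot] at hx
  exact hx

/-- For a normal subgroup `C` and a Sylow subgroup `S` of `G`, `S ∩ C` is (the image of) a Sylow
subgroup of `C`. -/
theorem exists_sylow_map_eq_inf {G : Type*} [Group G] [Finite G] {p : ℕ} [Fact p.Prime]
    (C : Subgroup G) [hCn : C.Normal] (S : Sylow p G) :
    ∃ P : Sylow p ↥C, (P : Subgroup ↥C).map C.subtype = (S : Subgroup G) ⊓ C := by
  have hp0 : IsPGroup p ↥(((S : Subgroup G) ⊓ C).subgroupOf C) :=
    (S.isPGroup'.to_le inf_le_left).comap_subtype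
  obtain ⟨P, hP⟩ := hp0.exists_le_sylow
  obtain ⟨Q, hQ⟩ := Sylow.exists_comap_subtype_eq P
  refine ⟨P, ?_⟩
  have hPQ : (P : Subgroup ↥C).map C.subtype = (Q : Subgroup G) ⊓ C := by
    rw [← hQ]
    exact Subgroup.subgroupOf_map_subtype _ _
  have hle : (S : Subgroup G) ⊓ C ≤ (Q : Subgroup G) ⊓ C := by
    rw [← hPQ]
    intro x hx
    have hxC : x ∈ C := (Subgroup.mem_inf.1 hx).2
    exact ⟨⟨x, hxC⟩, hP (Subgroup.mem_subgroupOf.2 hx), rfl⟩
  obtain ⟨g, hg⟩ := MulAction.exists_smul_eq G Q S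
  have hmap : ((Q : Subgroup G) ⊓ C).map (MulAut.conj g).toMonoidHom = (S : Subgroup G) ⊓ C := by
    ext y
    constructor
    · rintro ⟨x, hx, rfl⟩
      obtain ⟨hxQ, hxC⟩ := Subgroup.mem_inf.1 hx
      refine Subgroup.mem_inf.2 ⟨?_, hCn.conj_mem x hxC g⟩
      rw [← hg, Cfsg.Agent.Helper11.mem_smul_sylow_iff]
      simp only [MulEquiv.coe_toMonoidHom, MulAut.conj_apply]
      have : g⁻¹ * (g * x * g⁻¹) * g = x := by group
      rw [this]; exact hxQ
    · intro hy
      obtain ⟨hyS, hyC⟩ := Subgroup.mem_inf.1 hy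
      rw [← hg, Cfsg.Agent.Helper11.mem_smul_sylow_iff] at hyS
      refine ⟨g⁻¹ * y * g, Subgroup.mem_inf.2 ⟨hyS, ?_⟩, ?_⟩
      · have := hCn.conj_mem y hyC g⁻¹
        rwa [inv_inv] at this
      · simp only [MulEquiv.coe_toMonoidHom, MulAut.conj_apply]
        group
  have hcard : Nat.card ↥((Q : Subgroup G) ⊓ C) ≤ Nat.card ↥((S : Subgroup G) ⊓ C) := by
    rw [← hmap, Cfsg.Agent.Helper10.card_map_of_injective _ _ (MulAut.conj g).injective]
  rw [hPQ]
  exact (Subgroup.eq_of_le_of_card_ge hle hcard).symm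

/-- `O_{p'}` of a normal subgroup of a group with trivial `O_{p'}` is trivial. -/
theorem pPrimeCore_subgroup_eq_bot {G : Type*} [Group G] [Finite G] {p : ℕ}
    (C : Subgroup G) [hCn : C.Normal] (hO : Cfsg.pPrimeCore p G = ⊥) :
    Cfsg.pPrimeCore p ↥C = ⊥ := by
  haveI : (Cfsg.pPrimeCore p ↥C).Characteristic := pPrimeCore_characteristic p
  have hn : ((Cfsg.pPrimeCore p ↥C).map C.subtype).Normal :=
    ConjAct.normal_of_characteristic_of_normal
  have hc : (Nat.card ((Cfsg.pPrimeCore p ↥C).map C.subtype)).Coprime p := by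
    rw [Cfsg.Agent.Helper10.card_map_of_injective _ _ C.subtype_injective]
    exact card_pPrimeCore_coprime p
  have hle := le_pPrimeCore hn hc
  rw [hO, le_bot_iff] at hle
  exact (Subgroup.map_eq_bot_iff_of_injective _ C.subtype_injective).1 hle

end Cfsg.Agent.Helper91
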