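import Mathlib
import Cfsg.Agent.Helper56.SL23

/-!
# Concrete data for recognising `SL(2,3)` as `Q₈ ⋊ C₃` (helper91)
-/

set_option autoImplicit false

namespace Cfsg.Agent.Helper91

open Cfsg.Agent.Helper56.GL23 Cfsg.Agent.Helper56.SL23
open QuaternionGroup

/-- The word map on `Q₈` determined by the images `u`, `v` of the generators `a 1`, `xa 0`. -/
def wq (u v : QuaternionGroup 2) : QuaternionGroup 2 → QuaternionGroup 2
  | a i => u ^ i.val
  | xa i => v * u ^ i.val

/-- The embedding of `Q₈` into `SL(2,3)`, as quadruples. -/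
def iT : QuaternionGroup 2 → Q3
  | a i => qpow (0, 1, 2, 0) i.val
  | xa i => qmul (1, 1, 1, 2) (qpow (0, 1, 2, 0) i.val)

set_option maxRecDepth 100000 in
theorem iT_det : ∀ x : QuaternionGroup 2, qdet (iT x) = 1 := by
  decide +kernel

set_option maxRecDepth 100000 in
theorem iT_mul : ∀ x y : QuaternionGroup 2, iT (x * y) = qmul (iT x) (iT y) := by
  decide +kernel

set_option maxRecDepth 100000 in
theorem iT_one : iT 1 = qone := by
  decide +kernel

set_option maxRecDepth 100000 in
theorem iT_injective : ∀ x y : QuaternionGroup 2, iT x = iT y → x = y := by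
  decide +kernel

set_option maxRecDepth 100000 in
set_option synthInstance.maxSize 4096 in
/-- The square of any automorphism of `Q₈` is induced by conjugation in `SL(2,3)`. -/
theorem wq_sq_conj : ∀ u v : QuaternionGroup 2,
    (∀ x y, wq u v (x * y) = wq u v x * wq u v y) → (∀ x y, wq u v x = wq u v y → x = y) →
    ∃ X : Q3, qdet X = 1 ∧ ∀ x, iT (wq u v (wq u v x)) = qmul (qmul X (iT x)) (qinv X) := by
  decide +kernel

set_option maxRecDepth 100000 in
set_option synthInstance.maxSize 4096 in
/-- The centraliser of `Q₈` in `SL(2,3)` has exponent `2`. -/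
theorem iT_centralizer : ∀ X : Q3, qdet X = 1 → (∀ x, qmul X (iT x) = qmul (iT x) X) →
    qmul X X = qone := by
  decide +kernel

set_option maxRecDepth 100000 in
set_option synthInstance.maxSize 4096 in
/-- `SL(2,3)` is generated by `Q₈` and any element of order `3`. -/
theorem iT_cosets : ∀ T : Q3, qdet T = 1 → T ≠ qone → qpow T 3 = qone → ∀ Y : Q3, qdet Y = 1 →
    ∃ x, Y = iT x ∨ Y = qmul (iT x) T ∨ Y = qmul (iT x) (qmul T T) := by
  decide +kernel

set_option maxRecDepth 100000 in
set_option synthInstance.maxSize 4096 in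
theorem q3_pow_24 : ∀ X : Q3, qdet X = 1 → qpow X 24 = qone := by
  decide +kernel

end Cfsg.Agent.Helper91
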