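import Mathlib
import Cfsg.Agent.Helper91.SL23Concrete

/-!
# Recognising `SL(2,3)` as a section: `Q₈` normalised by an odd-order element acting nontrivially
(helper91)
-/

set_option autoImplicit false

namespace Cfsg.Agent.Helper91

open Cfsg.Agent.Helper56.GL23 Cfsg.Agent.Helper56.SL23
open QuaternionGroup

/-- A subgroup-section from an injective hom and a surjective hom. -/
theorem exists_section_of_injective_of_surjective {X S L : Type*} [Group X] [Group S] [Group L]
    (π : S →* X) (hπ : Function.Injective π) (Φ : S →* L) (hΦ : Function.Surjective Φ) :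
    ∃ (H K : Subgroup X) (_ : (K.subgroupOf H).Normal), Nonempty ((H ⧸ K.subgroupOf H) ≃* L) := by
  let E : S ≃* π.range := MonoidHom.ofInjective hπ
  let φ : π.range →* L := Φ.comp E.symm.toMonoidHom
  have hφ : Function.Surjective φ := hΦ.comp E.symm.surjective
  have hker : (Φ.ker.map π).subgroupOf π.range = φ.ker := by
    ext ⟨x, hx⟩
    obtain ⟨s₀, rfl⟩ := hx
    have hE : E.symm ⟨π s₀, ⟨s₀, rfl⟩⟩ = s₀ := by
      apply E.injective
      rw [E.apply_symm_apply]
      rfl
    rw [Subgroup.mem_subgroupOf, MonoidHom.mem_ker]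
    show π s₀ ∈ Φ.ker.map π ↔ Φ (E.symm ⟨π s₀, ⟨s₀, rfl⟩⟩) = 1
    rw [hE]
    constructor
    · rintro ⟨s, hs, hss⟩
      rw [← hπ hss]
      exact hs
    · intro h
      exact ⟨s₀, h, rfl⟩
  have hn : ((Φ.ker.map π).subgroupOf π.range).Normal := by rw [hker]; infer_instance
  exact ⟨π.range, Φ.ker.map π, hn, ⟨(QuotientGroup.quotientMulEquivOfEq hker).trans
      (QuotientGroup.quotientKerEquivOfSurjective φ hφ)⟩⟩

/-- The embedding `Q₈ →* SL(2,3)`. -/
def iotaSL : QuaternionGroup 2 →* SL where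
  toFun x := mk (iT x) (iT_det x)
  map_one' := by apply q_injective; rw [q_mk, q_one]; exact iT_one
  map_mul' x y := by apply q_injective; rw [q_mul, q_mk, q_mk, q_mk]; exact iT_mul x y

theorem q_iotaSL (x : QuaternionGroup 2) : q (iotaSL x) = iT x := q_mk (iT x) (iT_det x)

theorem iotaSL_injective : Function.Injective iotaSL := by
  intro x y h
  apply iT_injective
  rw [← q_iotaSL, ← q_iotaSL, h]

theorem eq_wq (ρ : QuaternionGroup 2 →* QuaternionGroup 2) (x : QuaternionGroup 2) :
    ρ x = wq (ρ (a 1)) (ρ (xa 0)) x := by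
  cases x with
  | a i =>
    show ρ (a i) = ρ (a 1) ^ i.val
    rw [← map_pow, a_one_pow, ZMod.natCast_zmod_val]
  | xa i =>
    show ρ (xa i) = ρ (xa 0) * ρ (a 1) ^ i.val
    rw [← map_pow, a_one_pow, ZMod.natCast_zmod_val, ← map_mul, xa_mul_a, zero_add]

theorem q8_pow_four : ∀ y : QuaternionGroup 2, y ^ 4 = 1 := by decide

/-- Squares of automorphisms of `Q₈` are realised by conjugation in `SL(2,3)`. -/
theorem exists_conj_of_sq (ρ : QuaternionGroup 2 →* QuaternionGroup 2)
    (hρ : Function.Injective ρ) :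
    ∃ t : SL, ∀ x, iotaSL (ρ (ρ x)) = t * iotaSL x * t⁻¹ := by
  have hw : wq (ρ (a 1)) (ρ (xa 0)) = ρ := funext fun x => (eq_wq ρ x).symm
  obtain ⟨X, hX, hconj⟩ := wq_sq_conj (ρ (a 1)) (ρ (xa 0))
    (by rw [hw]; exact fun x y => map_mul ρ x y) (by rw [hw]; exact fun x y h => hρ h)
  rw [hw] at hconj
  refine ⟨mk X hX, fun x => ?_⟩
  apply q_injective
  rw [q_mul, q_mul, q_inv, q_mk, q_iotaSL, q_iotaSL]
  exact hconj x

/-- Key data: an element `t` of `SL(2,3)` of order `3` realising the action of `c`. -/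
theorem exists_conj_elt {X : Type*} [Group X] (N : Subgroup X)
    (e : N ≃* QuaternionGroup 2) (c : X) (hc : c ∈ Subgroup.normalizer (N : Set X))
    (hodd : Odd (orderOf c)) (hnc : c ∉ Subgroup.centralizer (N : Set X)) :
    ∃ t : SL, t ≠ 1 ∧ t ^ 3 = 1 ∧ t ^ orderOf c = 1 ∧
      ∀ n : N, iotaSL (e (N.normalizerMonoidHom ⟨c, hc⟩ n)) = t * iotaSL (e n) * t⁻¹ := by
  classical
  set s := orderOf c with hs
  set γ : Subgroup.normalizer (N : Set X) := ⟨c, hc⟩ with hγdef
  set ψ := N.normalizerMonoidHom with hψdef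
  have hψ : ∀ (d : Subgroup.normalizer (N : Set X)) (n : N),
      ((ψ d n : N) : X) = (d : X) * n * (d : X)⁻¹ := fun d n => rfl
  have hγs : γ ^ s = 1 := by
    apply Subtype.ext
    rw [Subgroup.coe_pow, Subgroup.coe_one, hs]
    exact pow_orderOf_eq_one c
  obtain ⟨m, hm⟩ := hodd
  set γ' := γ ^ (m + 1) with hγ'def
  have hγ' : γ' * γ' = γ := by
    rw [hγ'def, ← pow_add]
    have : m + 1 + (m + 1) = s + 1 := by omega
    rw [this, pow_succ, hγs, one_mul]
  set fn : N →* SL := iotaSL.comp e.toMonoidHom with hfndef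
  have hfn : Function.Injective fn := iotaSL_injective.comp e.injective
  set ρ : QuaternionGroup 2 →* QuaternionGroup 2 :=
    e.toMonoidHom.comp ((ψ γ').toMonoidHom.comp e.symm.toMonoidHom) with hρdef
  have hρ : Function.Injective ρ := e.injective.comp ((ψ γ').injective.comp e.symm.injective)
  obtain ⟨t₀, ht₀⟩ := exists_conj_of_sq ρ hρ
  have hρρ : ∀ x, ρ (ρ x) = e (ψ γ (e.symm x)) := by
    intro x
    show e ((ψ γ') (e.symm (e ((ψ γ') (e.symm x))))) = _
    rw [e.symm_apply_apply, ← MulAut.mul_apply, ← map_mul, hγ']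
  have h1 : ∀ n : N, fn (ψ γ n) = t₀ * fn n * t₀⁻¹ := by
    intro n
    have := ht₀ (e n)
    rw [hρρ, e.symm_apply_apply] at this
    exact this
  have h2 : ∀ k : ℕ, ∀ n : N, fn (ψ (γ ^ k) n) = t₀ ^ k * fn n * (t₀ ^ k)⁻¹ := by
    intro k
    induction k with
    | zero => intro n; simp
    | succ k ih =>
      intro n
      rw [pow_succ, map_mul, MulAut.mul_apply, ih, h1, pow_succ]
      group
  have h3 : ∀ x : QuaternionGroup 2, t₀ ^ s * iotaSL x = iotaSL x * t₀ ^ s := by
    intro x
    have := h2 s (e.symm x)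
    rw [hγs, map_one, MulAut.one_apply] at this
    have h4 : fn (e.symm x) = iotaSL x := by
      show iotaSL (e (e.symm x)) = iotaSL x
      rw [e.apply_symm_apply]
    rw [h4] at this
    calc t₀ ^ s * iotaSL x = (t₀ ^ s * iotaSL x * (t₀ ^ s)⁻¹) * t₀ ^ s := by group
      _ = iotaSL x * t₀ ^ s := by rw [← this]
  have h5 : t₀ ^ s * t₀ ^ s = 1 := by
    apply q_injective
    rw [q_mul, q_one]
    refine iT_centralizer (q (t₀ ^ s)) (qdet_q _) fun x => ?_
    rw [← q_iotaSL, ← q_mul, ← q_mul, h3]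
  refine ⟨t₀ ^ (s + 1), ?_, ?_, ?_, ?_⟩
  · intro h
    apply hnc
    rw [Subgroup.mem_centralizer_iff]
    intro n hn
    have h6 := h2 (s + 1) ⟨n, hn⟩
    rw [h, pow_succ, hγs, one_mul, one_mul, inv_one, mul_one] at h6
    have h7 := congrArg (Subtype.val) (hfn h6)
    rw [hψ] at h7
    show n * c = c * n
    have h8 : c * n * c⁻¹ = n := h7
    calc n * c = (c * n * c⁻¹) * c := by rw [h8]
      _ = c * n := by group
  · have ho1 : orderOf (t₀ ^ (s + 1)) ∣ s := by
      apply orderOf_dvd_of_pow_eq_one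
      rw [← pow_mul, mul_comm, pow_mul]
      have : s + 1 = 2 * (m + 1) := by omega
      rw [this, pow_mul, pow_two, h5, one_pow]
    have ho2 : orderOf (t₀ ^ (s + 1)) ∣ 3 * 8 := by
      apply orderOf_dvd_of_pow_eq_one
      rw [pow_eq_one_iff]
      exact q3_pow_24 _ (qdet_q _)
    have hco : (orderOf (t₀ ^ (s + 1))).Coprime 8 := by
      have h8 : s.Coprime 8 := by
        have : (8 : ℕ) = 2 ^ 3 := by norm_num
        rw [this]
        apply Nat.Coprime.pow_right
        rw [Nat.coprime_two_right]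
        exact ⟨m, hm⟩
      exact Nat.Coprime.coprime_dvd_left ho1 h8
    exact orderOf_dvd_iff_pow_eq_one.1 (hco.dvd_of_dvd_mul_right ho2)
  · rw [← pow_mul, mul_comm, pow_mul]
    have : s + 1 = 2 * (m + 1) := by omega
    rw [this, pow_mul, pow_two, h5, one_pow]
  · intro n
    have h6 := h2 (s + 1) n
    rw [pow_succ γ, hγs, one_mul] at h6
    exact h6

/-- **Recognition of `SL(2,3)` as a section**: a subgroup `N ≅ Q₈` normalised, but not
centralised, by an element `c` of odd order gives a section `N⟨c⟩ / C_{⟨c⟩}(N) ≅ SL(2,3)`. -/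
theorem exists_sl23_section {X : Type*} [Group X] (N : Subgroup X)
    (e : N ≃* QuaternionGroup 2) (c : X) (hc : c ∈ Subgroup.normalizer (N : Set X))
    (hodd : Odd (orderOf c)) (hnc : c ∉ Subgroup.centralizer (N : Set X)) :
    ∃ (H K : Subgroup X) (_ : (K.subgroupOf H).Normal),
      Nonempty ((H ⧸ K.subgroupOf H) ≃* Matrix.SpecialLinearGroup (Fin 2) (ZMod 3)) := by
  classical
  obtain ⟨t, ht1, ht3, hts, hconj⟩ := exists_conj_elt N e c hc hodd hnc
  have hCN : Subgroup.zpowers c ≤ Subgroup.normalizer (N : Set X) := Subgroup.zpowers_le.2 hc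
  set γ₀ : Subgroup.zpowers c := ⟨c, Subgroup.mem_zpowers c⟩ with hγ₀
  have hgen : ∀ x : Subgroup.zpowers c, x ∈ Subgroup.zpowers γ₀ := by
    rintro ⟨x, hx⟩
    obtain ⟨k, rfl⟩ := Subgroup.mem_zpowers_iff.1 hx
    exact ⟨k, Subtype.ext (by simp [γ₀])⟩
  have hordγ : orderOf γ₀ = orderOf c := Subgroup.orderOf_mk c _
  have hord : orderOf t ∣ orderOf γ₀ := by
    rw [hordγ]
    exact orderOf_dvd_of_pow_eq_one hts
  set fg : Subgroup.zpowers c →* SL := monoidHomOfForallMemZpowers hgen hord with hfgdef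
  have hfg : fg γ₀ = t := monoidHomOfForallMemZpowers_apply_gen hgen hord
  set fn : N →* SL := iotaSL.comp e.toMonoidHom with hfndef
  have hfin : IsOfFinOrder γ₀ := orderOf_pos_iff.1 (by rw [hordγ]; exact hodd.pos)
  have hpow : ∀ (j : ℕ) (n : N),
      fn ((N.normalizerMonoidHom.comp (Subgroup.inclusion hCN)) (γ₀ ^ j) n) =
        fg (γ₀ ^ j) * fn n * (fg (γ₀ ^ j))⁻¹ := by
    intro j
    induction j with
    | zero => intro n; simp
    | succ j ih =>
      intro n
      rw [pow_succ, map_mul, map_mul, MulAut.mul_apply, ih, hfg]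
      have h1 : fn ((N.normalizerMonoidHom.comp (Subgroup.inclusion hCN)) γ₀ n) =
          t * fn n * t⁻¹ := hconj n
      rw [h1]
      group
  have hcompat : ∀ k : Subgroup.zpowers c,
      fn.comp ((N.normalizerMonoidHom.comp (Subgroup.inclusion hCN)) k).toMonoidHom =
        (MulAut.conj (fg k)).toMonoidHom.comp fn := by
    intro k
    obtain ⟨j, hj⟩ := (Submonoid.mem_powers_iff _ _).1 (hfin.mem_powers_iff_mem_zpowers.2 (hgen k))
    subst hj
    refine MonoidHom.ext fun n => ?_
    exact hpow j n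
  set Φ := SemidirectProduct.lift fn fg hcompat with hΦdef
  set π := SemidirectProduct.monoidHomSubgroup hCN with hπdef
  have hπ : Function.Injective π := by
    rw [injective_iff_map_eq_one]
    rintro ⟨n, k⟩ h
    have h' : (n : X) * (k : X) = 1 := h
    have hkN : (k : X) ∈ N := by
      have : (k : X) = (n : X)⁻¹ := eq_inv_of_mul_eq_one_right h'
      rw [this]
      exact N.inv_mem n.2
    have hk4 : (k : X) ^ 4 = 1 := by
      have h4 : (⟨(k : X), hkN⟩ : N) ^ 4 = 1 := by
        apply e.injective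
        rw [map_pow, map_one]
        exact q8_pow_four _
      exact congrArg Subtype.val h4
    have hks : (k : X) ^ orderOf c = 1 := by
      obtain ⟨j, hj⟩ := Subgroup.mem_zpowers_iff.1 k.2
      rw [← hj, ← zpow_natCast, ← zpow_mul, mul_comm, zpow_mul, zpow_natCast, pow_orderOf_eq_one,
        one_zpow]
    have hk1 : (k : X) = 1 := by
      have h5 := pow_gcd_eq_one.2 ⟨hk4, hks⟩
      have h6 : Nat.gcd 4 (orderOf c) = 1 := by
        have : (4 : ℕ) = 2 ^ 2 := by norm_num
        rw [this]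
        exact (Nat.Coprime.pow_left 2 (Nat.coprime_two_left.2 hodd))
      rwa [h6, pow_one] at h5
    have hn1 : (n : X) = 1 := by rw [hk1, mul_one] at h'; exact h'
    exact SemidirectProduct.ext (Subtype.ext hn1) (Subtype.ext hk1)
  have hΦ : Function.Surjective Φ := by
    intro Y
    have hin : ∀ x : QuaternionGroup 2, fn (e.symm x) = iotaSL x := by
      intro x
      show iotaSL (e (e.symm x)) = iotaSL x
      rw [e.apply_symm_apply]
    obtain ⟨x, hx⟩ := iT_cosets (q t) (qdet_q t)
      (by rw [← q_one]; exact fun h => ht1 (q_injective h))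
      (by rw [← q_pow, ht3, q_one]) (q Y) (qdet_q Y)
    rcases hx with hx | hx | hx
    · refine ⟨SemidirectProduct.inl (e.symm x), ?_⟩
      rw [hΦdef, SemidirectProduct.lift_inl, hin]
      apply q_injective
      rw [hx, q_iotaSL]
    · refine ⟨SemidirectProduct.inl (e.symm x) * SemidirectProduct.inr γ₀, ?_⟩
      rw [hΦdef, map_mul, SemidirectProduct.lift_inl, SemidirectProduct.lift_inr, hin, hfg]
      apply q_injective
      rw [hx, q_mul, q_iotaSL]
    · refine ⟨SemidirectProduct.inl (e.symm x) * (SemidirectProduct.inr γ₀ *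
        SemidirectProduct.inr γ₀), ?_⟩
      rw [hΦdef, map_mul, map_mul, SemidirectProduct.lift_inl, SemidirectProduct.lift_inr, hin,
        hfg]
      apply q_injective
      rw [hx, q_mul, q_mul, q_iotaSL]
  exact exists_section_of_injective_of_surjective π hπ Φ hΦ

end Cfsg.Agent.Helper91
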