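import Mathlib
import Cfsg.Agent.Helper67.Frattini

set_option autoImplicit false
open scoped Pointwise commutatorElement

namespace Cfsg.Agent.Helper91

section

variable {G : Type*} [Group G]

/-- The "thin Frattini" generating set: `p`-th powers and the derived subgroup. -/
def frattiniGen (p : ℕ) (P : Subgroup G) : Subgroup G :=
  Subgroup.closure ({z : G | ∃ x ∈ P, z = x ^ p} ∪ ((⁅P, P⁆ : Subgroup G) : Set G))

theorem commutator_self_le (P : Subgroup G) : ⁅P, P⁆ ≤ P :=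
  Subgroup.commutator_le.2 fun a ha b hb => by
    rw [commutatorElement_def]
    exact P.mul_mem (P.mul_mem (P.mul_mem ha hb) (P.inv_mem ha)) (P.inv_mem hb)

theorem frattiniGen_le (p : ℕ) (P : Subgroup G) : frattiniGen p P ≤ P := by
  refine (Subgroup.closure_le _).2 ?_
  rintro z (⟨x, hx, rfl⟩ | hz)
  · exact P.pow_mem hx p
  · exact commutator_self_le P hz

theorem commutator_le_frattiniGen (p : ℕ) (P : Subgroup G) : ⁅P, P⁆ ≤ frattiniGen p P :=
  fun _ hz => Subgroup.subset_closure (Or.inr hz)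

theorem pow_mem_frattiniGen (p : ℕ) (P : Subgroup G) {x : G} (hx : x ∈ P) :
    x ^ p ∈ frattiniGen p P :=
  Subgroup.subset_closure (Or.inl ⟨x, hx, rfl⟩)

/-- Conjugation by an element of `N(P)` preserves `P'`. -/
theorem conj_mem_commutator_self {P : Subgroup G} {h : G}
    (hh : h ∈ Subgroup.normalizer (P : Set G)) {c : G} (hc : c ∈ ⁅P, P⁆) :
    h * c * h⁻¹ ∈ ⁅P, P⁆ := by
  rw [Subgroup.commutator_def] at hc ⊢
  induction hc using Subgroup.closure_induction with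
  | mem z hz =>
    obtain ⟨a, ha, b, hb, rfl⟩ := hz
    refine Subgroup.subset_closure ⟨h * a * h⁻¹, (Subgroup.mem_normalizer_iff.1 hh a).1 ha,
      h * b * h⁻¹, (Subgroup.mem_normalizer_iff.1 hh b).1 hb, ?_⟩
    simp only [commutatorElement_def]; group
  | one => simpa using Subgroup.one_mem _
  | mul x y _ _ hx hy =>
    have : h * (x * y) * h⁻¹ = (h * x * h⁻¹) * (h * y * h⁻¹) := by group
    rw [this]; exact Subgroup.mul_mem _ hx hy
  | inv x _ hx =>
    have : h * x⁻¹ * h⁻¹ = (h * x * h⁻¹)⁻¹ := by group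
    rw [this]; exact Subgroup.inv_mem _ hx

/-- Conjugation by an element of `N(P)` preserves `frattiniGen p P`. -/
theorem conj_mem_frattiniGen {p : ℕ} {P : Subgroup G} {h : G}
    (hh : h ∈ Subgroup.normalizer (P : Set G)) {u : G} (hu : u ∈ frattiniGen p P) :
    h * u * h⁻¹ ∈ frattiniGen p P := by
  unfold frattiniGen at hu ⊢
  induction hu using Subgroup.closure_induction with
  | mem z hz =>
    rcases hz with ⟨x, hx, rfl⟩ | hz
    · refine Subgroup.subset_closure (Or.inl ⟨h * x * h⁻¹,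
        (Subgroup.mem_normalizer_iff.1 hh x).1 hx, ?_⟩)
      rw [conj_pow]
    · exact Subgroup.subset_closure (Or.inr (conj_mem_commutator_self hh hz))
  | one => simpa using Subgroup.one_mem _
  | mul x y _ _ hx hy =>
    have : h * (x * y) * h⁻¹ = (h * x * h⁻¹) * (h * y * h⁻¹) := by group
    rw [this]; exact Subgroup.mul_mem _ hx hy
  | inv x _ hx =>
    have : h * x⁻¹ * h⁻¹ = (h * x * h⁻¹)⁻¹ := by group
    rw [this]; exact Subgroup.inv_mem _ hx

/-- `Φ(P) ≤ P' P^p` (as subgroups of the ambient group). -/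
theorem frattini_map_le_frattiniGen (p : ℕ) [Fact p.Prime] (P : Subgroup G) :
    (frattini ↥P).map P.subtype ≤ frattiniGen p P := by
  have hn : ((frattiniGen p P).subgroupOf P).Normal := by
    refine ⟨fun n hn g => ?_⟩
    rw [Subgroup.mem_subgroupOf] at hn ⊢
    have : ((g * n * g⁻¹ : ↥P) : G) = (g : G) * n * (g : G)⁻¹ := by simp
    rw [this]
    exact conj_mem_frattiniGen (Subgroup.le_normalizer g.2) hn
  have h1 := Cfsg.Agent.Helper67.frattini_le_of_elementary_quotient p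
    ((frattiniGen p P).subgroupOf P)
    (fun a b => by
      rw [Subgroup.mem_subgroupOf]
      have : ((a * b * a⁻¹ * b⁻¹ : ↥P) : G) = ⁅(a : G), (b : G)⁆ := by
        simp [commutatorElement_def]
      rw [this]
      exact commutator_le_frattiniGen p P (Subgroup.commutator_mem_commutator a.2 b.2))
    (fun a => by
      rw [Subgroup.mem_subgroupOf]
      have : ((a ^ p : ↥P) : G) = (a : G) ^ p := by simp
      rw [this]
      exact pow_mem_frattiniGen p P a.2)
  rw [Subgroup.map_le_iff_le_comap]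
  intro x hx
  exact Subgroup.mem_subgroupOf.1 (h1 hx)

theorem conj_mem_commutator_self_of_mem {P : Subgroup G} {v : G} (hv : v ∈ P) {c : G}
    (hc : c ∈ ⁅P, P⁆) : v * c * v⁻¹ ∈ ⁅P, P⁆ :=
  conj_mem_commutator_self (Subgroup.le_normalizer hv) hc

theorem conj_mem_commutator_self_of_mem' {P : Subgroup G} {v : G} (hv : v ∈ P) {c : G}
    (hc : c ∈ ⁅P, P⁆) : v⁻¹ * c * v ∈ ⁅P, P⁆ := by
  have := conj_mem_commutator_self_of_mem (P.inv_mem hv) hc
  simpa using this

/-- Elements of `N(P)` centralising `P'` and acting trivially on `P^p P' / P'`. -/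
def stabChain (p : ℕ) (P : Subgroup G) : Subgroup G where
  carrier := {g | g ∈ Subgroup.normalizer (P : Set G) ∧
    g ∈ Subgroup.centralizer ((⁅P, P⁆ : Subgroup G) : Set G) ∧
    ∀ u ∈ frattiniGen p P, u⁻¹ * g * u * g⁻¹ ∈ ⁅P, P⁆}
  one_mem' := ⟨Subgroup.one_mem _, Subgroup.one_mem _, fun u _ => by simp⟩
  mul_mem' := by
    rintro a b ⟨ha1, ha2, ha3⟩ ⟨hb1, hb2, hb3⟩
    refine ⟨Subgroup.mul_mem _ ha1 hb1, Subgroup.mul_mem _ ha2 hb2, fun u hu => ?_⟩
    have h1 := ha3 u hu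
    have h2 := hb3 u hu
    have h3 : a * (u⁻¹ * b * u * b⁻¹) * a⁻¹ = u⁻¹ * b * u * b⁻¹ := by
      have := (Subgroup.mem_centralizer_iff.1 ha2) _ h2
      rw [← this]; group
    have e : u⁻¹ * (a * b) * u * (a * b)⁻¹ =
        (u⁻¹ * a * u * a⁻¹) * (a * (u⁻¹ * b * u * b⁻¹) * a⁻¹) := by group
    rw [e, h3]
    exact Subgroup.mul_mem _ h1 h2
  inv_mem' := by
    rintro a ⟨ha1, ha2, ha3⟩
    refine ⟨Subgroup.inv_mem _ ha1, Subgroup.inv_mem _ ha2, fun u hu => ?_⟩
    have h1 := ha3 u hu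
    have h3 : a⁻¹ * (u⁻¹ * a * u * a⁻¹)⁻¹ * a = (u⁻¹ * a * u * a⁻¹)⁻¹ := by
      have := (Subgroup.mem_centralizer_iff.1 ha2) _ (Subgroup.inv_mem _ h1)
      calc a⁻¹ * (u⁻¹ * a * u * a⁻¹)⁻¹ * a = a⁻¹ * ((u⁻¹ * a * u * a⁻¹)⁻¹ * a) := by group
        _ = a⁻¹ * (a * (u⁻¹ * a * u * a⁻¹)⁻¹) := by rw [this]
        _ = _ := by group
    have e : u⁻¹ * a⁻¹ * u * a⁻¹⁻¹ = a⁻¹ * (u⁻¹ * a * u * a⁻¹)⁻¹ * a := by group
    rw [e, h3]
    exact Subgroup.inv_mem _ h1

theorem mem_stabChain {p : ℕ} {P : Subgroup G} {g : G} : g ∈ stabChain p P ↔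
    g ∈ Subgroup.normalizer (P : Set G) ∧
    g ∈ Subgroup.centralizer ((⁅P, P⁆ : Subgroup G) : Set G) ∧
    ∀ u ∈ frattiniGen p P, u⁻¹ * g * u * g⁻¹ ∈ ⁅P, P⁆ := Iff.rfl

/-- `stabChain p P` is normalised by `N(P)`. -/
theorem conj_mem_stabChain {p : ℕ} {P : Subgroup G} {h g : G}
    (hh : h ∈ Subgroup.normalizer (P : Set G)) (hg : g ∈ stabChain p P) :
    h * g * h⁻¹ ∈ stabChain p P := by
  obtain ⟨hg1, hg2, hg3⟩ := hg
  have hh' : h⁻¹ ∈ Subgroup.normalizer (P : Set G) := Subgroup.inv_mem _ hh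
  refine ⟨Subgroup.mul_mem _ (Subgroup.mul_mem _ hh hg1) hh', ?_, fun u hu => ?_⟩
  · rw [Subgroup.mem_centralizer_iff]
    intro c hc
    have hc' : h⁻¹ * c * h ∈ ⁅P, P⁆ := by
      have := conj_mem_commutator_self hh' hc
      simpa using this
    have := (Subgroup.mem_centralizer_iff.1 hg2) _ hc'
    calc c * (h * g * h⁻¹) = h * ((h⁻¹ * c * h) * g) * h⁻¹ := by group
      _ = h * (g * (h⁻¹ * c * h)) * h⁻¹ := by rw [this]
      _ = h * g * h⁻¹ * c := by group
  · have hu' : h⁻¹ * u * h ∈ frattiniGen p P := by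
      have := conj_mem_frattiniGen hh' hu
      simpa using this
    have h1 := hg3 _ hu'
    have h2 := conj_mem_commutator_self hh h1
    have e : u⁻¹ * (h * g * h⁻¹) * u * (h * g * h⁻¹)⁻¹ =
        h * ((h⁻¹ * u * h)⁻¹ * g * (h⁻¹ * u * h) * g⁻¹) * h⁻¹ := by group
    rw [e]; exact h2

/-- Criterion for membership in `stabChain`. -/
theorem mem_stabChain_of_pow {p : ℕ} {P : Subgroup G} {y : G}
    (hy1 : y ∈ Subgroup.normalizer (P : Set G))
    (hy2 : y ∈ Subgroup.centralizer ((⁅P, P⁆ : Subgroup G) : Set G))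
    (hy3 : ∀ x ∈ P, (x⁻¹ * y * x * y⁻¹) ^ p = 1) : y ∈ stabChain p P := by
  refine ⟨hy1, hy2, fun u hu => ?_⟩
  have hφP : ∀ x ∈ P, x⁻¹ * y * x * y⁻¹ ∈ P := fun x hx => by
    have : x⁻¹ * y * x * y⁻¹ = x⁻¹ * (y * x * y⁻¹) := by group
    rw [this]
    exact P.mul_mem (P.inv_mem hx) ((Subgroup.mem_normalizer_iff.1 hy1 x).1 hx)
  have hmul : ∀ a b : G, (a * b)⁻¹ * y * (a * b) * y⁻¹ =
      (b⁻¹ * (a⁻¹ * y * a * y⁻¹) * b) * (b⁻¹ * y * b * y⁻¹) := fun a b => by group
  unfold frattiniGen at hu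
  induction hu using Subgroup.closure_induction with
  | mem z hz =>
    rcases hz with ⟨x, hx, rfl⟩ | hz
    · -- `p`-th powers
      have key : ∀ n : ℕ, ∃ c ∈ ⁅P, P⁆,
          (x ^ n)⁻¹ * y * x ^ n * y⁻¹ = (x⁻¹ * y * x * y⁻¹) ^ n * c := by
        intro n
        induction n with
        | zero => exact ⟨1, Subgroup.one_mem _, by simp⟩
        | succ n ih =>
          obtain ⟨c, hc, hcn⟩ := ih
          set d := x⁻¹ * y * x * y⁻¹ with hd
          have hdP : d ∈ P := hφP x hx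
          have hc1 : (d ^ n)⁻¹ * (x⁻¹ * d ^ n * x) ∈ ⁅P, P⁆ := by
            have : (d ^ n)⁻¹ * (x⁻¹ * d ^ n * x) = ⁅(d ^ n)⁻¹, x⁻¹⁆ := by
              rw [commutatorElement_def]; group
            rw [this]
            exact Subgroup.commutator_mem_commutator (P.inv_mem (P.pow_mem hdP n)) (P.inv_mem hx)
          have hc2 : x⁻¹ * c * x ∈ ⁅P, P⁆ := conj_mem_commutator_self_of_mem' hx hc
          refine ⟨d⁻¹ * ((d ^ n)⁻¹ * (x⁻¹ * d ^ n * x) * (x⁻¹ * c * x)) * d, ?_, ?_⟩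
          · exact conj_mem_commutator_self_of_mem' hdP (Subgroup.mul_mem _ hc1 hc2)
          · rw [pow_succ, hmul, hcn, ← hd, pow_succ]; group
      obtain ⟨c, hc, hcp⟩ := key p
      rw [hcp, hy3 x hx, one_mul]
      exact hc
    · have := (Subgroup.mem_centralizer_iff.1 hy2) z hz
      have e : z⁻¹ * y * z * y⁻¹ = z⁻¹ * (y * z) * y⁻¹ := by group
      rw [e, ← this]
      simpa using Subgroup.one_mem _
  | one => simpa using Subgroup.one_mem _
  | mul a b _ hb ha' hb' =>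
    have hbP : b ∈ P := frattiniGen_le p P hb
    rw [hmul]
    exact Subgroup.mul_mem _ (conj_mem_commutator_self_of_mem' hbP ha') hb'
  | inv a ha ha' =>
    have haP : a ∈ P := frattiniGen_le p P ha
    have e : a⁻¹⁻¹ * y * a⁻¹ * y⁻¹ = a * (a⁻¹ * y * a * y⁻¹)⁻¹ * a⁻¹ := by group
    rw [e]
    exact conj_mem_commutator_self_of_mem haP (Subgroup.inv_mem _ ha')

theorem conj_pow_eq_right {x u c : G} (hu : x * u * x⁻¹ = u * c) (hc : x * c = c * x) (j : ℕ) :
    x ^ j * u * (x ^ j)⁻¹ = u * c ^ j := by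
  induction j with
  | zero => simp
  | succ j ih =>
    have h1 : x ^ (j + 1) * u * (x ^ (j + 1))⁻¹ = x * (x ^ j * u * (x ^ j)⁻¹) * x⁻¹ := by
      rw [pow_succ']; group
    have hcj : x * c ^ j = c ^ j * x := (Commute.pow_right (show Commute x c from hc) j).eq
    rw [h1, ih]
    calc x * (u * c ^ j) * x⁻¹ = (x * u * x⁻¹) * (x * c ^ j) * x⁻¹ := by group
      _ = u * c * (c ^ j * x) * x⁻¹ := by rw [hu, hcj]
      _ = u * c ^ (j + 1) := by rw [pow_succ']; group

/-- A `p'`-element of `stabChain p P` centralises `P^p P'` when `P` is a `p`-group. -/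
theorem stabChain_coprime_centralizes {p : ℕ} [Fact p.Prime] {P : Subgroup G}
    (hP : IsPGroup p ↥P) {g : G} (hg : g ∈ stabChain p P) (hco : (orderOf g).Coprime p) :
    g ∈ Subgroup.centralizer ((frattiniGen p P : Subgroup G) : Set G) := by
  obtain ⟨_, hg2, hg3⟩ := hg
  rw [Subgroup.mem_centralizer_iff]
  intro u hu
  have hcP' := hg3 u hu
  set c := u⁻¹ * g * u * g⁻¹ with hc
  have hgu : g * u * g⁻¹ = u * c := by rw [hc]; group
  have hgc : g * c = c * g := ((Subgroup.mem_centralizer_iff.1 hg2) c hcP').symm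
  have h1 := conj_pow_eq_right hgu hgc (orderOf g)
  rw [pow_orderOf_eq_one] at h1
  have h2 : c ^ orderOf g = 1 := by
    have : u = u * c ^ orderOf g := by simpa using h1
    exact (mul_eq_left.1 this.symm)
  have hcP : c ∈ P := commutator_self_le P hcP'
  obtain ⟨k, hk⟩ := hP ⟨c, hcP⟩
  have hk' : c ^ p ^ k = 1 := by simpa using congrArg Subtype.val hk
  have h3 : orderOf c ∣ Nat.gcd (orderOf g) (p ^ k) :=
    Nat.dvd_gcd (orderOf_dvd_of_pow_eq_one h2) (orderOf_dvd_of_pow_eq_one hk')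
  have h4 : Nat.gcd (orderOf g) (p ^ k) = 1 := Nat.Coprime.pow_right k hco
  rw [h4, Nat.dvd_one, orderOf_eq_one_iff] at h3
  rw [h3, mul_one] at hgu
  calc u * g = (g * u * g⁻¹) * g := by rw [hgu]
    _ = g * u := by group

end

end Cfsg.Agent.Helper91
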