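-- helper91: piece (W6) `homocyclic_of_transitive` of board posts 5260/5273 for helper21 (S3797).
import Mathlib

set_option autoImplicit false

namespace Cfsg.Agent.Helper91.THW6

/-- In a product of cyclic groups `ZMod (n i)`, `1 < n i`, which is a `2`-group with automorphism
group transitive on involutions, all `n i` are the same power of `2`. -/
theorem pi_claim {ι : Type} [Fintype ι] (n : ι → ℕ) (hn1 : ∀ i, 1 < n i)
    (hT : IsPGroup 2 ((i : ι) → Multiplicative (ZMod (n i))))
    (h : ∀ x y : ((i : ι) → Multiplicative (ZMod (n i))), x ≠ 1 → x ^ 2 = 1 → y ≠ 1 → y ^ 2 = 1 →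
      ∃ a : MulAut ((i : ι) → Multiplicative (ZMod (n i))), a x = y) :
    ∃ m, ∀ i, n i = 2 ^ m := by
  classical
  have : Fact (Nat.Prime 2) := ⟨Nat.prime_two⟩
  -- the standard generators
  let g : (i : ι) → ((j : ι) → Multiplicative (ZMod (n j))) := fun i =>
    (Pi.mulSingle i (Multiplicative.ofAdd (1 : ZMod (n i))) :
      (j : ι) → Multiplicative (ZMod (n j)))
  have hg : ∀ i, orderOf (g i) = n i := by
    intro i
    show orderOf ((Pi.mulSingle i (Multiplicative.ofAdd (1 : ZMod (n i))) :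
      (j : ι) → Multiplicative (ZMod (n j)))) = n i
    rw [orderOf_piMulSingle, orderOf_ofAdd_eq_addOrderOf, ZMod.addOrderOf_one]
  have hpow : ∀ i, ∃ k, n i = 2 ^ k := by
    intro i
    obtain ⟨k, hk⟩ := (IsPGroup.iff_orderOf.mp hT) (g i)
    exact ⟨k, (hg i).symm.trans hk⟩
  choose a ha using hpow
  have ha1 : ∀ i, 1 ≤ a i := by
    intro i
    by_contra hc
    have h0 : a i = 0 := by omega
    have := hn1 i
    rw [ha i, h0, pow_zero] at this
    exact lt_irrefl _ this
  -- key: `a i ≤ a j`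
  have key : ∀ i j, a i ≤ a j := by
    intro i j
    by_contra hlt
    rw [not_le] at hlt
    -- involutions
    have hz : ∀ l, g l ^ (2 ^ (a l - 1)) ≠ 1 ∧ (g l ^ (2 ^ (a l - 1))) ^ 2 = 1 := by
      intro l
      constructor
      · intro h1
        have hd := orderOf_dvd_of_pow_eq_one h1
        rw [hg l, ha l] at hd
        have := Nat.le_of_dvd (pow_pos (by norm_num) _) hd
        have hlt2 : 2 ^ (a l - 1) < 2 ^ a l :=
          Nat.pow_lt_pow_right (by norm_num) (by have := ha1 l; omega)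
        omega
      · rw [← pow_mul, ← pow_succ, Nat.sub_add_cancel (ha1 l), ← ha l, ← hg l,
          pow_orderOf_eq_one]
    obtain ⟨α, hα⟩ := h _ _ (hz i).1 (hz i).2 (hz j).1 (hz j).2
    apply (hz j).1
    -- the `j`-th coordinate of `z_j` is trivial
    have hj : (g j ^ (2 ^ (a j - 1))) j = 1 := by
      rw [← hα, map_pow, Pi.pow_apply]
      have hcard : Nat.card (Multiplicative (ZMod (n j))) = n j := by
        have : NeZero (n j) := ⟨by have := hn1 j; omega⟩
        rw [Nat.card_eq_fintype_card, Fintype.card_multiplicative, ZMod.card]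
      have hdvd : n j ∣ 2 ^ (a i - 1) := by
        rw [ha j]
        exact pow_dvd_pow 2 (by omega)
      obtain ⟨c, hc⟩ := hdvd
      have e1 : (α (g i) j) ^ (n j) = 1 := by
        have := pow_card_eq_one' (G := Multiplicative (ZMod (n j))) (x := α (g i) j)
        rwa [hcard] at this
      rw [hc, pow_mul, e1, one_pow]
    funext l
    by_cases hl : l = j
    · subst hl; exact hj
    · rw [Pi.pow_apply]
      show ((Pi.mulSingle j (Multiplicative.ofAdd (1 : ZMod (n j))) :
        (j : ι) → Multiplicative (ZMod (n j))) l) ^ (2 ^ (a j - 1)) = 1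
      rw [Pi.mulSingle_eq_of_ne hl, one_pow]
  by_cases hne : Nonempty ι
  · obtain ⟨i₀⟩ := hne
    refine ⟨a i₀, fun i => ?_⟩
    rw [ha i, le_antisymm (key i i₀) (key i₀ i)]
  · exact ⟨0, fun i => (hne ⟨i⟩).elim⟩

/-- **(W6)** a finite abelian `2`-group whose automorphism group is transitive on involutions is
homocyclic. -/
theorem homocyclic_of_transitive {S : Type*} [CommGroup S] [Finite S] (hS : IsPGroup 2 S)
    (h : ∀ x y : S, x ≠ 1 → x ^ 2 = 1 → y ≠ 1 → y ^ 2 = 1 → ∃ a : MulAut S, a x = y) :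
    ∃ m r : ℕ, Nonempty (S ≃* (Fin r → Multiplicative (ZMod (2 ^ m)))) := by
  obtain ⟨ι, _, n, hn1, ⟨φ⟩⟩ := CommGroup.equiv_prod_multiplicative_zmod_of_finite S
  have hT : IsPGroup 2 ((i : ι) → Multiplicative (ZMod (n i))) := hS.of_equiv φ
  have h' : ∀ x y : ((i : ι) → Multiplicative (ZMod (n i))), x ≠ 1 → x ^ 2 = 1 → y ≠ 1 →
      y ^ 2 = 1 → ∃ a : MulAut ((i : ι) → Multiplicative (ZMod (n i))), a x = y := by
    intro x y hx hx2 hy hy2
    obtain ⟨a, ha⟩ := h (φ.symm x) (φ.symm y)
      (fun h1 => hx (by simpa using h1))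
      (by rw [← map_pow, hx2, map_one])
      (fun h1 => hy (by simpa using h1))
      (by rw [← map_pow, hy2, map_one])
    refine ⟨φ.symm.trans (a.trans φ), ?_⟩
    show φ (a (φ.symm x)) = y
    rw [ha, MulEquiv.apply_symm_apply]
  obtain ⟨m, hm⟩ := pi_claim n hn1 hT h'
  have hn : n = fun _ => 2 ^ m := funext hm
  subst hn
  exact ⟨m, Fintype.card ι,
    ⟨φ.trans (MulEquiv.arrowCongr (Fintype.equivFin ι) (MulEquiv.refl _))⟩⟩

end Cfsg.Agent.Helper91.THW6
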