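import Cfsg.Agent.Helper91.Subnormal

set_option autoImplicit false
open scoped Pointwise

namespace Cfsg.Agent.Helper91

universe u
variable {G : Type u} [Group G]

theorem RelSN.sup [Finite G] {A B V : Subgroup G} (hA : RelSN A V) (hB : RelSN B V) :
    RelSN (A ⊔ B) V := by
  rw [relSN_iff] at hA hB ⊢
  refine ⟨sup_le hA.1 hB.1, ?_⟩
  rw [Subgroup.subgroupOf_sup hA.1 hB.1]
  exact sup_isSubnormal hA.2 hB.2

theorem RelSN.bot (V : Subgroup G) : RelSN ⊥ V := by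
  refine RelSN.of_normal bot_le ?_
  intro x _
  rw [Subgroup.mem_normalizer_iff]
  intro h
  simp [Subgroup.mem_bot]

theorem RelSN.sSup [Finite G] {𝒮₀ : Set (Subgroup G)} {V : Subgroup G}
    (h : ∀ U ∈ 𝒮₀, RelSN U V) : RelSN (sSup 𝒮₀) V := by
  have hfin : 𝒮₀.Finite := Set.toFinite _
  induction 𝒮₀, hfin using Set.Finite.induction_on with
  | empty => rw [sSup_empty]; exact RelSN.bot V
  | @insert a s _ _ ih =>
    rw [sSup_insert]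
    exact (h a (Set.mem_insert a s)).sup (ih fun U hU => h U (Set.mem_insert_of_mem a hU))

/-- Relative form of the "normalizing member" lemma (Kurzweil–Stellmacher 6.7.2). -/
theorem exists_normalizing_member [Finite G] (V : Subgroup G) (𝒮 𝒮₀ : Set (Subgroup G))
    (h𝒮 : ∀ U ∈ 𝒮, RelSN U V) (hconj : ∀ U ∈ 𝒮, ∀ v ∈ V, MulAut.conj v • U ∈ 𝒮)
    (h₀ : 𝒮₀ ⊂ 𝒮) :
    ∃ X ∈ 𝒮, X ∉ 𝒮₀ ∧ X ≤ Subgroup.normalizer ((sSup 𝒮₀ : Subgroup G) : Set G) := by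
  set D := sSup 𝒮₀ with hD
  have hDV : RelSN D V := RelSN.sSup fun U hU => h𝒮 U (h₀.1 hU)
  let 𝒦 : Set (Subgroup G) := {K | RelSN D K ∧ K ≤ V ∧ ∃ X ∈ 𝒮, X ∉ 𝒮₀ ∧ X ≤ K}
  obtain ⟨X₀, hX₀𝒮, hX₀⟩ := Set.exists_of_ssubset h₀
  have hV𝒦 : V ∈ 𝒦 := ⟨hDV, le_rfl, X₀, hX₀𝒮, hX₀, (h𝒮 X₀ hX₀𝒮).le⟩
  obtain ⟨K, hKV, hKmin⟩ := (Set.toFinite 𝒦).exists_le_minimal hV𝒦
  obtain ⟨hDK, hKV', X, hX𝒮, hX𝒮₀, hXK⟩ := hKmin.prop
  refine ⟨X, hX𝒮, hX𝒮₀, ?_⟩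
  by_cases hDeq : D = K
  · rw [hDeq]
    exact hXK.trans Subgroup.le_normalizer
  · obtain ⟨K₁, hDK₁, hK₁K, hKnK₁, hDK₁'⟩ := hDK.exists_normal hDeq
    have hno : ∀ U ∈ 𝒮, U ≤ K₁ → U ∈ 𝒮₀ := by
      intro U hU hUK₁
      by_contra hU𝒮₀
      have : K₁ ∈ 𝒦 := ⟨hDK₁', hK₁K.le.trans hKV', U, hU, hU𝒮₀, hUK₁⟩
      exact absurd (hKmin.le_of_le this hK₁K.le) (not_le_of_gt hK₁K)
    rw [Subgroup.le_normalizer_iff]
    intro x hx k hk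
    have hxK : x ∈ K := hXK hx
    have hxV : x ∈ V := hKV' hxK
    have hxK₁ : MulAut.conj x • K₁ = K₁ :=
      Subgroup.mem_normalizer_iff_map_conj_eq.1 (hKnK₁ hxK)
    have hxD : MulAut.conj x • D ≤ D := by
      rw [Subgroup.pointwise_smul_subset_iff, hD, sSup_le_iff]
      intro U hU
      rw [← Subgroup.pointwise_smul_subset_iff]
      have hU' : MulAut.conj x • U ∈ 𝒮 := hconj U (h₀.1 hU) x hxV
      have hUK₁ : MulAut.conj x • U ≤ K₁ := by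
        rw [← hxK₁]
        exact Subgroup.pointwise_smul_le_pointwise_smul_iff.2 ((le_sSup hU).trans hDK₁)
      exact le_sSup (hno _ hU' hUK₁)
    exact hxD (Subgroup.smul_mem_pointwise_smul _ _ _ hk)

end Cfsg.Agent.Helper91
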