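import Cfsg.Agent.Helper91.Zipper

set_option autoImplicit false
open scoped Pointwise

namespace Cfsg.Agent.Helper91

universe u
variable {G : Type u} [Group G]

theorem card_lt_of_lt [Finite G] {V N : Subgroup G} (h : V < N) : Nat.card ↥V < Nat.card ↥N :=
  lt_of_le_of_ne (Subgroup.card_le_of_le h.le)
    (fun e => h.ne (Subgroup.eq_of_le_of_card_ge h.le e.ge))

theorem conj_smul_smul (a b : G) (X : Subgroup G) :
    MulAut.conj a • MulAut.conj b • X = MulAut.conj (a * b) • X := by
  rw [map_mul, mul_smul]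

/-- Wielandt's subnormality criterion, relative form. -/
theorem wielandt_aux [Finite G] : ∀ (n : ℕ) (N A : Subgroup G), Nat.card ↥N = n → A ≤ N →
    (∀ g ∈ N, RelSN A (A ⊔ MulAut.conj g • A)) → RelSN A N := by
  intro n
  induction n using Nat.strong_induction_on with
  | _ n ih =>
    intro N A hcard hAN hyp
    by_contra hnot
    have hAneN : A ≠ N := by
      rintro rfl; exact hnot (RelSN.refl _)
    have IH : ∀ V B : Subgroup G, V < N → B ≤ V →
        (∀ g ∈ V, RelSN B (B ⊔ MulAut.conj g • B)) → RelSN B V := by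
      intro V B hVN hBV h
      exact ih (Nat.card ↥V) (hcard ▸ card_lt_of_lt hVN) V B rfl hBV h
    have hypconj : ∀ m ∈ N, ∀ g ∈ N, RelSN (MulAut.conj m • A)
        (MulAut.conj m • A ⊔ MulAut.conj g • MulAut.conj m • A) := by
      intro m hm g hg
      have h1 := (hyp (m⁻¹ * g * m) (N.mul_mem (N.mul_mem (N.inv_mem hm) hg) hm)).smul m
      rw [Subgroup.smul_sup, conj_smul_smul] at h1
      have e : m * (m⁻¹ * g * m) = g * m := by group
      rw [e, ← conj_smul_smul] at h1
      exact h1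
    let 𝒞 : Set (Subgroup G) := {B | ∃ m ∈ N, B = MulAut.conj m • A}
    let U : Set (Subgroup G) := {V | A ≤ V ∧ V < N}
    let S : Subgroup G → Set (Subgroup G) := fun V => {B | B ∈ 𝒞 ∧ RelSN B V}
    have hA𝒞 : A ∈ 𝒞 := ⟨1, N.one_mem, by rw [map_one, one_smul]⟩
    have hAU : A ∈ U := ⟨le_rfl, lt_of_le_of_ne hAN hAneN⟩
    have hmem : ∀ V ∈ U, ∀ B ∈ 𝒞, B ≤ V → B ∈ S V := by
      rintro V ⟨_, hVN⟩ B ⟨m, hm, rfl⟩ hBV
      exact ⟨⟨m, hm, rfl⟩, IH V _ hVN hBV fun g hg => hypconj m hm g (hVN.le hg)⟩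
    have h𝒞conj : ∀ m ∈ N, ∀ B ∈ 𝒞, MulAut.conj m • B ∈ 𝒞 := by
      rintro m hm B ⟨m', hm', rfl⟩
      exact ⟨m * m', N.mul_mem hm hm', conj_smul_smul m m' A⟩
    have hzip : ∃ M ∈ U, ∀ V ∈ U, V ≤ M := by
      refine zipper N 𝒞 U ⟨A, hAU⟩ (fun V hV => hV.2.le) ?_ S (fun V B => Iff.rfl) ?_ ?_
      · intro V hV B hB v hv
        exact h𝒞conj v (hV.2.le hv) B hB
      · intro V hV W _ B hB hBV
        exact hmem V hV B hB.1 hBV
      · intro V hV W hW
        set D := sSup (S V ∩ S W) with hD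
        have hAS : A ∈ S V ∩ S W := ⟨hmem V hV A hA𝒞 hV.1, hmem W hW A hA𝒞 hW.1⟩
        have hAD : A ≤ D := le_sSup hAS
        have hDV : D ≤ V := sSup_le fun B hB => hB.1.2.le
        refine ⟨N ⊓ Subgroup.normalizer (D : Set G), ⟨?_, ?_⟩, le_rfl⟩
        · exact le_inf hAN (hAD.trans Subgroup.le_normalizer)
        · refine lt_of_le_of_ne inf_le_left ?_
          intro heq
          have hNn : N ≤ Subgroup.normalizer (D : Set G) := inf_eq_left.1 heq
          have h1 : RelSN A D := (hAS.1.2).mono hAD hDV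
          have h2 : RelSN D N := RelSN.of_normal (hDV.trans hV.2.le) hNn
          exact hnot (h1.trans h2)
    obtain ⟨M, hMU, hMmax⟩ := hzip
    have hconjM : ∀ g ∈ N, MulAut.conj g • A ≤ M := by
      intro g hg
      have hle : A ⊔ MulAut.conj g • A ≤ N := by
        refine sup_le hAN ?_
        have := Subgroup.pointwise_smul_le_pointwise_smul_iff (a := MulAut.conj g) |>.2 hAN
        rwa [Subgroup.conj_smul_eq_self_of_mem hg] at this
      have hne : A ⊔ MulAut.conj g • A ≠ N := by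
        intro heq
        exact hnot (heq ▸ hyp g hg)
      exact le_trans le_sup_right (hMmax _ ⟨le_sup_left, lt_of_le_of_ne hle hne⟩)
    set C := sSup 𝒞 with hC
    have hCM : C ≤ M := sSup_le (by rintro B ⟨m, hm, rfl⟩; exact hconjM m hm)
    have hCN : C < N := lt_of_le_of_lt hCM hMU.2
    have hAC : A ≤ C := le_sSup hA𝒞
    have hNC : N ≤ Subgroup.normalizer (C : Set G) := by
      rw [Subgroup.le_normalizer_iff]
      intro x hx k hk
      have hxC : MulAut.conj x • C ≤ C := by
        rw [Subgroup.pointwise_smul_subset_iff, hC, sSup_le_iff]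
        intro B hB
        rw [← Subgroup.pointwise_smul_subset_iff]
        exact le_sSup (h𝒞conj x hx B hB)
      exact hxC (Subgroup.smul_mem_pointwise_smul _ _ _ hk)
    have h1 : RelSN A C := IH C A hCN hAC fun g hg => hyp g (hCN.le hg)
    have h2 : RelSN C N := RelSN.of_normal hCN.le hNC
    exact hnot (h1.trans h2)

/-- Wielandt's subnormality criterion. -/
theorem wielandt_criterion [Finite G] (A : Subgroup G)
    (h : ∀ g : G, RelSN A (A ⊔ MulAut.conj g • A)) : A.IsSubnormal :=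
  relSN_top_iff.1 (wielandt_aux _ ⊤ A rfl le_top fun g _ => h g)

end Cfsg.Agent.Helper91
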