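import Cfsg.Agent.Helper91.Wielandt

set_option autoImplicit false
open scoped Pointwise

namespace Cfsg.Agent.Helper91

universe u
variable {G : Type u} [Group G]

/-- Generalised zipper lemma (Kurzweil–Stellmacher 6.7.3), relative to a top group `T` and an
abstract class `𝒞` of subgroups closed under conjugation by the members of `U`. -/
theorem zipper [Finite G] (T : Subgroup G) (𝒞 : Set (Subgroup G)) (U : Set (Subgroup G))
    (hU : U.Nonempty) (hUT : ∀ V ∈ U, V ≤ T)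
    (h𝒞 : ∀ V ∈ U, ∀ B ∈ 𝒞, ∀ v ∈ V, MulAut.conj v • B ∈ 𝒞)
    (S : Subgroup G → Set (Subgroup G)) (hS : ∀ V B, B ∈ S V ↔ B ∈ 𝒞 ∧ RelSN B V)
    (h2 : ∀ V ∈ U, ∀ W ∈ U, ∀ B ∈ S W, B ≤ V → B ∈ S V)
    (h3 : ∀ V ∈ U, ∀ W ∈ U, ∃ X ∈ U,
      T ⊓ Subgroup.normalizer ((sSup (S V ∩ S W) : Subgroup G) : Set G) ≤ X) :
    ∃ M ∈ U, ∀ V ∈ U, V ≤ M := by
  classical
  have hmaxex : ∀ V ∈ U, ∃ V', V ≤ V' ∧ Maximal (· ∈ U) V' :=
    fun V hV => (Set.toFinite U).exists_le_maximal hV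
  have key : ∀ V W, Maximal (· ∈ U) V → Maximal (· ∈ U) W →
      (∀ V' W', Maximal (· ∈ U) V' → Maximal (· ∈ U) W' → V' ≠ W' →
        (S V' ∩ S W').ncard ≤ (S V ∩ S W).ncard) →
      ∀ X', Maximal (· ∈ U) X' →
        T ⊓ Subgroup.normalizer ((sSup (S V ∩ S W) : Subgroup G) : Set G) ≤ X' → V = X' := by
    intro V W hV hW hmaxpair X' hX' hNX'
    set 𝒮₀ := S V ∩ S W with h𝒮₀
    set D := sSup 𝒮₀ with hD
    have hVU := hV.prop
    have hX'U := hX'.prop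
    have hSV_rel : ∀ B ∈ S V, RelSN B V := fun B hB => ((hS V B).1 hB).2
    have hSV_conj : ∀ B ∈ S V, ∀ v ∈ V, MulAut.conj v • B ∈ S V := by
      intro B hB v hv
      obtain ⟨hB𝒞, hBV⟩ := (hS V B).1 hB
      refine (hS V _).2 ⟨h𝒞 V hVU B hB𝒞 v hv, ?_⟩
      have := hBV.smul v
      rwa [Subgroup.conj_smul_eq_self_of_mem hv] at this
    by_cases hcase : 𝒮₀ = S V
    · have hVN : V ≤ Subgroup.normalizer (D : Set G) := by
        rw [Subgroup.le_normalizer_iff]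
        intro v hv k hk
        have hvD : MulAut.conj v • D ≤ D := by
          rw [Subgroup.pointwise_smul_subset_iff, hD, sSup_le_iff]
          intro B hB
          rw [← Subgroup.pointwise_smul_subset_iff]
          rw [hcase] at hB ⊢
          exact le_sSup (hSV_conj B hB v hv)
        exact hvD (Subgroup.smul_mem_pointwise_smul _ _ _ hk)
      have hVX' : V ≤ X' := le_trans (le_inf (hUT V hVU) hVN) hNX'
      exact le_antisymm hVX' (hV.le_of_ge hX'U hVX')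
    · have hss : 𝒮₀ ⊂ S V :=
        ⟨Set.inter_subset_left, fun h => hcase (Set.Subset.antisymm Set.inter_subset_left h)⟩
      obtain ⟨B, hBSV, hB𝒮₀, hBN⟩ :=
        exists_normalizing_member V (S V) 𝒮₀ hSV_rel hSV_conj hss
      by_contra hne
      have hBX' : B ≤ X' :=
        le_trans (le_inf ((hSV_rel B hBSV).le.trans (hUT V hVU)) hBN) hNX'
      have hBSX' : B ∈ S X' := h2 X' hX'U V hVU B hBSV hBX'
      have hsub : 𝒮₀ ⊆ S V ∩ S X' := by
        intro C hC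
        refine ⟨hC.1, h2 X' hX'U V hVU C hC.1 ?_⟩
        have hCD : C ≤ D := le_sSup hC
        exact le_trans (le_inf ((hSV_rel C hC.1).le.trans (hUT V hVU))
          (hCD.trans Subgroup.le_normalizer)) hNX'
      have hssub : 𝒮₀ ⊂ S V ∩ S X' := ⟨hsub, fun h => hB𝒮₀ (h ⟨hBSV, hBSX'⟩)⟩
      have h4 := Set.ncard_lt_ncard hssub (Set.toFinite _)
      have h5 := hmaxpair V X' hV hX' hne
      omega
  by_contra hcon
  push Not at hcon
  obtain ⟨V₀, hV₀⟩ := hU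
  obtain ⟨M₀, hV₀M₀, hM₀⟩ := hmaxex V₀ hV₀
  obtain ⟨V₁, hV₁U, hV₁M₀⟩ := hcon M₀ hM₀.prop
  obtain ⟨M₁, hV₁M₁, hM₁⟩ := hmaxex V₁ hV₁U
  have hne : M₀ ≠ M₁ := by
    rintro rfl; exact hV₁M₀ hV₁M₁
  let P := {p : Subgroup G × Subgroup G //
    Maximal (· ∈ U) p.1 ∧ Maximal (· ∈ U) p.2 ∧ p.1 ≠ p.2}
  have : Nonempty P := ⟨⟨(M₀, M₁), hM₀, hM₁, hne⟩⟩
  obtain ⟨⟨⟨V, W⟩, hV, hW, hVW⟩, hmax⟩ :=
    Finite.exists_max (fun p : P => (S p.1.1 ∩ S p.1.2).ncard)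
  simp only at hV hW hVW hmax
  have hmaxpair : ∀ V' W', Maximal (· ∈ U) V' → Maximal (· ∈ U) W' → V' ≠ W' →
      (S V' ∩ S W').ncard ≤ (S V ∩ S W).ncard :=
    fun V' W' h1 h2 h3 => hmax ⟨(V', W'), h1, h2, h3⟩
  obtain ⟨X, hXU, hNX⟩ := h3 V hV.prop W hW.prop
  obtain ⟨X', hXX', hX'⟩ := hmaxex X hXU
  have e1 : V = X' := key V W hV hW hmaxpair X' hX' (hNX.trans hXX')
  have e2 : W = X' := by
    refine key W V hW hV ?_ X' hX' ?_
    · intro V' W' h1 h2 h3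
      rw [Set.inter_comm (S W) (S V)]; exact hmaxpair V' W' h1 h2 h3
    · rw [Set.inter_comm (S W) (S V)]; exact hNX.trans hXX'
  exact hVW (e1.trans e2.symm)

end Cfsg.Agent.Helper91
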